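import Mathlib
import Cfsg.Agent.Lib.F24zW
import Cfsg.Agent.Lib.SpClose

set_option autoImplicit false
set_option Elab.async false
set_option maxRecDepth 100000
set_option linter.all false
set_option maxHeartbeats 0

namespace Cfsg.Agent.TcData.F24z

open Cfsg.Agent.Lib.TcBits Cfsg.Agent.Lib.CoxCert Cfsg.Agent.Lib.BitClose Cfsg.Agent.Lib.F24Base Cfsg.Agent.Lib.F24Rep Cfsg.Agent.Lib.F24zW Cfsg.Agent.Lib.SpClose

/-- The beginning of the spider word. -/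
def pre6 : List ℕ := zW.take 99

/-- The end of the spider word. -/
def suf6 : List ℕ := zW.drop 100

theorem zW_split : zW = pre6 ++ [10] ++ suf6 := by decide +kernel

/-- The spanning tree of the names. -/
noncomputable def par6 : List ℕ := [nat_lit 4,nat_lit 21,nat_lit 19,nat_lit 35,nat_lit 50,nat_lit 68,nat_lit 66,nat_lit 81,nat_lit 98,nat_lit 113,nat_lit 128,nat_lit 147,nat_lit 145,nat_lit 160,nat_lit 182,nat_lit 186,nat_lit 193,nat_lit 208,nat_lit 230,nat_lit 234,nat_lit 247,nat_lit 250,nat_lit 274,nat_lit 272,nat_lit 294,nat_lit 298,nat_lit 311,nat_lit 314,nat_lit 344,nat_lit 346,nat_lit 352,nat_lit 363,nat_lit 368,nat_lit 390,nat_lit 407,nat_lit 410,nat_lit 440,nat_lit 442,nat_lit 448,nat_lit 473,nat_lit 474,nat_lit 480,nat_lit 491,nat_lit 497,nat_lit 507,nat_lit 529,nat_lit 534,nat_lit 551,nat_lit 554,nat_lit 568,nat_lit 570,nat_lit 576,nat_lit 601,nat_lit 602,nat_lit 608,nat_lit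 625,nat_lit 635,nat_lit 650,nat_lit 656,nat_lit 667,nat_lit 673,nat_lit 678,nat_lit 683,nat_lit 706,nat_lit 715,nat_lit 730,nat_lit 742,nat_lit 759,nat_lit 762,nat_lit 776,nat_lit 778,nat_lit 784,nat_lit 809,nat_lit 810,nat_lit 816,nat_lit 833,nat_lit 858,nat_lit 864,nat_lit 881,nat_lit 886,nat_lit 891,nat_lit 898,nat_lit 907,nat_lit 922,nat_lit 928,nat_lit 939,nat_lit 945,nat_lit 955,nat_lit 978,nat_lit 982,nat_lit 987,nat_lit 1003,nat_lit 1018,nat_lit 1027,nat_lit 1035,nat_lit 1050,nat_lit 1072,nat_lit 1079,nat_lit 1082,nat_lit 1096,nat_lit 1098,nat_lit 1104,nat_lit 1115,nat_lit 1129,nat_lit 1130,nat_lit 1136,nat_lit 1153,nat_lit 1178,nat_lit 1184,nat_lit 1201,nat_lit 1218,nat_lit 1227,nat_lit 1232,nat_lit 1249,nat_lit 1254,nat_lit 1266,nat_lit 1270,nat_lit 1291,nat_lit 1306,nat_lit 1315,nat_lit 1323,nat_lit 1338,nat_lit 1361,nat_lit 1366,nat_lit 1371,nat_lit 1394,nat_lit 1398,nat_lit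 1403,nat_lit 1418,nat_lit 1427,nat_lit 1430,nat_lit 1435,nat_lit 1440,nat_lit 1451,nat_lit 1466,nat_lit 1482,nat_lit 1508,nat_lit 1515,nat_lit 1530,nat_lit 1536,nat_lit 1559,nat_lit 1576,nat_lit 1578,nat_lit 1609,nat_lit 1610,nat_lit 1616,nat_lit 1643,nat_lit 1674,nat_lit 1680,nat_lit 1691,nat_lit 1697,nat_lit 1702,nat_lit 1723,nat_lit 1728,nat_lit 1745,nat_lit 1750,nat_lit 1762,nat_lit 1766,nat_lit 1771,nat_lit 1787,nat_lit 1802,nat_lit 1809,nat_lit 1814,nat_lit 1819,nat_lit 1826,nat_lit 1830,nat_lit 1847,nat_lit 1851,nat_lit 1859,nat_lit 1862,nat_lit 1867,nat_lit 1872,nat_lit 1883,nat_lit 1898,nat_lit 1931,nat_lit 1946,nat_lit 1952,nat_lit 1970,nat_lit 1974,nat_lit 2019,nat_lit 2022,nat_lit 2027,nat_lit 2032,nat_lit 2039,nat_lit 2043,nat_lit 2058,nat_lit 2084,nat_lit 2086,nat_lit 2091,nat_lit 2096,nat_lit 2107,nat_lit 2122,nat_lit 2139,nat_lit 2154,nat_lit 2160,nat_lit 2176,nat_lit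 2218,nat_lit 2224,nat_lit 2246,nat_lit 2262,nat_lit 2264,nat_lit 2314,nat_lit 2320,nat_lit 2331,nat_lit 2342,nat_lit 2347,nat_lit 2368,nat_lit 2385,nat_lit 2390,nat_lit 2395,nat_lit 2422,nat_lit 2427,nat_lit 2443,nat_lit 2458,nat_lit 2465,nat_lit 2470,nat_lit 2475,nat_lit 2482,nat_lit 2486,nat_lit 2503,nat_lit 2518,nat_lit 2528,nat_lit 2539,nat_lit 2554,nat_lit 2570,nat_lit 2576,nat_lit 2594,nat_lit 2598,nat_lit 2615,nat_lit 2643,nat_lit 2646,nat_lit 2651,nat_lit 2656,nat_lit 2663,nat_lit 2667,nat_lit 2683,nat_lit 2698,nat_lit 2710,nat_lit 2720,nat_lit 2731,nat_lit 2746,nat_lit 2762,nat_lit 2763,nat_lit 2778,nat_lit 2784,nat_lit 2810,nat_lit 2816,nat_lit 2838,nat_lit 2851,nat_lit 2854,nat_lit 2864,nat_lit 2871,nat_lit 2884,nat_lit 2886,nat_lit 2891,nat_lit 2896,nat_lit 2907,nat_lit 2922,nat_lit 2935,nat_lit 2938,nat_lit 2939,nat_lit 2955,nat_lit 2970,nat_lit 2976,nat_lit 2998,nat_lit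 3003,nat_lit 3008,nat_lit 3019,nat_lit 3034,nat_lit 3041,nat_lit 3050,nat_lit 3051,nat_lit 3066,nat_lit 3072,nat_lit 3098,nat_lit 3104,nat_lit 3126,nat_lit 3137,nat_lit 3152,nat_lit 3174,nat_lit 3191,nat_lit 3208,nat_lit 3232,nat_lit 3243,nat_lit 3254,nat_lit 3259,nat_lit 3291,nat_lit 3318,nat_lit 3323,nat_lit 3334,nat_lit 3339,nat_lit 3351,nat_lit 3355,nat_lit 3370,nat_lit 3376,nat_lit 3387,nat_lit 3402,nat_lit 3442,nat_lit 3446,nat_lit 3463,nat_lit 3494,nat_lit 3499,nat_lit 3504,nat_lit 3511,nat_lit 3515,nat_lit 3531,nat_lit 3536,nat_lit 3547,nat_lit 3562,nat_lit 3563,nat_lit 3578,nat_lit 3584,nat_lit 3600,nat_lit 3622,nat_lit 3635,nat_lit 3638,nat_lit 3648,nat_lit 3655,nat_lit 3672,nat_lit 3686,nat_lit 3691,nat_lit 3696,nat_lit 3703,nat_lit 3707,nat_lit 3722,nat_lit 3735,nat_lit 3738,nat_lit 3739,nat_lit 3755,nat_lit 3770,nat_lit 3786,nat_lit 3792,nat_lit 3808,nat_lit 3825,nat_lit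 3834,nat_lit 3835,nat_lit 3850,nat_lit 3856,nat_lit 3883,nat_lit 3898,nat_lit 3904,nat_lit 3921,nat_lit 3936,nat_lit 3953,nat_lit 3958,nat_lit 3988,nat_lit 3990,nat_lit 4000,nat_lit 4007,nat_lit 4011,nat_lit 4023,nat_lit 4027,nat_lit 4040,nat_lit 4043,nat_lit 4054,nat_lit 4059,nat_lit 4064,nat_lit 4071,nat_lit 4075,nat_lit 4090,nat_lit 4103,nat_lit 4106,nat_lit 4107,nat_lit 4122,nat_lit 4150,nat_lit 4154,nat_lit 4155,nat_lit 4171,nat_lit 4186,nat_lit 4202,nat_lit 4208,nat_lit 4230,nat_lit 4240,nat_lit 4251,nat_lit 4266,nat_lit 4283,nat_lit 4298,nat_lit 4304,nat_lit 4331,nat_lit 4362,nat_lit 4368,nat_lit 4390,nat_lit 4400,nat_lit 4417,nat_lit 4422,nat_lit 4439,nat_lit 4504,nat_lit 4519,nat_lit 4534,nat_lit 4539,nat_lit 4567,nat_lit 4586,nat_lit 4615,nat_lit 4640,nat_lit 4647,nat_lit 4651,nat_lit 4666,nat_lit 4683,nat_lit 4698,nat_lit 4730,nat_lit 4731,nat_lit 4746,nat_lit 4752,nat_lit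 4774,nat_lit 4779,nat_lit 4784,nat_lit 4791,nat_lit 4808,nat_lit 4816,nat_lit 4823,nat_lit 4827,nat_lit 4842,nat_lit 4855,nat_lit 4858,nat_lit 4859,nat_lit 4875,nat_lit 4890,nat_lit 4906,nat_lit 4913,nat_lit 4922,nat_lit 4923,nat_lit 4938,nat_lit 4955,nat_lit 4970,nat_lit 4976,nat_lit 4998,nat_lit 5014,nat_lit 5031,nat_lit 5046,nat_lit 5056,nat_lit 5063,nat_lit 5079,nat_lit 5096,nat_lit 5115,nat_lit 5120,nat_lit 5131,nat_lit 5146,nat_lit 5153,nat_lit 5159,nat_lit 5162,nat_lit 5163,nat_lit 5179,nat_lit 5194,nat_lit 5200,nat_lit 5222,nat_lit 5226,nat_lit 5227,nat_lit 5243,nat_lit 5258,nat_lit 5274,nat_lit 5280,nat_lit 5296,nat_lit 5313,nat_lit 5355,nat_lit 5371,nat_lit 5386,nat_lit 5392,nat_lit 5409,nat_lit 5414,nat_lit 5434,nat_lit 5440,nat_lit 5457,nat_lit 5474,nat_lit 5527,nat_lit 5542,nat_lit 5552,nat_lit 5559,nat_lit 5563,nat_lit 5569,nat_lit 5575,nat_lit 5578,nat_lit 5579,nat_lit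 5595,nat_lit 5610,nat_lit 5622,nat_lit 5624,nat_lit 5626,nat_lit 5627,nat_lit 5642,nat_lit 5674,nat_lit 5680,nat_lit 5687,nat_lit 5691,nat_lit 5706,nat_lit 5719,nat_lit 5723,nat_lit 5739,nat_lit 5754,nat_lit 5760,nat_lit 5786,nat_lit 5803,nat_lit 5818,nat_lit 5824,nat_lit 5850,nat_lit 5851,nat_lit 5867,nat_lit 5882,nat_lit 5898,nat_lit 5904,nat_lit 5920,nat_lit 5937,nat_lit 5942,nat_lit 5959,nat_lit 5979,nat_lit 5994,nat_lit 6000,nat_lit 6026,nat_lit 6032,nat_lit 6054,nat_lit 6074,nat_lit 6080,nat_lit 6097,nat_lit 6102,nat_lit 6119,nat_lit 6129,nat_lit 6146,nat_lit 6150,nat_lit 6167,nat_lit 6184,nat_lit 6231,nat_lit 6267,nat_lit 6296,nat_lit 6311,nat_lit 6314,nat_lit 6315,nat_lit 6331,nat_lit 6346,nat_lit 6352,nat_lit 6378,nat_lit 6384,nat_lit 6426,nat_lit 6432,nat_lit 6454,nat_lit 6464,nat_lit 6471,nat_lit 6475,nat_lit 6490,nat_lit 6503,nat_lit 6520,nat_lit 6539,nat_lit 6545,nat_lit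 6551,nat_lit 6554,nat_lit 6555,nat_lit 6571,nat_lit 6586,nat_lit 6592,nat_lit 6614,nat_lit 6618,nat_lit 6619,nat_lit 6635,nat_lit 6650,nat_lit 6666,nat_lit 6672,nat_lit 6688,nat_lit 6715,nat_lit 6731,nat_lit 6746,nat_lit 6752,nat_lit 6778,nat_lit 6784,nat_lit 6801,nat_lit 6823,nat_lit 6839,nat_lit 6864,nat_lit 6871,nat_lit 6875,nat_lit 6881,nat_lit 6887,nat_lit 6890,nat_lit 6904,nat_lit 6907,nat_lit 6918,nat_lit 6939,nat_lit 6954,nat_lit 6971,nat_lit 6986,nat_lit 6992,nat_lit 7015,nat_lit 7019,nat_lit 7030,nat_lit 7034,nat_lit 7035,nat_lit 7051,nat_lit 7066,nat_lit 7082,nat_lit 7088,nat_lit 7105,nat_lit 7110,nat_lit 7131,nat_lit 7147,nat_lit 7162,nat_lit 7178,nat_lit 7184,nat_lit 7200,nat_lit 7217,nat_lit 7233,nat_lit 7238,nat_lit 7274,nat_lit 7290,nat_lit 7296,nat_lit 7313,nat_lit 7318,nat_lit 7334,nat_lit 7351,nat_lit 7360,nat_lit 7377,nat_lit 7382,nat_lit 7394,nat_lit 7440,nat_lit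 7447,nat_lit 7463,nat_lit 7483,nat_lit 7498,nat_lit 7511,nat_lit 7515,nat_lit 7526,nat_lit 7528,nat_lit 7530,nat_lit 7531,nat_lit 7547,nat_lit 7562,nat_lit 7578,nat_lit 7584,nat_lit 7610,nat_lit 7611,nat_lit 7626,nat_lit 7643,nat_lit 7658,nat_lit 7664,nat_lit 7680,nat_lit 7703,nat_lit 7707,nat_lit 7723,nat_lit 7738,nat_lit 7744,nat_lit 7766,nat_lit 7771,nat_lit 7786,nat_lit 7802,nat_lit 7808,nat_lit 7830,nat_lit 7851,nat_lit 7866,nat_lit 7872,nat_lit 7889,nat_lit 7915,nat_lit 7930,nat_lit 7946,nat_lit 7952,nat_lit 7968,nat_lit 7985,nat_lit 7990,nat_lit 8001,nat_lit 8006,nat_lit 8022,nat_lit 8039,nat_lit 8056,nat_lit 8074,nat_lit 8080,nat_lit 8102,nat_lit 8112,nat_lit 8129,nat_lit 8134,nat_lit 8160,nat_lit 8177,nat_lit 8182,nat_lit 8194,nat_lit 8198,nat_lit 8215,nat_lit 8232,nat_lit 8262,nat_lit 8296,nat_lit 8328,nat_lit 8331,nat_lit 8346,nat_lit 8363,nat_lit 8374,nat_lit 8378,nat_lit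 8379,nat_lit 8395,nat_lit 8410,nat_lit 8426,nat_lit 8432,nat_lit 8454,nat_lit 8464,nat_lit 8481,nat_lit 8496,nat_lit 8513,nat_lit 8518,nat_lit 8545,nat_lit 8551,nat_lit 8555,nat_lit 8568,nat_lit 8586,nat_lit 8592,nat_lit 8614,nat_lit 8616,nat_lit 8635,nat_lit 8650,nat_lit 8663,nat_lit 8667,nat_lit 8678,nat_lit 8682,nat_lit 8683,nat_lit 8699,nat_lit 8714,nat_lit 8730,nat_lit 8736,nat_lit 8753,nat_lit 8778,nat_lit 8779,nat_lit 8795,nat_lit 8810,nat_lit 8826,nat_lit 8832,nat_lit 8848,nat_lit 8865,nat_lit 8870,nat_lit 8881,nat_lit 8906,nat_lit 8922,nat_lit 8928,nat_lit 8945,nat_lit 8960,nat_lit 8977,nat_lit 8994,nat_lit 9047,nat_lit 9051,nat_lit 9064,nat_lit 9067,nat_lit 9082,nat_lit 9095,nat_lit 9099,nat_lit 9110,nat_lit 9112,nat_lit 9114,nat_lit 9115,nat_lit 9131,nat_lit 9147,nat_lit 9162,nat_lit 9179,nat_lit 9194,nat_lit 9200,nat_lit 9226,nat_lit 9232,nat_lit 9254,nat_lit 9270,nat_lit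 9275,nat_lit 9290,nat_lit 9306,nat_lit 9307,nat_lit 9323,nat_lit 9338,nat_lit 9354,nat_lit 9360,nat_lit 9376,nat_lit 9393,nat_lit 9398,nat_lit 9414,nat_lit 9450,nat_lit 9466,nat_lit 9472,nat_lit 9488,nat_lit 9505,nat_lit 9521,nat_lit 9538,nat_lit 9542,nat_lit 9554,nat_lit 9558,nat_lit 9584,nat_lit 9600,nat_lit 9617,nat_lit 9622,nat_lit 9634,nat_lit 9638,nat_lit 9664,nat_lit 9697,nat_lit 9714,nat_lit 9718,nat_lit 9747,nat_lit 9750,nat_lit 9767,nat_lit 9784,nat_lit 9787,nat_lit 9798,nat_lit 9800,nat_lit 9803,nat_lit 9818,nat_lit 9824,nat_lit 9846,nat_lit 9851,nat_lit 9866,nat_lit 9880,nat_lit 9882,nat_lit 9883,nat_lit 9898,nat_lit 9899,nat_lit 9915,nat_lit 9930,nat_lit 9946,nat_lit 9952,nat_lit 9968,nat_lit 9985,nat_lit 10011,nat_lit 10026,nat_lit 10043,nat_lit 10058,nat_lit 10064,nat_lit 10081,nat_lit 10102,nat_lit 10118,nat_lit 10123,nat_lit 10138,nat_lit 10154,nat_lit 10160,nat_lit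 10182,nat_lit 10203,nat_lit 10218,nat_lit 10224,nat_lit 10240,nat_lit 10257,nat_lit 10262,nat_lit 10279,nat_lit 10298,nat_lit 10304,nat_lit 10321,nat_lit 10338,nat_lit 10342,nat_lit 10362,nat_lit 10368,nat_lit 10384,nat_lit 10401,nat_lit 10406,nat_lit 10417,nat_lit 10438,nat_lit 10466,nat_lit 10470,nat_lit 10487,nat_lit 10503,nat_lit 10520,nat_lit 10544,nat_lit 10561,nat_lit 10566,nat_lit 10593,nat_lit 10610,nat_lit 10614,nat_lit 10641,nat_lit 10662,nat_lit 10694,nat_lit 10704,nat_lit 10711,nat_lit 10728,nat_lit 10795,nat_lit 10810,nat_lit 10816,nat_lit 10842,nat_lit 10858,nat_lit 10859,nat_lit 10875,nat_lit 10890,nat_lit 10906,nat_lit 10912,nat_lit 10928,nat_lit 10945,nat_lit 10950,nat_lit 10977,nat_lit 11009,nat_lit 11026,nat_lit 11063,nat_lit 11078,nat_lit 11080,nat_lit 11098,nat_lit 11115,nat_lit 11120,nat_lit 11137,nat_lit 11142,nat_lit 11160,nat_lit 11162,nat_lit 11179,nat_lit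 11194,nat_lit 11200,nat_lit 11222,nat_lit 11242,nat_lit 11258,nat_lit 11259,nat_lit 11275,nat_lit 11290,nat_lit 11306,nat_lit 11312,nat_lit 11328,nat_lit 11345,nat_lit 11350,nat_lit 11366,nat_lit 11376,nat_lit 11387,nat_lit 11402,nat_lit 11418,nat_lit 11424,nat_lit 11440,nat_lit 11457,nat_lit 11473,nat_lit 11490,nat_lit 11494,nat_lit 11511,nat_lit 11522,nat_lit 11526,nat_lit 11536,nat_lit 11552,nat_lit 11569,nat_lit 11586,nat_lit 11601,nat_lit 11618,nat_lit 11622,nat_lit 11635,nat_lit 11638,nat_lit 11654,nat_lit 11656,nat_lit 11659,nat_lit 11674,nat_lit 11691,nat_lit 11706,nat_lit 11712,nat_lit 11734,nat_lit 11736,nat_lit 11739,nat_lit 11754,nat_lit 11768,nat_lit 11770,nat_lit 11771,nat_lit 11787,nat_lit 11803,nat_lit 11818,nat_lit 11834,nat_lit 11850,nat_lit 11856,nat_lit 11882,nat_lit 11888,nat_lit 11905,nat_lit 11920,nat_lit 11937,nat_lit 11942,nat_lit 11968,nat_lit 11979,nat_lit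 11994,nat_lit 12000,nat_lit 12027,nat_lit 12042,nat_lit 12058,nat_lit 12064,nat_lit 12080,nat_lit 12097,nat_lit 12113,nat_lit 12130,nat_lit 12134,nat_lit 12160,nat_lit 12167,nat_lit 12176,nat_lit 12192,nat_lit 12209,nat_lit 12214,nat_lit 12225,nat_lit 12242,nat_lit 12258,nat_lit 12275,nat_lit 12278,nat_lit 12310,nat_lit 12320,nat_lit 12337,nat_lit 12353,nat_lit 12370,nat_lit 12374,nat_lit 12406,nat_lit 12416,nat_lit 12423,nat_lit 12450,nat_lit 12467,nat_lit 12470,nat_lit 12480,nat_lit 12500,nat_lit 12519,nat_lit 12534,nat_lit 12536,nat_lit 12555,nat_lit 12570,nat_lit 12584,nat_lit 12587,nat_lit 12603,nat_lit 12618,nat_lit 12624,nat_lit 12641,nat_lit 12664,nat_lit 12667,nat_lit 12682,nat_lit 12688,nat_lit 12715,nat_lit 12731,nat_lit 12746,nat_lit 12763,nat_lit 12778,nat_lit 12794,nat_lit 12800,nat_lit 12816,nat_lit 12833,nat_lit 12849,nat_lit 12854,nat_lit 12866,nat_lit 12870,nat_lit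 12890,nat_lit 12896,nat_lit 12922,nat_lit 12928,nat_lit 12945,nat_lit 12950,nat_lit 12962,nat_lit 12966,nat_lit 12983,nat_lit 13003,nat_lit 13018,nat_lit 13024,nat_lit 13040,nat_lit 13057,nat_lit 13079,nat_lit 13098,nat_lit 13104,nat_lit 13121,nat_lit 13126,nat_lit 13142,nat_lit 13154,nat_lit 13158,nat_lit 13175,nat_lit 13200,nat_lit 13217,nat_lit 13238,nat_lit 13254,nat_lit 13264,nat_lit 13280,nat_lit 13297,nat_lit 13313,nat_lit 13318,nat_lit 13330,nat_lit 13351,nat_lit 13362,nat_lit 13366,nat_lit 13376,nat_lit 13383,nat_lit 13398,nat_lit 13408,nat_lit 13415,nat_lit 13432,nat_lit 13448,nat_lit 13473,nat_lit 13478,nat_lit 13490,nat_lit 13494,nat_lit 13526,nat_lit 13542,nat_lit 13574,nat_lit 13584,nat_lit 13600,nat_lit 13607,nat_lit 13626,nat_lit 13640,nat_lit 13674,nat_lit 13680,nat_lit 13697,nat_lit 13712,nat_lit 13728,nat_lit 13739,nat_lit 13754,nat_lit 13770,nat_lit 13776,nat_lit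 13792,nat_lit 13809,nat_lit 13814,nat_lit 13825,nat_lit 13874,nat_lit 13890,nat_lit 13907,nat_lit 13928,nat_lit 13944,nat_lit 13946,nat_lit 13963,nat_lit 13968,nat_lit 13994,nat_lit 14001,nat_lit 14006,nat_lit 14022,nat_lit 14055,nat_lit 14058,nat_lit 14059,nat_lit 14064,nat_lit 14090,nat_lit 14096,nat_lit 14113,nat_lit 14139,nat_lit 14144,nat_lit 14160,nat_lit 14171,nat_lit 14186,nat_lit 14202,nat_lit 14208,nat_lit 14224,nat_lit 14241,nat_lit 14257,nat_lit 14262,nat_lit 14274,nat_lit 14295,nat_lit 14311,nat_lit 14321,nat_lit 14346,nat_lit 14352,nat_lit 14368,nat_lit 14385,nat_lit 14390,nat_lit 14401,nat_lit 14418,nat_lit 14422,nat_lit 14434,nat_lit 14438,nat_lit 14454,nat_lit 14471,nat_lit 14499,nat_lit 14502,nat_lit 14512,nat_lit 14529,nat_lit 14545,nat_lit 14562,nat_lit 14579,nat_lit 14582,nat_lit 14594,nat_lit 14611,nat_lit 14614,nat_lit 14624,nat_lit 14631,nat_lit 14644,nat_lit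 14646,nat_lit 14663,nat_lit 14680,nat_lit 14683,nat_lit 14699,nat_lit 14714,nat_lit 14720,nat_lit 14746,nat_lit 14752,nat_lit 14769,nat_lit 14795,nat_lit 14811,nat_lit 14826,nat_lit 14832,nat_lit 14855,nat_lit 14858,nat_lit 14875,nat_lit 14890,nat_lit 14906,nat_lit 14922,nat_lit 14928,nat_lit 14944,nat_lit 14960,nat_lit 14977,nat_lit 14992,nat_lit 15009,nat_lit 15026,nat_lit 15041,nat_lit 15046,nat_lit 15058,nat_lit 15062,nat_lit 15099,nat_lit 15114,nat_lit 15120,nat_lit 15137,nat_lit 15162,nat_lit 15168,nat_lit 15184,nat_lit 15201,nat_lit 15206,nat_lit 15217,nat_lit 15234,nat_lit 15238,nat_lit 15250,nat_lit 15254,nat_lit 15267,nat_lit 15270,nat_lit 15280,nat_lit 15303,nat_lit 15329,nat_lit 15334,nat_lit 15345,nat_lit 15362,nat_lit 15366,nat_lit 15383,nat_lit 15394,nat_lit 15411,nat_lit 15414,nat_lit 15430,nat_lit 15446,nat_lit 15463,nat_lit 15472,nat_lit 15506,nat_lit 15510,nat_lit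 15542,nat_lit 15552,nat_lit 15559,nat_lit 15568,nat_lit 15575,nat_lit 15594,nat_lit 15608,nat_lit 15619,nat_lit 15622,nat_lit 15636,nat_lit 15648,nat_lit 15655,nat_lit 15704,nat_lit 15720,nat_lit 15739,nat_lit 15754,nat_lit 15760,nat_lit 15783,nat_lit 15802,nat_lit 15818,nat_lit 15824,nat_lit 15841,nat_lit 15858,nat_lit 15879,nat_lit 15883,nat_lit 15898,nat_lit 15904,nat_lit 15921,nat_lit 15946,nat_lit 15962,nat_lit 15968,nat_lit 15994,nat_lit 16016,nat_lit 16033,nat_lit 16038,nat_lit 16049,nat_lit 16066,nat_lit 16070,nat_lit 16082,nat_lit 16086,nat_lit 16118,nat_lit 16128,nat_lit 16135,nat_lit 16144,nat_lit 16161,nat_lit 16166,nat_lit 16176,nat_lit 16193,nat_lit 16198,nat_lit 16210,nat_lit 16214,nat_lit 16231,nat_lit 16246,nat_lit 16256,nat_lit 16280,nat_lit 16298,nat_lit 16304,nat_lit 16321,nat_lit 16337,nat_lit 16342,nat_lit 16354,nat_lit 16384,nat_lit 16406,nat_lit 16418,nat_lit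 16422,nat_lit 16439,nat_lit 16455,nat_lit 16467,nat_lit 16470,nat_lit 16487,nat_lit 16513,nat_lit 16530,nat_lit 16544,nat_lit 16560,nat_lit 16583,nat_lit 16593,nat_lit 16598,nat_lit 16610,nat_lit 16626,nat_lit 16630,nat_lit 16647,nat_lit 16662,nat_lit 16680,nat_lit 16694,nat_lit 16711,nat_lit 16744,nat_lit 16752,nat_lit 16759,nat_lit 16775,nat_lit 16809,nat_lit 16834,nat_lit 16867,nat_lit 16870,nat_lit 16896,nat_lit 16928,nat_lit 16954,nat_lit 16984,nat_lit 17024,nat_lit 17041,nat_lit 17058,nat_lit 17073,nat_lit 17114,nat_lit 17120,nat_lit 17136,nat_lit 17153,nat_lit 17158,nat_lit 17169,nat_lit 17186,nat_lit 17190,nat_lit 17222,nat_lit 17235,nat_lit 17251,nat_lit 17291,nat_lit 17303,nat_lit 17306,nat_lit 17307,nat_lit 17323,nat_lit 17338,nat_lit 17345,nat_lit 17360,nat_lit 17378,nat_lit 17382,nat_lit 17408,nat_lit 17415,nat_lit 17434,nat_lit 17435,nat_lit 17440,nat_lit 17451,nat_lit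 17466,nat_lit 17473,nat_lit 17488,nat_lit 17505,nat_lit 17510,nat_lit 17522,nat_lit 17546,nat_lit 17553,nat_lit 17594,nat_lit 17600,nat_lit 17616,nat_lit 17633,nat_lit 17638,nat_lit 17649,nat_lit 17654,nat_lit 17666,nat_lit 17682,nat_lit 17686,nat_lit 17703,nat_lit 17715,nat_lit 17718,nat_lit 17771,nat_lit 17776,nat_lit 17793,nat_lit 17798,nat_lit 17809,nat_lit 17826,nat_lit 17830,nat_lit 17858,nat_lit 17875,nat_lit 17878,nat_lit 17888,nat_lit 17907,nat_lit 17910,nat_lit 17920,nat_lit 17943,nat_lit 17984,nat_lit 18018,nat_lit 18022,nat_lit 18034,nat_lit 18051,nat_lit 18054,nat_lit 18068,nat_lit 18070,nat_lit 18080,nat_lit 18087,nat_lit 18099,nat_lit 18102,nat_lit 18116,nat_lit 18135,nat_lit 18151,nat_lit 18199,nat_lit 18216,nat_lit 18231,nat_lit 18235,nat_lit 18250,nat_lit 18266,nat_lit 18272,nat_lit 18289,nat_lit 18304,nat_lit 18321,nat_lit 18342,nat_lit 18362,nat_lit 18378,nat_lit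 18384,nat_lit 18401,nat_lit 18426,nat_lit 18443,nat_lit 18458,nat_lit 18464,nat_lit 18480,nat_lit 18496,nat_lit 18513,nat_lit 18529,nat_lit 18545,nat_lit 18562,nat_lit 18577,nat_lit 18594,nat_lit 18611,nat_lit 18626,nat_lit 18630,nat_lit 18662,nat_lit 18679,nat_lit 18698,nat_lit 18704,nat_lit 18721,nat_lit 18738,nat_lit 18742,nat_lit 18752,nat_lit 18769,nat_lit 18774,nat_lit 18785,nat_lit 18802,nat_lit 18806,nat_lit 18834,nat_lit 18838,nat_lit 18854,nat_lit 18864,nat_lit 18883,nat_lit 18886,nat_lit 18918,nat_lit 18928,nat_lit 18951,nat_lit 18954,nat_lit 18978,nat_lit 18982,nat_lit 18999,nat_lit 19010,nat_lit 19014,nat_lit 19027,nat_lit 19030,nat_lit 19040,nat_lit 19047,nat_lit 19064,nat_lit 19075,nat_lit 19078,nat_lit 19092,nat_lit 19104,nat_lit 19111,nat_lit 19120,nat_lit 19143,nat_lit 19160,nat_lit 19169,nat_lit 19178,nat_lit 19190,nat_lit 19200,nat_lit 19207,nat_lit 19216,nat_lit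 19239,nat_lit 19242,nat_lit 19274,nat_lit 19332,nat_lit 19334,nat_lit 19377,nat_lit 19383,nat_lit 19400,nat_lit 19431,nat_lit 19435,nat_lit 19450,nat_lit 19456,nat_lit 19473,nat_lit 19499,nat_lit 19504,nat_lit 19520,nat_lit 19537,nat_lit 19542,nat_lit 19554,nat_lit 19571,nat_lit 19595,nat_lit 19616,nat_lit 19633,nat_lit 19650,nat_lit 19664,nat_lit 19680,nat_lit 19697,nat_lit 19702,nat_lit 19712,nat_lit 19729,nat_lit 19746,nat_lit 19750,nat_lit 19778,nat_lit 19782,nat_lit 19798,nat_lit 19808,nat_lit 19815,nat_lit 19827,nat_lit 19830,nat_lit 19840,nat_lit 19847,nat_lit 19856,nat_lit 19879,nat_lit 19905,nat_lit 19922,nat_lit 19926,nat_lit 19953,nat_lit 19970,nat_lit 19974,nat_lit 19991,nat_lit 20006,nat_lit 20016,nat_lit 20040,nat_lit 20048,nat_lit 20055,nat_lit 20089,nat_lit 20096,nat_lit 20113,nat_lit 20118,nat_lit 20130,nat_lit 20134,nat_lit 20146,nat_lit 20150,nat_lit 20167,nat_lit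 20179,nat_lit 20182,nat_lit 20198,nat_lit 20215,nat_lit 20240,nat_lit 20294,nat_lit 20311,nat_lit 20338,nat_lit 20358,nat_lit 20375,nat_lit 20422,nat_lit 20451,nat_lit 20467,nat_lit 20470,nat_lit 20480,nat_lit 20487,nat_lit 20504,nat_lit 20512,nat_lit 20519,nat_lit 20537,nat_lit 20551,nat_lit 20568,nat_lit 20599,nat_lit 20659,nat_lit 20662,nat_lit 20678,nat_lit 20727,nat_lit 20769,nat_lit 20786,nat_lit 20803,nat_lit 20818,nat_lit 20832,nat_lit 20849,nat_lit 20854,nat_lit 20865,nat_lit 20882,nat_lit 20886,nat_lit 20914,nat_lit 20931,nat_lit 20934,nat_lit 20960,nat_lit 21018,nat_lit 21034,nat_lit 21051,nat_lit 21066,nat_lit 21082,nat_lit 21088,nat_lit 21106,nat_lit 21121,nat_lit 21139,nat_lit 21142,nat_lit 21152,nat_lit 21175,nat_lit 21211,nat_lit 21226,nat_lit 21233,nat_lit 21243,nat_lit 21258,nat_lit 21264,nat_lit 21291,nat_lit 21297,nat_lit 21302,nat_lit 21314,nat_lit 21318,nat_lit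 21347,nat_lit 21360,nat_lit 21378,nat_lit 21382,nat_lit 21392,nat_lit 21409,nat_lit 21414,nat_lit 21425,nat_lit 21430,nat_lit 21442,nat_lit 21463,nat_lit 21474,nat_lit 21478,nat_lit 21495,nat_lit 21507,nat_lit 21510,nat_lit 21523,nat_lit 21526,nat_lit 21572,nat_lit 21584,nat_lit 21591,nat_lit 21610,nat_lit 21617,nat_lit 21622,nat_lit 21634,nat_lit 21638,nat_lit 21666,nat_lit 21670,nat_lit 21683,nat_lit 21686,nat_lit 21696,nat_lit 21715,nat_lit 21718,nat_lit 21732,nat_lit 21734,nat_lit 21744,nat_lit 21751,nat_lit 21792,nat_lit 21818,nat_lit 21832,nat_lit 21859,nat_lit 21862,nat_lit 21872,nat_lit 21879,nat_lit 21891,nat_lit 21894,nat_lit 21910,nat_lit 21920,nat_lit 21927,nat_lit 21942,nat_lit 21952,nat_lit 21959,nat_lit 21978,nat_lit 22006,nat_lit 22056,nat_lit 22072,nat_lit 22088,nat_lit 22123,nat_lit 22138,nat_lit 22144,nat_lit 22160,nat_lit 22177,nat_lit 22182,nat_lit 22194,nat_lit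 22198,nat_lit 22209,nat_lit 22230,nat_lit 22247,nat_lit 22256,nat_lit 22272,nat_lit 22289,nat_lit 22306,nat_lit 22331,nat_lit 22346,nat_lit 22352,nat_lit 22369,nat_lit 22385,nat_lit 22401,nat_lit 22418,nat_lit 22434,nat_lit 22450,nat_lit 22467,nat_lit 22482,nat_lit 22499,nat_lit 22516,nat_lit 22534,nat_lit 22544,nat_lit 22592,nat_lit 22609,nat_lit 22626,nat_lit 22630,nat_lit 22646,nat_lit 22656,nat_lit 22663,nat_lit 22673,nat_lit 22690,nat_lit 22694,nat_lit 22722,nat_lit 22739,nat_lit 22742,nat_lit 22752,nat_lit 22771,nat_lit 22774,nat_lit 22784,nat_lit 22800,nat_lit 22807,nat_lit 22823,nat_lit 22826,nat_lit 22836,nat_lit 22838,nat_lit 22848,nat_lit 22864,nat_lit 22871,nat_lit 22887,nat_lit 22923,nat_lit 22931,nat_lit 22934,nat_lit 22944,nat_lit 22968,nat_lit 22979,nat_lit 22982,nat_lit 22992,nat_lit 23012,nat_lit 23024,nat_lit 23031,nat_lit 23064,nat_lit 23092,nat_lit 23104,nat_lit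 23137,nat_lit 23143,nat_lit 23160,nat_lit 23169,nat_lit 23178,nat_lit 23192,nat_lit 23209,nat_lit 23226,nat_lit 23248,nat_lit 23255,nat_lit 23271,nat_lit 23297,nat_lit 23306,nat_lit 23366,nat_lit 23399,nat_lit 23416,nat_lit 23433,nat_lit 23451,nat_lit 23466,nat_lit 23472,nat_lit 23489,nat_lit 23494,nat_lit 23506,nat_lit 23530,nat_lit 23542,nat_lit 23553,nat_lit 23570,nat_lit 23574,nat_lit 23603,nat_lit 23622,nat_lit 23642,nat_lit 23649,nat_lit 23666,nat_lit 23670,nat_lit 23686,nat_lit 23697,nat_lit 23713,nat_lit 23730,nat_lit 23734,nat_lit 23761,nat_lit 23766,nat_lit 23778,nat_lit 23782,nat_lit 23795,nat_lit 23798,nat_lit 23808,nat_lit 23815,nat_lit 23827,nat_lit 23830,nat_lit 23840,nat_lit 23856,nat_lit 23879,nat_lit 23908,nat_lit 23910,nat_lit 23920,nat_lit 23943,nat_lit 23975,nat_lit 23990,nat_lit 23992,nat_lit 23994,nat_lit 24006,nat_lit 24019,nat_lit 24022,nat_lit 24032,nat_lit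 24039,nat_lit 24050,nat_lit 24067,nat_lit 24070,nat_lit 24080,nat_lit 24087,nat_lit 24104,nat_lit 24112,nat_lit 24119,nat_lit 24153,nat_lit 24161,nat_lit 24167,nat_lit 24209,nat_lit 24214,nat_lit 24226,nat_lit 24230,nat_lit 24247,nat_lit 24259,nat_lit 24262,nat_lit 24272,nat_lit 24291,nat_lit 24294,nat_lit 24311,nat_lit 24340,nat_lit 24342,nat_lit 24359,nat_lit 24375,nat_lit 24407,nat_lit 24423,nat_lit 24454,nat_lit 24464,nat_lit 24471,nat_lit 24490,nat_lit 24496,nat_lit 24516,nat_lit 24518,nat_lit 24534,nat_lit 24544,nat_lit 24551,nat_lit 24567,nat_lit 24584,nat_lit 24601,nat_lit 24615,nat_lit 24710,nat_lit 24720,nat_lit 24770,nat_lit 24787,nat_lit 24806,nat_lit 24819,nat_lit 24833,nat_lit 24850,nat_lit 24854,nat_lit 24882,nat_lit 24886,nat_lit 24902,nat_lit 24912,nat_lit 24931,nat_lit 24986,nat_lit 24992,nat_lit 25019,nat_lit 25034,nat_lit 25040,nat_lit 25056,nat_lit 25073,nat_lit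 25078,nat_lit 25091,nat_lit 25106,nat_lit 25124,nat_lit 25126,nat_lit 25136,nat_lit 25159,nat_lit 25178,nat_lit 25194,nat_lit 25200,nat_lit 25227,nat_lit 25242,nat_lit 25248,nat_lit 25265,nat_lit 25270,nat_lit 25290,nat_lit 25302,nat_lit 25334,nat_lit 25344,nat_lit 25351,nat_lit 25366,nat_lit 25377,nat_lit 25395,nat_lit 25398,nat_lit 25425,nat_lit 25430,nat_lit 25442,nat_lit 25446,nat_lit 25463,nat_lit 25474,nat_lit 25478,nat_lit 25495,nat_lit 25507,nat_lit 25510,nat_lit 25539,nat_lit 25542,nat_lit 25552,nat_lit 25588,nat_lit 25590,nat_lit 25600,nat_lit 25607,nat_lit 25620,nat_lit 25654,nat_lit 25671,nat_lit 25674,nat_lit 25688,nat_lit 25714,nat_lit 25718,nat_lit 25747,nat_lit 25750,nat_lit 25760,nat_lit 25779,nat_lit 25782,nat_lit 25792,nat_lit 25812,nat_lit 25814,nat_lit 25824,nat_lit 25850,nat_lit 25862,nat_lit 25872,nat_lit 25927,nat_lit 26004,nat_lit 26006,nat_lit 26016,nat_lit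 26023,nat_lit 26039,nat_lit 26070,nat_lit 26080,nat_lit 26087,nat_lit 26096,nat_lit 26113,nat_lit 26119,nat_lit 26122,nat_lit 26136,nat_lit 26144,nat_lit 26151,nat_lit 26170,nat_lit 26184,nat_lit 26282,nat_lit 26288,nat_lit 26305,nat_lit 26310,nat_lit 26321,nat_lit 26326,nat_lit 26338,nat_lit 26342,nat_lit 26374,nat_lit 26384,nat_lit 26391,nat_lit 26402,nat_lit 26406,nat_lit 26423,nat_lit 26440,nat_lit 26449,nat_lit 26465,nat_lit 26470,nat_lit 26482,nat_lit 26502,nat_lit 26522,nat_lit 26528,nat_lit 26545,nat_lit 26562,nat_lit 26578,nat_lit 26582,nat_lit 26594,nat_lit 26611,nat_lit 26627,nat_lit 26643,nat_lit 26660,nat_lit 26662,nat_lit 26678,nat_lit 26692,nat_lit 26710,nat_lit 26720,nat_lit 26743,nat_lit 26753,nat_lit 26770,nat_lit 26774,nat_lit 26790,nat_lit 26800,nat_lit 26807,nat_lit 26816,nat_lit 26823,nat_lit 26839,nat_lit 26856,nat_lit 26866,nat_lit 26883,nat_lit 26886,nat_lit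 26896,nat_lit 26915,nat_lit 26932,nat_lit 26934,nat_lit 26944,nat_lit 26951,nat_lit 26980,nat_lit 26992,nat_lit 27031,nat_lit 27066,nat_lit 27083,nat_lit 27094,nat_lit 27104,nat_lit 27111,nat_lit 27121,nat_lit 27130,nat_lit 27143,nat_lit 27160,nat_lit 27204,nat_lit 27206,nat_lit 27216,nat_lit 27242,nat_lit 27270,nat_lit 27280,nat_lit 27306,nat_lit 27317,nat_lit 27318,nat_lit 27329,nat_lit 27338,nat_lit 27352,nat_lit 27382,nat_lit 27393,nat_lit 27415,nat_lit 27432,nat_lit 27449,nat_lit 27466,nat_lit 27497,nat_lit 27520,nat_lit 27537,nat_lit 27543,nat_lit 27640,nat_lit 27657,nat_lit 27690,nat_lit 27696,nat_lit 27713,nat_lit 27718,nat_lit 27734,nat_lit 27763,nat_lit 27776,nat_lit 27810,nat_lit 27827,nat_lit 27830,nat_lit 27860,nat_lit 27862,nat_lit 27879,nat_lit 27888,nat_lit 27906,nat_lit 27910,nat_lit 27926,nat_lit 27936,nat_lit 27952,nat_lit 27970,nat_lit 27986,nat_lit 27990,nat_lit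 28003,nat_lit 28006,nat_lit 28016,nat_lit 28023,nat_lit 28034,nat_lit 28055,nat_lit 28067,nat_lit 28070,nat_lit 28080,nat_lit 28100,nat_lit 28102,nat_lit 28112,nat_lit 28135,nat_lit 28166,nat_lit 28176,nat_lit 28199,nat_lit 28202,nat_lit 28209,nat_lit 28215,nat_lit 28230,nat_lit 28232,nat_lit 28234,nat_lit 28245,nat_lit 28256,nat_lit 28273,nat_lit 28279,nat_lit 28282,nat_lit 28294,nat_lit 28310,nat_lit 28328,nat_lit 28330,nat_lit 28346,nat_lit 28368,nat_lit 28388,nat_lit 28390,nat_lit 28400,nat_lit 28407,nat_lit 28423,nat_lit 28451,nat_lit 28470,nat_lit 28480,nat_lit 28503,nat_lit 28506,nat_lit 28520,nat_lit 28537,nat_lit 28545,nat_lit 28551,nat_lit 28599,nat_lit 28614,nat_lit 28626,nat_lit 28630,nat_lit 28647,nat_lit 28662,nat_lit 28672,nat_lit 28708,nat_lit 28710,nat_lit 28720,nat_lit 28756,nat_lit 28775,nat_lit 28806,nat_lit 28903,nat_lit 28919,nat_lit 28967,nat_lit 28981,nat_lit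 28982,nat_lit 28992,nat_lit 29008,nat_lit 29031,nat_lit 29034,nat_lit 29062,nat_lit 29064,nat_lit 29081,nat_lit 29120,nat_lit 29137,nat_lit 29155,nat_lit 29174,nat_lit 29206,nat_lit 29222,nat_lit 29238,nat_lit 29248,nat_lit 29267,nat_lit 29270,nat_lit 29280,nat_lit 29296,nat_lit 29322,nat_lit 29361,nat_lit 29386,nat_lit 29392,nat_lit 29409,nat_lit 29414,nat_lit 29442,nat_lit 29446,nat_lit 29476,nat_lit 29494,nat_lit 29510,nat_lit 29520,nat_lit 29543,nat_lit 29562,nat_lit 29579,nat_lit 29584,nat_lit 29601,nat_lit 29606,nat_lit 29626,nat_lit 29632,nat_lit 29649,nat_lit 29670,nat_lit 29687,nat_lit 29712,nat_lit 29719,nat_lit 29728,nat_lit 29751,nat_lit 29783,nat_lit 29794,nat_lit 29812,nat_lit 29814,nat_lit 29824,nat_lit 29842,nat_lit 29846,nat_lit 29863,nat_lit 29878,nat_lit 29926,nat_lit 29936,nat_lit 29972,nat_lit 29984,nat_lit 29991,nat_lit 30004,nat_lit 30006,nat_lit 30016,nat_lit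 30054,nat_lit 30064,nat_lit 30081,nat_lit 30087,nat_lit 30090,nat_lit 30118,nat_lit 30128,nat_lit 30135,nat_lit 30171,nat_lit 30198,nat_lit 30230,nat_lit 30240,nat_lit 30266,nat_lit 30288,nat_lit 30314,nat_lit 30326,nat_lit 30336,nat_lit 30353,nat_lit 30379,nat_lit 30401,nat_lit 30407,nat_lit 30438,nat_lit 30448,nat_lit 30455,nat_lit 30465,nat_lit 30471,nat_lit 30474,nat_lit 30502,nat_lit 30512,nat_lit 30529,nat_lit 30535,nat_lit 30538,nat_lit 30570,nat_lit 30600,nat_lit 30664,nat_lit 30704,nat_lit 30721,nat_lit 30726,nat_lit 30738,nat_lit 30742,nat_lit 30770,nat_lit 30774,nat_lit 30803,nat_lit 30816,nat_lit 30823,nat_lit 30832,nat_lit 30855,nat_lit 30872,nat_lit 30883,nat_lit 30886,nat_lit 30903,nat_lit 30920,nat_lit 30946,nat_lit 30962,nat_lit 30966,nat_lit 30983,nat_lit 30995,nat_lit 31008,nat_lit 31024,nat_lit 31041,nat_lit 31058,nat_lit 31075,nat_lit 31091,nat_lit 31094,nat_lit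 31104,nat_lit 31123,nat_lit 31140,nat_lit 31142,nat_lit 31156,nat_lit 31172,nat_lit 31189,nat_lit 31190,nat_lit 31200,nat_lit 31207,nat_lit 31216,nat_lit 31238,nat_lit 31248,nat_lit 31298,nat_lit 31302,nat_lit 31318,nat_lit 31328,nat_lit 31344,nat_lit 31367,nat_lit 31370,nat_lit 31393,nat_lit 31399,nat_lit 31402,nat_lit 31430,nat_lit 31432,nat_lit 31459,nat_lit 31462,nat_lit 31476,nat_lit 31478,nat_lit 31488,nat_lit 31524,nat_lit 31526,nat_lit 31541,nat_lit 31542,nat_lit 31552,nat_lit 31569,nat_lit 31575,nat_lit 31578,nat_lit 31606,nat_lit 31617,nat_lit 31638,nat_lit 31642,nat_lit 31680,nat_lit 31703,nat_lit 31720,nat_lit 31738,nat_lit 31785,nat_lit 31798,nat_lit 31808,nat_lit 31825,nat_lit 31834,nat_lit 31856,nat_lit 31873,nat_lit 31882,nat_lit 31899,nat_lit 31910,nat_lit 31920,nat_lit 31946,nat_lit 32024,nat_lit 32064,nat_lit 32102,nat_lit 32122,nat_lit 32153,nat_lit 32176,nat_lit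 32193,nat_lit 32198,nat_lit 32210,nat_lit 32214,nat_lit 32240,nat_lit 32247,nat_lit 32260,nat_lit 32273,nat_lit 32291,nat_lit 32308,nat_lit 32310,nat_lit 32342,nat_lit 32352,nat_lit 32359,nat_lit 32385,nat_lit 32390,nat_lit 32403,nat_lit 32406,nat_lit 32416,nat_lit 32432,nat_lit 32439,nat_lit 32455,nat_lit 32465,nat_lit 32483,nat_lit 32499,nat_lit 32502,nat_lit 32512,nat_lit 32532,nat_lit 32534,nat_lit 32544,nat_lit 32551,nat_lit 32567,nat_lit 32570,nat_lit 32595,nat_lit 32628,nat_lit 32640,nat_lit 32677,nat_lit 32678,nat_lit 32688,nat_lit 32705,nat_lit 32711,nat_lit 32714,nat_lit 32726,nat_lit 32736,nat_lit 32759,nat_lit 32774,nat_lit 32778,nat_lit 32807,nat_lit 32822,nat_lit 32824,nat_lit 32842,nat_lit 32858,nat_lit 32897,nat_lit 32903,nat_lit 32919,nat_lit 32934,nat_lit 32938,nat_lit 32968,nat_lit 32984,nat_lit 32986,nat_lit 32999,nat_lit 33002,nat_lit 33008,nat_lit 33047,nat_lit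 33061,nat_lit 33072,nat_lit 33089,nat_lit 33095,nat_lit 33126,nat_lit 33140,nat_lit 33142,nat_lit 33152,nat_lit 33169,nat_lit 33175,nat_lit 33192,nat_lit 33194,nat_lit 33225,nat_lit 33255,nat_lit 33258,nat_lit 33270,nat_lit 33286,nat_lit 33318,nat_lit 33328,nat_lit 33335,nat_lit 33398,nat_lit 33408,nat_lit 33425,nat_lit 33446,nat_lit 33479,nat_lit 33526,nat_lit 33542,nat_lit 33552,nat_lit 33578,nat_lit 33585,nat_lit 33594,nat_lit 33606,nat_lit 33627,nat_lit 33657,nat_lit 33718,nat_lit 33744,nat_lit 33751,nat_lit 33760,nat_lit 33776,nat_lit 33802,nat_lit 33814,nat_lit 33824,nat_lit 33890,nat_lit 33904,nat_lit 33942,nat_lit 33959,nat_lit 33974,nat_lit 33984,nat_lit 34006,nat_lit 34016,nat_lit 34032,nat_lit 34055,nat_lit 34074,nat_lit 34091,nat_lit 34113,nat_lit 34134,nat_lit 34151,nat_lit 34208,nat_lit 34247,nat_lit 34273,nat_lit 34279,nat_lit 34294,nat_lit 34298,nat_lit 34326,nat_lit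 34342,nat_lit 34352,nat_lit 34369,nat_lit 34378,nat_lit 34390,nat_lit 34400,nat_lit 34448,nat_lit 34486,nat_lit 34503,nat_lit 34544,nat_lit 34561,nat_lit 34570,nat_lit 34576,nat_lit 34602,nat_lit 34618,nat_lit 34630,nat_lit 34634,nat_lit 34651,nat_lit 34656,nat_lit 34663,nat_lit 34679,nat_lit 34696,nat_lit 34720,nat_lit 34736,nat_lit 34753,nat_lit 34762,nat_lit 34785,nat_lit 34811,nat_lit 34816,nat_lit 34833,nat_lit 34912,nat_lit 34935,nat_lit 34982,nat_lit 35137,nat_lit 35154,nat_lit 35158,nat_lit 35190,nat_lit 35200,nat_lit 35219,nat_lit 35222,nat_lit 35232,nat_lit 35252,nat_lit 35271,nat_lit 35288,nat_lit 35297,nat_lit 35303,nat_lit 35320,nat_lit 35348,nat_lit 35350,nat_lit 35360,nat_lit 35367,nat_lit 35384,nat_lit 35411,nat_lit 35414,nat_lit 35427,nat_lit 35440,nat_lit 35447,nat_lit 35476,nat_lit 35489,nat_lit 35498,nat_lit 35505,nat_lit 35510,nat_lit 35522,nat_lit 35539,nat_lit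 35556,nat_lit 35572,nat_lit 35574,nat_lit 35584,nat_lit 35607,nat_lit 35620,nat_lit 35637,nat_lit 35638,nat_lit 35648,nat_lit 35655,nat_lit 35670,nat_lit 35686,nat_lit 35712,nat_lit 35729,nat_lit 35735,nat_lit 35752,nat_lit 35761,nat_lit 35776,nat_lit 35793,nat_lit 35814,nat_lit 35824,nat_lit 35840,nat_lit 35863,nat_lit 35866,nat_lit 35873,nat_lit 35879,nat_lit 35894,nat_lit 35896,nat_lit 35898,nat_lit 35927,nat_lit 35930,nat_lit 35942,nat_lit 35944,nat_lit 35963,nat_lit 35976,nat_lit 36006,nat_lit 36016,nat_lit 36038,nat_lit 36048,nat_lit 36065,nat_lit 36071,nat_lit 36074,nat_lit 36086,nat_lit 36096,nat_lit 36118,nat_lit 36128,nat_lit 36145,nat_lit 36167,nat_lit 36170,nat_lit 36182,nat_lit 36250,nat_lit 36273,nat_lit 36296,nat_lit 36313,nat_lit 36320,nat_lit 36352,nat_lit 36378,nat_lit 36394,nat_lit 36417,nat_lit 36442,nat_lit 36459,nat_lit 36480,nat_lit 36497,nat_lit 36512,nat_lit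 36523,nat_lit 36550,nat_lit 36567,nat_lit 36609,nat_lit 36630,nat_lit 36662,nat_lit 36672,nat_lit 36679,nat_lit 36695,nat_lit 36726,nat_lit 36742,nat_lit 36758,nat_lit 36773,nat_lit 36774,nat_lit 36784,nat_lit 36791,nat_lit 36800,nat_lit 36823,nat_lit 36840,nat_lit 36854,nat_lit 36886,nat_lit 36896,nat_lit 36919,nat_lit 36935,nat_lit 36983,nat_lit 36986,nat_lit 36996,nat_lit 37014,nat_lit 37024,nat_lit 37061,nat_lit 37062,nat_lit 37072,nat_lit 37089,nat_lit 37095,nat_lit 37126,nat_lit 37130,nat_lit 37156,nat_lit 37158,nat_lit 37174,nat_lit 37185,nat_lit 37191,nat_lit 37216,nat_lit 37233,nat_lit 37255,nat_lit 37270,nat_lit 37274,nat_lit 37291,nat_lit 37306,nat_lit 37319,nat_lit 37334,nat_lit 37354,nat_lit 37382,nat_lit 37384,nat_lit 37402,nat_lit 37418,nat_lit 37424,nat_lit 37435,nat_lit 37458,nat_lit 37463,nat_lit 37478,nat_lit 37494,nat_lit 37498,nat_lit 37512,nat_lit 37514,nat_lit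 37546,nat_lit 37559,nat_lit 37568,nat_lit 37600,nat_lit 37617,nat_lit 37638,nat_lit 37654,nat_lit 37665,nat_lit 37671,nat_lit 37690,nat_lit 37702,nat_lit 37720,nat_lit 37734,nat_lit 37744,nat_lit 37761,nat_lit 37767,nat_lit 37770,nat_lit 37783,nat_lit 37800,nat_lit 37802,nat_lit 37817,nat_lit 37818,nat_lit 37866,nat_lit 37872,nat_lit 37920,nat_lit 37927,nat_lit 37975,nat_lit 38016,nat_lit 38023,nat_lit 38064,nat_lit 38090,nat_lit 38114,nat_lit 38139,nat_lit 38215,nat_lit 38266,nat_lit 38288,nat_lit 38326,nat_lit 38342,nat_lit 38352,nat_lit 38359,nat_lit 38384,nat_lit 38407,nat_lit 38416,nat_lit 38433,nat_lit 38439,nat_lit 38442,nat_lit 38455,nat_lit 38458,nat_lit 38474,nat_lit 38491,nat_lit 38535,nat_lit 38567,nat_lit 38570,nat_lit 38586,nat_lit 38599,nat_lit 38614,nat_lit 38634,nat_lit 38656,nat_lit 38672,nat_lit 38679,nat_lit 38689,nat_lit 38698,nat_lit 38714,nat_lit 38731,nat_lit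 38736,nat_lit 38784,nat_lit 38791,nat_lit 38806,nat_lit 38874,nat_lit 38922,nat_lit 38961,nat_lit 38967,nat_lit 38984,nat_lit 38998,nat_lit 39025,nat_lit 39050,nat_lit 39098,nat_lit 39121,nat_lit 39206,nat_lit 39219,nat_lit 39222,nat_lit 39232,nat_lit 39248,nat_lit 39255,nat_lit 39271,nat_lit 39284,nat_lit 39286,nat_lit 39296,nat_lit 39303,nat_lit 39319,nat_lit 39333,nat_lit 39334,nat_lit 39352,nat_lit 39383,nat_lit 39400,nat_lit 39430,nat_lit 39440,nat_lit 39463,nat_lit 39480,nat_lit 39510,nat_lit 39520,nat_lit 39540,nat_lit 39559,nat_lit 39589,nat_lit 39610,nat_lit 39627,nat_lit 39634,nat_lit 39667,nat_lit 39686,nat_lit 39702,nat_lit 39717,nat_lit 39728,nat_lit 39735,nat_lit 39745,nat_lit 39766,nat_lit 39782,nat_lit 39798,nat_lit 39808,nat_lit 39831,nat_lit 39848,nat_lit 39863,nat_lit 39872,nat_lit 39889,nat_lit 39906,nat_lit 39911,nat_lit 39926,nat_lit 39928,nat_lit 39945,nat_lit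 39962,nat_lit 39969,nat_lit 39991,nat_lit 40000,nat_lit 40023,nat_lit 40026,nat_lit 40033,nat_lit 40039,nat_lit 40054,nat_lit 40056,nat_lit 40058,nat_lit 40087,nat_lit 40102,nat_lit 40120,nat_lit 40122,nat_lit 40138,nat_lit 40168,nat_lit 40170,nat_lit 40200,nat_lit 40256,nat_lit 40273,nat_lit 40279,nat_lit 40288,nat_lit 40305,nat_lit 40327,nat_lit 40330,nat_lit 40342,nat_lit 40346,nat_lit 40368,nat_lit 40385,nat_lit 40400,nat_lit 40417,nat_lit 40434,nat_lit 40439,nat_lit 40454,nat_lit 40464,nat_lit 40490,nat_lit 40496,nat_lit 40519,nat_lit 40537,nat_lit 40566,nat_lit 40586,nat_lit 40608,nat_lit 40626,nat_lit 40634,nat_lit 40673,nat_lit 40690,nat_lit 40710,nat_lit 40715,nat_lit 40743,nat_lit 40747,nat_lit 40763,nat_lit 40770,nat_lit 40774,nat_lit 40784,nat_lit 40791,nat_lit 40800,nat_lit 40823,nat_lit 40854,nat_lit 40858,nat_lit 40864,nat_lit 40880,nat_lit 40896,nat_lit 40903,nat_lit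 40918,nat_lit 40928,nat_lit 40951,nat_lit 40968,nat_lit 40977,nat_lit 40986,nat_lit 41000,nat_lit 41024,nat_lit 41040,nat_lit 41063,nat_lit 41094,nat_lit 41110,nat_lit 41114,nat_lit 41120,nat_lit 41141,nat_lit 41152,nat_lit 41169,nat_lit 41175,nat_lit 41190,nat_lit 41200,nat_lit 41217,nat_lit 41223,nat_lit 41239,nat_lit 41254,nat_lit 41258,nat_lit 41274,nat_lit 41301,nat_lit 41302,nat_lit 41312,nat_lit 41328,nat_lit 41351,nat_lit 41366,nat_lit 41377,nat_lit 41394,nat_lit 41414,nat_lit 41418,nat_lit 41432,nat_lit 41434,nat_lit 41451,nat_lit 41472,nat_lit 41494,nat_lit 41514,nat_lit 41520,nat_lit 41531,nat_lit 41536,nat_lit 41544,nat_lit 41546,nat_lit 41562,nat_lit 41568,nat_lit 41579,nat_lit 41601,nat_lit 41611,nat_lit 41639,nat_lit 41654,nat_lit 41672,nat_lit 41690,nat_lit 41696,nat_lit 41719,nat_lit 41722,nat_lit 41728,nat_lit 41744,nat_lit 41777,nat_lit 41793,nat_lit 41810,nat_lit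 41832,nat_lit 41840,nat_lit 41863,nat_lit 41878,nat_lit 41888,nat_lit 41912,nat_lit 41929,nat_lit 41936,nat_lit 41953,nat_lit 41970,nat_lit 41992,nat_lit 41994,nat_lit 42011,nat_lit 42026,nat_lit 42042,nat_lit 42096,nat_lit 42118,nat_lit 42129,nat_lit 42135,nat_lit 42177,nat_lit 42183,nat_lit 42218,nat_lit 42250,nat_lit 42320,nat_lit 42359,nat_lit 42385,nat_lit 42391,nat_lit 42394,nat_lit 42410,nat_lit 42426,nat_lit 42439,nat_lit 42454,nat_lit 42458,nat_lit 42490,nat_lit 42507,nat_lit 42523,nat_lit 42570,nat_lit 42614,nat_lit 42634,nat_lit 42679,nat_lit 42769,nat_lit 42785,nat_lit 42791,nat_lit 42848,nat_lit 42871,nat_lit 42886,nat_lit 42888,nat_lit 42890,nat_lit 42992,nat_lit 43014,nat_lit 43024,nat_lit 43063,nat_lit 43096,nat_lit 43110,nat_lit 43120,nat_lit 43137,nat_lit 43143,nat_lit 43174,nat_lit 43190,nat_lit 43200,nat_lit 43238,nat_lit 43240,nat_lit 43264,nat_lit 43287,nat_lit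 43302,nat_lit 43304,nat_lit 43306,nat_lit 43328,nat_lit 43351,nat_lit 43365,nat_lit 43366,nat_lit 43382,nat_lit 43398,nat_lit 43443,nat_lit 43462,nat_lit 43472,nat_lit 43488,nat_lit 43510,nat_lit 43521,nat_lit 43527,nat_lit 43544,nat_lit 43559,nat_lit 43578,nat_lit 43584,nat_lit 43591,nat_lit 43600,nat_lit 43617,nat_lit 43638,nat_lit 43640,nat_lit 43681,nat_lit 43703,nat_lit 43706,nat_lit 43719,nat_lit 43738,nat_lit 43752,nat_lit 43769,nat_lit 43770,nat_lit 43792,nat_lit 43847,nat_lit 43862,nat_lit 43864,nat_lit 43866,nat_lit 43895,nat_lit 43910,nat_lit 43912,nat_lit 43928,nat_lit 43930,nat_lit 43946,nat_lit 43974,nat_lit 43992,nat_lit 44010,nat_lit 44016,nat_lit 44043,nat_lit 44097,nat_lit 44103,nat_lit 44119,nat_lit 44134,nat_lit 44138,nat_lit 44145,nat_lit 44162,nat_lit 44182,nat_lit 44186,nat_lit 44192,nat_lit 44218,nat_lit 44241,nat_lit 44258,nat_lit 44273,nat_lit 44295,nat_lit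 44311,nat_lit 44330,nat_lit 44346,nat_lit 44358,nat_lit 44368,nat_lit 44385,nat_lit 44410,nat_lit 44439,nat_lit 44470,nat_lit 44490,nat_lit 44514,nat_lit 44551,nat_lit 44555,nat_lit 44587,nat_lit 44602,nat_lit 44630,nat_lit 44640,nat_lit 44647,nat_lit 44663,nat_lit 44689,nat_lit 44695,nat_lit 44710,nat_lit 44714,nat_lit 44730,nat_lit 44753,nat_lit 44775,nat_lit 44785,nat_lit 44791,nat_lit 44808,nat_lit 44816,nat_lit 44833,nat_lit 44842,nat_lit 44854,nat_lit 44856,nat_lit 44890,nat_lit 44922,nat_lit 44951,nat_lit 44966,nat_lit 44968,nat_lit 45002,nat_lit 45008,nat_lit 45046,nat_lit 45057,nat_lit 45063,nat_lit 45079,nat_lit 45094,nat_lit 45104,nat_lit 45121,nat_lit 45127,nat_lit 45138,nat_lit 45143,nat_lit 45158,nat_lit 45162,nat_lit 45174,nat_lit 45194,nat_lit 45216,nat_lit 45238,nat_lit 45248,nat_lit 45265,nat_lit 45281,nat_lit 45302,nat_lit 45306,nat_lit 45322,nat_lit 45330,nat_lit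 45360,nat_lit 45368,nat_lit 45370,nat_lit 45376,nat_lit 45399,nat_lit 45402,nat_lit 45408,nat_lit 45419,nat_lit 45441,nat_lit 45466,nat_lit 45472,nat_lit 45483,nat_lit 45489,nat_lit 45499,nat_lit 45528,nat_lit 45545,nat_lit 45546,nat_lit 45585,nat_lit 45595,nat_lit 45618,nat_lit 45627,nat_lit 45642,nat_lit 45654,nat_lit 45656,nat_lit 45672,nat_lit 45687,nat_lit 45696,nat_lit 45718,nat_lit 45744,nat_lit 45761,nat_lit 45771,nat_lit 45777,nat_lit 45794,nat_lit 45810,nat_lit 45835,nat_lit 45857,nat_lit 45863,nat_lit 45866,nat_lit 45878,nat_lit 45896,nat_lit 45910,nat_lit 45929,nat_lit 45953,nat_lit 45970,nat_lit 45994,nat_lit 46010,nat_lit 46027,nat_lit 46048,nat_lit 46086,nat_lit 46103,nat_lit 46119,nat_lit 46146,nat_lit 46154,nat_lit 46192,nat_lit 46209,nat_lit 46215,nat_lit 46218,nat_lit 46234,nat_lit 46247,nat_lit 46262,nat_lit 46266,nat_lit 46326,nat_lit 46346,nat_lit 46379,nat_lit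 46432,nat_lit 46442,nat_lit 46503,nat_lit 46522,nat_lit 46554,nat_lit 46615,nat_lit 46618,nat_lit 46624,nat_lit 46641,nat_lit 46662,nat_lit 46664,nat_lit 46688,nat_lit 46705,nat_lit 46711,nat_lit 46727,nat_lit 46742,nat_lit 46746,nat_lit 46762,nat_lit 46768,nat_lit 46785,nat_lit 46800,nat_lit 46808,nat_lit 46839,nat_lit 46842,nat_lit 46854,nat_lit 46856,nat_lit 46858,nat_lit 46919,nat_lit 46934,nat_lit 46950,nat_lit 46960,nat_lit 46992,nat_lit 47024,nat_lit 47041,nat_lit 47047,nat_lit 47050,nat_lit 47057,nat_lit 47072,nat_lit 47090,nat_lit 47095,nat_lit 47110,nat_lit 47112,nat_lit 47142,nat_lit 47169,nat_lit 47175,nat_lit 47201,nat_lit 47223,nat_lit 47240,nat_lit 47258,nat_lit 47274,nat_lit 47290,nat_lit 47320,nat_lit 47322,nat_lit 47328,nat_lit 47354,nat_lit 47398,nat_lit 47414,nat_lit 47432,nat_lit 47450,nat_lit 47478,nat_lit 47480,nat_lit 47498,nat_lit 47514,nat_lit 47530,nat_lit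 47536,nat_lit 47563,nat_lit 47576,nat_lit 47600,nat_lit 47611,nat_lit 47617,nat_lit 47650,nat_lit 47655,nat_lit 47674,nat_lit 47690,nat_lit 47706,nat_lit 47730,nat_lit 47751,nat_lit 47770,nat_lit 47776,nat_lit 47798,nat_lit 47808,nat_lit 47819,nat_lit 47826,nat_lit 47847,nat_lit 47858,nat_lit 47882,nat_lit 47898,nat_lit 47904,nat_lit 47920,nat_lit 47943,nat_lit 47953,nat_lit 47970,nat_lit 48011,nat_lit 48027,nat_lit 48075,nat_lit 48090,nat_lit 48106,nat_lit 48112,nat_lit 48128,nat_lit 48151,nat_lit 48182,nat_lit 48199,nat_lit 48218,nat_lit 48234,nat_lit 48256,nat_lit 48282,nat_lit 48294,nat_lit 48306,nat_lit 48311,nat_lit 48326,nat_lit 48328,nat_lit 48353,nat_lit 48370,nat_lit 48378,nat_lit 48408,nat_lit 48426,nat_lit 48432,nat_lit 48470,nat_lit 48472,nat_lit 48474,nat_lit 48490,nat_lit 48505,nat_lit 48544,nat_lit 48567,nat_lit 48582,nat_lit 48598,nat_lit 48625,nat_lit 48631,nat_lit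 48642,nat_lit 48647,nat_lit 48662,nat_lit 48666,nat_lit 48694,nat_lit 48714,nat_lit 48736,nat_lit 48744,nat_lit 48746,nat_lit 48752,nat_lit 48769,nat_lit 48784,nat_lit 48801,nat_lit 48818,nat_lit 48834,nat_lit 48848,nat_lit 48858,nat_lit 48864,nat_lit 48880,nat_lit 48891,nat_lit 48899,nat_lit 48920,nat_lit 48935,nat_lit 48944,nat_lit 48966,nat_lit 48986,nat_lit 48992,nat_lit 49009,nat_lit 49019,nat_lit 49042,nat_lit 49056,nat_lit 49073,nat_lit 49083,nat_lit 49106,nat_lit 49115,nat_lit 49130,nat_lit 49145,nat_lit 49186,nat_lit 49195,nat_lit 49227,nat_lit 49242,nat_lit 49272,nat_lit 49290,nat_lit 49303,nat_lit 49322,nat_lit 49329,nat_lit 49334,nat_lit 49351,nat_lit 49361,nat_lit 49387,nat_lit 49402,nat_lit 49410,nat_lit 49435,nat_lit 49479,nat_lit 49496,nat_lit 49498,nat_lit 49520,nat_lit 49528,nat_lit 49545,nat_lit 49559,nat_lit 49563,nat_lit 49586,nat_lit 49610,nat_lit 49616,nat_lit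 49670,nat_lit 49687,nat_lit 49691,nat_lit 49707,nat_lit 49738,nat_lit 49744,nat_lit 49783,nat_lit 49798,nat_lit 49802,nat_lit 49846,nat_lit 49866,nat_lit 49888,nat_lit 49898,nat_lit 49904,nat_lit 49946,nat_lit 49952,nat_lit 49978,nat_lit 50022,nat_lit 50026,nat_lit 50049,nat_lit 50113,nat_lit 50119,nat_lit 50130,nat_lit 50135,nat_lit 50152,nat_lit 50154,nat_lit 50166,nat_lit 50186,nat_lit 50225,nat_lit 50242,nat_lit 50264,nat_lit 50294,nat_lit 50298,nat_lit 50346,nat_lit 50374,nat_lit 50394,nat_lit 50400,nat_lit 50417,nat_lit 50433,nat_lit 50458,nat_lit 50471,nat_lit 50490,nat_lit 50514,nat_lit 50529,nat_lit 50551,nat_lit 50566,nat_lit 50584,nat_lit 50616,nat_lit 50626,nat_lit 50631,nat_lit 50658,nat_lit 50663,nat_lit 50682,nat_lit 50695,nat_lit 50698,nat_lit 50761,nat_lit 50762,nat_lit 50768,nat_lit 50800,nat_lit 50827,nat_lit 50840,nat_lit 50855,nat_lit 50858,nat_lit 50875,nat_lit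 50888,nat_lit 50906,nat_lit 50912,nat_lit 50944,nat_lit 50961,nat_lit 51009,nat_lit 51019,nat_lit 51042,nat_lit 51063,nat_lit 51082,nat_lit 51131,nat_lit 51143,nat_lit 51162,nat_lit 51168,nat_lit 51190,nat_lit 51207,nat_lit 51217,nat_lit 51227,nat_lit 51255,nat_lit 51274,nat_lit 51312,nat_lit 51345,nat_lit 51371,nat_lit 51378,nat_lit 51418,nat_lit 51434,nat_lit 51456,nat_lit 51472,nat_lit 51489,nat_lit 51511,nat_lit 51526,nat_lit 51546,nat_lit 51558,nat_lit 51562,nat_lit 51584,nat_lit 51601,nat_lit 51616,nat_lit 51642,nat_lit 51655,nat_lit 51658,nat_lit 51670,nat_lit 51688,nat_lit 51714,nat_lit 51722,nat_lit 51731,nat_lit 51744,nat_lit 51767,nat_lit 51770,nat_lit 51798,nat_lit 51818,nat_lit 51833,nat_lit 51834,nat_lit 51882,nat_lit 51889,nat_lit 51910,nat_lit 51914,nat_lit 51930,nat_lit 51946,nat_lit 51954,nat_lit 51959,nat_lit 51974,nat_lit 51987,nat_lit 52006,nat_lit 52008,nat_lit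 52024,nat_lit 52026,nat_lit 52048,nat_lit 52056,nat_lit 52088,nat_lit 52103,nat_lit 52112,nat_lit 52129,nat_lit 52146,nat_lit 52161,nat_lit 52178,nat_lit 52202,nat_lit 52218,nat_lit 52234,nat_lit 52240,nat_lit 52262,nat_lit 52283,nat_lit 52314,nat_lit 52329,nat_lit 52346,nat_lit 52353,nat_lit 52375,nat_lit 52379,nat_lit 52384,nat_lit 52401,nat_lit 52418,nat_lit 52427,nat_lit 52442,nat_lit 52465,nat_lit 52482,nat_lit 52491,nat_lit 52523,nat_lit 52538,nat_lit 52570,nat_lit 52587,nat_lit 52618,nat_lit 52624,nat_lit 52647,nat_lit 52650,nat_lit 52656,nat_lit 52682,nat_lit 52688,nat_lit 52706,nat_lit 52710,nat_lit 52727,nat_lit 52747,nat_lit 52754,nat_lit 52778,nat_lit 52803,nat_lit 52811,nat_lit 52840,nat_lit 52858,nat_lit 52888,nat_lit 52905,nat_lit 52939,nat_lit 52954,nat_lit 52970,nat_lit 52976,nat_lit 53015,nat_lit 53035,nat_lit 53050,nat_lit 53066,nat_lit 53072,nat_lit 53094,nat_lit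 53110,nat_lit 53130,nat_lit 53160,nat_lit 53162,nat_lit 53168,nat_lit 53194,nat_lit 53200,nat_lit 53217,nat_lit 53232,nat_lit 53290,nat_lit 53314,nat_lit 53330,nat_lit 53335,nat_lit 53350,nat_lit 53354,nat_lit 53367,nat_lit 53370,nat_lit 53382,nat_lit 53384,nat_lit 53402,nat_lit 53424,nat_lit 53434,nat_lit 53458,nat_lit 53482,nat_lit 53498,nat_lit 53514,nat_lit 53562,nat_lit 53585,nat_lit 53602,nat_lit 53623,nat_lit 53658,nat_lit 53687,nat_lit 53690,nat_lit 53698,nat_lit 53718,nat_lit 53736,nat_lit 53751,nat_lit 53767,nat_lit 53779,nat_lit 53783,nat_lit 53786,nat_lit 53830,nat_lit 53834,nat_lit 53866,nat_lit 53872,nat_lit 53898,nat_lit 53904,nat_lit 53921,nat_lit 53926,nat_lit 53962,nat_lit 53978,nat_lit 53994,nat_lit 54000,nat_lit 54011,nat_lit 54065,nat_lit 54081,nat_lit 54098,nat_lit 54170,nat_lit 54218,nat_lit 54224,nat_lit 54241,nat_lit 54246,nat_lit 54263,nat_lit 54283,nat_lit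 54290,nat_lit 54299,nat_lit 54330,nat_lit 54370,nat_lit 54416,nat_lit 54432,nat_lit 54449,nat_lit 54502,nat_lit 54522,nat_lit 54528,nat_lit 54577,nat_lit 54614,nat_lit 54624,nat_lit 54646,nat_lit 54650,nat_lit 54656,nat_lit 54680,nat_lit 54695,nat_lit 54714,nat_lit 54720,nat_lit 54746,nat_lit 54758,nat_lit 54778,nat_lit 54842,nat_lit 54875,nat_lit 54882,nat_lit 54906,nat_lit 54944,nat_lit 54963,nat_lit 54982,nat_lit 54984,nat_lit 55000,nat_lit 55018,nat_lit 55032,nat_lit 55034,nat_lit 55050,nat_lit 55063,nat_lit 55066,nat_lit 55072,nat_lit 55096,nat_lit 55111,nat_lit 55129,nat_lit 55146,nat_lit 55153,nat_lit 55170,nat_lit 55202,nat_lit 55219,nat_lit 55223,nat_lit 55226,nat_lit 55232,nat_lit 55248,nat_lit 55264,nat_lit 55286,nat_lit 55303,nat_lit 55322,nat_lit 55328,nat_lit 55354,nat_lit 55360,nat_lit 55378,nat_lit 55382,nat_lit 55403,nat_lit 55418,nat_lit 55425,nat_lit 55442,nat_lit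 55467,nat_lit 55482,nat_lit 55515,nat_lit 55531,nat_lit 55546,nat_lit 55562,nat_lit 55568,nat_lit 55595,nat_lit 55610,nat_lit 55616,nat_lit 55658,nat_lit 55664,nat_lit 55686,nat_lit 55696,nat_lit 55713,nat_lit 55734,nat_lit 55751,nat_lit 55771,nat_lit 55786,nat_lit 55795,nat_lit 55808,nat_lit 55828,nat_lit 55835,nat_lit 55866,nat_lit 55897,nat_lit 55930,nat_lit 55936,nat_lit 55952,nat_lit 55974,nat_lit 56010,nat_lit 56016,nat_lit 56032,nat_lit 56054,nat_lit 56090,nat_lit 56096,nat_lit 56119,nat_lit 56122,nat_lit 56128,nat_lit 56145,nat_lit 56160,nat_lit 56177,nat_lit 56224,nat_lit 56247,nat_lit 56259,nat_lit 56263,nat_lit 56278,nat_lit 56298,nat_lit 56326,nat_lit 56328,nat_lit 56336,nat_lit 56352,nat_lit 56378,nat_lit 56410,nat_lit 56416,nat_lit 56442,nat_lit 56448,nat_lit 56475,nat_lit 56480,nat_lit 56514,nat_lit 56531,nat_lit 56535,nat_lit 56550,nat_lit 56586,nat_lit 56592,nat_lit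 56632,nat_lit 56647,nat_lit 56666,nat_lit 56682,nat_lit 56695,nat_lit 56714,nat_lit 56746,nat_lit 56768,nat_lit 56800,nat_lit 56817,nat_lit 56822,nat_lit 56838,nat_lit 56864,nat_lit 56880,nat_lit 56891,nat_lit 56896,nat_lit 56913,nat_lit 56946,nat_lit 57008,nat_lit 57042,nat_lit 57046,nat_lit 57051,nat_lit 57063,nat_lit 57083,nat_lit 57226,nat_lit 57232,nat_lit 57249,nat_lit 57320,nat_lit 57322,nat_lit 57328,nat_lit 57350,nat_lit 57367,nat_lit 57386,nat_lit 57392,nat_lit 57414,nat_lit 57424,nat_lit 57483,nat_lit 57507,nat_lit 57520,nat_lit 57542,nat_lit 57562,nat_lit 57576,nat_lit 57594,nat_lit 57607,nat_lit 57616,nat_lit 57639,nat_lit 57642,nat_lit 57664,nat_lit 57690,nat_lit 57696,nat_lit 57737,nat_lit 57754,nat_lit 57770,nat_lit 57776,nat_lit 57794,nat_lit 57819,nat_lit 57827,nat_lit 57847,nat_lit 57862,nat_lit 57866,nat_lit 57872,nat_lit 57894,nat_lit 57910,nat_lit 57921,nat_lit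 57926,nat_lit 57943,nat_lit 57985,nat_lit 58011,nat_lit 58017,nat_lit 58038,nat_lit 58074,nat_lit 58080,nat_lit 58098,nat_lit 58115,nat_lit 58138,nat_lit 58144,nat_lit 58170,nat_lit 58186,nat_lit 58192,nat_lit 58208,nat_lit 58256,nat_lit 58273,nat_lit 58288,nat_lit 58310,nat_lit 58327,nat_lit 58337,nat_lit 58375,nat_lit 58395,nat_lit 58416,nat_lit 58436,nat_lit 58454,nat_lit 58475,nat_lit 58496,nat_lit 58522,nat_lit 58528,nat_lit 58566,nat_lit 58592,nat_lit 58609,nat_lit 58656,nat_lit 58673,nat_lit 58698,nat_lit 58704,nat_lit 58721,nat_lit 58753,nat_lit 58774,nat_lit 58806,nat_lit 58808,nat_lit 58823,nat_lit 58838,nat_lit 58858,nat_lit 58864,nat_lit 58880,nat_lit 58906,nat_lit 58918,nat_lit 58938,nat_lit 58944,nat_lit 58960,nat_lit 58982,nat_lit 58992,nat_lit 59014,nat_lit 59041,nat_lit 59079,nat_lit 59082,nat_lit 59094,nat_lit 59098,nat_lit 59114,nat_lit 59120,nat_lit 59159,nat_lit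 59178,nat_lit 59184,nat_lit 59200,nat_lit 59248,nat_lit 59270,nat_lit 59281,nat_lit 59291,nat_lit 59302,nat_lit 59319,nat_lit 59479,nat_lit 59483,nat_lit 59515,nat_lit 59536,nat_lit 59553,nat_lit 59591,nat_lit 59594,nat_lit 59600,nat_lit 59622,nat_lit 59639,nat_lit 59658,nat_lit 59664,nat_lit 59686,nat_lit 59751,nat_lit 59754,nat_lit 59783,nat_lit 59792,nat_lit 59815,nat_lit 59824,nat_lit 59850,nat_lit 59857,nat_lit 59882,nat_lit 59888,nat_lit 59910,nat_lit 59920,nat_lit 59962,nat_lit 59968,nat_lit 59995,nat_lit 60001,nat_lit 60022,nat_lit 60027,nat_lit 60052,nat_lit 60055,nat_lit 60058,nat_lit 60070,nat_lit 60090,nat_lit 60096,nat_lit 60113,nat_lit 60118,nat_lit 60166,nat_lit 60183,nat_lit 60242,nat_lit 60263,nat_lit 60272,nat_lit 60289,nat_lit 60307,nat_lit 60324,nat_lit 60336,nat_lit 60358,nat_lit 60368,nat_lit 60417,nat_lit 60433,nat_lit 60438,nat_lit 60465,nat_lit 60470,nat_lit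 60487,nat_lit 60514,nat_lit 60539,nat_lit 60561,nat_lit 60587,nat_lit 60721,nat_lit 60752,nat_lit 60769,nat_lit 60790,nat_lit 60806,nat_lit 60832,nat_lit 60840,nat_lit 60842,nat_lit 60858,nat_lit 60870,nat_lit 60890,nat_lit 60896,nat_lit 60913,nat_lit 60938,nat_lit 60944,nat_lit 60976,nat_lit 61014,nat_lit 61031,nat_lit 61046,nat_lit 61074,nat_lit 61094,nat_lit 61098,nat_lit 61130,nat_lit 61136,nat_lit 61152,nat_lit 61194,nat_lit 61200,nat_lit 61217,nat_lit 61222,nat_lit 61233,nat_lit 61286,nat_lit 61291,nat_lit 61312,nat_lit 61319,nat_lit 61355,nat_lit 61393,nat_lit 61410,nat_lit 61434,nat_lit 61440,nat_lit 61462,nat_lit 61479,nat_lit 61504,nat_lit 61521,nat_lit 61558,nat_lit 61560,nat_lit 61562,nat_lit 61568,nat_lit 61626,nat_lit 61638,nat_lit 61648,nat_lit 61680,nat_lit 61702,nat_lit 61707,nat_lit 61723,nat_lit 61734,nat_lit 61755,nat_lit 61761,nat_lit 61794,nat_lit 61815,nat_lit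 61819,nat_lit 61862,nat_lit 61864,nat_lit 61866,nat_lit 61888,nat_lit 61896,nat_lit 61898,nat_lit 61904,nat_lit 61921,nat_lit 61926,nat_lit 61975,nat_lit 62003,nat_lit 62027,nat_lit 62033,nat_lit 62068,nat_lit 62091,nat_lit 62194,nat_lit 62198,nat_lit 62215,nat_lit 62321,nat_lit 62342,nat_lit 62368,nat_lit 62379,nat_lit 62394,nat_lit 62410,nat_lit 62416,nat_lit 62432,nat_lit 62448,nat_lit 62458,nat_lit 62464,nat_lit 62481,nat_lit 62498,nat_lit 62512,nat_lit 62529,nat_lit 62550,nat_lit 62567,nat_lit 62611,nat_lit 62632,nat_lit 62634,nat_lit 62656,nat_lit 62678,nat_lit 62704,nat_lit 62721,nat_lit 62742,nat_lit 62774,nat_lit 62784,nat_lit 62791,nat_lit 62795,nat_lit 62823,nat_lit 62866,nat_lit 62896,nat_lit 62918,nat_lit 62935,nat_lit 62961,nat_lit 63000,nat_lit 63002,nat_lit 63018,nat_lit 63024,nat_lit 63056,nat_lit 63083,nat_lit 63089,nat_lit 63094,nat_lit 63105,nat_lit 63115,nat_lit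 63131,nat_lit 63202,nat_lit 63219,nat_lit 63243,nat_lit 63272,nat_lit 63290,nat_lit 63322,nat_lit 63335,nat_lit 63344,nat_lit 63361,nat_lit 63366,nat_lit 63382,nat_lit 63428,nat_lit 63483,nat_lit 63507,nat_lit 63510,nat_lit 63527,nat_lit 63558,nat_lit 63575,nat_lit 63616,nat_lit 63632,nat_lit 63649,nat_lit 63665,nat_lit 63670,nat_lit 63690,nat_lit 63696,nat_lit 63713,nat_lit 63730,nat_lit 63747,nat_lit 63761,nat_lit 63766,nat_lit 63799,nat_lit 63847,nat_lit 63850,nat_lit 63856,nat_lit 63878,nat_lit 63905,nat_lit 63922,nat_lit 63926,nat_lit 63936,nat_lit 63952,nat_lit 63975,nat_lit 63995,nat_lit 64027,nat_lit 64049,nat_lit 64054,nat_lit 64071,nat_lit 64088,nat_lit 64098,nat_lit 64102,nat_lit 64122,nat_lit 64128,nat_lit 64144,nat_lit 64166,nat_lit 64177,nat_lit 64210,nat_lit 64214,nat_lit 64242,nat_lit 64291,nat_lit 64308,nat_lit 64343,nat_lit 64346,nat_lit 64368,nat_lit 64394,nat_lit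 64401,nat_lit 64418,nat_lit 64422,nat_lit 64448,nat_lit 64502,nat_lit 64519,nat_lit 64544,nat_lit 64551,nat_lit 64577,nat_lit 64593,nat_lit 64598,nat_lit 64610,nat_lit 64614,nat_lit 64630,nat_lit 64656,nat_lit 64673,nat_lit 64690,nat_lit 64707,nat_lit 64742,nat_lit 64759,nat_lit 64794,nat_lit 64800,nat_lit 64850,nat_lit 64870,nat_lit 64880,nat_lit 64919,nat_lit 64939,nat_lit 64978,nat_lit 64982,nat_lit 64999,nat_lit 65016,nat_lit 65046,nat_lit 65072,nat_lit 65089,nat_lit 65094,nat_lit 65110,nat_lit 65138,nat_lit 65155,nat_lit 65158,nat_lit 65187,nat_lit 65204,nat_lit 65242,nat_lit 65248,nat_lit 65265,nat_lit 65280,nat_lit 65298,nat_lit 65315,nat_lit 65318,nat_lit 65328,nat_lit 65367,nat_lit 65399,nat_lit 65430,nat_lit 65442,nat_lit 65446,nat_lit 65478,nat_lit 65488,nat_lit 65504,nat_lit 65511,nat_lit 65521,nat_lit 65538,nat_lit 65555,nat_lit 65584,nat_lit 65591,nat_lit 65616,nat_lit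 65654,nat_lit 65664,nat_lit 65687,nat_lit 65734,nat_lit 65751,nat_lit 65768,nat_lit 65809,nat_lit 65814,nat_lit 65826,nat_lit 65830,nat_lit 65875,nat_lit 65894,nat_lit 65924,nat_lit 65952,nat_lit 65986,nat_lit 66001,nat_lit 66019,nat_lit 66038,nat_lit 66048,nat_lit 66112,nat_lit 66134,nat_lit 66144,nat_lit 66160,nat_lit 66183,nat_lit 66186,nat_lit 66199,nat_lit 66226,nat_lit 66243,nat_lit 66279,nat_lit 66305,nat_lit 66310,nat_lit 66320,nat_lit 66337,nat_lit 66343,nat_lit 66375,nat_lit 66392,nat_lit 66418,nat_lit 66422,nat_lit 66439,nat_lit 66454,nat_lit 66529,nat_lit 66547,nat_lit 66562,nat_lit 66582,nat_lit 66592,nat_lit 66631,nat_lit 66634,nat_lit 66640,nat_lit 66663,nat_lit 66682,nat_lit 66698,nat_lit 66730,nat_lit 66786,nat_lit 66790,nat_lit 66817,nat_lit 66839,nat_lit 66872,nat_lit 66875,nat_lit 66902,nat_lit 66919,nat_lit 66962,nat_lit 67003,nat_lit 67079,nat_lit 67082,nat_lit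 67098,nat_lit 67147,nat_lit 67158,nat_lit 67163,nat_lit 67191,nat_lit 67211,nat_lit 67227,nat_lit 67255,nat_lit 67291,nat_lit 67322,nat_lit 67355,nat_lit 67387,nat_lit 67419,nat_lit 67467,nat_lit 67499]

/-- The deductions. -/
noncomputable def sc6 : List (List ℕ) := [[nat_lit 129,nat_lit 17],[nat_lit 3,nat_lit 1],[nat_lit 4,nat_lit 2],[nat_lit 6,nat_lit 98,nat_lit 184,nat_lit 234,nat_lit 252,nat_lit 304,nat_lit 323,nat_lit 349,nat_lit 358,nat_lit 395,nat_lit 407,nat_lit 410,nat_lit 431,nat_lit 467,nat_lit 482,nat_lit 535,nat_lit 566,nat_lit 611,nat_lit 957,nat_lit 1049,nat_lit 1135,nat_lit 1203,nat_lit 1212,nat_lit 1243,nat_lit 1288,nat_lit 1324,nat_lit 1447,nat_lit 1455,nat_lit 1493,nat_lit 1497,nat_lit 1511,nat_lit 1536,nat_lit 1539,nat_lit 1605,nat_lit 1621,nat_lit 1628,nat_lit 1633,nat_lit 1678,nat_lit 1690,nat_lit 1697,nat_lit 1722,nat_lit 1759,nat_lit 1782,nat_lit 1785,nat_lit 1808,nat_lit 1815,nat_lit 1860,nat_lit 1881,nat_lit 1905,nat_lit 1909,nat_lit 1929,nat_lit 1961,nat_lit 1963,nat_lit 1974,nat_lit 1982,nat_lit 2036,nat_lit 2141,nat_lit 2157,nat_lit 2168,nat_lit 2184,nat_lit 2205,nat_lit 2234,nat_lit 2294,nat_lit 2302,nat_lit 2309,nat_lit 2319,nat_lit 2389,nat_lit 2436,nat_lit 2467,nat_lit 2473,nat_lit 2490,nat_lit 2552,nat_lit 2560,nat_lit 2634,nat_lit 2637,nat_lit 2648,nat_lit 2668,nat_lit 2675,nat_lit 2692,nat_lit 2697,nat_lit 2721,nat_lit 2792,nat_lit 2800,nat_lit 2949,nat_lit 3010,nat_lit 3927,nat_lit 3999,nat_lit 4088,nat_lit 4138,nat_lit 4143],[nat_lit 7,nat_lit 142,nat_lit 353,nat_lit 539,nat_lit 571,nat_lit 694,nat_lit 730,nat_lit 784,nat_lit 1464,nat_lit 1715,nat_lit 1817,nat_lit 1914,nat_lit 1965,nat_lit 2076,nat_lit 2208,nat_lit 2269,nat_lit 2460,nat_lit 2496,nat_lit 2563,nat_lit 2681,nat_lit 2707,nat_lit 2728,nat_lit 2804,nat_lit 2846,nat_lit 2945,nat_lit 3021,nat_lit 3142,nat_lit 3306],[nat_lit 8,nat_lit 1729,nat_lit 2104,nat_lit 2365,nat_lit 2534,nat_lit 2736,nat_lit 3072,nat_lit 3494],[nat_lit 137,nat_lit 3122,nat_lit 3265,nat_lit 3325,nat_lit 3526,nat_lit 3901,nat_lit 3959,nat_lit 3981],[nat_lit 10,nat_lit 32,nat_lit 43,nat_lit 60,nat_lit 86,nat_lit 103,nat_lit 134,nat_lit 150,nat_lit 173,nat_lit 185,nat_lit 191,nat_lit 204,nat_lit 223,nat_lit 235,nat_lit 240,nat_lit 262,nat_lit 268,nat_lit 284,nat_lit 296,nat_lit 305,nat_lit 308,nat_lit 324,nat_lit 329,nat_lit 350,nat_lit 354,nat_lit 359,nat_lit 374,nat_lit 396,nat_lit 411,nat_lit 416,nat_lit 436,nat_lit 442,nat_lit 473,nat_lit 487,nat_lit 526,nat_lit 536,nat_lit 545,nat_lit 572,nat_lit 613,nat_lit 634,nat_lit 699,nat_lit 740,nat_lit 874,nat_lit 921,nat_lit 944,nat_lit 984,nat_lit 1328,nat_lit 2545,nat_lit 2601,nat_lit 2844,nat_lit 2850,nat_lit 3064,nat_lit 3068,nat_lit 3189,nat_lit 3202,nat_lit 3268,nat_lit 4059],[nat_lit 140,nat_lit 9],[nat_lit 13,nat_lit 1],[nat_lit 14,nat_lit 2],[nat_lit 15,nat_lit 47,nat_lit 62,nat_lit 80,nat_lit 115,nat_lit 124,nat_lit 152,nat_lit 156,nat_lit 163,nat_lit 209,nat_lit 216,nat_lit 385,nat_lit 459,nat_lit 502,nat_lit 513,nat_lit 589,nat_lit 598,nat_lit 603,nat_lit 608,nat_lit 653,nat_lit 655,nat_lit 664,nat_lit 667,nat_lit 719,nat_lit 759,nat_lit 774,nat_lit 823,nat_lit 877,nat_lit 942,nat_lit 961,nat_lit 1006,nat_lit 1014,nat_lit 1027,nat_lit 1040,nat_lit 1075,nat_lit 1087,nat_lit 1106,nat_lit 1115,nat_lit 1165,nat_lit 1176,nat_lit 1187,nat_lit 1235,nat_lit 1246,nat_lit 1249,nat_lit 1260,nat_lit 1277,nat_lit 1306,nat_lit 1333,nat_lit 1343,nat_lit 1353,nat_lit 1419,nat_lit 1474,nat_lit 1484,nat_lit 1515,nat_lit 1554,nat_lit 1582,nat_lit 1591,nat_lit 1593,nat_lit 1608,nat_lit 1647,nat_lit 1734,nat_lit 1790,nat_lit 1841,nat_lit 1855,nat_lit 1866,nat_lit 1922,nat_lit 1924,nat_lit 1936,nat_lit 2014,nat_lit 2122,nat_lit 2134,nat_lit 2198,nat_lit 2290,nat_lit 2304,nat_lit 3295,nat_lit 3553,nat_lit 3566,nat_lit 3707,nat_lit 3761,nat_lit 3888,nat_lit 3922,nat_lit 3962,nat_lit 4014,nat_lit 4027,nat_lit 4040,nat_lit 4047,nat_lit 4062,nat_lit 4091,nat_lit 4115,nat_lit 4152,nat_lit 4175],[nat_lit 16,nat_lit 68,nat_lit 167,nat_lit 220,nat_lit 229,nat_lit 300,nat_lit 439,nat_lit 470,nat_lit 542,nat_lit 569,nat_lit 657,nat_lit 670,nat_lit 692,nat_lit 905,nat_lit 1031,nat_lit 1191,nat_lit 1281,nat_lit 1463,nat_lit 1506,nat_lit 1520,nat_lit 1714,nat_lit 1788,nat_lit 2051,nat_lit 2058,nat_lit 2084,nat_lit 2216,nat_lit 2246,nat_lit 2261,nat_lit 2329,nat_lit 2342,nat_lit 2362,nat_lit 2398,nat_lit 2409,nat_lit 2413,nat_lit 2462,nat_lit 2506,nat_lit 2521,nat_lit 2578,nat_lit 2617,nat_lit 2653,nat_lit 2680,nat_lit 2744,nat_lit 2758,nat_lit 2883,nat_lit 2891,nat_lit 2907,nat_lit 2921,nat_lit 2944,nat_lit 2979,nat_lit 3013,nat_lit 3020,nat_lit 3036,nat_lit 3041,nat_lit 3093,nat_lit 3112,nat_lit 3134,nat_lit 3165,nat_lit 3248,nat_lit 3334,nat_lit 3485,nat_lit 3719,nat_lit 3874,nat_lit 3971,nat_lit 4100,nat_lit 4110,nat_lit 4178,nat_lit 4183],[nat_lit 17,nat_lit 100,nat_lit 319,nat_lit 408,nat_lit 736,nat_lit 841,nat_lit 853,nat_lit 872,nat_lit 1442,nat_lit 1537,nat_lit 1728,nat_lit 1783,nat_lit 2002,nat_lit 2338,nat_lit 2513,nat_lit 2703,nat_lit 2969,nat_lit 3303,nat_lit 3337,nat_lit 4150],[nat_lit 18,nat_lit 1818,nat_lit 2010,nat_lit 2077],[nat_lit 19,nat_lit 69,nat_lit 101,nat_lit 1452,nat_lit 1717,nat_lit 1984,nat_lit 1997,nat_lit 2165,nat_lit 2262,nat_lit 2275,nat_lit 2345,nat_lit 2420,nat_lit 2476,nat_lit 2590,nat_lit 2599,nat_lit 2628,nat_lit 2806,nat_lit 2912,nat_lit 2982,nat_lit 3024,nat_lit 3124,nat_lit 3183,nat_lit 3193,nat_lit 3223,nat_lit 3492,nat_lit 3524],[nat_lit 147,nat_lit 3511,nat_lit 3978,nat_lit 4025,nat_lit 4042],[nat_lit 20,nat_lit 45,nat_lit 57,nat_lit 63,nat_lit 88,nat_lit 92,nat_lit 118,nat_lit 168,nat_lit 210,nat_lit 213,nat_lit 236,nat_lit 272,nat_lit 293,nat_lit 306,nat_lit 336,nat_lit 421,nat_lit 434,nat_lit 441,nat_lit 472,nat_lit 544,nat_lit 583,nat_lit 620,nat_lit 738,nat_lit 931,nat_lit 1083,nat_lit 1577,nat_lit 2852,nat_lit 3070,nat_lit 3075,nat_lit 3087,nat_lit 3277,nat_lit 3281,nat_lit 3394,nat_lit 3650,nat_lit 3831,nat_lit 3836],[nat_lit 22,nat_lit 1],[nat_lit 150,nat_lit 4],[nat_lit 23,nat_lit 2],[nat_lit 24,nat_lit 34,nat_lit 90,nat_lit 117,nat_lit 127,nat_lit 158,nat_lit 166,nat_lit 179,nat_lit 219,nat_lit 228,nat_lit 299,nat_lit 517,nat_lit 669,nat_lit 768,nat_lit 770,nat_lit 776,nat_lit 780,nat_lit 838,nat_lit 904,nat_lit 914,nat_lit 955,nat_lit 972,nat_lit 1008,nat_lit 1016,nat_lit 1030,nat_lit 1055,nat_lit 1118,nat_lit 1120,nat_lit 1167,nat_lit 1179,nat_lit 1190,nat_lit 1200,nat_lit 1238,nat_lit 1240,nat_lit 1251,nat_lit 1280,nat_lit 1309,nat_lit 1322,nat_lit 1346,nat_lit 1356,nat_lit 1367,nat_lit 1409,nat_lit 1416,nat_lit 1424,nat_lit 1434,nat_lit 1437,nat_lit 1488,nat_lit 1490,nat_lit 1502,nat_lit 1505,nat_lit 1517,nat_lit 1519,nat_lit 1584,nat_lit 1588,nat_lit 1610,nat_lit 1649,nat_lit 1675,nat_lit 1740,nat_lit 1746,nat_lit 1751,nat_lit 1755,nat_lit 1792,nat_lit 1828,nat_lit 1830,nat_lit 1868,nat_lit 1871,nat_lit 1888,nat_lit 1931,nat_lit 1958,nat_lit 2026,nat_lit 2032,nat_lit 2083,nat_lit 2124,nat_lit 2150,nat_lit 2200,nat_lit 2202,nat_lit 2239,nat_lit 2292,nat_lit 2452,nat_lit 2790,nat_lit 3484,nat_lit 3628,nat_lit 3970,nat_lit 4055,nat_lit 4066,nat_lit 4073,nat_lit 4083,nat_lit 4093,nat_lit 4109,nat_lit 4134,nat_lit 4154,nat_lit 4182,nat_lit 4198],[nat_lit 25,nat_lit 48,nat_lit 234,nat_lit 252,nat_lit 304,nat_lit 318,nat_lit 407,nat_lit 852,nat_lit 1049,nat_lit 1122,nat_lit 1135,nat_lit 1270,nat_lit 1441,nat_lit 1455,nat_lit 1628,nat_lit 1678,nat_lit 1777,nat_lit 1799,nat_lit 2036,nat_lit 2211,nat_lit 2372,nat_lit 2603,nat_lit 2733,nat_lit 2770,nat_lit 3160,nat_lit 3192,nat_lit 3229,nat_lit 3336,nat_lit 3362,nat_lit 3517,nat_lit 3649,nat_lit 4033,nat_lit 4149,nat_lit 4204],[nat_lit 26,nat_lit 70,nat_lit 433,nat_lit 539,nat_lit 1063,nat_lit 1710,nat_lit 2468,nat_lit 3523,nat_lit 4180],[nat_lit 27,nat_lit 104],[nat_lit 28,nat_lit 49,nat_lit 71,nat_lit 105,nat_lit 148,nat_lit 2781,nat_lit 2958,nat_lit 2994,nat_lit 3109,nat_lit 3386,nat_lit 3420,nat_lit 3684],[nat_lit 156,nat_lit 4081,nat_lit 4096],[nat_lit 29,nat_lit 83,nat_lit 91,nat_lit 112,nat_lit 128,nat_lit 134,nat_lit 173,nat_lit 185,nat_lit 223,nat_lit 235,nat_lit 305,nat_lit 329,nat_lit 354,nat_lit 416,nat_lit 574,nat_lit 699,nat_lit 3077,nat_lit 3283,nat_lit 3287,nat_lit 3467,nat_lit 3471,nat_lit 3784],[nat_lit 158,nat_lit 1],[nat_lit 159,nat_lit 1],[nat_lit 32,nat_lit 170,nat_lit 250,nat_lit 316,nat_lit 916,nat_lit 966,nat_lit 1130,nat_lit 1183,nat_lit 1209,nat_lit 1269,nat_lit 1293,nat_lit 1370,nat_lit 1376,nat_lit 1495,nat_lit 1534,nat_lit 1571,nat_lit 1617,nat_lit 1626,nat_lit 1630,nat_lit 1684,nat_lit 1701,nat_lit 1705,nat_lit 1757,nat_lit 1761,nat_lit 1775,nat_lit 1780,nat_lit 1890,nat_lit 1968,nat_lit 2020,nat_lit 2034,nat_lit 2114,nat_lit 2210,nat_lit 2224,nat_lit 2251,nat_lit 2306,nat_lit 2314,nat_lit 2456,nat_lit 2470,nat_lit 2689,nat_lit 4032,nat_lit 4119,nat_lit 4128],[nat_lit 33,nat_lit 431,nat_lit 1138,nat_lit 1197,nat_lit 1374,nat_lit 1527,nat_lit 1905,nat_lit 3544,nat_lit 3616,nat_lit 3677,nat_lit 3693,nat_lit 4086],[nat_lit 34,nat_lit 571,nat_lit 1381,nat_lit 1450],[nat_lit 35,nat_lit 1719],[nat_lit 36,nat_lit 3821],[nat_lit 164,nat_lit 4126],[nat_lit 37,nat_lit 121,nat_lit 182,nat_lit 572,nat_lit 740,nat_lit 3490],[nat_lit 38,nat_lit 2],[nat_lit 166,nat_lit 4],[nat_lit 39,nat_lit 188,nat_lit 254,nat_lit 347,nat_lit 1372,nat_lit 1461,nat_lit 1801,nat_lit 1812,nat_lit 1845,nat_lit 1879,nat_lit 1896,nat_lit 1903,nat_lit 1950,nat_lit 1972,nat_lit 1988,nat_lit 2043,nat_lit 2253,nat_lit 2256,nat_lit 2317,nat_lit 2359,nat_lit 2465,nat_lit 2582,nat_lit 2695],[nat_lit 167,nat_lit 0],[nat_lit 40,nat_lit 358,nat_lit 467,nat_lit 1636],[nat_lit 168,nat_lit 0],[nat_lit 41,nat_lit 1918],[nat_lit 169,nat_lit 0],[nat_lit 170,nat_lit 0],[nat_lit 171,nat_lit 0],[nat_lit 44,nat_lit 189,nat_lit 255,nat_lit 268,nat_lit 359,nat_lit 487,nat_lit 613,nat_lit 3655],[nat_lit 172,nat_lit 0],[nat_lit 45,nat_lit 1995,nat_lit 2097,nat_lit 2488,nat_lit 2558,nat_lit 2575,nat_lit 2700,nat_lit 2828,nat_lit 2935],[nat_lit 173,nat_lit 1],[nat_lit 174,nat_lit 1],[nat_lit 175,nat_lit 1],[nat_lit 176,nat_lit 1],[nat_lit 177,nat_lit 1],[nat_lit 178,nat_lit 1],[nat_lit 52,nat_lit 201,nat_lit 618,nat_lit 698,nat_lit 736,nat_lit 872,nat_lit 918,nat_lit 983,nat_lit 1771,nat_lit 2249,nat_lit 2508,nat_lit 2513,nat_lit 2597,nat_lit 2735,nat_lit 2746,nat_lit 2926,nat_lit 2953,nat_lit 2965,nat_lit 3026,nat_lit 3080,nat_lit 3162,nat_lit 3181,nat_lit 3231,nat_lit 3440,nat_lit 3803,nat_lit 3938,nat_lit 3955],[nat_lit 54,nat_lit 16,nat_lit 20,nat_lit 26,nat_lit 366,nat_lit 549,nat_lit 582,nat_lit 679,nat_lit 704,nat_lit 737,nat_lit 1772,nat_lit 2054,nat_lit 2064,nat_lit 2266,nat_lit 2335,nat_lit 2345,nat_lit 2415,nat_lit 2433,nat_lit 2509,nat_lit 2580,nat_lit 2590,nat_lit 2606,nat_lit 2752,nat_lit 2764,nat_lit 2796,nat_lit 2813,nat_lit 2848,nat_lit 2897,nat_lit 2961,nat_lit 2972,nat_lit 2982,nat_lit 2986,nat_lit 3015,nat_lit 3045,nat_lit 3054,nat_lit 3117,nat_lit 3169,nat_lit 3179,nat_lit 3236,nat_lit 3240,nat_lit 3252,nat_lit 3291,nat_lit 3321,nat_lit 3331,nat_lit 3345,nat_lit 3432,nat_lit 3519,nat_lit 3547,nat_lit 3583,nat_lit 3604,nat_lit 3756,nat_lit 3821,nat_lit 3902,nat_lit 3939,nat_lit 4009,nat_lit 4022],[nat_lit 182,nat_lit 3455,nat_lit 3673,nat_lit 3686,nat_lit 4038],[nat_lit 55,nat_lit 63,nat_lit 81,nat_lit 128,nat_lit 171,nat_lit 189,nat_lit 206,nat_lit 210,nat_lit 212,nat_lit 232,nat_lit 255,nat_lit 321,nat_lit 405,nat_lit 447,nat_lit 478,nat_lit 496,nat_lit 550,nat_lit 638,nat_lit 680,nat_lit 705,nat_lit 713,nat_lit 738,nat_lit 798,nat_lit 813,nat_lit 880,nat_lit 1083,nat_lit 1141,nat_lit 1215,nat_lit 2785,nat_lit 2839,nat_lit 2977,nat_lit 3376,nat_lit 3718,nat_lit 3864,nat_lit 3925,nat_lit 3946,nat_lit 4212],[nat_lit 58,nat_lit 22,nat_lit 28,nat_lit 36,nat_lit 49,nat_lit 260,nat_lit 327,nat_lit 362,nat_lit 414,nat_lit 440,nat_lit 524,nat_lit 543,nat_lit 570,nat_lit 1090,nat_lit 1152,nat_lit 1315,nat_lit 1692,nat_lit 2049,nat_lit 2059,nat_lit 2075,nat_lit 2165,nat_lit 2244,nat_lit 2321,nat_lit 2330,nat_lit 2367,nat_lit 2504,nat_lit 2511,nat_lit 2522,nat_lit 2570,nat_lit 2625,nat_lit 2654,nat_lit 2656,nat_lit 2661,nat_lit 2742,nat_lit 2762,nat_lit 2892,nat_lit 2956,nat_lit 3062,nat_lit 3094,nat_lit 3113,nat_lit 3127,nat_lit 3144,nat_lit 3156,nat_lit 3367,nat_lit 3375,nat_lit 3416,nat_lit 3424,nat_lit 3479,nat_lit 3537,nat_lit 3545,nat_lit 3606,nat_lit 3617,nat_lit 3669,nat_lit 3743,nat_lit 3819,nat_lit 3840,nat_lit 3848,nat_lit 3867,nat_lit 4050,nat_lit 4078,nat_lit 4169,nat_lit 4208],[nat_lit 186,nat_lit 3621,nat_lit 3814],[nat_lit 59,nat_lit 168,nat_lit 185],[nat_lit 134,nat_lit 185],[nat_lit 59,nat_lit 305,nat_lit 328,nat_lit 350,nat_lit 352,nat_lit 359,nat_lit 368,nat_lit 396],[nat_lit 134,nat_lit 305],[nat_lit 59,nat_lit 468],[nat_lit 134,nat_lit 359],[nat_lit 59,nat_lit 491],[nat_lit 134,nat_lit 396],[nat_lit 59,nat_lit 551,nat_lit 567,nat_lit 681,nat_lit 729,nat_lit 739,nat_lit 1091,nat_lit 1328,nat_lit 1396,nat_lit 1466,nat_lit 1564,nat_lit 2591,nat_lit 2787,nat_lit 2877,nat_lit 2899,nat_lit 3005,nat_lit 3309,nat_lit 3315,nat_lit 3463,nat_lit 3835,nat_lit 3953,nat_lit 4000],[nat_lit 61,nat_lit 30,nat_lit 38,nat_lit 51,nat_lit 71,nat_lit 477,nat_lit 619,nat_lit 879,nat_lit 929,nat_lit 1082,nat_lit 1772,nat_lit 2054,nat_lit 2509,nat_lit 2608,nat_lit 2747,nat_lit 2838,nat_lit 2847,nat_lit 2876,nat_lit 2966,nat_lit 3147,nat_lit 3173,nat_lit 3240,nat_lit 3304,nat_lit 3338,nat_lit 3442,nat_lit 3508,nat_lit 3603,nat_lit 3725,nat_lit 3901,nat_lit 3939,nat_lit 3956,nat_lit 3991],[nat_lit 180,nat_lit 3939],[nat_lit 62,nat_lit 572,nat_lit 620,nat_lit 628,nat_lit 675],[nat_lit 135,nat_lit 572],[nat_lit 62,nat_lit 788,nat_lit 796,nat_lit 799,nat_lit 993,nat_lit 1153,nat_lit 1317,nat_lit 4202],[nat_lit 63,nat_lit 41,nat_lit 54,nat_lit 74,nat_lit 145,nat_lit 3369,nat_lit 3428],[nat_lit 64,nat_lit 60],[nat_lit 193,nat_lit 243,nat_lit 261,nat_lit 367,nat_lit 415,nat_lit 421,nat_lit 441,nat_lit 472,nat_lit 478,nat_lit 525,nat_lit 544,nat_lit 550,nat_lit 583,nat_lit 620,nat_lit 626,nat_lit 680,nat_lit 705,nat_lit 712,nat_lit 752,nat_lit 796,nat_lit 859,nat_lit 886,nat_lit 1326],[nat_lit 129,nat_lit 49,nat_lit 71,nat_lit 105,nat_lit 117,nat_lit 127,nat_lit 148],[nat_lit 29,nat_lit 210],[nat_lit 129,nat_lit 158,nat_lit 166,nat_lit 173,nat_lit 179],[nat_lit 29,nat_lit 289],[nat_lit 129,nat_lit 219,nat_lit 223,nat_lit 228],[nat_lit 25,nat_lit 326],[nat_lit 129,nat_lit 235],[nat_lit 25,nat_lit 351],[nat_lit 29,nat_lit 352],[nat_lit 129,nat_lit 305],[nat_lit 25,nat_lit 432],[nat_lit 129,nat_lit 329],[nat_lit 26,nat_lit 476],[nat_lit 129,nat_lit 354,nat_lit 416,nat_lit 699,nat_lit 770,nat_lit 776,nat_lit 780,nat_lit 955,nat_lit 972,nat_lit 1008,nat_lit 1016,nat_lit 1049,nat_lit 1118,nat_lit 1120,nat_lit 1179],[nat_lit 25,nat_lit 1431],[nat_lit 129,nat_lit 1190,nat_lit 1238,nat_lit 1240],[nat_lit 25,nat_lit 1499],[nat_lit 129,nat_lit 1251,nat_lit 1280,nat_lit 1322,nat_lit 1356,nat_lit 1409,nat_lit 1424],[nat_lit 25,nat_lit 1691],[nat_lit 129,nat_lit 1434,nat_lit 1437,nat_lit 1455,nat_lit 1488,nat_lit 1490],[nat_lit 25,nat_lit 1764,nat_lit 1768],[nat_lit 129,nat_lit 1502,nat_lit 1505,nat_lit 1517],[nat_lit 25,nat_lit 1816,nat_lit 1847],[nat_lit 129,nat_lit 1584,nat_lit 1610,nat_lit 1628,nat_lit 1649,nat_lit 1675,nat_lit 1678,nat_lit 1746,nat_lit 1755],[nat_lit 25,nat_lit 2045,nat_lit 2048],[nat_lit 26,nat_lit 2053],[nat_lit 25,nat_lit 2070,nat_lit 2074],[nat_lit 129,nat_lit 1828,nat_lit 1830],[nat_lit 25,nat_lit 2143],[nat_lit 129,nat_lit 1871],[nat_lit 25,nat_lit 2207],[nat_lit 129,nat_lit 1958],[nat_lit 25,nat_lit 2243],[nat_lit 26,nat_lit 2249],[nat_lit 129,nat_lit 2026],[nat_lit 25,nat_lit 2310],[nat_lit 129,nat_lit 2032,nat_lit 2036],[nat_lit 26,nat_lit 2363],[nat_lit 129,nat_lit 2083,nat_lit 2124,nat_lit 2150,nat_lit 2200,nat_lit 2202],[nat_lit 26,nat_lit 2463],[nat_lit 129,nat_lit 2239],[nat_lit 25,nat_lit 2503],[nat_lit 129,nat_lit 2292],[nat_lit 25,nat_lit 2567,nat_lit 2650],[nat_lit 129,nat_lit 2452],[nat_lit 25,nat_lit 2693,nat_lit 2698,nat_lit 2741],[nat_lit 26,nat_lit 2746],[nat_lit 25,nat_lit 2794],[nat_lit 26,nat_lit 2917],[nat_lit 129,nat_lit 2790,nat_lit 2958,nat_lit 2994],[nat_lit 25,nat_lit 3220],[nat_lit 129,nat_lit 3109,nat_lit 3420,nat_lit 3684,nat_lit 4055,nat_lit 4083,nat_lit 4093],[nat_lit 25,nat_lit 4147],[nat_lit 129,nat_lit 4134],[nat_lit 25,nat_lit 4193],[nat_lit 2,nat_lit 3,nat_lit 4],[nat_lit 130,nat_lit 13,nat_lit 170,nat_lit 250,nat_lit 316],[nat_lit 33,nat_lit 470,nat_lit 569],[nat_lit 37,nat_lit 620,nat_lit 738],[nat_lit 34,nat_lit 798],[nat_lit 130,nat_lit 740,nat_lit 1130,nat_lit 1183],[nat_lit 33,nat_lit 1698],[nat_lit 130,nat_lit 1495,nat_lit 1534,nat_lit 1571,nat_lit 1630,nat_lit 1684,nat_lit 1701,nat_lit 1705,nat_lit 1757,nat_lit 1761],[nat_lit 33,nat_lit 2058],[nat_lit 130,nat_lit 1775,nat_lit 1780],[nat_lit 33,nat_lit 2129],[nat_lit 130,nat_lit 1890,nat_lit 1968,nat_lit 2034],[nat_lit 33,nat_lit 2333,nat_lit 2356,nat_lit 2362],[nat_lit 130,nat_lit 2114,nat_lit 2210,nat_lit 2224,nat_lit 2251,nat_lit 2306,nat_lit 2314],[nat_lit 33,nat_lit 2578],[nat_lit 34,nat_lit 2627],[nat_lit 130,nat_lit 2456],[nat_lit 33,nat_lit 2706],[nat_lit 130,nat_lit 2470],[nat_lit 33,nat_lit 2758,nat_lit 2810],[nat_lit 130,nat_lit 2689],[nat_lit 33,nat_lit 2921],[nat_lit 34,nat_lit 2930],[nat_lit 33,nat_lit 2933],[nat_lit 34,nat_lit 3031],[nat_lit 35,nat_lit 3242],[nat_lit 130,nat_lit 4128],[nat_lit 3,nat_lit 6],[nat_lit 131,nat_lit 188,nat_lit 254,nat_lit 347],[nat_lit 44,nat_lit 486],[nat_lit 40,nat_lit 612],[nat_lit 41,nat_lit 787],[nat_lit 44,nat_lit 988],[nat_lit 131,nat_lit 1372,nat_lit 1812,nat_lit 1845,nat_lit 1879,nat_lit 1896,nat_lit 1903,nat_lit 1950,nat_lit 1972,nat_lit 1988,nat_lit 2043],[nat_lit 40,nat_lit 2404],[nat_lit 131,nat_lit 2253,nat_lit 2256,nat_lit 2317,nat_lit 2359,nat_lit 2465],[nat_lit 40,nat_lit 2822],[nat_lit 131,nat_lit 2582,nat_lit 2695],[nat_lit 40,nat_lit 2928,nat_lit 3134],[nat_lit 132,nat_lit 1995,nat_lit 2097,nat_lit 2488,nat_lit 2558,nat_lit 2575,nat_lit 2700],[nat_lit 46,nat_lit 3041],[nat_lit 132,nat_lit 2828,nat_lit 2935],[nat_lit 5,nat_lit 3084,nat_lit 3391,nat_lit 3456,nat_lit 3645,nat_lit 3842,nat_lit 3857],[nat_lit 10,nat_lit 3947],[nat_lit 5,nat_lit 3962,nat_lit 3993,nat_lit 4040,nat_lit 4070,nat_lit 4116],[nat_lit 6,nat_lit 3296],[nat_lit 10,nat_lit 3486],[nat_lit 6,nat_lit 3567,nat_lit 3622],[nat_lit 10,nat_lit 3720],[nat_lit 6,nat_lit 3781,nat_lit 3934],[nat_lit 134,nat_lit 22,nat_lit 28,nat_lit 36],[nat_lit 59,nat_lit 57],[nat_lit 134,nat_lit 49],[nat_lit 153,nat_lit 72],[nat_lit 59,nat_lit 147],[nat_lit 134,nat_lit 2367,nat_lit 2570,nat_lit 2762,nat_lit 3062,nat_lit 3367,nat_lit 3375,nat_lit 3416,nat_lit 3479,nat_lit 3537,nat_lit 3606,nat_lit 3617,nat_lit 3669,nat_lit 3743,nat_lit 3840,nat_lit 3848],[nat_lit 59,nat_lit 3946],[nat_lit 134,nat_lit 4050,nat_lit 4078],[nat_lit 135,nat_lit 30,nat_lit 38],[nat_lit 62,nat_lit 63],[nat_lit 135,nat_lit 51,nat_lit 71,nat_lit 879,nat_lit 2608,nat_lit 2838,nat_lit 3173,nat_lit 3442,nat_lit 3508,nat_lit 3725,nat_lit 3901,nat_lit 3939,nat_lit 3991,nat_lit 4008],[nat_lit 136,nat_lit 41,nat_lit 54,nat_lit 74,nat_lit 145,nat_lit 3369],[nat_lit 9,nat_lit 4169],[nat_lit 137,nat_lit 194,nat_lit 244,nat_lit 263,nat_lit 273,nat_lit 311,nat_lit 330,nat_lit 337,nat_lit 370,nat_lit 377,nat_lit 402,nat_lit 417,nat_lit 422,nat_lit 443,nat_lit 450,nat_lit 474,nat_lit 480,nat_lit 488,nat_lit 505,nat_lit 527,nat_lit 546,nat_lit 553,nat_lit 577,nat_lit 586,nat_lit 623,nat_lit 640,nat_lit 683,nat_lit 695,nat_lit 708,nat_lit 741,nat_lit 789,nat_lit 815,nat_lit 881,nat_lit 1085,nat_lit 1144,nat_lit 1169,nat_lit 1216,nat_lit 1578],[nat_lit 138,nat_lit 369,nat_lit 497,nat_lit 552,nat_lit 558,nat_lit 585,nat_lit 622,nat_lit 629,nat_lit 682,nat_lit 707,nat_lit 714,nat_lit 754,nat_lit 800,nat_lit 806,nat_lit 861,nat_lit 888,nat_lit 897,nat_lit 948,nat_lit 998,nat_lit 1070,nat_lit 1100,nat_lit 1575],[nat_lit 12,nat_lit 3,nat_lit 4],[nat_lit 140,nat_lit 1973,nat_lit 1992,nat_lit 2044,nat_lit 2254,nat_lit 2318,nat_lit 2484,nat_lit 2573],[nat_lit 33,nat_lit 2823],[nat_lit 140,nat_lit 2696],[nat_lit 33,nat_lit 2946,nat_lit 3037],[nat_lit 140,nat_lit 2915],[nat_lit 33,nat_lit 3135],[nat_lit 13,nat_lit 6],[nat_lit 141,nat_lit 7,nat_lit 2177,nat_lit 2233,nat_lit 2259,nat_lit 2327],[nat_lit 40,nat_lit 2733],[nat_lit 141,nat_lit 2519,nat_lit 2524],[nat_lit 40,nat_lit 2770],[nat_lit 141,nat_lit 2576,nat_lit 2622],[nat_lit 40,nat_lit 3043],[nat_lit 141,nat_lit 2829],[nat_lit 142,nat_lit 2281,nat_lit 2726,nat_lit 2802,nat_lit 2820,nat_lit 2924],[nat_lit 46,nat_lit 3167],[nat_lit 142,nat_lit 3041,nat_lit 3050,nat_lit 3151],[nat_lit 47,nat_lit 3440],[nat_lit 15,nat_lit 581,nat_lit 617,nat_lit 703],[nat_lit 20,nat_lit 752,nat_lit 796,nat_lit 886],[nat_lit 17,nat_lit 996],[nat_lit 15,nat_lit 2081,nat_lit 2337,nat_lit 2530,nat_lit 2589,nat_lit 2604,nat_lit 2608,nat_lit 2664,nat_lit 2749,nat_lit 2763],[nat_lit 19,nat_lit 2773],[nat_lit 15,nat_lit 2824],[nat_lit 17,nat_lit 2837],[nat_lit 19,nat_lit 2838],[nat_lit 17,nat_lit 2855],[nat_lit 15,nat_lit 2868,nat_lit 2896],[nat_lit 19,nat_lit 2903],[nat_lit 17,nat_lit 2974],[nat_lit 19,nat_lit 2988,nat_lit 3047],[nat_lit 17,nat_lit 3096],[nat_lit 15,nat_lit 3116],[nat_lit 19,nat_lit 3119],[nat_lit 15,nat_lit 3136,nat_lit 3161,nat_lit 3230,nat_lit 3245,nat_lit 3251],[nat_lit 18,nat_lit 3307],[nat_lit 15,nat_lit 3320],[nat_lit 19,nat_lit 3323,nat_lit 3340],[nat_lit 17,nat_lit 3359,nat_lit 3418],[nat_lit 19,nat_lit 3433],[nat_lit 15,nat_lit 3437],[nat_lit 19,nat_lit 3442,nat_lit 3506],[nat_lit 15,nat_lit 3518],[nat_lit 17,nat_lit 3600,nat_lit 3606],[nat_lit 19,nat_lit 3679],[nat_lit 16,nat_lit 3061,nat_lit 3082],[nat_lit 19,nat_lit 3274,nat_lit 3293],[nat_lit 16,nat_lit 3541,nat_lit 3586],[nat_lit 19,nat_lit 3699,nat_lit 3729],[nat_lit 16,nat_lit 3740,nat_lit 3745],[nat_lit 19,nat_lit 3853],[nat_lit 144,nat_lit 31,nat_lit 39],[nat_lit 59,nat_lit 65],[nat_lit 144,nat_lit 52,nat_lit 72],[nat_lit 59,nat_lit 112,nat_lit 153],[nat_lit 144,nat_lit 3275,nat_lit 3757,nat_lit 3798],[nat_lit 145,nat_lit 42,nat_lit 55,nat_lit 75,nat_lit 106],[nat_lit 62,nat_lit 212],[nat_lit 145,nat_lit 1092],[nat_lit 62,nat_lit 1580],[nat_lit 145,nat_lit 3670,nat_lit 3978,nat_lit 4068],[nat_lit 146,nat_lit 59,nat_lit 78,nat_lit 109,nat_lit 3551],[nat_lit 19,nat_lit 66,nat_lit 84,nat_lit 93,nat_lit 129,nat_lit 136,nat_lit 174,nat_lit 237,nat_lit 294,nat_lit 331,nat_lit 380,nat_lit 399,nat_lit 418,nat_lit 456,nat_lit 558,nat_lit 575,nat_lit 585,nat_lit 622,nat_lit 707,nat_lit 754,nat_lit 800,nat_lit 933,nat_lit 948,nat_lit 998,nat_lit 1100,nat_lit 1155,nat_lit 1318,nat_lit 1852,nat_lit 3078,nat_lit 3284,nat_lit 3299,nat_lit 3468],[nat_lit 147,nat_lit 276,nat_lit 341,nat_lit 371,nat_lit 381,nat_lit 425,nat_lit 451,nat_lit 500,nat_lit 508,nat_lit 532,nat_lit 554,nat_lit 559,nat_lit 587,nat_lit 595,nat_lit 624,nat_lit 641,nat_lit 660,nat_lit 709,nat_lit 717,nat_lit 746,nat_lit 757,nat_lit 803,nat_lit 864,nat_lit 875,nat_lit 891,nat_lit 936,nat_lit 990,nat_lit 1320,nat_lit 1388,nat_lit 1413],[nat_lit 148,nat_lit 499,nat_lit 650,nat_lit 716,nat_lit 723,nat_lit 756,nat_lit 802,nat_lit 809,nat_lit 863,nat_lit 890,nat_lit 899,nat_lit 950,nat_lit 1002,nat_lit 1010,nat_lit 1072,nat_lit 1102,nat_lit 1112,nat_lit 1173,nat_lit 1231,nat_lit 1303,nat_lit 1850],[nat_lit 149,nat_lit 3,nat_lit 4],[nat_lit 150,nat_lit 3,nat_lit 2587,nat_lit 2760,nat_lit 2766,nat_lit 2821,nat_lit 2873],[nat_lit 40,nat_lit 3197,nat_lit 3204],[nat_lit 150,nat_lit 3051],[nat_lit 151,nat_lit 3,nat_lit 6,nat_lit 2543,nat_lit 3040,nat_lit 3140,nat_lit 3261,nat_lit 3350],[nat_lit 24,nat_lit 152,nat_lit 209],[nat_lit 29,nat_lit 213],[nat_lit 24,nat_lit 288,nat_lit 445,nat_lit 475,nat_lit 573],[nat_lit 29,nat_lit 590,nat_lit 626],[nat_lit 24,nat_lit 712,nat_lit 1091,nat_lit 1770,nat_lit 2052,nat_lit 2060],[nat_lit 26,nat_lit 2062],[nat_lit 24,nat_lit 2102,nat_lit 2188,nat_lit 2248,nat_lit 2331,nat_lit 2334],[nat_lit 26,nat_lit 2346],[nat_lit 24,nat_lit 2357,nat_lit 2414,nat_lit 2507,nat_lit 2579],[nat_lit 26,nat_lit 2620],[nat_lit 24,nat_lit 2745,nat_lit 2854],[nat_lit 27,nat_lit 2871],[nat_lit 24,nat_lit 2922,nat_lit 2964],[nat_lit 26,nat_lit 3081,nat_lit 3178],[nat_lit 24,nat_lit 3358,nat_lit 3407,nat_lit 3417,nat_lit 3504,nat_lit 3522],[nat_lit 26,nat_lit 3540,nat_lit 3585],[nat_lit 24,nat_lit 3678,nat_lit 3731],[nat_lit 28,nat_lit 3806],[nat_lit 25,nat_lit 292,nat_lit 393],[nat_lit 29,nat_lit 398],[nat_lit 25,nat_lit 2349,nat_lit 3292],[nat_lit 28,nat_lit 3481],[nat_lit 25,nat_lit 3698,nat_lit 3728],[nat_lit 28,nat_lit 3825,nat_lit 3844],[nat_lit 153,nat_lit 44,nat_lit 56,nat_lit 76],[nat_lit 59,nat_lit 121],[nat_lit 153,nat_lit 3465],[nat_lit 26,nat_lit 522],[nat_lit 29,nat_lit 677],[nat_lit 154,nat_lit 61,nat_lit 79],[nat_lit 62,nat_lit 171],[nat_lit 154,nat_lit 4038,nat_lit 4114],[nat_lit 155,nat_lit 87,nat_lit 114,nat_lit 155],[nat_lit 64,nat_lit 302],[nat_lit 28,nat_lit 122,nat_lit 135,nat_lit 161,nat_lit 186,nat_lit 194,nat_lit 242,nat_lit 244,nat_lit 260,nat_lit 263,nat_lit 294,nat_lit 309,nat_lit 311,nat_lit 327,nat_lit 330,nat_lit 340,nat_lit 414,nat_lit 417,nat_lit 424,nat_lit 449,nat_lit 450,nat_lit 477,nat_lit 479,nat_lit 480,nat_lit 529],[nat_lit 25,nat_lit 549],[nat_lit 28,nat_lit 552,nat_lit 553,nat_lit 592,nat_lit 629],[nat_lit 24,nat_lit 711],[nat_lit 28,nat_lit 714,nat_lit 743,nat_lit 761,nat_lit 806,nat_lit 857,nat_lit 881,nat_lit 897,nat_lit 1093,nat_lit 1206,nat_lit 1329,nat_lit 1458,nat_lit 1978,nat_lit 1990,nat_lit 1993,nat_lit 2063,nat_lit 2130,nat_lit 2173,nat_lit 2339,nat_lit 2340,nat_lit 2364,nat_lit 2392,nat_lit 2595,nat_lit 2609,nat_lit 2630,nat_lit 2665,nat_lit 2826,nat_lit 2893,nat_lit 2971,nat_lit 2972,nat_lit 3015,nat_lit 3138,nat_lit 3289,nat_lit 3375,nat_lit 3473,nat_lit 3577,nat_lit 3634,nat_lit 3637,nat_lit 4169,nat_lit 4209],[nat_lit 156,nat_lit 462,nat_lit 562,nat_lit 596,nat_lit 654,nat_lit 689,nat_lit 718,nat_lit 724,nat_lit 766,nat_lit 822,nat_lit 843,nat_lit 892,nat_lit 902,nat_lit 941,nat_lit 953,nat_lit 1005,nat_lit 1086,nat_lit 1105,nat_lit 1160,nat_lit 1222,nat_lit 1569,nat_lit 1650],[nat_lit 29,nat_lit 339,nat_lit 368,nat_lit 423,nat_lit 448],[nat_lit 25,nat_lit 496],[nat_lit 28,nat_lit 498],[nat_lit 29,nat_lit 551],[nat_lit 28,nat_lit 560,nat_lit 593],[nat_lit 29,nat_lit 628],[nat_lit 28,nat_lit 649],[nat_lit 29,nat_lit 713],[nat_lit 28,nat_lit 715],[nat_lit 26,nat_lit 807],[nat_lit 28,nat_lit 808],[nat_lit 29,nat_lit 896],[nat_lit 28,nat_lit 898,nat_lit 1011,nat_lit 1111],[nat_lit 29,nat_lit 2279,nat_lit 2406,nat_lit 3558,nat_lit 4219],[nat_lit 157,nat_lit 833,nat_lit 901,nat_lit 910,nat_lit 952,nat_lit 1013,nat_lit 1074,nat_lit 1104,nat_lit 1114,nat_lit 1175,nat_lit 1234,nat_lit 1305,nat_lit 1340,nat_lit 1352,nat_lit 1418,nat_lit 1483],[nat_lit 30,nat_lit 6],[nat_lit 158,nat_lit 9],[nat_lit 159,nat_lit 9,nat_lit 3249,nat_lit 3451],[nat_lit 46,nat_lit 3754],[nat_lit 32,nat_lit 25,nat_lit 617,nat_lit 735],[nat_lit 37,nat_lit 796],[nat_lit 34,nat_lit 928],[nat_lit 37,nat_lit 930],[nat_lit 32,nat_lit 2344,nat_lit 2594],[nat_lit 34,nat_lit 2607],[nat_lit 32,nat_lit 2619],[nat_lit 34,nat_lit 2870],[nat_lit 32,nat_lit 2929,nat_lit 3046],[nat_lit 35,nat_lit 3098],[nat_lit 32,nat_lit 3149,nat_lit 3163,nat_lit 3246],[nat_lit 34,nat_lit 3256],[nat_lit 32,nat_lit 3339],[nat_lit 34,nat_lit 3360],[nat_lit 32,nat_lit 3755,nat_lit 3805,nat_lit 3820],[nat_lit 36,nat_lit 3869,nat_lit 3904,nat_lit 3916],[nat_lit 160,nat_lit 1,nat_lit 2],[nat_lit 33,nat_lit 35,nat_lit 2858,nat_lit 3446,nat_lit 3542],[nat_lit 161,nat_lit 1,nat_lit 2,nat_lit 64],[nat_lit 59,nat_lit 138],[nat_lit 161,nat_lit 3632],[nat_lit 34,nat_lit 50],[nat_lit 162,nat_lit 1,nat_lit 2,nat_lit 89],[nat_lit 62,nat_lit 189],[nat_lit 35,nat_lit 73],[nat_lit 163,nat_lit 1,nat_lit 2,nat_lit 126,nat_lit 165],[nat_lit 36,nat_lit 36],[nat_lit 33,nat_lit 51],[nat_lit 36,nat_lit 74,nat_lit 108,nat_lit 176,nat_lit 258,nat_lit 741,nat_lit 800,nat_lit 933,nat_lit 935,nat_lit 998,nat_lit 1000,nat_lit 1154,nat_lit 1155,nat_lit 1637,nat_lit 2101,nat_lit 2275,nat_lit 2405,nat_lit 2442,nat_lit 2540,nat_lit 2825,nat_lit 2842,nat_lit 2879,nat_lit 2931,nat_lit 2982,nat_lit 3137],[nat_lit 140,nat_lit 2982],[nat_lit 36,nat_lit 3348,nat_lit 3429,nat_lit 3434,nat_lit 3611,nat_lit 3700],[nat_lit 164,nat_lit 1,nat_lit 2,nat_lit 609,nat_lit 727,nat_lit 869,nat_lit 1107,nat_lit 1119,nat_lit 1239,nat_lit 1321,nat_lit 1345,nat_lit 1404,nat_lit 1475],[nat_lit 37,nat_lit 2385,nat_lit 2658,nat_lit 3593],[nat_lit 165,nat_lit 1,nat_lit 2,nat_lit 1117,nat_lit 1308,nat_lit 1344,nat_lit 1355,nat_lit 1421,nat_lit 1680],[nat_lit 39,nat_lit 786],[nat_lit 41,nat_lit 986],[nat_lit 39,nat_lit 3145,nat_lit 3253],[nat_lit 41,nat_lit 3444],[nat_lit 167,nat_lit 4],[nat_lit 40,nat_lit 1218],[nat_lit 44,nat_lit 1470],[nat_lit 40,nat_lit 3609],[nat_lit 168,nat_lit 4,nat_lit 94,nat_lit 3770],[nat_lit 59,nat_lit 3968],[nat_lit 169,nat_lit 4],[nat_lit 170,nat_lit 4,nat_lit 180],[nat_lit 43,nat_lit 269,nat_lit 360,nat_lit 377,nat_lit 488,nat_lit 639,nat_lit 640,nat_lit 789,nat_lit 1220,nat_lit 1736,nat_lit 2381,nat_lit 2430,nat_lit 2537,nat_lit 2657,nat_lit 2958,nat_lit 2994,nat_lit 3045,nat_lit 3147],[nat_lit 39,nat_lit 3254],[nat_lit 43,nat_lit 3311,nat_lit 3338,nat_lit 3389,nat_lit 3396,nat_lit 3452,nat_lit 3748],[nat_lit 171,nat_lit 4,nat_lit 781,nat_lit 915,nat_lit 1348,nat_lit 1494,nat_lit 1570,nat_lit 1601,nat_lit 1666,nat_lit 1741],[nat_lit 44,nat_lit 2900],[nat_lit 172,nat_lit 4,nat_lit 1599],[nat_lit 45,nat_lit 3251],[nat_lit 47,nat_lit 3441],[nat_lit 45,nat_lit 3868],[nat_lit 47,nat_lit 3958],[nat_lit 46,nat_lit 3605,nat_lit 4024],[nat_lit 49,nat_lit 2639,nat_lit 3234,nat_lit 3365,nat_lit 3528,nat_lit 3601,nat_lit 3604,nat_lit 3745],[nat_lit 142,nat_lit 3745],[nat_lit 49,nat_lit 4080],[nat_lit 177,nat_lit 1765,nat_lit 1949],[nat_lit 51,nat_lit 3106],[nat_lit 55,nat_lit 3316],[nat_lit 51,nat_lit 3392],[nat_lit 55,nat_lit 3568],[nat_lit 51,nat_lit 3843,nat_lit 3889,nat_lit 4035,nat_lit 4063],[nat_lit 52,nat_lit 4111],[nat_lit 180,nat_lit 55,nat_lit 61],[nat_lit 145,nat_lit 80],[nat_lit 62,nat_lit 118],[nat_lit 154,nat_lit 90],[nat_lit 180,nat_lit 110],[nat_lit 154,nat_lit 117],[nat_lit 180,nat_lit 130,nat_lit 151],[nat_lit 154,nat_lit 158],[nat_lit 62,nat_lit 223],[nat_lit 180,nat_lit 3370],[nat_lit 145,nat_lit 3553],[nat_lit 180,nat_lit 3799,nat_lit 3841,nat_lit 4092,nat_lit 4153],[nat_lit 181,nat_lit 78,nat_lit 87,nat_lit 114,nat_lit 126,nat_lit 155,nat_lit 165,nat_lit 180],[nat_lit 64,nat_lit 257],[nat_lit 181,nat_lit 203,nat_lit 218,nat_lit 230,nat_lit 253],[nat_lit 64,nat_lit 359,nat_lit 436],[nat_lit 181,nat_lit 3706],[nat_lit 54,nat_lit 93,nat_lit 119],[nat_lit 143,nat_lit 93],[nat_lit 54,nat_lit 186],[nat_lit 152,nat_lit 135],[nat_lit 54,nat_lit 241,nat_lit 269,nat_lit 294,nat_lit 297,nat_lit 325,nat_lit 360],[nat_lit 167,nat_lit 269],[nat_lit 143,nat_lit 294],[nat_lit 54,nat_lit 437,nat_lit 537,nat_lit 592,nat_lit 629,nat_lit 649,nat_lit 714],[nat_lit 152,nat_lit 592,nat_lit 629],[nat_lit 54,nat_lit 819,nat_lit 861],[nat_lit 152,nat_lit 714],[nat_lit 54,nat_lit 898,nat_lit 933],[nat_lit 160,nat_lit 800],[nat_lit 54,nat_lit 1019,nat_lit 1093],[nat_lit 152,nat_lit 898],[nat_lit 160,nat_lit 933],[nat_lit 152,nat_lit 1093],[nat_lit 54,nat_lit 1385,nat_lit 1467,nat_lit 3502],[nat_lit 182,nat_lit 457,nat_lit 500,nat_lit 501,nat_lit 512],[nat_lit 147,nat_lit 603],[nat_lit 182,nat_lit 609,nat_lit 631,nat_lit 660,nat_lit 663,nat_lit 684,nat_lit 727,nat_lit 746,nat_lit 758,nat_lit 767,nat_lit 804,nat_lit 821,nat_lit 837,nat_lit 891,nat_lit 902,nat_lit 903,nat_lit 911],[nat_lit 147,nat_lit 942],[nat_lit 182,nat_lit 953,nat_lit 964,nat_lit 1021,nat_lit 1054,nat_lit 1076,nat_lit 1094,nat_lit 1107],[nat_lit 164,nat_lit 1130],[nat_lit 156,nat_lit 1167],[nat_lit 182,nat_lit 1180,nat_lit 1239],[nat_lit 147,nat_lit 1333],[nat_lit 182,nat_lit 1468,nat_lit 1666,nat_lit 1673],[nat_lit 147,nat_lit 1734],[nat_lit 182,nat_lit 1741,nat_lit 1843,nat_lit 1844,nat_lit 1882,nat_lit 1930,nat_lit 2021],[nat_lit 183,nat_lit 650,nat_lit 652,nat_lit 809,nat_lit 1004,nat_lit 1041,nat_lit 1114,nat_lit 1117,nat_lit 1128,nat_lit 1234,nat_lit 1245,nat_lit 1250,nat_lit 1305,nat_lit 1338,nat_lit 1355,nat_lit 1483,nat_lit 1487,nat_lit 1553,nat_lit 1556,nat_lit 1594,nat_lit 1609,nat_lit 1680,nat_lit 1683,nat_lit 1750,nat_lit 1967],[nat_lit 56,nat_lit 4064],[nat_lit 185,nat_lit 115,nat_lit 127],[nat_lit 64,nat_lit 262],[nat_lit 185,nat_lit 231,nat_lit 285],[nat_lit 64,nat_lit 442],[nat_lit 185,nat_lit 355],[nat_lit 64,nat_lit 521,nat_lit 634],[nat_lit 58,nat_lit 84,nat_lit 96,nat_lit 161,nat_lit 176,nat_lit 197,nat_lit 214,nat_lit 237,nat_lit 263],[nat_lit 144,nat_lit 237],[nat_lit 58,nat_lit 369,nat_lit 417],[nat_lit 153,nat_lit 330],[nat_lit 58,nat_lit 449,nat_lit 474,nat_lit 479,nat_lit 488,nat_lit 498,nat_lit 527,nat_lit 552],[nat_lit 153,nat_lit 449],[nat_lit 58,nat_lit 614],[nat_lit 168,nat_lit 488],[nat_lit 58,nat_lit 639,nat_lit 682,nat_lit 715,nat_lit 732],[nat_lit 144,nat_lit 585],[nat_lit 58,nat_lit 862,nat_lit 920,nat_lit 934,nat_lit 1329,nat_lit 1578,nat_lit 1658,nat_lit 1731,nat_lit 1837,nat_lit 3007,nat_lit 3496,nat_lit 3501,nat_lit 3630],[nat_lit 186,nat_lit 655,nat_lit 656,nat_lit 776,nat_lit 782,nat_lit 811,nat_lit 916,nat_lit 966,nat_lit 1008,nat_lit 1028,nat_lit 1047,nat_lit 1106,nat_lit 1121,nat_lit 1130,nat_lit 1260,nat_lit 1584,nat_lit 1950,nat_lit 2015,nat_lit 2022,nat_lit 2166,nat_lit 2210],[nat_lit 187,nat_lit 834,nat_lit 836,nat_lit 1014,nat_lit 1282,nat_lit 1370,nat_lit 1591],[nat_lit 61,nat_lit 93],[nat_lit 145,nat_lit 93],[nat_lit 61,nat_lit 174],[nat_lit 180,nat_lit 135],[nat_lit 61,nat_lit 241],[nat_lit 145,nat_lit 174],[nat_lit 61,nat_lit 269],[nat_lit 154,nat_lit 194],[nat_lit 61,nat_lit 297,nat_lit 311],[nat_lit 180,nat_lit 269],[nat_lit 169,nat_lit 377],[nat_lit 61,nat_lit 741,nat_lit 800,nat_lit 808,nat_lit 855],[nat_lit 162,nat_lit 741],[nat_lit 61,nat_lit 933],[nat_lit 162,nat_lit 800],[nat_lit 61,nat_lit 998,nat_lit 1397,nat_lit 1566,nat_lit 1856],[nat_lit 189,nat_lit 839,nat_lit 840,nat_lit 981,nat_lit 1017,nat_lit 1138,nat_lit 1197,nat_lit 2234,nat_lit 2302],[nat_lit 190,nat_lit 1042,nat_lit 1046,nat_lit 1252],[nat_lit 63,nat_lit 364,nat_lit 370,nat_lit 412,nat_lit 488,nat_lit 577,nat_lit 586,nat_lit 676,nat_lit 815],[nat_lit 191,nat_lit 1050,nat_lit 1255,nat_lit 1450],[nat_lit 192,nat_lit 1283,nat_lit 1509],[nat_lit 0,nat_lit 278,nat_lit 342,nat_lit 453,nat_lit 597,nat_lit 666,nat_lit 687,nat_lit 720,nat_lit 773,nat_lit 910,nat_lit 939,nat_lit 952,nat_lit 1004,nat_lit 1104,nat_lit 1175,nat_lit 1234,nat_lit 1401,nat_lit 1418,nat_lit 1483,nat_lit 1590,nat_lit 1661,nat_lit 1840,nat_lit 3086,nat_lit 3211,nat_lit 3276,nat_lit 3393,nat_lit 3448,nat_lit 3512],[nat_lit 10,nat_lit 3570],[nat_lit 0,nat_lit 3631,nat_lit 3647,nat_lit 3671,nat_lit 3796,nat_lit 3906,nat_lit 3921,nat_lit 3936,nat_lit 4013],[nat_lit 128,nat_lit 4028,nat_lit 4094],[nat_lit 16,nat_lit 4170],[nat_lit 1,nat_lit 5,nat_lit 7,nat_lit 9,nat_lit 463,nat_lit 769,nat_lit 906,nat_lit 971,nat_lit 1128,nat_lit 1163,nat_lit 1178,nat_lit 1237,nat_lit 1344,nat_lit 1421,nat_lit 1487,nat_lit 1663,nat_lit 1680,nat_lit 1750,nat_lit 1867,nat_lit 1943,nat_lit 2123,nat_lit 3400,nat_lit 3569,nat_lit 3613],[nat_lit 10,nat_lit 3752],[nat_lit 1,nat_lit 3769,nat_lit 3984,nat_lit 4072],[nat_lit 129,nat_lit 122,nat_lit 135,nat_lit 161,nat_lit 194,nat_lit 244,nat_lit 311,nat_lit 330,nat_lit 340,nat_lit 417,nat_lit 424,nat_lit 450,nat_lit 479,nat_lit 480,nat_lit 498,nat_lit 529,nat_lit 552,nat_lit 553,nat_lit 560,nat_lit 592,nat_lit 593,nat_lit 629,nat_lit 649,nat_lit 711,nat_lit 714,nat_lit 715,nat_lit 743,nat_lit 761,nat_lit 806,nat_lit 808,nat_lit 857,nat_lit 881,nat_lit 898,nat_lit 1011,nat_lit 1093,nat_lit 1111,nat_lit 2063,nat_lit 2339,nat_lit 2595,nat_lit 2609,nat_lit 2826,nat_lit 2971,nat_lit 3289,nat_lit 3375,nat_lit 3473,nat_lit 3481,nat_lit 3522,nat_lit 3577,nat_lit 3634,nat_lit 3806,nat_lit 3825,nat_lit 3844],[nat_lit 2,nat_lit 12,nat_lit 1123,nat_lit 1407,nat_lit 1599,nat_lit 1946,nat_lit 2033,nat_lit 2223,nat_lit 3879,nat_lit 4045,nat_lit 4118],[nat_lit 130,nat_lit 36,nat_lit 51,nat_lit 74,nat_lit 108],[nat_lit 37,nat_lit 217],[nat_lit 130,nat_lit 176,nat_lit 800,nat_lit 933,nat_lit 935,nat_lit 998,nat_lit 1155,nat_lit 2842,nat_lit 3046],[nat_lit 34,nat_lit 3445],[nat_lit 130,nat_lit 3339,nat_lit 3434],[nat_lit 35,nat_lit 3610],[nat_lit 130,nat_lit 3611,nat_lit 3700,nat_lit 3869,nat_lit 3904,nat_lit 3916],[nat_lit 3,nat_lit 1669,nat_lit 1878,nat_lit 2227,nat_lit 2482,nat_lit 3967],[nat_lit 131,nat_lit 10,nat_lit 269,nat_lit 360,nat_lit 377,nat_lit 488,nat_lit 639,nat_lit 789,nat_lit 1220,nat_lit 1736,nat_lit 3311,nat_lit 3389,nat_lit 3452,nat_lit 3748],[nat_lit 4,nat_lit 2487,nat_lit 2719],[nat_lit 132,nat_lit 3234,nat_lit 3528,nat_lit 3601,nat_lit 3604,nat_lit 3745,nat_lit 3855,nat_lit 4080],[nat_lit 5,nat_lit 277,nat_lit 372,nat_lit 382,nat_lit 459,nat_lit 509,nat_lit 533,nat_lit 589,nat_lit 642,nat_lit 661,nat_lit 685,nat_lit 747,nat_lit 877,nat_lit 961,nat_lit 1014,nat_lit 1040,nat_lit 1115,nat_lit 1176,nat_lit 1235,nat_lit 1263,nat_lit 1306,nat_lit 1341,nat_lit 1474,nat_lit 1515,nat_lit 1582,nat_lit 1593,nat_lit 1647,nat_lit 1841,nat_lit 1924,nat_lit 2014],[nat_lit 133,nat_lit 849,nat_lit 907,nat_lit 967,nat_lit 972,nat_lit 1124,nat_lit 1179,nat_lit 1201,nat_lit 1370,nat_lit 1422,nat_lit 1488,nat_lit 1491,nat_lit 1600,nat_lit 1681,nat_lit 1684,nat_lit 1751,nat_lit 1757,nat_lit 1879,nat_lit 1944,nat_lit 1953,nat_lit 1968,nat_lit 2034,nat_lit 2317,nat_lit 2399,nat_lit 2725,nat_lit 2942,nat_lit 3996],[nat_lit 6,nat_lit 386,nat_lit 503,nat_lit 514,nat_lit 824,nat_lit 1191,nat_lit 1524,nat_lit 1595,nat_lit 1793,nat_lit 1872],[nat_lit 134,nat_lit 96,nat_lit 161,nat_lit 176,nat_lit 197,nat_lit 237,nat_lit 263,nat_lit 369,nat_lit 417,nat_lit 443,nat_lit 449,nat_lit 474,nat_lit 479,nat_lit 488,nat_lit 498,nat_lit 527],[nat_lit 153,nat_lit 554],[nat_lit 134,nat_lit 552,nat_lit 585,nat_lit 614],[nat_lit 153,nat_lit 630],[nat_lit 134,nat_lit 635,nat_lit 639,nat_lit 682],[nat_lit 153,nat_lit 716],[nat_lit 134,nat_lit 715,nat_lit 732,nat_lit 750,nat_lit 862],[nat_lit 153,nat_lit 900],[nat_lit 134,nat_lit 920,nat_lit 934,nat_lit 1329,nat_lit 1578,nat_lit 1658,nat_lit 1731,nat_lit 1837,nat_lit 3007,nat_lit 3496,nat_lit 3501,nat_lit 3630],[nat_lit 7,nat_lit 519,nat_lit 658,nat_lit 671,nat_lit 1442],[nat_lit 135,nat_lit 90,nat_lit 117,nat_lit 131],[nat_lit 62,nat_lit 193],[nat_lit 135,nat_lit 135,nat_lit 158,nat_lit 170],[nat_lit 62,nat_lit 243],[nat_lit 135,nat_lit 174,nat_lit 188],[nat_lit 62,nat_lit 272],[nat_lit 135,nat_lit 194,nat_lit 211,nat_lit 221],[nat_lit 62,nat_lit 310,nat_lit 336],[nat_lit 135,nat_lit 241,nat_lit 244],[nat_lit 169,nat_lit 267],[nat_lit 62,nat_lit 376],[nat_lit 135,nat_lit 269,nat_lit 273],[nat_lit 62,nat_lit 401,nat_lit 421],[nat_lit 135,nat_lit 311],[nat_lit 62,nat_lit 504],[nat_lit 169,nat_lit 378],[nat_lit 154,nat_lit 425],[nat_lit 135,nat_lit 505,nat_lit 741,nat_lit 808,nat_lit 855,nat_lit 922,nat_lit 933,nat_lit 989,nat_lit 998],[nat_lit 154,nat_lit 1012],[nat_lit 135,nat_lit 1397,nat_lit 1566,nat_lit 4135],[nat_lit 136,nat_lit 127,nat_lit 166,nat_lit 181],[nat_lit 185,nat_lit 183],[nat_lit 64,nat_lit 261],[nat_lit 136,nat_lit 219,nat_lit 231],[nat_lit 185,nat_lit 233],[nat_lit 136,nat_lit 254],[nat_lit 64,nat_lit 363],[nat_lit 136,nat_lit 301],[nat_lit 185,nat_lit 303],[nat_lit 136,nat_lit 320],[nat_lit 185,nat_lit 322],[nat_lit 136,nat_lit 355,nat_lit 364,nat_lit 370],[nat_lit 185,nat_lit 409],[nat_lit 64,nat_lit 544],[nat_lit 136,nat_lit 412],[nat_lit 64,nat_lit 576,nat_lit 583],[nat_lit 136,nat_lit 488,nat_lit 577,nat_lit 586,nat_lit 676,nat_lit 815,nat_lit 3832],[nat_lit 185,nat_lit 3926],[nat_lit 64,nat_lit 4060],[nat_lit 9,nat_lit 1062,nat_lit 1206,nat_lit 1432],[nat_lit 1,nat_lit 1459],[nat_lit 9,nat_lit 1623,nat_lit 1637,nat_lit 1717,nat_lit 1772,nat_lit 1834,nat_lit 1885,nat_lit 1917,nat_lit 1984,nat_lit 2059],[nat_lit 7,nat_lit 2064],[nat_lit 6,nat_lit 2345],[nat_lit 9,nat_lit 2415,nat_lit 2504,nat_lit 2654,nat_lit 2656],[nat_lit 6,nat_lit 2747],[nat_lit 9,nat_lit 2796,nat_lit 2806],[nat_lit 6,nat_lit 2897],[nat_lit 9,nat_lit 2912,nat_lit 2931,nat_lit 2961],[nat_lit 7,nat_lit 2972],[nat_lit 9,nat_lit 3028],[nat_lit 2,nat_lit 3147],[nat_lit 3,nat_lit 3345],[nat_lit 7,nat_lit 3346],[nat_lit 10,nat_lit 1699,nat_lit 2169,nat_lit 3186],[nat_lit 138,nat_lit 1238,nat_lit 1356,nat_lit 1359,nat_lit 1370,nat_lit 1488],[nat_lit 187,nat_lit 1492],[nat_lit 138,nat_lit 1502,nat_lit 1507,nat_lit 1539,nat_lit 1557,nat_lit 1614],[nat_lit 187,nat_lit 1620],[nat_lit 138,nat_lit 1633,nat_lit 1751,nat_lit 1757],[nat_lit 187,nat_lit 1776,nat_lit 1784],[nat_lit 138,nat_lit 1828,nat_lit 1831,nat_lit 1874,nat_lit 1890,nat_lit 1968,nat_lit 1972,nat_lit 2034],[nat_lit 187,nat_lit 2044],[nat_lit 138,nat_lit 2253],[nat_lit 187,nat_lit 2254,nat_lit 2318],[nat_lit 11,nat_lit 516,nat_lit 609,nat_lit 727,nat_lit 767,nat_lit 779,nat_lit 903,nat_lit 913,nat_lit 964,nat_lit 1015,nat_lit 1043,nat_lit 1077,nat_lit 1117,nat_lit 1119,nat_lit 1131,nat_lit 1189,nat_lit 1192,nat_lit 1250,nat_lit 1279,nat_lit 1355,nat_lit 1357,nat_lit 1406,nat_lit 1433,nat_lit 1501,nat_lit 1504,nat_lit 1551,nat_lit 1583,nat_lit 1611,nat_lit 1778,nat_lit 1887,nat_lit 2864,nat_lit 3076],[nat_lit 20,nat_lit 3091],[nat_lit 11,nat_lit 3282],[nat_lit 20,nat_lit 3288],[nat_lit 11,nat_lit 3300],[nat_lit 20,nat_lit 3472],[nat_lit 11,nat_lit 3561,nat_lit 3890,nat_lit 3930,nat_lit 4044,nat_lit 4054,nat_lit 4065],[nat_lit 139,nat_lit 5,nat_lit 7,nat_lit 9],[nat_lit 12,nat_lit 965,nat_lit 1311,nat_lit 1358,nat_lit 1375,nat_lit 1438,nat_lit 1443,nat_lit 1613,nat_lit 1616,nat_lit 1668,nat_lit 1774,nat_lit 1825,nat_lit 2071,nat_lit 3489,nat_lit 4098],[nat_lit 140,nat_lit 5,nat_lit 7,nat_lit 52,nat_lit 75],[nat_lit 37,nat_lit 112],[nat_lit 140,nat_lit 109,nat_lit 1002,nat_lit 1157,nat_lit 1159,nat_lit 1399,nat_lit 3067],[nat_lit 37,nat_lit 3471],[nat_lit 140,nat_lit 3750,nat_lit 3827,nat_lit 3960,nat_lit 3982],[nat_lit 13,nat_lit 1707,nat_lit 1711,nat_lit 1895,nat_lit 1952,nat_lit 2066,nat_lit 3654],[nat_lit 20,nat_lit 3788],[nat_lit 141,nat_lit 5,nat_lit 12,nat_lit 508,nat_lit 641,nat_lit 820,nat_lit 990,nat_lit 1472,nat_lit 2017,nat_lit 3860],[nat_lit 14,nat_lit 1994,nat_lit 2353],[nat_lit 142,nat_lit 5,nat_lit 9,nat_lit 12,nat_lit 3944,nat_lit 4125],[nat_lit 15,nat_lit 672,nat_lit 782,nat_lit 916,nat_lit 966,nat_lit 1121,nat_lit 1133],[nat_lit 12,nat_lit 1137],[nat_lit 15,nat_lit 1195,nat_lit 1196,nat_lit 1253,nat_lit 1284,nat_lit 1439,nat_lit 1444,nat_lit 1507,nat_lit 1534,nat_lit 1619,nat_lit 1638,nat_lit 1701,nat_lit 1775,nat_lit 1780,nat_lit 1858,nat_lit 1899,nat_lit 1999,nat_lit 2067,nat_lit 2109,nat_lit 2170,nat_lit 2236,nat_lit 2280,nat_lit 2359,nat_lit 2615,nat_lit 4104,nat_lit 4112],[nat_lit 143,nat_lit 1763,nat_lit 1973,nat_lit 2237,nat_lit 2254,nat_lit 2950,nat_lit 3158],[nat_lit 16,nat_lit 981,nat_lit 1364,nat_lit 1378,nat_lit 1380,nat_lit 1449,nat_lit 1541,nat_lit 1815,nat_lit 2069],[nat_lit 144,nat_lit 247,nat_lit 332,nat_lit 371,nat_lit 499,nat_lit 554,nat_lit 587,nat_lit 594,nat_lit 624,nat_lit 630,nat_lit 651,nat_lit 684,nat_lit 716,nat_lit 756,nat_lit 790,nat_lit 802,nat_lit 816,nat_lit 863,nat_lit 890,nat_lit 900,nat_lit 923,nat_lit 946,nat_lit 1073,nat_lit 1143,nat_lit 1158,nat_lit 1579,nat_lit 1853,nat_lit 1940,nat_lit 2012,nat_lit 3768],[nat_lit 17,nat_lit 1624,nat_lit 1639,nat_lit 1641,nat_lit 1718],[nat_lit 145,nat_lit 239,nat_lit 276],[nat_lit 62,nat_lit 454],[nat_lit 145,nat_lit 341,nat_lit 381,nat_lit 425,nat_lit 559,nat_lit 660,nat_lit 936,nat_lit 1012,nat_lit 1065,nat_lit 1145,nat_lit 1157,nat_lit 1221,nat_lit 1231,nat_lit 1233],[nat_lit 162,nat_lit 1401],[nat_lit 145,nat_lit 1659],[nat_lit 18,nat_lit 2005],[nat_lit 146,nat_lit 322,nat_lit 409],[nat_lit 64,nat_lit 580],[nat_lit 146,nat_lit 493,nat_lit 547,nat_lit 641,nat_lit 746,nat_lit 757,nat_lit 856,nat_lit 1021],[nat_lit 19,nat_lit 3476,nat_lit 3638,nat_lit 4196],[nat_lit 20,nat_lit 4210],[nat_lit 148,nat_lit 1632,nat_lit 1897,nat_lit 2172,nat_lit 2259,nat_lit 2519],[nat_lit 21,nat_lit 12,nat_lit 1756,nat_lit 1946,nat_lit 1948,nat_lit 4019,nat_lit 4127,nat_lit 4141],[nat_lit 24,nat_lit 4162],[nat_lit 149,nat_lit 17],[nat_lit 22,nat_lit 2042,nat_lit 2227,nat_lit 2230,nat_lit 4076],[nat_lit 150,nat_lit 17,nat_lit 663,nat_lit 822,nat_lit 1222,nat_lit 1738,nat_lit 3950],[nat_lit 23,nat_lit 2325,nat_lit 2487],[nat_lit 151,nat_lit 17,nat_lit 4015,nat_lit 4160],[nat_lit 50,nat_lit 4206],[nat_lit 24,nat_lit 248,nat_lit 277,nat_lit 314,nat_lit 608,nat_lit 719,nat_lit 811,nat_lit 1582],[nat_lit 139,nat_lit 1888],[nat_lit 129,nat_lit 1582],[nat_lit 24,nat_lit 2326,nat_lit 2492],[nat_lit 152,nat_lit 3,nat_lit 4,nat_lit 6,nat_lit 3356],[nat_lit 25,nat_lit 386,nat_lit 428,nat_lit 905,nat_lit 2139],[nat_lit 153,nat_lit 3,nat_lit 4,nat_lit 6,nat_lit 718,nat_lit 758,nat_lit 765,nat_lit 810,nat_lit 835],[nat_lit 144,nat_lit 903],[nat_lit 153,nat_lit 901,nat_lit 952,nat_lit 991,nat_lit 1022,nat_lit 1074,nat_lit 1104,nat_lit 1116,nat_lit 1307,nat_lit 1387,nat_lit 1402,nat_lit 2220],[nat_lit 26,nat_lit 519],[nat_lit 129,nat_lit 519],[nat_lit 154,nat_lit 3,nat_lit 6,nat_lit 462,nat_lit 512,nat_lit 562,nat_lit 724,nat_lit 843,nat_lit 1160,nat_lit 1248,nat_lit 1299,nat_lit 1401,nat_lit 1473,nat_lit 1483,nat_lit 1486,nat_lit 1646,nat_lit 1941],[nat_lit 155,nat_lit 3,nat_lit 6,nat_lit 646,nat_lit 822,nat_lit 953,nat_lit 1066,nat_lit 1259],[nat_lit 28,nat_lit 3811],[nat_lit 129,nat_lit 3811],[nat_lit 24,nat_lit 3987],[nat_lit 25,nat_lit 4048],[nat_lit 156,nat_lit 3,nat_lit 4,nat_lit 6],[nat_lit 157,nat_lit 3,nat_lit 4,nat_lit 6,nat_lit 2527,nat_lit 2760],[nat_lit 30,nat_lit 2021,nat_lit 4121],[nat_lit 159,nat_lit 4074],[nat_lit 32,nat_lit 156,nat_lit 158,nat_lit 216,nat_lit 219],[nat_lit 37,nat_lit 223],[nat_lit 32,nat_lit 1944,nat_lit 2300,nat_lit 3997],[nat_lit 160,nat_lit 9],[nat_lit 33,nat_lit 220,nat_lit 300],[nat_lit 37,nat_lit 306],[nat_lit 161,nat_lit 9,nat_lit 954,nat_lit 963,nat_lit 1107,nat_lit 1117,nat_lit 1223,nat_lit 1261,nat_lit 1357,nat_lit 1558,nat_lit 1664,nat_lit 2479],[nat_lit 34,nat_lit 408],[nat_lit 37,nat_lit 540],[nat_lit 162,nat_lit 9,nat_lit 911,nat_lit 1054,nat_lit 1404,nat_lit 1504,nat_lit 1549,nat_lit 1663,nat_lit 1739,nat_lit 1750,nat_lit 1754,nat_lit 2221],[nat_lit 163,nat_lit 9,nat_lit 1029,nat_lit 1180,nat_lit 1300,nat_lit 1518],[nat_lit 36,nat_lit 161],[nat_lit 33,nat_lit 224],[nat_lit 36,nat_lit 311,nat_lit 418,nat_lit 700,nat_lit 3637,nat_lit 3685,nat_lit 3749],[nat_lit 130,nat_lit 3685],[nat_lit 32,nat_lit 3910],[nat_lit 33,nat_lit 3988],[nat_lit 164,nat_lit 9],[nat_lit 37,nat_lit 3861],[nat_lit 165,nat_lit 9],[nat_lit 39,nat_lit 19,nat_lit 642,nat_lit 1057,nat_lit 1269,nat_lit 2555,nat_lit 3661,nat_lit 3758],[nat_lit 40,nat_lit 27,nat_lit 824,nat_lit 1527],[nat_lit 168,nat_lit 1193,nat_lit 1348,nat_lit 1358,nat_lit 1521,nat_lit 1947],[nat_lit 41,nat_lit 37],[nat_lit 169,nat_lit 1129,nat_lit 1666,nat_lit 1946,nat_lit 2033,nat_lit 2039],[nat_lit 42,nat_lit 53],[nat_lit 170,nat_lit 1427,nat_lit 1797],[nat_lit 43,nat_lit 20],[nat_lit 39,nat_lit 28],[nat_lit 40,nat_lit 38],[nat_lit 43,nat_lit 54,nat_lit 77],[nat_lit 45,nat_lit 3590,nat_lit 3816,nat_lit 3857],[nat_lit 50,nat_lit 3947],[nat_lit 45,nat_lit 3948],[nat_lit 175,nat_lit 2227,nat_lit 2316],[nat_lit 51,nat_lit 281,nat_lit 428,nat_lit 464,nat_lit 840,nat_lit 1031,nat_lit 1108,nat_lit 1243,nat_lit 1266,nat_lit 1285,nat_lit 1447,nat_lit 1493,nat_lit 1511,nat_lit 1541,nat_lit 1598,nat_lit 1652,nat_lit 1678,nat_lit 1690,nat_lit 1697,nat_lit 1802],[nat_lit 143,nat_lit 1541],[nat_lit 51,nat_lit 1881,nat_lit 1929,nat_lit 2023,nat_lit 2139,nat_lit 2168,nat_lit 2377,nat_lit 2729,nat_lit 2792],[nat_lit 179,nat_lit 2329,nat_lit 2336,nat_lit 2485,nat_lit 2521,nat_lit 2578,nat_lit 2822,nat_lit 2891,nat_lit 3364],[nat_lit 52,nat_lit 387,nat_lit 1542,nat_lit 1715,nat_lit 1933,nat_lit 1986,nat_lit 2208,nat_lit 2438],[nat_lit 180,nat_lit 195,nat_lit 338,nat_lit 378,nat_lit 384],[nat_lit 135,nat_lit 459],[nat_lit 145,nat_lit 459],[nat_lit 135,nat_lit 509],[nat_lit 145,nat_lit 603],[nat_lit 180,nat_lit 609],[nat_lit 145,nat_lit 664],[nat_lit 180,nat_lit 668,nat_lit 727],[nat_lit 145,nat_lit 916],[nat_lit 180,nat_lit 1292,nat_lit 1371,nat_lit 1389,nat_lit 1779,nat_lit 1823,nat_lit 1946,nat_lit 1949,nat_lit 2019,nat_lit 2323,nat_lit 2480,nat_lit 2487,nat_lit 2574],[nat_lit 53,nat_lit 2271],[nat_lit 181,nat_lit 259,nat_lit 326],[nat_lit 64,nat_lit 495],[nat_lit 181,nat_lit 413],[nat_lit 64,nat_lit 590],[nat_lit 181,nat_lit 500,nat_lit 542,nat_lit 646,nat_lit 710,nat_lit 828,nat_lit 941,nat_lit 1268,nat_lit 1427,nat_lit 1550,nat_lit 1693,nat_lit 2090],[nat_lit 54,nat_lit 1452],[nat_lit 143,nat_lit 1452],[nat_lit 54,nat_lit 1913,nat_lit 2165,nat_lit 2430],[nat_lit 143,nat_lit 2165],[nat_lit 55,nat_lit 2434],[nat_lit 183,nat_lit 1764],[nat_lit 157,nat_lit 2052],[nat_lit 183,nat_lit 2070,nat_lit 2329],[nat_lit 190,nat_lit 2357],[nat_lit 183,nat_lit 2521,nat_lit 2578],[nat_lit 56,nat_lit 519,nat_lit 1213,nat_lit 1381,nat_lit 2195,nat_lit 2212,nat_lit 2728,nat_lit 2804],[nat_lit 185,nat_lit 655,nat_lit 894,nat_lit 1167,nat_lit 1526,nat_lit 1694],[nat_lit 58,nat_lit 1464],[nat_lit 57,nat_lit 1729],[nat_lit 58,nat_lit 2847,nat_lit 2988,nat_lit 3254,nat_lit 3323,nat_lit 3703],[nat_lit 60,nat_lit 1290,nat_lit 2534],[nat_lit 61,nat_lit 242,nat_lit 271,nat_lit 275,nat_lit 309,nat_lit 335,nat_lit 340,nat_lit 380],[nat_lit 135,nat_lit 275],[nat_lit 61,nat_lit 400],[nat_lit 154,nat_lit 309],[nat_lit 61,nat_lit 424,nat_lit 456],[nat_lit 135,nat_lit 340],[nat_lit 61,nat_lit 507],[nat_lit 135,nat_lit 380],[nat_lit 145,nat_lit 383],[nat_lit 61,nat_lit 531,nat_lit 558],[nat_lit 135,nat_lit 424],[nat_lit 61,nat_lit 599],[nat_lit 135,nat_lit 456],[nat_lit 145,nat_lit 461],[nat_lit 61,nat_lit 659],[nat_lit 135,nat_lit 507],[nat_lit 145,nat_lit 511],[nat_lit 135,nat_lit 531,nat_lit 558],[nat_lit 145,nat_lit 561,nat_lit 601],[nat_lit 154,nat_lit 607],[nat_lit 135,nat_lit 659],[nat_lit 145,nat_lit 662],[nat_lit 180,nat_lit 666],[nat_lit 145,nat_lit 688,nat_lit 723],[nat_lit 154,nat_lit 726],[nat_lit 180,nat_lit 726,nat_lit 773],[nat_lit 162,nat_lit 779],[nat_lit 145,nat_lit 842],[nat_lit 180,nat_lit 845],[nat_lit 154,nat_lit 868,nat_lit 910],[nat_lit 162,nat_lit 913],[nat_lit 169,nat_lit 977],[nat_lit 154,nat_lit 1052],[nat_lit 162,nat_lit 1078,nat_lit 1128],[nat_lit 180,nat_lit 1128],[nat_lit 169,nat_lit 1132],[nat_lit 61,nat_lit 1540],[nat_lit 180,nat_lit 1369],[nat_lit 61,nat_lit 4194],[nat_lit 62,nat_lit 339,nat_lit 423,nat_lit 455],[nat_lit 61,nat_lit 460],[nat_lit 62,nat_lit 557],[nat_lit 61,nat_lit 560,nat_lit 600],[nat_lit 135,nat_lit 460],[nat_lit 61,nat_lit 722],[nat_lit 135,nat_lit 560,nat_lit 600],[nat_lit 145,nat_lit 606],[nat_lit 135,nat_lit 722],[nat_lit 145,nat_lit 725,nat_lit 772],[nat_lit 154,nat_lit 778],[nat_lit 145,nat_lit 909],[nat_lit 154,nat_lit 912],[nat_lit 162,nat_lit 976],[nat_lit 154,nat_lit 1127],[nat_lit 180,nat_lit 1131],[nat_lit 169,nat_lit 1208],[nat_lit 180,nat_lit 1368],[nat_lit 162,nat_lit 1376],[nat_lit 180,nat_lit 1460],[nat_lit 62,nat_lit 1818],[nat_lit 145,nat_lit 1818],[nat_lit 63,nat_lit 362,nat_lit 366,nat_lit 369,nat_lit 440,nat_lit 492,nat_lit 494],[nat_lit 136,nat_lit 369],[nat_lit 185,nat_lit 440],[nat_lit 136,nat_lit 492],[nat_lit 63,nat_lit 648],[nat_lit 146,nat_lit 499],[nat_lit 63,nat_lit 707,nat_lit 711,nat_lit 745,nat_lit 750],[nat_lit 181,nat_lit 582],[nat_lit 63,nat_lit 754,nat_lit 761],[nat_lit 146,nat_lit 645],[nat_lit 181,nat_lit 652],[nat_lit 63,nat_lit 885],[nat_lit 136,nat_lit 707,nat_lit 745],[nat_lit 181,nat_lit 754],[nat_lit 136,nat_lit 754],[nat_lit 181,nat_lit 827],[nat_lit 146,nat_lit 890,nat_lit 940,nat_lit 950],[nat_lit 155,nat_lit 1104,nat_lit 1164],[nat_lit 181,nat_lit 1164],[nat_lit 155,nat_lit 1175],[nat_lit 163,nat_lit 1344,nat_lit 1421],[nat_lit 170,nat_lit 1599,nat_lit 1683],[nat_lit 181,nat_lit 1878],[nat_lit 176,nat_lit 1971],[nat_lit 181,nat_lit 1971,nat_lit 2257],[nat_lit 64,nat_lit 496,nat_lit 584,nat_lit 647],[nat_lit 63,nat_lit 649],[nat_lit 64,nat_lit 753],[nat_lit 63,nat_lit 755,nat_lit 830],[nat_lit 136,nat_lit 649],[nat_lit 64,nat_lit 947],[nat_lit 63,nat_lit 949],[nat_lit 136,nat_lit 755],[nat_lit 146,nat_lit 832],[nat_lit 64,nat_lit 1099],[nat_lit 63,nat_lit 1172],[nat_lit 136,nat_lit 949],[nat_lit 146,nat_lit 951],[nat_lit 155,nat_lit 1039],[nat_lit 63,nat_lit 1337],[nat_lit 146,nat_lit 1174],[nat_lit 155,nat_lit 1177],[nat_lit 163,nat_lit 1279],[nat_lit 155,nat_lit 1420],[nat_lit 163,nat_lit 1423],[nat_lit 181,nat_lit 1533],[nat_lit 163,nat_lit 1682],[nat_lit 170,nat_lit 1686,nat_lit 1970],[nat_lit 181,nat_lit 1975,nat_lit 2255],[nat_lit 65,nat_lit 2179,nat_lit 2601,nat_lit 2850,nat_lit 3064,nat_lit 3202],[nat_lit 0,nat_lit 1716,nat_lit 1787,nat_lit 1996,nat_lit 2000,nat_lit 2078],[nat_lit 6,nat_lit 2080],[nat_lit 0,nat_lit 2274,nat_lit 2355,nat_lit 2361],[nat_lit 6,nat_lit 2366],[nat_lit 0,nat_lit 2412,nat_lit 2616],[nat_lit 6,nat_lit 2626,nat_lit 2663],[nat_lit 0,nat_lit 2683,nat_lit 2738,nat_lit 2782],[nat_lit 6,nat_lit 2867],[nat_lit 0,nat_lit 2873,nat_lit 3092],[nat_lit 6,nat_lit 3302],[nat_lit 7,nat_lit 3491],[nat_lit 0,nat_lit 3778,nat_lit 4177],[nat_lit 6,nat_lit 4200],[nat_lit 10,nat_lit 4214],[nat_lit 128,nat_lit 8,nat_lit 10,nat_lit 13,nat_lit 604,nat_lit 760],[nat_lit 16,nat_lit 1185],[nat_lit 128,nat_lit 1088,nat_lit 1190,nat_lit 1251,nat_lit 1280],[nat_lit 16,nat_lit 1573],[nat_lit 128,nat_lit 1356,nat_lit 1422,nat_lit 1488],[nat_lit 16,nat_lit 1816],[nat_lit 128,nat_lit 1557],[nat_lit 15,nat_lit 1960,nat_lit 2028],[nat_lit 20,nat_lit 2041],[nat_lit 16,nat_lit 2045],[nat_lit 128,nat_lit 1792],[nat_lit 20,nat_lit 2115],[nat_lit 128,nat_lit 1857,nat_lit 1871,nat_lit 1926],[nat_lit 16,nat_lit 2243],[nat_lit 128,nat_lit 2004],[nat_lit 16,nat_lit 2310],[nat_lit 128,nat_lit 2124],[nat_lit 16,nat_lit 2411],[nat_lit 128,nat_lit 2202],[nat_lit 16,nat_lit 2459],[nat_lit 17,nat_lit 2508],[nat_lit 128,nat_lit 2270,nat_lit 2292],[nat_lit 16,nat_lit 2650],[nat_lit 17,nat_lit 2701],[nat_lit 16,nat_lit 2794],[nat_lit 128,nat_lit 2606,nat_lit 3027],[nat_lit 1,nat_lit 3003,nat_lit 3100],[nat_lit 129,nat_lit 8,nat_lit 10,nat_lit 13,nat_lit 2326,nat_lit 2492],[nat_lit 130,nat_lit 8,nat_lit 10,nat_lit 158,nat_lit 219],[nat_lit 37,nat_lit 310],[nat_lit 130,nat_lit 224],[nat_lit 33,nat_lit 413],[nat_lit 37,nat_lit 415],[nat_lit 130,nat_lit 311,nat_lit 418,nat_lit 700,nat_lit 1944],[nat_lit 33,nat_lit 2485],[nat_lit 130,nat_lit 2300,nat_lit 3637,nat_lit 3997],[nat_lit 33,nat_lit 4106],[nat_lit 131,nat_lit 8,nat_lit 17,nat_lit 28,nat_lit 38,nat_lit 54,nat_lit 77],[nat_lit 44,nat_lit 164],[nat_lit 131,nat_lit 2555],[nat_lit 40,nat_lit 3018],[nat_lit 132,nat_lit 8,nat_lit 13],[nat_lit 5,nat_lit 1770,nat_lit 2052],[nat_lit 1,nat_lit 2061],[nat_lit 7,nat_lit 2062],[nat_lit 5,nat_lit 2081,nat_lit 2248,nat_lit 2265,nat_lit 2285],[nat_lit 1,nat_lit 2337],[nat_lit 7,nat_lit 2347],[nat_lit 5,nat_lit 2432],[nat_lit 1,nat_lit 2512],[nat_lit 7,nat_lit 2515],[nat_lit 5,nat_lit 2682],[nat_lit 7,nat_lit 2755],[nat_lit 5,nat_lit 3221],[nat_lit 133,nat_lit 2063,nat_lit 2608],[nat_lit 52,nat_lit 3085],[nat_lit 55,nat_lit 3087],[nat_lit 133,nat_lit 2902,nat_lit 3016,nat_lit 3095,nat_lit 3119,nat_lit 3175,nat_lit 3184],[nat_lit 52,nat_lit 3493],[nat_lit 53,nat_lit 3657],[nat_lit 133,nat_lit 3530],[nat_lit 6,nat_lit 2547,nat_lit 2610],[nat_lit 10,nat_lit 2788],[nat_lit 134,nat_lit 1464,nat_lit 2728,nat_lit 2804,nat_lit 2988,nat_lit 3323,nat_lit 3703],[nat_lit 135,nat_lit 599],[nat_lit 145,nat_lit 771],[nat_lit 135,nat_lit 776,nat_lit 849,nat_lit 850,nat_lit 910,nat_lit 914],[nat_lit 154,nat_lit 969],[nat_lit 135,nat_lit 972,nat_lit 1056],[nat_lit 154,nat_lit 1126],[nat_lit 135,nat_lit 1130],[nat_lit 162,nat_lit 1366],[nat_lit 135,nat_lit 1370],[nat_lit 169,nat_lit 1625],[nat_lit 135,nat_lit 1630,nat_lit 1631,nat_lit 1634,nat_lit 2072,nat_lit 2104,nat_lit 2232,nat_lit 2534,nat_lit 2583,nat_lit 2717,nat_lit 2725,nat_lit 2819],[nat_lit 136,nat_lit 648,nat_lit 711,nat_lit 750,nat_lit 761,nat_lit 829,nat_lit 830,nat_lit 836],[nat_lit 146,nat_lit 946],[nat_lit 136,nat_lit 948,nat_lit 1034,nat_lit 1035],[nat_lit 185,nat_lit 1036],[nat_lit 155,nat_lit 1171],[nat_lit 136,nat_lit 1172],[nat_lit 185,nat_lit 1273],[nat_lit 136,nat_lit 1337,nat_lit 1409],[nat_lit 185,nat_lit 1671],[nat_lit 136,nat_lit 1813,nat_lit 1980,nat_lit 2161,nat_lit 2258,nat_lit 2376,nat_lit 2523,nat_lit 2525],[nat_lit 9,nat_lit 3078,nat_lit 3468],[nat_lit 137,nat_lit 2004,nat_lit 2339,nat_lit 2350,nat_lit 2531,nat_lit 2598,nat_lit 2631,nat_lit 2878,nat_lit 3311,nat_lit 3408,nat_lit 3656],[nat_lit 11,nat_lit 23,nat_lit 3056],[nat_lit 139,nat_lit 1708,nat_lit 1784,nat_lit 1897],[nat_lit 129,nat_lit 1996,nat_lit 2078],[nat_lit 29,nat_lit 2443],[nat_lit 24,nat_lit 2505],[nat_lit 25,nat_lit 2528],[nat_lit 139,nat_lit 2324],[nat_lit 25,nat_lit 2588,nat_lit 2748,nat_lit 2831],[nat_lit 139,nat_lit 2696],[nat_lit 12,nat_lit 3269],[nat_lit 140,nat_lit 425,nat_lit 555,nat_lit 882,nat_lit 2561],[nat_lit 141,nat_lit 39,nat_lit 55],[nat_lit 44,nat_lit 83],[nat_lit 141,nat_lit 78,nat_lit 113],[nat_lit 15,nat_lit 15,nat_lit 19,nat_lit 25],[nat_lit 12,nat_lit 34],[nat_lit 15,nat_lit 2102,nat_lit 2331,nat_lit 2507,nat_lit 2546,nat_lit 2777],[nat_lit 20,nat_lit 2787],[nat_lit 15,nat_lit 3014,nat_lit 3084,nat_lit 3425],[nat_lit 143,nat_lit 5,nat_lit 7,nat_lit 9,nat_lit 2351,nat_lit 2860,nat_lit 3085,nat_lit 3225,nat_lit 3326,nat_lit 3380,nat_lit 3690],[nat_lit 16,nat_lit 21,nat_lit 27,nat_lit 35,nat_lit 48,nat_lit 3000,nat_lit 3006],[nat_lit 20,nat_lit 3213],[nat_lit 16,nat_lit 3296],[nat_lit 20,nat_lit 3486],[nat_lit 144,nat_lit 5,nat_lit 7,nat_lit 9,nat_lit 1728,nat_lit 3201,nat_lit 3509],[nat_lit 17,nat_lit 29,nat_lit 37,nat_lit 50,nat_lit 70],[nat_lit 145,nat_lit 5,nat_lit 9,nat_lit 1632,nat_lit 2360,nat_lit 2493,nat_lit 2830,nat_lit 2950,nat_lit 3039],[nat_lit 18,nat_lit 40,nat_lit 53,nat_lit 73],[nat_lit 146,nat_lit 5,nat_lit 9,nat_lit 831,nat_lit 895,nat_lit 958,nat_lit 1037],[nat_lit 64,nat_lit 1350],[nat_lit 146,nat_lit 1173],[nat_lit 181,nat_lit 1276],[nat_lit 146,nat_lit 1417],[nat_lit 136,nat_lit 1531],[nat_lit 185,nat_lit 1810],[nat_lit 146,nat_lit 2099,nat_lit 2267,nat_lit 2526],[nat_lit 185,nat_lit 2532],[nat_lit 146,nat_lit 2636,nat_lit 2765,nat_lit 2767],[nat_lit 185,nat_lit 2768],[nat_lit 19,nat_lit 16,nat_lit 20],[nat_lit 15,nat_lit 22],[nat_lit 19,nat_lit 26],[nat_lit 15,nat_lit 28],[nat_lit 19,nat_lit 30],[nat_lit 15,nat_lit 36],[nat_lit 19,nat_lit 38,nat_lit 41],[nat_lit 16,nat_lit 51],[nat_lit 19,nat_lit 54,nat_lit 58,nat_lit 71,nat_lit 74,nat_lit 77,nat_lit 105,nat_lit 108,nat_lit 1848,nat_lit 2117,nat_lit 2592,nat_lit 2662,nat_lit 2751,nat_lit 2752,nat_lit 2893],[nat_lit 15,nat_lit 2975],[nat_lit 19,nat_lit 3007,nat_lit 3224,nat_lit 3458,nat_lit 3651],[nat_lit 147,nat_lit 5,nat_lit 7,nat_lit 2600,nat_lit 2612,nat_lit 2774,nat_lit 2849,nat_lit 3578],[nat_lit 20,nat_lit 43,nat_lit 2131,nat_lit 2977],[nat_lit 148,nat_lit 5,nat_lit 7,nat_lit 9],[nat_lit 21,nat_lit 915,nat_lit 1123,nat_lit 1585],[nat_lit 149,nat_lit 2527,nat_lit 2587],[nat_lit 37,nat_lit 2990],[nat_lit 33,nat_lit 2993,nat_lit 3204],[nat_lit 149,nat_lit 3133],[nat_lit 33,nat_lit 3520],[nat_lit 34,nat_lit 3681],[nat_lit 150,nat_lit 114,nat_lit 162],[nat_lit 44,nat_lit 232],[nat_lit 24,nat_lit 15,nat_lit 19,nat_lit 25],[nat_lit 139,nat_lit 47],[nat_lit 24,nat_lit 1861,nat_lit 2771,nat_lit 2835,nat_lit 2973,nat_lit 3053],[nat_lit 26,nat_lit 3058,nat_lit 3187],[nat_lit 152,nat_lit 2613],[nat_lit 55,nat_lit 3091],[nat_lit 143,nat_lit 3091],[nat_lit 152,nat_lit 3297,nat_lit 3817],[nat_lit 25,nat_lit 21,nat_lit 27,nat_lit 35,nat_lit 98,nat_lit 2144,nat_lit 3271],[nat_lit 153,nat_lit 3393],[nat_lit 26,nat_lit 29,nat_lit 37,nat_lit 50,nat_lit 142],[nat_lit 154,nat_lit 2623,nat_lit 3052,nat_lit 3166,nat_lit 3247],[nat_lit 27,nat_lit 40,nat_lit 53,nat_lit 73],[nat_lit 155,nat_lit 1038,nat_lit 1186,nat_lit 1418],[nat_lit 181,nat_lit 1433],[nat_lit 155,nat_lit 1679],[nat_lit 136,nat_lit 1701],[nat_lit 146,nat_lit 1989],[nat_lit 155,nat_lit 2382,nat_lit 2989,nat_lit 2991],[nat_lit 185,nat_lit 3203],[nat_lit 28,nat_lit 16,nat_lit 20],[nat_lit 24,nat_lit 22],[nat_lit 28,nat_lit 30,nat_lit 36,nat_lit 38,nat_lit 41,nat_lit 54,nat_lit 58,nat_lit 74,nat_lit 77,nat_lit 99,nat_lit 108,nat_lit 143,nat_lit 1132],[nat_lit 26,nat_lit 1358],[nat_lit 28,nat_lit 2282,nat_lit 2367,nat_lit 2529,nat_lit 2995,nat_lit 3059,nat_lit 3265,nat_lit 3460],[nat_lit 156,nat_lit 2851,nat_lit 2863,nat_lit 2998,nat_lit 3074],[nat_lit 29,nat_lit 43,nat_lit 1616],[nat_lit 158,nat_lit 3056],[nat_lit 32,nat_lit 15,nat_lit 19],[nat_lit 149,nat_lit 34],[nat_lit 140,nat_lit 47],[nat_lit 32,nat_lit 426,nat_lit 548],[nat_lit 37,nat_lit 712],[nat_lit 32,nat_lit 2723,nat_lit 3680],[nat_lit 160,nat_lit 3487,nat_lit 3913],[nat_lit 33,nat_lit 21,nat_lit 27,nat_lit 68,nat_lit 98],[nat_lit 34,nat_lit 29,nat_lit 37],[nat_lit 162,nat_lit 3435],[nat_lit 35,nat_lit 40,nat_lit 53],[nat_lit 163,nat_lit 1278,nat_lit 1680,nat_lit 1966],[nat_lit 181,nat_lit 2250],[nat_lit 136,nat_lit 2516],[nat_lit 146,nat_lit 2756],[nat_lit 185,nat_lit 2756,nat_lit 2978],[nat_lit 36,nat_lit 16],[nat_lit 32,nat_lit 22],[nat_lit 36,nat_lit 38,nat_lit 41,nat_lit 54,nat_lit 58,nat_lit 69,nat_lit 77],[nat_lit 140,nat_lit 69],[nat_lit 36,nat_lit 101],[nat_lit 140,nat_lit 101],[nat_lit 36,nat_lit 309],[nat_lit 34,nat_lit 414],[nat_lit 36,nat_lit 424],[nat_lit 33,nat_lit 549],[nat_lit 36,nat_lit 552],[nat_lit 130,nat_lit 424],[nat_lit 32,nat_lit 711],[nat_lit 130,nat_lit 552],[nat_lit 36,nat_lit 897],[nat_lit 140,nat_lit 716],[nat_lit 36,nat_lit 2947,nat_lit 3027,nat_lit 3207,nat_lit 3396,nat_lit 3809],[nat_lit 39,nat_lit 15,nat_lit 34,nat_lit 115,nat_lit 117,nat_lit 163,nat_lit 166],[nat_lit 150,nat_lit 117],[nat_lit 44,nat_lit 173],[nat_lit 39,nat_lit 231],[nat_lit 44,nat_lit 235],[nat_lit 39,nat_lit 316,nat_lit 3227],[nat_lit 167,nat_lit 3652],[nat_lit 55,nat_lit 3893],[nat_lit 40,nat_lit 21,nat_lit 48,nat_lit 167,nat_lit 229],[nat_lit 44,nat_lit 236],[nat_lit 40,nat_lit 323],[nat_lit 44,nat_lit 442],[nat_lit 41,nat_lit 29,nat_lit 319],[nat_lit 42,nat_lit 40],[nat_lit 170,nat_lit 1532,nat_lit 1967],[nat_lit 181,nat_lit 2252],[nat_lit 136,nat_lit 2518],[nat_lit 146,nat_lit 2759],[nat_lit 155,nat_lit 2983],[nat_lit 185,nat_lit 3196],[nat_lit 43,nat_lit 16],[nat_lit 39,nat_lit 22],[nat_lit 43,nat_lit 41,nat_lit 58,nat_lit 71,nat_lit 122],[nat_lit 150,nat_lit 122],[nat_lit 43,nat_lit 244,nat_lit 325,nat_lit 330,nat_lit 331,nat_lit 586,nat_lit 3414,nat_lit 3458],[nat_lit 45,nat_lit 15,nat_lit 25],[nat_lit 159,nat_lit 25],[nat_lit 151,nat_lit 34],[nat_lit 142,nat_lit 47],[nat_lit 46,nat_lit 21,nat_lit 35,nat_lit 48,nat_lit 98],[nat_lit 47,nat_lit 29,nat_lit 50],[nat_lit 48,nat_lit 40,nat_lit 73],[nat_lit 176,nat_lit 1811],[nat_lit 181,nat_lit 2096],[nat_lit 136,nat_lit 2379],[nat_lit 49,nat_lit 16],[nat_lit 45,nat_lit 22],[nat_lit 49,nat_lit 30,nat_lit 41,nat_lit 58,nat_lit 71,nat_lit 108],[nat_lit 51,nat_lit 3366,nat_lit 3423],[nat_lit 180,nat_lit 969,nat_lit 1199],[nat_lit 135,nat_lit 1453],[nat_lit 145,nat_lit 1721],[nat_lit 180,nat_lit 1902],[nat_lit 135,nat_lit 2182],[nat_lit 181,nat_lit 1415],[nat_lit 136,nat_lit 1676],[nat_lit 181,nat_lit 2095],[nat_lit 54,nat_lit 3299,nat_lit 3327],[nat_lit 143,nat_lit 3299],[nat_lit 54,nat_lit 3548,nat_lit 3591,nat_lit 3790],[nat_lit 182,nat_lit 2284,nat_lit 2880,nat_lit 3104,nat_lit 3498],[nat_lit 171,nat_lit 3661],[nat_lit 186,nat_lit 2546,nat_lit 3313],[nat_lit 61,nat_lit 1206],[nat_lit 135,nat_lit 1206],[nat_lit 61,nat_lit 1637,nat_lit 2192,nat_lit 2193,nat_lit 2286,nat_lit 2956,nat_lit 3101,nat_lit 3156,nat_lit 3453,nat_lit 3737],[nat_lit 63,nat_lit 1606,nat_lit 1809,nat_lit 2247,nat_lit 2383,nat_lit 2538,nat_lit 2677,nat_lit 2886,nat_lit 2887,nat_lit 2999,nat_lit 3109,nat_lit 3193,nat_lit 3206,nat_lit 3386,nat_lit 3563,nat_lit 3571],[nat_lit 64,nat_lit 2514,nat_lit 2641],[nat_lit 193,nat_lit 3006,nat_lit 3315,nat_lit 3475],[nat_lit 0,nat_lit 44,nat_lit 46,nat_lit 56],[nat_lit 6,nat_lit 61],[nat_lit 10,nat_lit 65],[nat_lit 0,nat_lit 76,nat_lit 79],[nat_lit 10,nat_lit 83],[nat_lit 0,nat_lit 87,nat_lit 91,nat_lit 110,nat_lit 114,nat_lit 123,nat_lit 151,nat_lit 155],[nat_lit 10,nat_lit 159],[nat_lit 0,nat_lit 162,nat_lit 208,nat_lit 215,nat_lit 3065,nat_lit 3190,nat_lit 3382,nat_lit 3405],[nat_lit 5,nat_lit 3484],[nat_lit 0,nat_lit 3579],[nat_lit 5,nat_lit 3801],[nat_lit 0,nat_lit 3892],[nat_lit 128,nat_lit 2596],[nat_lit 17,nat_lit 3071],[nat_lit 18,nat_lit 3285],[nat_lit 128,nat_lit 3289],[nat_lit 1,nat_lit 64,nat_lit 89,nat_lit 111,nat_lit 126,nat_lit 165,nat_lit 218,nat_lit 298],[nat_lit 10,nat_lit 405],[nat_lit 1,nat_lit 3278,nat_lit 3384,nat_lit 3648],[nat_lit 6,nat_lit 3783],[nat_lit 10,nat_lit 3891],[nat_lit 129,nat_lit 22],[nat_lit 25,nat_lit 42],[nat_lit 129,nat_lit 36,nat_lit 38,nat_lit 41,nat_lit 54,nat_lit 58,nat_lit 74,nat_lit 77,nat_lit 98,nat_lit 108,nat_lit 142,nat_lit 2282,nat_lit 2367,nat_lit 2529,nat_lit 2835,nat_lit 2995],[nat_lit 26,nat_lit 3270],[nat_lit 129,nat_lit 3059,nat_lit 3265],[nat_lit 27,nat_lit 3459],[nat_lit 129,nat_lit 3460],[nat_lit 2,nat_lit 94],[nat_lit 10,nat_lit 138],[nat_lit 2,nat_lit 180,nat_lit 230],[nat_lit 10,nat_lit 255],[nat_lit 130,nat_lit 22,nat_lit 38,nat_lit 41,nat_lit 54,nat_lit 58,nat_lit 77,nat_lit 98,nat_lit 101,nat_lit 711,nat_lit 897,nat_lit 3027,nat_lit 3207,nat_lit 3680,nat_lit 3809],[nat_lit 3,nat_lit 137],[nat_lit 6,nat_lit 187],[nat_lit 3,nat_lit 253],[nat_lit 131,nat_lit 22],[nat_lit 40,nat_lit 42],[nat_lit 131,nat_lit 41,nat_lit 58,nat_lit 71,nat_lit 117,nat_lit 122,nat_lit 166,nat_lit 170],[nat_lit 44,nat_lit 243],[nat_lit 131,nat_lit 176,nat_lit 231],[nat_lit 40,nat_lit 326],[nat_lit 44,nat_lit 328,nat_lit 336],[nat_lit 131,nat_lit 244,nat_lit 316,nat_lit 325],[nat_lit 44,nat_lit 447],[nat_lit 131,nat_lit 330,nat_lit 331],[nat_lit 40,nat_lit 569],[nat_lit 41,nat_lit 736],[nat_lit 131,nat_lit 586],[nat_lit 44,nat_lit 931],[nat_lit 131,nat_lit 3414,nat_lit 3458],[nat_lit 132,nat_lit 22,nat_lit 30],[nat_lit 50,nat_lit 45],[nat_lit 166,nat_lit 39],[nat_lit 132,nat_lit 41,nat_lit 58,nat_lit 71],[nat_lit 50,nat_lit 125],[nat_lit 132,nat_lit 98,nat_lit 108],[nat_lit 5,nat_lit 15,nat_lit 19,nat_lit 25],[nat_lit 2,nat_lit 34],[nat_lit 1,nat_lit 47],[nat_lit 5,nat_lit 3787,nat_lit 3829],[nat_lit 133,nat_lit 67,nat_lit 117,nat_lit 127,nat_lit 131],[nat_lit 167,nat_lit 172],[nat_lit 52,nat_lit 233],[nat_lit 55,nat_lit 243],[nat_lit 133,nat_lit 179],[nat_lit 55,nat_lit 261,nat_lit 272],[nat_lit 133,nat_lit 211],[nat_lit 167,nat_lit 233],[nat_lit 152,nat_lit 222],[nat_lit 167,nat_lit 243],[nat_lit 133,nat_lit 228,nat_lit 265,nat_lit 290,nat_lit 301,nat_lit 320,nat_lit 355],[nat_lit 55,nat_lit 504,nat_lit 525,nat_lit 576],[nat_lit 6,nat_lit 21,nat_lit 35,nat_lit 48,nat_lit 68],[nat_lit 134,nat_lit 8,nat_lit 13],[nat_lit 161,nat_lit 18],[nat_lit 153,nat_lit 24],[nat_lit 7,nat_lit 29,nat_lit 50,nat_lit 70],[nat_lit 1,nat_lit 100],[nat_lit 135,nat_lit 8],[nat_lit 175,nat_lit 11],[nat_lit 135,nat_lit 13,nat_lit 3101,nat_lit 3453,nat_lit 3737],[nat_lit 8,nat_lit 40,nat_lit 144],[nat_lit 136,nat_lit 8],[nat_lit 176,nat_lit 11],[nat_lit 136,nat_lit 13,nat_lit 2538,nat_lit 2887,nat_lit 3109,nat_lit 3563],[nat_lit 9,nat_lit 16],[nat_lit 137,nat_lit 22],[nat_lit 186,nat_lit 31],[nat_lit 137,nat_lit 36,nat_lit 41,nat_lit 58,nat_lit 74,nat_lit 101,nat_lit 122,nat_lit 135,nat_lit 224,nat_lit 360,nat_lit 537],[nat_lit 138,nat_lit 8,nat_lit 10,nat_lit 13,nat_lit 3217,nat_lit 3501,nat_lit 3641],[nat_lit 11,nat_lit 64,nat_lit 89,nat_lit 111,nat_lit 116,nat_lit 126],[nat_lit 20,nat_lit 132],[nat_lit 16,nat_lit 157],[nat_lit 20,nat_lit 160],[nat_lit 11,nat_lit 165],[nat_lit 20,nat_lit 171],[nat_lit 11,nat_lit 178,nat_lit 218,nat_lit 227,nat_lit 298,nat_lit 3572,nat_lit 3627,nat_lit 3875],[nat_lit 139,nat_lit 3642],[nat_lit 12,nat_lit 94],[nat_lit 20,nat_lit 138],[nat_lit 12,nat_lit 180,nat_lit 249,nat_lit 315,nat_lit 3964],[nat_lit 140,nat_lit 31,nat_lit 59,nat_lit 78,nat_lit 85,nat_lit 113,nat_lit 1112],[nat_lit 32,nat_lit 1610],[nat_lit 130,nat_lit 1610],[nat_lit 140,nat_lit 3908],[nat_lit 13,nat_lit 137],[nat_lit 16,nat_lit 187],[nat_lit 13,nat_lit 253,nat_lit 346,nat_lit 4029],[nat_lit 141,nat_lit 31,nat_lit 59,nat_lit 85,nat_lit 239,nat_lit 322],[nat_lit 44,nat_lit 454],[nat_lit 141,nat_lit 341],[nat_lit 44,nat_lit 580],[nat_lit 141,nat_lit 444,nat_lit 451,nat_lit 452,nat_lit 757,nat_lit 3624],[nat_lit 142,nat_lit 31,nat_lit 42,nat_lit 52,nat_lit 59],[nat_lit 50,nat_lit 112],[nat_lit 142,nat_lit 85,nat_lit 154],[nat_lit 15,nat_lit 170,nat_lit 221,nat_lit 231],[nat_lit 20,nat_lit 240],[nat_lit 15,nat_lit 250,nat_lit 254,nat_lit 265,nat_lit 301],[nat_lit 20,nat_lit 308,nat_lit 350],[nat_lit 15,nat_lit 355],[nat_lit 20,nat_lit 359,nat_lit 374],[nat_lit 15,nat_lit 404],[nat_lit 20,nat_lit 411],[nat_lit 15,nat_lit 429,nat_lit 465],[nat_lit 20,nat_lit 483],[nat_lit 15,nat_lit 3766],[nat_lit 16,nat_lit 323,nat_lit 349,nat_lit 410],[nat_lit 20,nat_lit 442,nat_lit 473],[nat_lit 16,nat_lit 535],[nat_lit 20,nat_lit 545],[nat_lit 16,nat_lit 566,nat_lit 611,nat_lit 3876],[nat_lit 20,nat_lit 3965],[nat_lit 144,nat_lit 33],[nat_lit 17,nat_lit 694,nat_lit 730,nat_lit 784],[nat_lit 20,nat_lit 874,nat_lit 921,nat_lit 984],[nat_lit 19,nat_lit 192,nat_lit 225,nat_lit 241,nat_lit 337,nat_lit 422,nat_lit 474,nat_lit 488,nat_lit 505,nat_lit 546,nat_lit 586,nat_lit 623,nat_lit 635,nat_lit 708,nat_lit 1085,nat_lit 1144,nat_lit 1216,nat_lit 3474],[nat_lit 147,nat_lit 31,nat_lit 42,nat_lit 52],[nat_lit 177,nat_lit 61],[nat_lit 147,nat_lit 59],[nat_lit 164,nat_lit 76],[nat_lit 147,nat_lit 85,nat_lit 109,nat_lit 696],[nat_lit 20,nat_lit 3640],[nat_lit 148,nat_lit 3663],[nat_lit 21,nat_lit 94],[nat_lit 25,nat_lit 130],[nat_lit 29,nat_lit 138],[nat_lit 21,nat_lit 180,nat_lit 230,nat_lit 249],[nat_lit 29,nat_lit 255],[nat_lit 21,nat_lit 315],[nat_lit 22,nat_lit 137,nat_lit 187,nat_lit 253],[nat_lit 150,nat_lit 44],[nat_lit 44,nat_lit 95],[nat_lit 150,nat_lit 87,nat_lit 123,nat_lit 462,nat_lit 596,nat_lit 953],[nat_lit 151,nat_lit 44,nat_lit 61],[nat_lit 50,nat_lit 95],[nat_lit 151,nat_lit 87,nat_lit 123,nat_lit 215],[nat_lit 139,nat_lit 117],[nat_lit 26,nat_lit 115],[nat_lit 24,nat_lit 156,nat_lit 188,nat_lit 265,nat_lit 282,nat_lit 320,nat_lit 347,nat_lit 355],[nat_lit 29,nat_lit 374],[nat_lit 24,nat_lit 429],[nat_lit 29,nat_lit 436,nat_lit 483],[nat_lit 24,nat_lit 2784,nat_lit 2881,nat_lit 2996],[nat_lit 29,nat_lit 3005],[nat_lit 24,nat_lit 3621],[nat_lit 25,nat_lit 167,nat_lit 220],[nat_lit 29,nat_lit 236,nat_lit 306],[nat_lit 25,nat_lit 388,nat_lit 467],[nat_lit 29,nat_lit 613],[nat_lit 25,nat_lit 3106,nat_lit 3210],[nat_lit 29,nat_lit 3316,nat_lit 3399],[nat_lit 25,nat_lit 3762],[nat_lit 139,nat_lit 539],[nat_lit 29,nat_lit 540],[nat_lit 139,nat_lit 135],[nat_lit 28,nat_lit 331,nat_lit 360,nat_lit 418,nat_lit 505,nat_lit 577,nat_lit 635,nat_lit 700,nat_lit 789,nat_lit 3216,nat_lit 3502,nat_lit 3625],[nat_lit 156,nat_lit 44,nat_lit 76,nat_lit 79,nat_lit 87],[nat_lit 186,nat_lit 111],[nat_lit 29,nat_lit 3764],[nat_lit 30,nat_lit 137],[nat_lit 33,nat_lit 187],[nat_lit 30,nat_lit 253],[nat_lit 37,nat_lit 266],[nat_lit 30,nat_lit 346,nat_lit 980,nat_lit 1693],[nat_lit 159,nat_lit 64,nat_lit 89],[nat_lit 50,nat_lit 138],[nat_lit 159,nat_lit 126,nat_lit 178],[nat_lit 50,nat_lit 255],[nat_lit 32,nat_lit 80],[nat_lit 34,nat_lit 115],[nat_lit 140,nat_lit 80],[nat_lit 37,nat_lit 168],[nat_lit 32,nat_lit 205,nat_lit 265],[nat_lit 37,nat_lit 287],[nat_lit 32,nat_lit 355],[nat_lit 37,nat_lit 374],[nat_lit 32,nat_lit 465,nat_lit 1980,nat_lit 3425],[nat_lit 33,nat_lit 482],[nat_lit 37,nat_lit 634],[nat_lit 36,nat_lit 237,nat_lit 375,nat_lit 505,nat_lit 815,nat_lit 1210],[nat_lit 34,nat_lit 1445],[nat_lit 33,nat_lit 1707],[nat_lit 140,nat_lit 1707],[nat_lit 32,nat_lit 1995],[nat_lit 36,nat_lit 2173],[nat_lit 32,nat_lit 2258],[nat_lit 36,nat_lit 3907],[nat_lit 130,nat_lit 3907],[nat_lit 140,nat_lit 3985],[nat_lit 32,nat_lit 4099],[nat_lit 164,nat_lit 64,nat_lit 126],[nat_lit 39,nat_lit 62],[nat_lit 141,nat_lit 62],[nat_lit 150,nat_lit 90],[nat_lit 39,nat_lit 152],[nat_lit 44,nat_lit 213],[nat_lit 39,nat_lit 250],[nat_lit 150,nat_lit 213],[nat_lit 39,nat_lit 345,nat_lit 590,nat_lit 735,nat_lit 760,nat_lit 770,nat_lit 782],[nat_lit 41,nat_lit 928],[nat_lit 39,nat_lit 966],[nat_lit 141,nat_lit 782,nat_lit 966],[nat_lit 40,nat_lit 464,nat_lit 957,nat_lit 1151,nat_lit 1205],[nat_lit 43,nat_lit 139,nat_lit 242,nat_lit 327],[nat_lit 150,nat_lit 242],[nat_lit 43,nat_lit 340],[nat_lit 41,nat_lit 440],[nat_lit 40,nat_lit 446],[nat_lit 43,nat_lit 449,nat_lit 456],[nat_lit 131,nat_lit 340],[nat_lit 43,nat_lit 592],[nat_lit 131,nat_lit 449],[nat_lit 43,nat_lit 599],[nat_lit 131,nat_lit 456],[nat_lit 141,nat_lit 461],[nat_lit 43,nat_lit 750,nat_lit 761],[nat_lit 131,nat_lit 592],[nat_lit 141,nat_lit 594,nat_lit 601],[nat_lit 39,nat_lit 780],[nat_lit 141,nat_lit 763],[nat_lit 150,nat_lit 773,nat_lit 780],[nat_lit 43,nat_lit 1155],[nat_lit 39,nat_lit 1201],[nat_lit 40,nat_lit 1212],[nat_lit 43,nat_lit 1395],[nat_lit 131,nat_lit 1155],[nat_lit 41,nat_lit 1464],[nat_lit 141,nat_lit 1399],[nat_lit 150,nat_lit 1661],[nat_lit 39,nat_lit 2224],[nat_lit 171,nat_lit 94],[nat_lit 186,nat_lit 137],[nat_lit 171,nat_lit 180],[nat_lit 44,nat_lit 339,nat_lit 448],[nat_lit 43,nat_lit 460],[nat_lit 44,nat_lit 584,nat_lit 591],[nat_lit 43,nat_lit 593],[nat_lit 131,nat_lit 460],[nat_lit 43,nat_lit 755,nat_lit 762],[nat_lit 131,nat_lit 593],[nat_lit 141,nat_lit 606],[nat_lit 131,nat_lit 755,nat_lit 762],[nat_lit 141,nat_lit 764],[nat_lit 150,nat_lit 778],[nat_lit 141,nat_lit 951,nat_lit 959],[nat_lit 150,nat_lit 962],[nat_lit 39,nat_lit 1209],[nat_lit 150,nat_lit 1188],[nat_lit 39,nat_lit 1437,nat_lit 1444],[nat_lit 44,nat_lit 1657],[nat_lit 39,nat_lit 1705],[nat_lit 43,nat_lit 1939],[nat_lit 45,nat_lit 62],[nat_lit 142,nat_lit 62],[nat_lit 45,nat_lit 127],[nat_lit 151,nat_lit 90],[nat_lit 45,nat_lit 152],[nat_lit 166,nat_lit 117],[nat_lit 45,nat_lit 179,nat_lit 181,nat_lit 188],[nat_lit 50,nat_lit 191,nat_lit 213],[nat_lit 151,nat_lit 158],[nat_lit 45,nat_lit 250,nat_lit 254],[nat_lit 50,nat_lit 257],[nat_lit 151,nat_lit 213],[nat_lit 50,nat_lit 308],[nat_lit 45,nat_lit 347,nat_lit 404],[nat_lit 46,nat_lit 349],[nat_lit 50,nat_lit 473],[nat_lit 49,nat_lit 66,nat_lit 139,nat_lit 161,nat_lit 197,nat_lit 273,nat_lit 360,nat_lit 364,nat_lit 422,nat_lit 623],[nat_lit 51,nat_lit 21,nat_lit 35,nat_lit 48,nat_lit 98],[nat_lit 179,nat_lit 326,nat_lit 351,nat_lit 413,nat_lit 432],[nat_lit 153,nat_lit 445],[nat_lit 59,nat_lit 590,nat_lit 626],[nat_lit 179,nat_lit 542],[nat_lit 153,nat_lit 573],[nat_lit 59,nat_lit 752],[nat_lit 179,nat_lit 632],[nat_lit 59,nat_lit 886],[nat_lit 161,nat_lit 735],[nat_lit 59,nat_lit 1018,nat_lit 1140],[nat_lit 52,nat_lit 29,nat_lit 70],[nat_lit 152,nat_lit 70],[nat_lit 143,nat_lit 100],[nat_lit 180,nat_lit 11,nat_lit 14,nat_lit 18],[nat_lit 162,nat_lit 25],[nat_lit 154,nat_lit 34],[nat_lit 180,nat_lit 3619],[nat_lit 53,nat_lit 40],[nat_lit 181,nat_lit 11,nat_lit 14,nat_lit 18],[nat_lit 163,nat_lit 25],[nat_lit 155,nat_lit 34],[nat_lit 181,nat_lit 2779],[nat_lit 64,nat_lit 3214],[nat_lit 181,nat_lit 3318],[nat_lit 54,nat_lit 30,nat_lit 51,nat_lit 58,nat_lit 71,nat_lit 105,nat_lit 145,nat_lit 242,nat_lit 309,nat_lit 340,nat_lit 369,nat_lit 380,nat_lit 424,nat_lit 659,nat_lit 682,nat_lit 745],[nat_lit 182,nat_lit 42],[nat_lit 177,nat_lit 62],[nat_lit 182,nat_lit 61],[nat_lit 147,nat_lit 80],[nat_lit 189,nat_lit 90],[nat_lit 156,nat_lit 90],[nat_lit 171,nat_lit 117],[nat_lit 177,nat_lit 127],[nat_lit 182,nat_lit 123,nat_lit 126,nat_lit 146],[nat_lit 164,nat_lit 158],[nat_lit 182,nat_lit 155],[nat_lit 177,nat_lit 181],[nat_lit 182,nat_lit 177,nat_lit 187],[nat_lit 156,nat_lit 248],[nat_lit 182,nat_lit 253,nat_lit 312,nat_lit 489,nat_lit 876],[nat_lit 55,nat_lit 43,nat_lit 86,nat_lit 150,nat_lit 204,nat_lit 339],[nat_lit 183,nat_lit 11,nat_lit 18],[nat_lit 165,nat_lit 25],[nat_lit 157,nat_lit 34],[nat_lit 56,nat_lit 29,nat_lit 37,nat_lit 50,nat_lit 70],[nat_lit 153,nat_lit 70],[nat_lit 144,nat_lit 100],[nat_lit 184,nat_lit 1139],[nat_lit 62,nat_lit 1642],[nat_lit 57,nat_lit 40],[nat_lit 185,nat_lit 15,nat_lit 19],[nat_lit 58,nat_lit 16],[nat_lit 179,nat_lit 36],[nat_lit 58,nat_lit 41,nat_lit 54,nat_lit 58,nat_lit 74,nat_lit 105,nat_lit 711,nat_lit 761,nat_lit 806,nat_lit 948,nat_lit 1100,nat_lit 1256,nat_lit 1384],[nat_lit 186,nat_lit 127,nat_lit 179,nat_lit 231,nat_lit 345,nat_lit 355],[nat_lit 171,nat_lit 464],[nat_lit 186,nat_lit 1088],[nat_lit 59,nat_lit 86,nat_lit 150],[nat_lit 187,nat_lit 15,nat_lit 34],[nat_lit 60,nat_lit 40,nat_lit 53],[nat_lit 61,nat_lit 16,nat_lit 58,nat_lit 69,nat_lit 77,nat_lit 1919],[nat_lit 62,nat_lit 86,nat_lit 103],[nat_lit 190,nat_lit 21,nat_lit 48],[nat_lit 157,nat_lit 70],[nat_lit 148,nat_lit 100],[nat_lit 63,nat_lit 16,nat_lit 26],[nat_lit 181,nat_lit 26],[nat_lit 185,nat_lit 36],[nat_lit 63,nat_lit 69,nat_lit 3402],[nat_lit 64,nat_lit 103],[nat_lit 65,nat_lit 32,nat_lit 43,nat_lit 60,nat_lit 103,nat_lit 150],[nat_lit 193,nat_lit 63,nat_lit 65,nat_lit 88],[nat_lit 183,nat_lit 93],[nat_lit 193,nat_lit 118],[nat_lit 148,nat_lit 129],[nat_lit 193,nat_lit 171],[nat_lit 157,nat_lit 186],[nat_lit 165,nat_lit 258],[nat_lit 193,nat_lit 266,nat_lit 442,nat_lit 634],[nat_lit 0,nat_lit 419,nat_lit 438,nat_lit 458,nat_lit 469],[nat_lit 3,nat_lit 541],[nat_lit 10,nat_lit 556],[nat_lit 6,nat_lit 579],[nat_lit 0,nat_lit 602],[nat_lit 6,nat_lit 615],[nat_lit 8,nat_lit 691],[nat_lit 10,nat_lit 702],[nat_lit 0,nat_lit 724],[nat_lit 10,nat_lit 749,nat_lit 792],[nat_lit 0,nat_lit 804,nat_lit 822,nat_lit 843],[nat_lit 6,nat_lit 870],[nat_lit 0,nat_lit 892,nat_lit 953,nat_lit 1005,nat_lit 1022],[nat_lit 7,nat_lit 1080],[nat_lit 0,nat_lit 1105],[nat_lit 10,nat_lit 1313],[nat_lit 0,nat_lit 1569,nat_lit 1650,nat_lit 1733],[nat_lit 128,nat_lit 67],[nat_lit 16,nat_lit 141],[nat_lit 128,nat_lit 142],[nat_lit 1,nat_lit 775,nat_lit 911,nat_lit 1029,nat_lit 1107,nat_lit 1180,nat_lit 1239,nat_lit 1261,nat_lit 1345,nat_lit 1843,nat_lit 1930],[nat_lit 129,nat_lit 188,nat_lit 265,nat_lit 347,nat_lit 360],[nat_lit 29,nat_lit 504],[nat_lit 129,nat_lit 429],[nat_lit 25,nat_lit 612],[nat_lit 129,nat_lit 505],[nat_lit 25,nat_lit 728],[nat_lit 129,nat_lit 577,nat_lit 635,nat_lit 700],[nat_lit 26,nat_lit 918],[nat_lit 129,nat_lit 789],[nat_lit 29,nat_lit 1141],[nat_lit 129,nat_lit 3216,nat_lit 3502],[nat_lit 2,nat_lit 1348,nat_lit 1521,nat_lit 2209],[nat_lit 130,nat_lit 117,nat_lit 237,nat_lit 265],[nat_lit 37,nat_lit 504],[nat_lit 130,nat_lit 375,nat_lit 465,nat_lit 505],[nat_lit 33,nat_lit 783],[nat_lit 130,nat_lit 815,nat_lit 1980,nat_lit 1995,nat_lit 2258,nat_lit 4099],[nat_lit 33,nat_lit 4173],[nat_lit 3,nat_lit 1603,nat_lit 1800,nat_lit 2464],[nat_lit 131,nat_lit 131,nat_lit 139],[nat_lit 158,nat_lit 222],[nat_lit 131,nat_lit 250,nat_lit 599,nat_lit 750,nat_lit 761,nat_lit 770],[nat_lit 141,nat_lit 771],[nat_lit 131,nat_lit 780],[nat_lit 141,nat_lit 946],[nat_lit 150,nat_lit 969],[nat_lit 131,nat_lit 973],[nat_lit 150,nat_lit 1171],[nat_lit 131,nat_lit 1183,nat_lit 1201],[nat_lit 40,nat_lit 1698],[nat_lit 131,nat_lit 1437,nat_lit 1444,nat_lit 1705,nat_lit 1939,nat_lit 2224],[nat_lit 132,nat_lit 90,nat_lit 127,nat_lit 131],[nat_lit 50,nat_lit 193],[nat_lit 132,nat_lit 139,nat_lit 158,nat_lit 161,nat_lit 179,nat_lit 181],[nat_lit 46,nat_lit 259],[nat_lit 50,nat_lit 261],[nat_lit 132,nat_lit 188,nat_lit 197,nat_lit 250],[nat_lit 46,nat_lit 351],[nat_lit 132,nat_lit 254],[nat_lit 50,nat_lit 363,nat_lit 367],[nat_lit 132,nat_lit 273,nat_lit 347],[nat_lit 46,nat_lit 470],[nat_lit 50,nat_lit 486],[nat_lit 132,nat_lit 360,nat_lit 364,nat_lit 404,nat_lit 422],[nat_lit 47,nat_lit 618],[nat_lit 46,nat_lit 692],[nat_lit 50,nat_lit 798],[nat_lit 132,nat_lit 623],[nat_lit 47,nat_lit 872],[nat_lit 50,nat_lit 1083],[nat_lit 5,nat_lit 62],[nat_lit 4,nat_lit 80],[nat_lit 10,nat_lit 92],[nat_lit 7,nat_lit 115],[nat_lit 10,nat_lit 118],[nat_lit 5,nat_lit 124,nat_lit 152],[nat_lit 10,nat_lit 168,nat_lit 213],[nat_lit 5,nat_lit 282],[nat_lit 1,nat_lit 287],[nat_lit 5,nat_lit 293,nat_lit 608,nat_lit 653,nat_lit 667],[nat_lit 1,nat_lit 774],[nat_lit 5,nat_lit 1053,nat_lit 1075,nat_lit 1165],[nat_lit 133,nat_lit 22],[nat_lit 173,nat_lit 31],[nat_lit 167,nat_lit 39],[nat_lit 55,nat_lit 57],[nat_lit 160,nat_lit 52],[nat_lit 152,nat_lit 72],[nat_lit 133,nat_lit 604,nat_lit 1008,nat_lit 1130,nat_lit 1428,nat_lit 1495,nat_lit 2015,nat_lit 2126,nat_lit 2704],[nat_lit 6,nat_lit 167],[nat_lit 10,nat_lit 236],[nat_lit 6,nat_lit 388],[nat_lit 134,nat_lit 41,nat_lit 54,nat_lit 58],[nat_lit 59,nat_lit 88],[nat_lit 134,nat_lit 74,nat_lit 142,nat_lit 150,nat_lit 711,nat_lit 761,nat_lit 806,nat_lit 948],[nat_lit 153,nat_lit 1010],[nat_lit 134,nat_lit 1100],[nat_lit 161,nat_lit 1231],[nat_lit 134,nat_lit 1256,nat_lit 1384],[nat_lit 135,nat_lit 58,nat_lit 77,nat_lit 103,nat_lit 1919],[nat_lit 136,nat_lit 51,nat_lit 103,nat_lit 3402],[nat_lit 9,nat_lit 66],[nat_lit 4,nat_lit 84],[nat_lit 9,nat_lit 93],[nat_lit 6,nat_lit 119],[nat_lit 9,nat_lit 129,nat_lit 242,nat_lit 271,nat_lit 294,nat_lit 309,nat_lit 327],[nat_lit 1,nat_lit 335],[nat_lit 7,nat_lit 362],[nat_lit 9,nat_lit 366],[nat_lit 2,nat_lit 400],[nat_lit 9,nat_lit 414],[nat_lit 1,nat_lit 420],[nat_lit 7,nat_lit 440],[nat_lit 6,nat_lit 446],[nat_lit 8,nat_lit 471],[nat_lit 9,nat_lit 477],[nat_lit 3,nat_lit 543,nat_lit 549],[nat_lit 8,nat_lit 570],[nat_lit 1,nat_lit 619],[nat_lit 7,nat_lit 797],[nat_lit 9,nat_lit 1848],[nat_lit 137,nat_lit 136,nat_lit 237,nat_lit 331,nat_lit 721,nat_lit 884],[nat_lit 147,nat_lit 908],[nat_lit 137,nat_lit 945,nat_lit 994],[nat_lit 147,nat_lit 1097,nat_lit 1170,nat_lit 1227],[nat_lit 156,nat_lit 1479],[nat_lit 137,nat_lit 1562],[nat_lit 147,nat_lit 1835],[nat_lit 156,nat_lit 2118],[nat_lit 10,nat_lit 339,nat_lit 496,nat_lit 551,nat_lit 557,nat_lit 591,nat_lit 621,nat_lit 628,nat_lit 706,nat_lit 739,nat_lit 799,nat_lit 999,nat_lit 2131],[nat_lit 138,nat_lit 96,nat_lit 136,nat_lit 174],[nat_lit 190,nat_lit 245],[nat_lit 138,nat_lit 241,nat_lit 360,nat_lit 375,nat_lit 586,nat_lit 815],[nat_lit 128,nat_lit 1119],[nat_lit 11,nat_lit 1054,nat_lit 1166,nat_lit 1261,nat_lit 1334,nat_lit 1475],[nat_lit 12,nat_lit 1123,nat_lit 1521,nat_lit 1585],[nat_lit 140,nat_lit 332],[nat_lit 130,nat_lit 453],[nat_lit 140,nat_lit 660,nat_lit 1021,nat_lit 2267,nat_lit 2281,nat_lit 2526],[nat_lit 33,nat_lit 2775,nat_lit 2992],[nat_lit 13,nat_lit 1800],[nat_lit 16,nat_lit 2090],[nat_lit 141,nat_lit 348,nat_lit 958],[nat_lit 39,nat_lit 1434],[nat_lit 131,nat_lit 1434],[nat_lit 141,nat_lit 1456,nat_lit 1712,nat_lit 1992,nat_lit 2484],[nat_lit 40,nat_lit 2946],[nat_lit 142,nat_lit 190],[nat_lit 50,nat_lit 379],[nat_lit 142,nat_lit 348,nat_lit 381],[nat_lit 46,nat_lit 615],[nat_lit 50,nat_lit 616],[nat_lit 142,nat_lit 493,nat_lit 559,nat_lit 803],[nat_lit 15,nat_lit 282,nat_lit 1124,nat_lit 1293,nat_lit 1861,nat_lit 2092,nat_lit 2376],[nat_lit 143,nat_lit 31,nat_lit 39],[nat_lit 55,nat_lit 65],[nat_lit 143,nat_lit 52],[nat_lit 55,nat_lit 112],[nat_lit 143,nat_lit 1695,nat_lit 1767,nat_lit 2402],[nat_lit 16,nat_lit 388,nat_lit 2144],[nat_lit 144,nat_lit 59,nat_lit 85,nat_lit 109,nat_lit 895,nat_lit 958,nat_lit 1010,nat_lit 1173,nat_lit 1231,nat_lit 1338,nat_lit 1644],[nat_lit 145,nat_lit 85,nat_lit 113,nat_lit 2196],[nat_lit 146,nat_lit 75],[nat_lit 19,nat_lit 1291,nat_lit 1408],[nat_lit 17,nat_lit 1516],[nat_lit 12,nat_lit 1544],[nat_lit 19,nat_lit 1545],[nat_lit 18,nat_lit 1648],[nat_lit 19,nat_lit 1739],[nat_lit 15,nat_lit 1795,nat_lit 1820],[nat_lit 16,nat_lit 1925],[nat_lit 17,nat_lit 2018,nat_lit 2201],[nat_lit 13,nat_lit 2291],[nat_lit 15,nat_lit 2456,nat_lit 2550],[nat_lit 147,nat_lit 196,nat_lit 332],[nat_lit 148,nat_lit 196,nat_lit 245],[nat_lit 138,nat_lit 278],[nat_lit 148,nat_lit 332],[nat_lit 138,nat_lit 453],[nat_lit 148,nat_lit 757,nat_lit 1021],[nat_lit 21,nat_lit 965,nat_lit 1292],[nat_lit 139,nat_lit 1311],[nat_lit 21,nat_lit 1797],[nat_lit 22,nat_lit 2090],[nat_lit 151,nat_lit 724,nat_lit 1005],[nat_lit 24,nat_lit 642,nat_lit 786],[nat_lit 129,nat_lit 642],[nat_lit 24,nat_lit 917],[nat_lit 29,nat_lit 1140],[nat_lit 24,nat_lit 1196,nat_lit 1546],[nat_lit 26,nat_lit 1801],[nat_lit 22,nat_lit 2092],[nat_lit 24,nat_lit 2376],[nat_lit 152,nat_lit 44,nat_lit 76],[nat_lit 25,nat_lit 1449],[nat_lit 153,nat_lit 87,nat_lit 123,nat_lit 155,nat_lit 1590],[nat_lit 134,nat_lit 1867],[nat_lit 153,nat_lit 1921],[nat_lit 26,nat_lit 1718],[nat_lit 154,nat_lit 123,nat_lit 162],[nat_lit 27,nat_lit 2005],[nat_lit 28,nat_lit 659],[nat_lit 129,nat_lit 659],[nat_lit 28,nat_lit 1384,nat_lit 1385],[nat_lit 157,nat_lit 342,nat_lit 1259],[nat_lit 159,nat_lit 1239],[nat_lit 149,nat_lit 617],[nat_lit 37,nat_lit 626],[nat_lit 32,nat_lit 982],[nat_lit 34,nat_lit 1214],[nat_lit 160,nat_lit 64],[nat_lit 55,nat_lit 138],[nat_lit 33,nat_lit 1465],[nat_lit 37,nat_lit 1730],[nat_lit 161,nat_lit 126,nat_lit 178],[nat_lit 162,nat_lit 178,nat_lit 227],[nat_lit 36,nat_lit 242,nat_lit 659,nat_lit 806],[nat_lit 130,nat_lit 659],[nat_lit 140,nat_lit 842],[nat_lit 36,nat_lit 2011,nat_lit 2999,nat_lit 3206],[nat_lit 165,nat_lit 1518],[nat_lit 38,nat_lit 2055],[nat_lit 39,nat_lit 280,nat_lit 1200,nat_lit 1453],[nat_lit 131,nat_lit 1200],[nat_lit 39,nat_lit 1676],[nat_lit 131,nat_lit 1453,nat_lit 1676],[nat_lit 141,nat_lit 1721],[nat_lit 39,nat_lit 2478,nat_lit 3163],[nat_lit 41,nat_lit 3360],[nat_lit 167,nat_lit 94],[nat_lit 40,nat_lit 1722],[nat_lit 131,nat_lit 1722],[nat_lit 40,nat_lit 3542],[nat_lit 168,nat_lit 180,nat_lit 249],[nat_lit 169,nat_lit 249],[nat_lit 43,nat_lit 271,nat_lit 400],[nat_lit 41,nat_lit 524],[nat_lit 40,nat_lit 679],[nat_lit 39,nat_lit 858],[nat_lit 43,nat_lit 1459],[nat_lit 131,nat_lit 1459],[nat_lit 43,nat_lit 1990,nat_lit 1993,nat_lit 2247],[nat_lit 150,nat_lit 1990],[nat_lit 43,nat_lit 2325,nat_lit 2540],[nat_lit 150,nat_lit 2325],[nat_lit 39,nat_lit 2801],[nat_lit 43,nat_lit 3700],[nat_lit 44,nat_lit 2279,nat_lit 2514],[nat_lit 172,nat_lit 1797],[nat_lit 45,nat_lit 280,nat_lit 314,nat_lit 365,nat_lit 475],[nat_lit 50,nat_lit 495],[nat_lit 151,nat_lit 475],[nat_lit 50,nat_lit 626],[nat_lit 45,nat_lit 642,nat_lit 669],[nat_lit 159,nat_lit 617],[nat_lit 45,nat_lit 791,nat_lit 794],[nat_lit 132,nat_lit 642],[nat_lit 45,nat_lit 829,nat_lit 871],[nat_lit 47,nat_lit 986],[nat_lit 50,nat_lit 993],[nat_lit 142,nat_lit 823],[nat_lit 47,nat_lit 1081],[nat_lit 45,nat_lit 1130,nat_lit 1766],[nat_lit 46,nat_lit 428],[nat_lit 151,nat_lit 428],[nat_lit 46,nat_lit 852,nat_lit 1218,nat_lit 1270,nat_lit 1314],[nat_lit 50,nat_lit 1470],[nat_lit 47,nat_lit 1063],[nat_lit 49,nat_lit 260,nat_lit 271,nat_lit 275,nat_lit 309],[nat_lit 47,nat_lit 362],[nat_lit 49,nat_lit 366,nat_lit 369],[nat_lit 132,nat_lit 275],[nat_lit 159,nat_lit 309],[nat_lit 48,nat_lit 471],[nat_lit 49,nat_lit 492,nat_lit 497],[nat_lit 132,nat_lit 369],[nat_lit 49,nat_lit 510],[nat_lit 142,nat_lit 383],[nat_lit 47,nat_lit 524],[nat_lit 49,nat_lit 639],[nat_lit 132,nat_lit 492],[nat_lit 49,nat_lit 648],[nat_lit 132,nat_lit 497],[nat_lit 142,nat_lit 499],[nat_lit 46,nat_lit 679],[nat_lit 49,nat_lit 793,nat_lit 795,nat_lit 806],[nat_lit 132,nat_lit 639],[nat_lit 142,nat_lit 645,nat_lit 650],[nat_lit 45,nat_lit 858],[nat_lit 49,nat_lit 1000],[nat_lit 142,nat_lit 820],[nat_lit 45,nat_lit 1034],[nat_lit 159,nat_lit 1000],[nat_lit 49,nat_lit 1226],[nat_lit 45,nat_lit 1265],[nat_lit 49,nat_lit 1318],[nat_lit 132,nat_lit 1220],[nat_lit 49,nat_lit 1563],[nat_lit 132,nat_lit 1318],[nat_lit 49,nat_lit 1736],[nat_lit 142,nat_lit 1472,nat_lit 1567],[nat_lit 151,nat_lit 1738,nat_lit 1840],[nat_lit 159,nat_lit 2018],[nat_lit 45,nat_lit 2399,nat_lit 2556],[nat_lit 50,nat_lit 368,nat_lit 491,nat_lit 496],[nat_lit 49,nat_lit 498,nat_lit 644,nat_lit 649],[nat_lit 132,nat_lit 498,nat_lit 644,nat_lit 649],[nat_lit 142,nat_lit 651],[nat_lit 50,nat_lit 997],[nat_lit 142,nat_lit 826,nat_lit 832],[nat_lit 49,nat_lit 1230],[nat_lit 151,nat_lit 1039],[nat_lit 159,nat_lit 1279],[nat_lit 45,nat_lit 1534,nat_lit 1813],[nat_lit 50,nat_lit 1836],[nat_lit 49,nat_lit 2119],[nat_lit 51,nat_lit 167,nat_lit 184,nat_lit 220],[nat_lit 53,nat_lit 229],[nat_lit 55,nat_lit 236],[nat_lit 51,nat_lit 252],[nat_lit 55,nat_lit 262,nat_lit 306,nat_lit 354],[nat_lit 51,nat_lit 358,nat_lit 388,nat_lit 410,nat_lit 482],[nat_lit 55,nat_lit 487,nat_lit 545],[nat_lit 51,nat_lit 611],[nat_lit 55,nat_lit 634],[nat_lit 51,nat_lit 1777,nat_lit 2036],[nat_lit 152,nat_lit 1777],[nat_lit 51,nat_lit 2084],[nat_lit 143,nat_lit 2069,nat_lit 2084],[nat_lit 152,nat_lit 2372],[nat_lit 51,nat_lit 2692],[nat_lit 179,nat_lit 42],[nat_lit 174,nat_lit 62],[nat_lit 144,nat_lit 62],[nat_lit 59,nat_lit 92],[nat_lit 144,nat_lit 80],[nat_lit 153,nat_lit 90],[nat_lit 168,nat_lit 117],[nat_lit 153,nat_lit 117],[nat_lit 59,nat_lit 191],[nat_lit 179,nat_lit 146],[nat_lit 161,nat_lit 158],[nat_lit 59,nat_lit 223,nat_lit 240],[nat_lit 179,nat_lit 187],[nat_lit 59,nat_lit 296,nat_lit 374],[nat_lit 179,nat_lit 1499,nat_lit 2058,nat_lit 2343,nat_lit 2553,nat_lit 2895],[nat_lit 52,nat_lit 319],[nat_lit 167,nat_lit 319],[nat_lit 143,nat_lit 408],[nat_lit 55,nat_lit 699],[nat_lit 52,nat_lit 784],[nat_lit 55,nat_lit 984],[nat_lit 180,nat_lit 85,nat_lit 113],[nat_lit 145,nat_lit 124],[nat_lit 180,nat_lit 315,nat_lit 346,nat_lit 2450],[nat_lit 181,nat_lit 110],[nat_lit 54,nat_lit 84,nat_lit 96],[nat_lit 143,nat_lit 84],[nat_lit 54,nat_lit 161,nat_lit 331,nat_lit 370,nat_lit 418,nat_lit 640,nat_lit 708,nat_lit 815,nat_lit 881,nat_lit 1216,nat_lit 1637],[nat_lit 52,nat_lit 1885],[nat_lit 160,nat_lit 1637],[nat_lit 54,nat_lit 2270,nat_lit 3144],[nat_lit 182,nat_lit 452],[nat_lit 147,nat_lit 598],[nat_lit 156,nat_lit 770],[nat_lit 182,nat_lit 1126,nat_lit 1336,nat_lit 1414],[nat_lit 156,nat_lit 1588],[nat_lit 182,nat_lit 1745,nat_lit 2395],[nat_lit 55,nat_lit 2169],[nat_lit 183,nat_lit 140,nat_lit 338,nat_lit 489,nat_lit 506],[nat_lit 138,nat_lit 642],[nat_lit 183,nat_lit 953,nat_lit 2090],[nat_lit 56,nat_lit 319,nat_lit 353],[nat_lit 168,nat_lit 319],[nat_lit 144,nat_lit 408],[nat_lit 59,nat_lit 540,nat_lit 699],[nat_lit 56,nat_lit 730,nat_lit 784],[nat_lit 59,nat_lit 921,nat_lit 984],[nat_lit 184,nat_lit 115,nat_lit 127],[nat_lit 58,nat_lit 129,nat_lit 136],[nat_lit 179,nat_lit 119],[nat_lit 144,nat_lit 129],[nat_lit 58,nat_lit 273,nat_lit 294,nat_lit 311,nat_lit 337,nat_lit 402,nat_lit 505,nat_lit 700,nat_lit 881,nat_lit 1144,nat_lit 1216,nat_lit 2063,nat_lit 2608,nat_lit 2856,nat_lit 3016],[nat_lit 179,nat_lit 3345],[nat_lit 186,nat_lit 1367,nat_lit 2027],[nat_lit 187,nat_lit 199],[nat_lit 188,nat_lit 229],[nat_lit 170,nat_lit 319],[nat_lit 146,nat_lit 408],[nat_lit 155,nat_lit 539],[nat_lit 64,nat_lit 874],[nat_lit 190,nat_lit 281],[nat_lit 183,nat_lit 387],[nat_lit 138,nat_lit 519],[nat_lit 63,nat_lit 1085],[nat_lit 137,nat_lit 649,nat_lit 715,nat_lit 722,nat_lit 762,nat_lit 801,nat_lit 808],[nat_lit 147,nat_lit 832],[nat_lit 137,nat_lit 889],[nat_lit 147,nat_lit 900,nat_lit 909],[nat_lit 137,nat_lit 934],[nat_lit 147,nat_lit 959],[nat_lit 137,nat_lit 1001],[nat_lit 147,nat_lit 1003,nat_lit 1012],[nat_lit 156,nat_lit 1039],[nat_lit 147,nat_lit 1103],[nat_lit 156,nat_lit 1116,nat_lit 1127],[nat_lit 147,nat_lit 1158],[nat_lit 182,nat_lit 1188],[nat_lit 137,nat_lit 1232],[nat_lit 147,nat_lit 1233],[nat_lit 182,nat_lit 1236,nat_lit 1248,nat_lit 1279],[nat_lit 156,nat_lit 1342],[nat_lit 186,nat_lit 1357],[nat_lit 182,nat_lit 1357,nat_lit 1368],[nat_lit 156,nat_lit 1402],[nat_lit 182,nat_lit 1485,nat_lit 1486],[nat_lit 147,nat_lit 1611],[nat_lit 164,nat_lit 1596,nat_lit 1664],[nat_lit 186,nat_lit 1753],[nat_lit 182,nat_lit 1870],[nat_lit 171,nat_lit 1875,nat_lit 1947],[nat_lit 182,nat_lit 2229],[nat_lit 0,nat_lit 2106,nat_lit 2375,nat_lit 2884,nat_lit 2920,nat_lit 3012],[nat_lit 6,nat_lit 3222],[nat_lit 128,nat_lit 96,nat_lit 117,nat_lit 122,nat_lit 135],[nat_lit 13,nat_lit 222,nat_lit 226],[nat_lit 17,nat_lit 233],[nat_lit 128,nat_lit 179],[nat_lit 12,nat_lit 295],[nat_lit 13,nat_lit 303],[nat_lit 16,nat_lit 312,nat_lit 326,nat_lit 351],[nat_lit 20,nat_lit 401],[nat_lit 18,nat_lit 406],[nat_lit 16,nat_lit 413],[nat_lit 128,nat_lit 397],[nat_lit 16,nat_lit 538],[nat_lit 17,nat_lit 698],[nat_lit 128,nat_lit 780,nat_lit 836,nat_lit 849],[nat_lit 13,nat_lit 1134],[nat_lit 128,nat_lit 972],[nat_lit 18,nat_lit 1254],[nat_lit 17,nat_lit 1273,nat_lit 1360,nat_lit 1426],[nat_lit 15,nat_lit 1454],[nat_lit 19,nat_lit 1458],[nat_lit 18,nat_lit 1492],[nat_lit 13,nat_lit 1627],[nat_lit 128,nat_lit 1409],[nat_lit 15,nat_lit 1677],[nat_lit 16,nat_lit 1764,nat_lit 1906,nat_lit 1964],[nat_lit 17,nat_lit 2249],[nat_lit 1,nat_lit 3108,nat_lit 3129],[nat_lit 129,nat_lit 1384,nat_lit 2376],[nat_lit 25,nat_lit 2885],[nat_lit 2,nat_lit 3332],[nat_lit 1,nat_lit 3515],[nat_lit 6,nat_lit 3675],[nat_lit 7,nat_lit 3803],[nat_lit 130,nat_lit 806,nat_lit 2011],[nat_lit 131,nat_lit 858,nat_lit 2801,nat_lit 3700],[nat_lit 132,nat_lit 510,nat_lit 648],[nat_lit 142,nat_lit 665],[nat_lit 132,nat_lit 669,nat_lit 793,nat_lit 806,nat_lit 829,nat_lit 858],[nat_lit 142,nat_lit 995],[nat_lit 132,nat_lit 1034],[nat_lit 46,nat_lit 1275],[nat_lit 132,nat_lit 1226],[nat_lit 151,nat_lit 1228],[nat_lit 132,nat_lit 1230,nat_lit 1265],[nat_lit 46,nat_lit 1530,nat_lit 1804],[nat_lit 132,nat_lit 1534,nat_lit 1736,nat_lit 1766,nat_lit 1813,nat_lit 2119,nat_lit 2399,nat_lit 2556],[nat_lit 5,nat_lit 199,nat_lit 248,nat_lit 314],[nat_lit 1,nat_lit 345],[nat_lit 5,nat_lit 365],[nat_lit 4,nat_lit 445],[nat_lit 5,nat_lit 475],[nat_lit 1,nat_lit 581],[nat_lit 10,nat_lit 590],[nat_lit 5,nat_lit 598],[nat_lit 1,nat_lit 617],[nat_lit 10,nat_lit 626],[nat_lit 5,nat_lit 655],[nat_lit 10,nat_lit 752],[nat_lit 2,nat_lit 786],[nat_lit 7,nat_lit 794],[nat_lit 5,nat_lit 812,nat_lit 878],[nat_lit 4,nat_lit 917],[nat_lit 7,nat_lit 986],[nat_lit 10,nat_lit 996,nat_lit 1018],[nat_lit 5,nat_lit 1028],[nat_lit 10,nat_lit 1091],[nat_lit 5,nat_lit 1106],[nat_lit 10,nat_lit 1140],[nat_lit 5,nat_lit 1260,nat_lit 1333,nat_lit 1734,nat_lit 2187],[nat_lit 9,nat_lit 2244,nat_lit 2420],[nat_lit 5,nat_lit 2579,nat_lit 2777,nat_lit 2824],[nat_lit 9,nat_lit 3113],[nat_lit 133,nat_lit 136,nat_lit 174],[nat_lit 52,nat_lit 332],[nat_lit 133,nat_lit 399,nat_lit 711],[nat_lit 6,nat_lit 281,nat_lit 428,nat_lit 464,nat_lit 1218,nat_lit 1267,nat_lit 1347],[nat_lit 10,nat_lit 1470],[nat_lit 6,nat_lit 1520,nat_lit 2509,nat_lit 3000],[nat_lit 10,nat_lit 3213],[nat_lit 6,nat_lit 3321],[nat_lit 134,nat_lit 117,nat_lit 136,nat_lit 158,nat_lit 170,nat_lit 174,nat_lit 186,nat_lit 211],[nat_lit 153,nat_lit 222],[nat_lit 59,nat_lit 310],[nat_lit 134,nat_lit 265,nat_lit 273],[nat_lit 59,nat_lit 421],[nat_lit 134,nat_lit 311,nat_lit 337,nat_lit 353,nat_lit 402],[nat_lit 153,nat_lit 476],[nat_lit 134,nat_lit 505,nat_lit 539],[nat_lit 174,nat_lit 618],[nat_lit 59,nat_lit 798],[nat_lit 134,nat_lit 700,nat_lit 881,nat_lit 1144,nat_lit 1216,nat_lit 2063,nat_lit 2608,nat_lit 2856],[nat_lit 59,nat_lit 3087],[nat_lit 134,nat_lit 3016,nat_lit 3118,nat_lit 3530],[nat_lit 7,nat_lit 387,nat_lit 2752],[nat_lit 135,nat_lit 184],[nat_lit 184,nat_lit 322],[nat_lit 135,nat_lit 2687],[nat_lit 136,nat_lit 158],[nat_lit 188,nat_lit 351],[nat_lit 155,nat_lit 476],[nat_lit 136,nat_lit 1085],[nat_lit 9,nat_lit 515],[nat_lit 4,nat_lit 607],[nat_lit 7,nat_lit 652],[nat_lit 4,nat_lit 765],[nat_lit 1,nat_lit 779],[nat_lit 8,nat_lit 810],[nat_lit 6,nat_lit 833],[nat_lit 3,nat_lit 901],[nat_lit 4,nat_lit 960],[nat_lit 6,nat_lit 1013],[nat_lit 2,nat_lit 1074],[nat_lit 3,nat_lit 1114],[nat_lit 1,nat_lit 1117,nat_lit 1308],[nat_lit 2,nat_lit 1358],[nat_lit 9,nat_lit 1452],[nat_lit 6,nat_lit 1613],[nat_lit 9,nat_lit 1993,nat_lit 2049,nat_lit 2075,nat_lit 2192],[nat_lit 6,nat_lit 2335,nat_lit 2364],[nat_lit 1,nat_lit 2628],[nat_lit 137,nat_lit 761,nat_lit 806,nat_lit 948],[nat_lit 182,nat_lit 958],[nat_lit 156,nat_lit 1010],[nat_lit 186,nat_lit 1187],[nat_lit 164,nat_lit 1231],[nat_lit 137,nat_lit 1256,nat_lit 1329,nat_lit 1384],[nat_lit 189,nat_lit 1435],[nat_lit 182,nat_lit 1513,nat_lit 1579],[nat_lit 137,nat_lit 1736],[nat_lit 186,nat_lit 1855],[nat_lit 156,nat_lit 2139],[nat_lit 137,nat_lit 3902],[nat_lit 10,nat_lit 835],[nat_lit 4,nat_lit 962],[nat_lit 6,nat_lit 1039],[nat_lit 3,nat_lit 1116],[nat_lit 1,nat_lit 1279,nat_lit 1357],[nat_lit 2,nat_lit 1616],[nat_lit 1,nat_lit 1833],[nat_lit 10,nat_lit 2279],[nat_lit 3,nat_lit 2444],[nat_lit 138,nat_lit 2376],[nat_lit 11,nat_lit 2199],[nat_lit 15,nat_lit 2453],[nat_lit 139,nat_lit 247,nat_lit 307,nat_lit 322],[nat_lit 25,nat_lit 458],[nat_lit 139,nat_lit 348],[nat_lit 22,nat_lit 541],[nat_lit 23,nat_lit 568],[nat_lit 25,nat_lit 579,nat_lit 615,nat_lit 701,nat_lit 733],[nat_lit 26,nat_lit 925],[nat_lit 29,nat_lit 1148],[nat_lit 139,nat_lit 1211,nat_lit 1456],[nat_lit 25,nat_lit 1727],[nat_lit 139,nat_lit 1510],[nat_lit 22,nat_lit 1911],[nat_lit 26,nat_lit 2009],[nat_lit 25,nat_lit 2080],[nat_lit 26,nat_lit 2163],[nat_lit 29,nat_lit 2190],[nat_lit 27,nat_lit 2287],[nat_lit 28,nat_lit 2431],[nat_lit 139,nat_lit 2513],[nat_lit 140,nat_lit 1010],[nat_lit 32,nat_lit 1502],[nat_lit 33,nat_lit 1777],[nat_lit 140,nat_lit 2288],[nat_lit 141,nat_lit 3022,nat_lit 3827],[nat_lit 142,nat_lit 831,nat_lit 1010,nat_lit 1478,nat_lit 1482,nat_lit 2017,nat_lit 2056,nat_lit 2099,nat_lit 2649,nat_lit 2799],[nat_lit 46,nat_lit 3115],[nat_lit 15,nat_lit 199,nat_lit 277,nat_lit 314,nat_lit 426,nat_lit 445,nat_lit 475],[nat_lit 12,nat_lit 533],[nat_lit 20,nat_lit 590,nat_lit 626],[nat_lit 15,nat_lit 685,nat_lit 878],[nat_lit 20,nat_lit 1091],[nat_lit 15,nat_lit 2052,nat_lit 2188,nat_lit 2248],[nat_lit 19,nat_lit 2339],[nat_lit 143,nat_lit 196,nat_lit 245,nat_lit 332,nat_lit 530,nat_lit 895],[nat_lit 16,nat_lit 281,nat_lit 428],[nat_lit 144,nat_lit 196,nat_lit 239,nat_lit 245],[nat_lit 59,nat_lit 454],[nat_lit 144,nat_lit 381,nat_lit 425,nat_lit 457,nat_lit 882,nat_lit 1094,nat_lit 1388,nat_lit 1468,nat_lit 2351,nat_lit 3225,nat_lit 3690],[nat_lit 17,nat_lit 387],[nat_lit 15,nat_lit 519],[nat_lit 145,nat_lit 439],[nat_lit 62,nat_lit 749],[nat_lit 146,nat_lit 1320],[nat_lit 19,nat_lit 242,nat_lit 309,nat_lit 549],[nat_lit 128,nat_lit 763,nat_lit 809],[nat_lit 15,nat_lit 711],[nat_lit 19,nat_lit 761,nat_lit 806,nat_lit 1329],[nat_lit 147,nat_lit 1010,nat_lit 1173,nat_lit 1187,nat_lit 1231],[nat_lit 182,nat_lit 1245,nat_lit 1483],[nat_lit 186,nat_lit 1502],[nat_lit 147,nat_lit 1513,nat_lit 1579,nat_lit 1644],[nat_lit 182,nat_lit 1854],[nat_lit 147,nat_lit 2017,nat_lit 2398,nat_lit 3979],[nat_lit 20,nat_lit 339],[nat_lit 150,nat_lit 3232],[nat_lit 151,nat_lit 1038,nat_lit 1245],[nat_lit 45,nat_lit 1775],[nat_lit 151,nat_lit 1744,nat_lit 1749],[nat_lit 132,nat_lit 1775],[nat_lit 142,nat_lit 2068],[nat_lit 151,nat_lit 2341,nat_lit 2382],[nat_lit 46,nat_lit 2853],[nat_lit 47,nat_lit 3080],[nat_lit 151,nat_lit 3019],[nat_lit 24,nat_lit 604,nat_lit 748,nat_lit 791,nat_lit 883],[nat_lit 29,nat_lit 944],[nat_lit 26,nat_lit 992],[nat_lit 29,nat_lit 1096,nat_lit 1225],[nat_lit 24,nat_lit 2369,nat_lit 2671],[nat_lit 152,nat_lit 342],[nat_lit 25,nat_lit 1224],[nat_lit 29,nat_lit 1477],[nat_lit 153,nat_lit 342],[nat_lit 134,nat_lit 463],[nat_lit 153,nat_lit 562,nat_lit 602,nat_lit 1095,nat_lit 1650,nat_lit 2613],[nat_lit 59,nat_lit 3091],[nat_lit 153,nat_lit 3817],[nat_lit 155,nat_lit 1569],[nat_lit 28,nat_lit 1169,nat_lit 1335,nat_lit 1392,nat_lit 1743],[nat_lit 156,nat_lit 1418],[nat_lit 182,nat_lit 1680],[nat_lit 156,nat_lit 1777,nat_lit 1789,nat_lit 1921],[nat_lit 147,nat_lit 2069],[nat_lit 182,nat_lit 2082,nat_lit 2199],[nat_lit 186,nat_lit 2453],[nat_lit 159,nat_lit 1278],[nat_lit 45,nat_lit 1812],[nat_lit 132,nat_lit 1812],[nat_lit 159,nat_lit 2031],[nat_lit 45,nat_lit 2572],[nat_lit 132,nat_lit 2572],[nat_lit 142,nat_lit 2816],[nat_lit 46,nat_lit 3244],[nat_lit 32,nat_lit 2790],[nat_lit 161,nat_lit 727,nat_lit 1334,nat_lit 3913],[nat_lit 39,nat_lit 3997],[nat_lit 43,nat_lit 3587],[nat_lit 45,nat_lit 1058],[nat_lit 132,nat_lit 1058],[nat_lit 45,nat_lit 1747],[nat_lit 132,nat_lit 1747],[nat_lit 45,nat_lit 2306],[nat_lit 142,nat_lit 2029],[nat_lit 45,nat_lit 2555],[nat_lit 132,nat_lit 2306],[nat_lit 45,nat_lit 2646,nat_lit 3322],[nat_lit 47,nat_lit 3507],[nat_lit 46,nat_lit 1547,nat_lit 2810],[nat_lit 45,nat_lit 3030],[nat_lit 49,nat_lit 1062],[nat_lit 132,nat_lit 1062],[nat_lit 49,nat_lit 1809,nat_lit 2101,nat_lit 2381,nat_lit 2570,nat_lit 2618,nat_lit 2887,nat_lit 3241,nat_lit 3291,nat_lit 3416,nat_lit 3432,nat_lit 3669],[nat_lit 50,nat_lit 2385],[nat_lit 51,nat_lit 503,nat_lit 981,nat_lit 1089,nat_lit 1138,nat_lit 1151],[nat_lit 55,nat_lit 1326],[nat_lit 51,nat_lit 1860,nat_lit 2144,nat_lit 2294],[nat_lit 152,nat_lit 2144],[nat_lit 51,nat_lit 2467],[nat_lit 133,nat_lit 2751],[nat_lit 143,nat_lit 2976],[nat_lit 152,nat_lit 3190],[nat_lit 51,nat_lit 3485],[nat_lit 55,nat_lit 3650],[nat_lit 133,nat_lit 3506],[nat_lit 143,nat_lit 3650,nat_lit 3667],[nat_lit 152,nat_lit 3784],[nat_lit 179,nat_lit 597],[nat_lit 168,nat_lit 770],[nat_lit 153,nat_lit 770],[nat_lit 52,nat_lit 658],[nat_lit 133,nat_lit 519],[nat_lit 52,nat_lit 1381],[nat_lit 133,nat_lit 2975],[nat_lit 143,nat_lit 3188],[nat_lit 181,nat_lit 618],[nat_lit 176,nat_lit 794],[nat_lit 163,nat_lit 928],[nat_lit 181,nat_lit 1843],[nat_lit 54,nat_lit 1212],[nat_lit 167,nat_lit 1212],[nat_lit 54,nat_lit 1395],[nat_lit 52,nat_lit 1464],[nat_lit 54,nat_lit 1575],[nat_lit 143,nat_lit 1378],[nat_lit 53,nat_lit 1729],[nat_lit 54,nat_lit 2552],[nat_lit 182,nat_lit 2296],[nat_lit 177,nat_lit 2555],[nat_lit 182,nat_lit 4039],[nat_lit 55,nat_lit 1657,nat_lit 1909],[nat_lit 54,nat_lit 1939],[nat_lit 179,nat_lit 519],[nat_lit 185,nat_lit 1139],[nat_lit 64,nat_lit 1642],[nat_lit 58,nat_lit 242,nat_lit 309,nat_lit 424,nat_lit 558,nat_lit 599],[nat_lit 134,nat_lit 558],[nat_lit 144,nat_lit 723],[nat_lit 58,nat_lit 3299,nat_lit 3510],[nat_lit 134,nat_lit 3510],[nat_lit 144,nat_lit 3672],[nat_lit 186,nat_lit 4094],[nat_lit 59,nat_lit 339],[nat_lit 61,nat_lit 945,nat_lit 3127],[nat_lit 63,nat_lit 309],[nat_lit 163,nat_lit 309],[nat_lit 63,nat_lit 1919],[nat_lit 1602,nat_lit 14],[nat_lit 14,nat_lit 271],[nat_lit 4420,nat_lit 14],[nat_lit 14,nat_lit 280],[nat_lit 4548,nat_lit 351],[nat_lit 6084,nat_lit 384],[nat_lit 178,nat_lit 1296],[nat_lit 157,nat_lit 1458],[nat_lit 172,nat_lit 1725],[nat_lit 0,nat_lit 517],[nat_lit 7,nat_lit 656],[nat_lit 6,nat_lit 840],[nat_lit 7,nat_lit 1051],[nat_lit 0,nat_lit 1110,nat_lit 1186,nat_lit 1245],[nat_lit 10,nat_lit 1350],[nat_lit 0,nat_lit 1854],[nat_lit 6,nat_lit 2133],[nat_lit 10,nat_lit 2407],[nat_lit 0,nat_lit 2851],[nat_lit 128,nat_lit 770,nat_lit 838],[nat_lit 13,nat_lit 1125],[nat_lit 128,nat_lit 971],[nat_lit 16,nat_lit 1289],[nat_lit 15,nat_lit 1363],[nat_lit 13,nat_lit 1366],[nat_lit 17,nat_lit 1415],[nat_lit 13,nat_lit 1587],[nat_lit 128,nat_lit 1584],[nat_lit 12,nat_lit 1863],[nat_lit 128,nat_lit 1720],[nat_lit 13,nat_lit 2146],[nat_lit 128,nat_lit 2015],[nat_lit 16,nat_lit 2553],[nat_lit 128,nat_lit 2878],[nat_lit 1,nat_lit 672],[nat_lit 5,nat_lit 782],[nat_lit 3,nat_lit 916],[nat_lit 7,nat_lit 1121],[nat_lit 6,nat_lit 1138,nat_lit 1364],[nat_lit 7,nat_lit 1381],[nat_lit 1,nat_lit 1501,nat_lit 3076],[nat_lit 10,nat_lit 3288],[nat_lit 129,nat_lit 604,nat_lit 1169,nat_lit 1335,nat_lit 1392,nat_lit 1743,nat_lit 3787],[nat_lit 2,nat_lit 1137],[nat_lit 130,nat_lit 2790],[nat_lit 33,nat_lit 3220],[nat_lit 32,nat_lit 3407],[nat_lit 131,nat_lit 3587,nat_lit 3997],[nat_lit 40,nat_lit 4106],[nat_lit 132,nat_lit 2555,nat_lit 2618],[nat_lit 46,nat_lit 3018],[nat_lit 45,nat_lit 3227],[nat_lit 132,nat_lit 3291,nat_lit 3416,nat_lit 3669],[nat_lit 5,nat_lit 2134],[nat_lit 6,nat_lit 2409],[nat_lit 5,nat_lit 2414,nat_lit 2478],[nat_lit 3,nat_lit 2646],[nat_lit 1,nat_lit 2664],[nat_lit 5,nat_lit 2929,nat_lit 3014],[nat_lit 2,nat_lit 3145],[nat_lit 3,nat_lit 3344],[nat_lit 5,nat_lit 3713],[nat_lit 133,nat_lit 1049],[nat_lit 152,nat_lit 1289],[nat_lit 133,nat_lit 1356,nat_lit 1534],[nat_lit 54,nat_lit 1898],[nat_lit 133,nat_lit 1617,nat_lit 1775,nat_lit 2138,nat_lit 2595],[nat_lit 152,nat_lit 2843],[nat_lit 55,nat_lit 3281],[nat_lit 134,nat_lit 599],[nat_lit 144,nat_lit 771],[nat_lit 134,nat_lit 907,nat_lit 910,nat_lit 967],[nat_lit 153,nat_lit 969,nat_lit 1126],[nat_lit 135,nat_lit 945],[nat_lit 145,nat_lit 1170],[nat_lit 136,nat_lit 1919,nat_lit 2126],[nat_lit 9,nat_lit 1990,nat_lit 2321,nat_lit 2522],[nat_lit 6,nat_lit 2580],[nat_lit 9,nat_lit 2661],[nat_lit 6,nat_lit 2764],[nat_lit 9,nat_lit 2825],[nat_lit 2,nat_lit 3045],[nat_lit 9,nat_lit 3114,nat_lit 3127],[nat_lit 3,nat_lit 3252],[nat_lit 9,nat_lit 4196],[nat_lit 137,nat_lit 836],[nat_lit 191,nat_lit 1045],[nat_lit 156,nat_lit 1254],[nat_lit 186,nat_lit 1510],[nat_lit 137,nat_lit 3224,nat_lit 3530],[nat_lit 10,nat_lit 4210],[nat_lit 138,nat_lit 1458,nat_lit 1913],[nat_lit 128,nat_lit 850],[nat_lit 17,nat_lit 1274],[nat_lit 18,nat_lit 1498],[nat_lit 16,nat_lit 1769],[nat_lit 11,nat_lit 1957,nat_lit 2145],[nat_lit 139,nat_lit 1198,nat_lit 2142],[nat_lit 25,nat_lit 2663],[nat_lit 128,nat_lit 1372],[nat_lit 13,nat_lit 373,nat_lit 1915],[nat_lit 17,nat_lit 2167],[nat_lit 16,nat_lit 2437],[nat_lit 141,nat_lit 271,nat_lit 280],[nat_lit 142,nat_lit 3798],[nat_lit 15,nat_lit 1453,nat_lit 1626,nat_lit 1676,nat_lit 1864,nat_lit 2061,nat_lit 2240,nat_lit 2285,nat_lit 2682,nat_lit 2795,nat_lit 3313],[nat_lit 143,nat_lit 345,nat_lit 2068],[nat_lit 54,nat_lit 2661],[nat_lit 143,nat_lit 3281],[nat_lit 16,nat_lit 378],[nat_lit 13,nat_lit 506],[nat_lit 16,nat_lit 1905,nat_lit 1963,nat_lit 2547],[nat_lit 20,nat_lit 2788],[nat_lit 16,nat_lit 3499],[nat_lit 144,nat_lit 1198],[nat_lit 17,nat_lit 357],[nat_lit 13,nat_lit 481],[nat_lit 18,nat_lit 466],[nat_lit 14,nat_lit 471],[nat_lit 146,nat_lit 2196,nat_lit 2402],[nat_lit 185,nat_lit 2652],[nat_lit 20,nat_lit 1637],[nat_lit 17,nat_lit 1885],[nat_lit 19,nat_lit 2348,nat_lit 3016],[nat_lit 147,nat_lit 420,nat_lit 348,nat_lit 543],[nat_lit 191,nat_lit 481],[nat_lit 147,nat_lit 3411,nat_lit 3690],[nat_lit 20,nat_lit 376,nat_lit 504],[nat_lit 24,nat_lit 1936,nat_lit 2304,nat_lit 2902],[nat_lit 54,nat_lit 2618],[nat_lit 152,nat_lit 3471,nat_lit 3772],[nat_lit 25,nat_lit 2216],[nat_lit 28,nat_lit 1720],[nat_lit 156,nat_lit 3817],[nat_lit 183,nat_lit 3777],[nat_lit 30,nat_lit 307,nat_lit 313],[nat_lit 140,nat_lit 307],[nat_lit 36,nat_lit 420],[nat_lit 140,nat_lit 506],[nat_lit 36,nat_lit 3577],[nat_lit 130,nat_lit 3577],[nat_lit 164,nat_lit 3913],[nat_lit 37,nat_lit 421],[nat_lit 165,nat_lit 1637],[nat_lit 138,nat_lit 1917],[nat_lit 39,nat_lit 3846],[nat_lit 43,nat_lit 565],[nat_lit 45,nat_lit 3097],[nat_lit 50,nat_lit 3309],[nat_lit 45,nat_lit 3645,nat_lit 3727,nat_lit 3973],[nat_lit 142,nat_lit 564],[nat_lit 46,nat_lit 3781,nat_lit 4035],[nat_lit 45,nat_lit 4088],[nat_lit 47,nat_lit 636],[nat_lit 49,nat_lit 3414,nat_lit 3496],[nat_lit 132,nat_lit 3414],[nat_lit 51,nat_lit 1722],[nat_lit 179,nat_lit 378],[nat_lit 180,nat_lit 1414],[nat_lit 135,nat_lit 1675],[nat_lit 181,nat_lit 2450,nat_lit 2895],[nat_lit 182,nat_lit 1788],[nat_lit 183,nat_lit 1913],[nat_lit 56,nat_lit 2508],[nat_lit 184,nat_lit 642],[nat_lit 169,nat_lit 824],[nat_lit 58,nat_lit 1720,nat_lit 2752],[nat_lit 186,nat_lit 469,nat_lit 481,nat_lit 610],[nat_lit 59,nat_lit 2977,nat_lit 3794],[nat_lit 189,nat_lit 783],[nat_lit 62,nat_lit 1455,nat_lit 1905],[nat_lit 135,nat_lit 1905],[nat_lit 180,nat_lit 2186],[nat_lit 63,nat_lit 3325],[nat_lit 193,nat_lit 504,nat_lit 1215],[nat_lit 962,nat_lit 18],[nat_lit 8132,nat_lit 339],[nat_lit 3,nat_lit 1293],[nat_lit 134,nat_lit 509],[nat_lit 19,nat_lit 507,nat_lit 659],[nat_lit 144,nat_lit 664],[nat_lit 6,nat_lit 847],[nat_lit 0,nat_lit 845,nat_lit 1052,nat_lit 2245,nat_lit 2431],[nat_lit 6,nat_lit 2510],[nat_lit 0,nat_lit 2743],[nat_lit 7,nat_lit 2753],[nat_lit 0,nat_lit 2862],[nat_lit 6,nat_lit 2967],[nat_lit 7,nat_lit 3181],[nat_lit 0,nat_lit 3412],[nat_lit 128,nat_lit 2902],[nat_lit 1,nat_lit 1291,nat_lit 3089],[nat_lit 5,nat_lit 3097],[nat_lit 10,nat_lit 3301,nat_lit 3309],[nat_lit 129,nat_lit 1720,nat_lit 2902],[nat_lit 2,nat_lit 1544,nat_lit 1546],[nat_lit 130,nat_lit 307,nat_lit 313,nat_lit 1052],[nat_lit 131,nat_lit 565],[nat_lit 132,nat_lit 636,nat_lit 3496,nat_lit 4088],[nat_lit 10,nat_lit 2449],[nat_lit 133,nat_lit 1545,nat_lit 1820,nat_lit 2826,nat_lit 2988],[nat_lit 143,nat_lit 3048],[nat_lit 152,nat_lit 3259],[nat_lit 133,nat_lit 3442],[nat_lit 52,nat_lit 3746],[nat_lit 134,nat_lit 1720],[nat_lit 7,nat_lit 1026,nat_lit 1030],[nat_lit 4,nat_lit 1033,nat_lit 1063],[nat_lit 3,nat_lit 1258],[nat_lit 1,nat_lit 1264,nat_lit 1272,nat_lit 1297,nat_lit 1516],[nat_lit 2,nat_lit 1794],[nat_lit 7,nat_lit 1801],[nat_lit 3,nat_lit 2087,nat_lit 2092],[nat_lit 135,nat_lit 824],[nat_lit 136,nat_lit 2687,nat_lit 3325],[nat_lit 9,nat_lit 3838],[nat_lit 137,nat_lit 1056,nat_lit 1545,nat_lit 3496],[nat_lit 138,nat_lit 659],[nat_lit 148,nat_lit 842],[nat_lit 157,nat_lit 1052],[nat_lit 165,nat_lit 1291],[nat_lit 138,nat_lit 1467,nat_lit 2158],[nat_lit 128,nat_lit 853],[nat_lit 143,nat_lit 1821,nat_lit 3201],[nat_lit 152,nat_lit 3393],[nat_lit 16,nat_lit 612],[nat_lit 19,nat_lit 619,nat_lit 632],[nat_lit 20,nat_lit 788,nat_lit 799,nat_lit 813],[nat_lit 16,nat_lit 3793],[nat_lit 17,nat_lit 797],[nat_lit 20,nat_lit 999],[nat_lit 145,nat_lit 1031],[nat_lit 175,nat_lit 1431],[nat_lit 188,nat_lit 1499],[nat_lit 146,nat_lit 3511],[nat_lit 19,nat_lit 989,nat_lit 1001,nat_lit 1019,nat_lit 1232,nat_lit 3327],[nat_lit 148,nat_lit 1732],[nat_lit 21,nat_lit 107,nat_lit 211,nat_lit 214],[nat_lit 26,nat_lit 290],[nat_lit 129,nat_lit 211],[nat_lit 25,nat_lit 297],[nat_lit 129,nat_lit 290],[nat_lit 26,nat_lit 397],[nat_lit 29,nat_lit 401],[nat_lit 129,nat_lit 297],[nat_lit 28,nat_lit 524],[nat_lit 29,nat_lit 525],[nat_lit 129,nat_lit 397],[nat_lit 29,nat_lit 681],[nat_lit 21,nat_lit 1629],[nat_lit 129,nat_lit 1546],[nat_lit 24,nat_lit 208,nat_lit 533,nat_lit 685,nat_lit 1907],[nat_lit 129,nat_lit 1907],[nat_lit 24,nat_lit 2285],[nat_lit 54,nat_lit 1912],[nat_lit 25,nat_lit 1372,nat_lit 2547],[nat_lit 29,nat_lit 2788],[nat_lit 28,nat_lit 862],[nat_lit 129,nat_lit 862],[nat_lit 154,nat_lit 1270],[nat_lit 169,nat_lit 1527],[nat_lit 28,nat_lit 682,nat_lit 1631],[nat_lit 26,nat_lit 1879],[nat_lit 28,nat_lit 3327],[nat_lit 129,nat_lit 682],[nat_lit 24,nat_lit 1599],[nat_lit 129,nat_lit 1599],[nat_lit 22,nat_lit 2146],[nat_lit 157,nat_lit 2013],[nat_lit 36,nat_lit 558],[nat_lit 130,nat_lit 558],[nat_lit 140,nat_lit 723],[nat_lit 130,nat_lit 910],[nat_lit 32,nat_lit 157,nat_lit 1367],[nat_lit 36,nat_lit 615],[nat_lit 33,nat_lit 1628],[nat_lit 162,nat_lit 1527],[nat_lit 140,nat_lit 1385],[nat_lit 130,nat_lit 1232],[nat_lit 140,nat_lit 1485],[nat_lit 183,nat_lit 1544,nat_lit 2087],[nat_lit 40,nat_lit 566],[nat_lit 179,nat_lit 1912],[nat_lit 41,nat_lit 730],[nat_lit 44,nat_lit 921],[nat_lit 43,nat_lit 1144],[nat_lit 51,nat_lit 2547],[nat_lit 55,nat_lit 2788],[nat_lit 58,nat_lit 1294],[nat_lit 179,nat_lit 3858],[nat_lit 174,nat_lit 3948],[nat_lit 144,nat_lit 4014],[nat_lit 153,nat_lit 4073],[nat_lit 161,nat_lit 4119],[nat_lit 133,nat_lit 1265,nat_lit 1517,nat_lit 1529,nat_lit 1795],[nat_lit 52,nat_lit 2194],[nat_lit 133,nat_lit 2088],[nat_lit 143,nat_lit 2089],[nat_lit 181,nat_lit 1771,nat_lit 3673],[nat_lit 136,nat_lit 3801],[nat_lit 182,nat_lit 615,nat_lit 632],[nat_lit 189,nat_lit 791],[nat_lit 143,nat_lit 3886],[nat_lit 193,nat_lit 993,nat_lit 1018],[nat_lit 183,nat_lit 2291],[nat_lit 56,nat_lit 1699],[nat_lit 134,nat_lit 1699],[nat_lit 184,nat_lit 1525],[nat_lit 175,nat_lit 1978],[nat_lit 185,nat_lit 2062],[nat_lit 155,nat_lit 2349],[nat_lit 59,nat_lit 1820],[nat_lit 58,nat_lit 1821],[nat_lit 186,nat_lit 992,nat_lit 1908],[nat_lit 193,nat_lit 1477],[nat_lit 187,nat_lit 1692],[nat_lit 157,nat_lit 1978],[nat_lit 187,nat_lit 2373],[nat_lit 188,nat_lit 2054],[nat_lit 155,nat_lit 2340],[nat_lit 146,nat_lit 2599],[nat_lit 136,nat_lit 2340],[nat_lit 181,nat_lit 2064],[nat_lit 63,nat_lit 3127],[nat_lit 194,nat_lit 141],[nat_lit 706,nat_lit 1130],[nat_lit 32,nat_lit 791],[nat_lit 31,nat_lit 795],[nat_lit 68,nat_lit 2193],[nat_lit 836,nat_lit 841],[nat_lit 191,nat_lit 2103],[nat_lit 4420,nat_lit 1969],[nat_lit 20,nat_lit 2187],[nat_lit 147,nat_lit 1904],[nat_lit 0,nat_lit 1378,nat_lit 1473,nat_lit 1486,nat_lit 1514,nat_lit 1752],[nat_lit 1,nat_lit 1739,nat_lit 1754,nat_lit 1791],[nat_lit 7,nat_lit 1802],[nat_lit 1,nat_lit 2037],[nat_lit 129,nat_lit 1135],[nat_lit 7,nat_lit 1805],[nat_lit 2,nat_lit 2019],[nat_lit 8,nat_lit 2023],[nat_lit 2,nat_lit 2039,nat_lit 2322],[nat_lit 3,nat_lit 2298,nat_lit 2323],[nat_lit 6,nat_lit 2377],[nat_lit 3,nat_lit 2581],[nat_lit 131,nat_lit 1144,nat_lit 1212],[nat_lit 133,nat_lit 1755,nat_lit 1792,nat_lit 2302,nat_lit 2558],[nat_lit 52,nat_lit 2807],[nat_lit 133,nat_lit 2582,nat_lit 2583,nat_lit 2637,nat_lit 2828,nat_lit 3502],[nat_lit 7,nat_lit 1639],[nat_lit 136,nat_lit 2350],[nat_lit 181,nat_lit 2960],[nat_lit 136,nat_lit 2610],[nat_lit 163,nat_lit 2858],[nat_lit 189,nat_lit 141],[nat_lit 138,nat_lit 1226,nat_lit 1256,nat_lit 1743,nat_lit 2550],[nat_lit 11,nat_lit 102,nat_lit 203],[nat_lit 18,nat_lit 283],[nat_lit 20,nat_lit 390],[nat_lit 11,nat_lit 392,nat_lit 1308,nat_lit 1558],[nat_lit 12,nat_lit 1833],[nat_lit 15,nat_lit 812],[nat_lit 128,nat_lit 885],[nat_lit 141,nat_lit 1388],[nat_lit 43,nat_lit 2286],[nat_lit 143,nat_lit 2041,nat_lit 2086,nat_lit 2802,nat_lit 2829,nat_lit 2830,nat_lit 3050],[nat_lit 144,nat_lit 3218],[nat_lit 134,nat_lit 3405],[nat_lit 128,nat_lit 1914],[nat_lit 15,nat_lit 2374],[nat_lit 17,nat_lit 2430],[nat_lit 15,nat_lit 2434],[nat_lit 13,nat_lit 2514],[nat_lit 18,nat_lit 2714],[nat_lit 146,nat_lit 2612],[nat_lit 147,nat_lit 2428],[nat_lit 182,nat_lit 2427],[nat_lit 147,nat_lit 2670],[nat_lit 20,nat_lit 3573],[nat_lit 148,nat_lit 1478,nat_lit 1513,nat_lit 2024,nat_lit 2476,nat_lit 2793],[nat_lit 187,nat_lit 3012],[nat_lit 24,nat_lit 2147],[nat_lit 21,nat_lit 2322],[nat_lit 129,nat_lit 2147],[nat_lit 22,nat_lit 2581],[nat_lit 150,nat_lit 1650],[nat_lit 24,nat_lit 2828,nat_lit 2911],[nat_lit 129,nat_lit 2828],[nat_lit 152,nat_lit 2315,nat_lit 2371],[nat_lit 143,nat_lit 2633],[nat_lit 152,nat_lit 3023,nat_lit 3051,nat_lit 3052,nat_lit 3261,nat_lit 3664],[nat_lit 25,nat_lit 3575],[nat_lit 26,nat_lit 1640,nat_lit 2680],[nat_lit 155,nat_lit 2863],[nat_lit 157,nat_lit 1744,nat_lit 1789],[nat_lit 183,nat_lit 2025,nat_lit 2082],[nat_lit 138,nat_lit 2306,nat_lit 2370],[nat_lit 187,nat_lit 2566],[nat_lit 190,nat_lit 2810],[nat_lit 192,nat_lit 3131],[nat_lit 30,nat_lit 1463,nat_lit 2464],[nat_lit 34,nat_lit 992],[nat_lit 37,nat_lit 993,nat_lit 997,nat_lit 1225],[nat_lit 36,nat_lit 1226,nat_lit 1230],[nat_lit 32,nat_lit 1753,nat_lit 2704],[nat_lit 160,nat_lit 3233,nat_lit 3451],[nat_lit 33,nat_lit 1224],[nat_lit 37,nat_lit 1477],[nat_lit 36,nat_lit 1743],[nat_lit 33,nat_lit 2038],[nat_lit 168,nat_lit 2448],[nat_lit 130,nat_lit 1899],[nat_lit 34,nat_lit 1728],[nat_lit 140,nat_lit 1728],[nat_lit 130,nat_lit 2704],[nat_lit 35,nat_lit 2287],[nat_lit 164,nat_lit 1381],[nat_lit 147,nat_lit 1641],[nat_lit 130,nat_lit 1226,nat_lit 1230],[nat_lit 140,nat_lit 1478,nat_lit 1482],[nat_lit 130,nat_lit 1743],[nat_lit 131,nat_lit 1464],[nat_lit 141,nat_lit 1728],[nat_lit 171,nat_lit 2180],[nat_lit 179,nat_lit 2818,nat_lit 3754],[nat_lit 152,nat_lit 1899],[nat_lit 167,nat_lit 2159],[nat_lit 181,nat_lit 2848],[nat_lit 54,nat_lit 3452,nat_lit 3453],[nat_lit 182,nat_lit 201],[nat_lit 191,nat_lit 2846],[nat_lit 183,nat_lit 2266,nat_lit 2303],[nat_lit 138,nat_lit 2531],[nat_lit 148,nat_lit 2774],[nat_lit 157,nat_lit 2998],[nat_lit 183,nat_lit 3222],[nat_lit 184,nat_lit 2511],[nat_lit 186,nat_lit 282],[nat_lit 189,nat_lit 2510,nat_lit 2386],[nat_lit 63,nat_lit 2630,nat_lit 3028],[nat_lit 136,nat_lit 3028],[nat_lit 63,nat_lit 3293],[nat_lit 181,nat_lit 3236],[nat_lit 136,nat_lit 3293],[nat_lit 185,nat_lit 3424],[nat_lit 146,nat_lit 3482],[nat_lit 181,nat_lit 3591],[nat_lit 192,nat_lit 2865],[nat_lit 157,nat_lit 2630],[nat_lit 165,nat_lit 2879],[nat_lit 65,nat_lit 3490],[nat_lit 164,nat_lit 3490],[nat_lit 68,nat_lit 2644],[nat_lit 708,nat_lit 3570],[nat_lit 1860,nat_lit 3716],[nat_lit 2244,nat_lit 1121],[nat_lit 147,nat_lit 2177],[nat_lit 10,nat_lit 2713],[nat_lit 2500,nat_lit 142],[nat_lit 11,nat_lit 2394],[nat_lit 16,nat_lit 3665],[nat_lit 7108,nat_lit 1110],[nat_lit 8,nat_lit 1856],[nat_lit 9412,nat_lit 2878],[nat_lit 9,nat_lit 3774],[nat_lit 0,nat_lit 3194,nat_lit 3884],[nat_lit 129,nat_lit 3637],[nat_lit 2,nat_lit 2999],[nat_lit 8,nat_lit 3171],[nat_lit 2,nat_lit 3206],[nat_lit 8,nat_lit 3365],[nat_lit 131,nat_lit 2958,nat_lit 2994],[nat_lit 4,nat_lit 3432],[nat_lit 132,nat_lit 2570],[nat_lit 5,nat_lit 3758,nat_lit 3759],[nat_lit 133,nat_lit 3595],[nat_lit 6,nat_lit 2956],[nat_lit 134,nat_lit 3868],[nat_lit 7,nat_lit 2135,nat_lit 3170],[nat_lit 136,nat_lit 3647,nat_lit 3729],[nat_lit 155,nat_lit 3782],[nat_lit 9,nat_lit 3474],[nat_lit 137,nat_lit 2954],[nat_lit 10,nat_lit 3640],[nat_lit 138,nat_lit 2564],[nat_lit 11,nat_lit 3451,nat_lit 3504],[nat_lit 28,nat_lit 2446],[nat_lit 22,nat_lit 2540],[nat_lit 12,nat_lit 3615],[nat_lit 16,nat_lit 3754],[nat_lit 140,nat_lit 2644],[nat_lit 15,nat_lit 3868],[nat_lit 17,nat_lit 3958],[nat_lit 16,nat_lit 4024],[nat_lit 19,nat_lit 4080],[nat_lit 128,nat_lit 1852],[nat_lit 18,nat_lit 3580],[nat_lit 146,nat_lit 3845,nat_lit 3890],[nat_lit 136,nat_lit 3936],[nat_lit 163,nat_lit 3969],[nat_lit 147,nat_lit 1853],[nat_lit 156,nat_lit 3874],[nat_lit 21,nat_lit 2305,nat_lit 2313,nat_lit 2444],[nat_lit 24,nat_lit 2565,nat_lit 2572],[nat_lit 129,nat_lit 2565,nat_lit 2572],[nat_lit 25,nat_lit 3029,nat_lit 3036],[nat_lit 28,nat_lit 3240],[nat_lit 149,nat_lit 2543],[nat_lit 31,nat_lit 2887],[nat_lit 130,nat_lit 2887],[nat_lit 35,nat_lit 3312],[nat_lit 150,nat_lit 2279,nat_lit 3354,nat_lit 3208],[nat_lit 24,nat_lit 3245],[nat_lit 28,nat_lit 3433],[nat_lit 30,nat_lit 2541,nat_lit 3571],[nat_lit 35,nat_lit 3702],[nat_lit 159,nat_lit 2385],[nat_lit 32,nat_lit 2304,nat_lit 3736],[nat_lit 33,nat_lit 3545,nat_lit 3849],[nat_lit 34,nat_lit 3498],[nat_lit 32,nat_lit 3661],[nat_lit 62,nat_lit 3103],[nat_lit 140,nat_lit 3425],[nat_lit 31,nat_lit 3659],[nat_lit 182,nat_lit 2738],[nat_lit 164,nat_lit 3361],[nat_lit 186,nat_lit 3543],[nat_lit 164,nat_lit 3775],[nat_lit 38,nat_lit 2641],[nat_lit 42,nat_lit 2877],[nat_lit 39,nat_lit 3426],[nat_lit 40,nat_lit 3103],[nat_lit 168,nat_lit 3254],[nat_lit 41,nat_lit 3307,nat_lit 3428],[nat_lit 42,nat_lit 3592],[nat_lit 44,nat_lit 3733],[nat_lit 46,nat_lit 3033],[nat_lit 159,nat_lit 3691],[nat_lit 49,nat_lit 3758],[nat_lit 54,nat_lit 3589],[nat_lit 181,nat_lit 4006,nat_lit 4031],[nat_lit 155,nat_lit 4066],[nat_lit 185,nat_lit 4085],[nat_lit 146,nat_lit 4112],[nat_lit 184,nat_lit 3606],[nat_lit 175,nat_lit 3833],[nat_lit 185,nat_lit 4148],[nat_lit 64,nat_lit 4202],[nat_lit 58,nat_lit 4023],[nat_lit 134,nat_lit 4023],[nat_lit 144,nat_lit 4079],[nat_lit 153,nat_lit 4124],[nat_lit 186,nat_lit 2137,nat_lit 2499],[nat_lit 171,nat_lit 3655],[nat_lit 6082,nat_lit 3348],[nat_lit 4930,nat_lit 1155],[nat_lit 2884,nat_lit 3894],[nat_lit 0,nat_lit 3763,nat_lit 4160],[nat_lit 4,nat_lit 3727],[nat_lit 10,nat_lit 3929],[nat_lit 1,nat_lit 4187],[nat_lit 10,nat_lit 4206],[nat_lit 3,nat_lit 3854],[nat_lit 132,nat_lit 3816],[nat_lit 6,nat_lit 3843],[nat_lit 135,nat_lit 3781],[nat_lit 14,nat_lit 3661],[nat_lit 13,nat_lit 3792],[nat_lit 141,nat_lit 3307],[nat_lit 14,nat_lit 3759],[nat_lit 144,nat_lit 3442],[nat_lit 17,nat_lit 3872],[nat_lit 184,nat_lit 3743],[nat_lit 147,nat_lit 3792,nat_lit 3788],[nat_lit 182,nat_lit 3893],[nat_lit 186,nat_lit 3968],[nat_lit 130,nat_lit 3915],[nat_lit 32,nat_lit 3934],[nat_lit 160,nat_lit 4159],[nat_lit 182,nat_lit 4161],[nat_lit 131,nat_lit 3494],[nat_lit 43,nat_lit 3790],[nat_lit 39,nat_lit 3859],[nat_lit 43,nat_lit 3867],[nat_lit 44,nat_lit 3949],[nat_lit 143,nat_lit 3757],[nat_lit 40,nat_lit 3956],[nat_lit 41,nat_lit 4022],[nat_lit 179,nat_lit 3961],[nat_lit 180,nat_lit 3889],[nat_lit 145,nat_lit 3971],[nat_lit 154,nat_lit 4033],[nat_lit 162,nat_lit 4086],[nat_lit 135,nat_lit 3855],[nat_lit 58,nat_lit 4188],[nat_lit 62,nat_lit 4016],[nat_lit 6,nat_lit 4188],[nat_lit 129,nat_lit 4162],[nat_lit 130,nat_lit 3934],[nat_lit 160,nat_lit 4052],[nat_lit 52,nat_lit 4064],[nat_lit 134,nat_lit 4028],[nat_lit 179,nat_lit 4111],[nat_lit 144,nat_lit 4084,nat_lit 4150],[nat_lit 153,nat_lit 4129,nat_lit 4195,nat_lit 4180],[nat_lit 59,nat_lit 4215],[nat_lit 33,nat_lit 4184],[nat_lit 34,nat_lit 4203],[nat_lit 39,nat_lit 4078],[nat_lit 131,nat_lit 4078],[nat_lit 40,nat_lit 4158],[nat_lit 141,nat_lit 4158],[nat_lit 150,nat_lit 4185],[nat_lit 44,nat_lit 4217],[nat_lit 33,nat_lit 4216],[nat_lit 37,nat_lit 4222]]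

theorem chk6 : spChk 17 R6 par6 Sb sc6 (pre6 ++ suf6) = true := by decide +kernel

/-- In a group with the relators, the spider word is the product of an element of the big subgroup and a conjugate of `h`. -/
theorem y_mem {X : Type*} [Group X] (gen : ℕ → X) (hinv : ∀ x, gen x * gen x = 1) (hR : ∀ w ∈ R6, ev gen w = 1) :
    ev gen suf6 * ev gen pre6 ∈ Subgroup.closure (gen '' {x | x ∈ Sb}) := by
  have hl : ∀ w ∈ R6, ∀ x ∈ w, x < 16 := by decide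
  have hw : ∀ x ∈ pre6 ++ suf6, x < 16 := by decide
  have hb : ∀ x ∈ Sb, x < 16 := by decide
  have h := sp_mem hinv chk6 hR hl hw (H := Subgroup.closure (gen '' {x | x ∈ Sb}))
    (fun x hx => ⟨hb x hx, Subgroup.subset_closure ⟨x, hx, rfl⟩⟩)
  rwa [ev_append] at h

end Cfsg.Agent.TcData.F24z
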