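import Mathlib
import Cfsg.Agent.Lib.F24zW
import Cfsg.Agent.Lib.SpClose

set_option autoImplicit false
set_option Elab.async false
set_option maxRecDepth 100000
set_option linter.all false
set_option maxHeartbeats 0

namespace Cfsg.Agent.TcData.F24z

open Cfsg.Agent.Lib.TcBits Cfsg.Agent.Lib.CoxCert Cfsg.Agent.Lib.BitClose Cfsg.Agent.Lib.F24Base Cfsg.Agent.Lib.F24Rep Cfsg.Agent.Lib.F24zW Cfsg.Agent.Lib.SpClose

/-- The spanning tree of the names. -/
noncomputable def parz : List ℕ := [nat_lit 4,nat_lit 12,nat_lit 21,nat_lit 19,nat_lit 28,nat_lit 37,nat_lit 36,nat_lit 51,nat_lit 60,nat_lit 66,nat_lit 76,nat_lit 84,nat_lit 83,nat_lit 115,nat_lit 132,nat_lit 130,nat_lit 147,nat_lit 161,nat_lit 172,nat_lit 180,nat_lit 178,nat_lit 212,nat_lit 226,nat_lit 242,nat_lit 257,nat_lit 268,nat_lit 288,nat_lit 300,nat_lit 308,nat_lit 305,nat_lit 322,nat_lit 369,nat_lit 387,nat_lit 385,nat_lit 400,nat_lit 417,nat_lit 438,nat_lit 442,nat_lit 444,nat_lit 452,nat_lit 448,nat_lit 467,nat_lit 465,nat_lit 499,nat_lit 512,nat_lit 529,nat_lit 544,nat_lit 566,nat_lit 570,nat_lit 572,nat_lit 599,nat_lit 602,nat_lit 604,nat_lit 628,nat_lit 630,nat_lit 643,nat_lit 640,nat_lit 673,nat_lit 726,nat_lit 730,nat_lit 738,nat_lit 736,nat_lit 758,nat_lit 762,nat_lit 775,nat_lit 778,nat_lit 810,nat_lit 824,nat_lit 826,nat_lit 828,nat_lit 832,nat_lit 843,nat_lit 844,nat_lit 852,nat_lit 855,nat_lit 858,nat_lit 867,nat_lit 870,nat_lit 898,nat_lit 896,nat_lit 930,nat_lit 951,nat_lit 954,nat_lit 976,nat_lit 998,nat_lit 1015,nat_lit 1018,nat_lit 1048,nat_lit 1050,nat_lit 1052,nat_lit 1056,nat_lit 1068,nat_lit 1097,nat_lit 1098,nat_lit 1100,nat_lit 1104,nat_lit 1115,nat_lit 1116,nat_lit 1124,nat_lit 1128,nat_lit 1137,nat_lit 1147,nat_lit 1148,nat_lit 1164,nat_lit 1172,nat_lit 1168,nat_lit 1179,nat_lit 1187,nat_lit 1191,nat_lit 1194,nat_lit 1234,nat_lit 1238,nat_lit 1320,nat_lit 1322,nat_lit 1328,nat_lit 1339,nat_lit 1345,nat_lit 1350,nat_lit 1367,nat_lit 1370,nat_lit 1384,nat_lit 1386,nat_lit 1392,nat_lit 1417,nat_lit 1418,nat_lit 1424,nat_lit 1435,nat_lit 1457,nat_lit 1467,nat_lit 1472,nat_lit 1483,nat_lit 1498,nat_lit 1500,nat_lit 1504,nat_lit 1515,nat_lit 1516,nat_lit 1524,nat_lit 1529,nat_lit 1530,nat_lit 1537,nat_lit 1542,nat_lit 1547,nat_lit 1548,nat_lit 1564,nat_lit 1572,nat_lit 1579,nat_lit 1587,nat_lit 1592,nat_lit 1594,nat_lit 1618,nat_lit 1627,nat_lit 1628,nat_lit 1642,nat_lit 1644,nat_lit 1652,nat_lit 1649,nat_lit 1659,nat_lit 1668,nat_lit 1683,nat_lit 1680,nat_lit 1691,nat_lit 1735,nat_lit 1782,nat_lit 1817,nat_lit 1818,nat_lit 1824,nat_lit 1835,nat_lit 1841,nat_lit 1878,nat_lit 1895,nat_lit 1898,nat_lit 1912,nat_lit 1914,nat_lit 1920,nat_lit 1931,nat_lit 1945,nat_lit 1946,nat_lit 1952,nat_lit 1969,nat_lit 1979,nat_lit 1994,nat_lit 1996,nat_lit 2000,nat_lit 2012,nat_lit 2017,nat_lit 2022,nat_lit 2027,nat_lit 2050,nat_lit 2059,nat_lit 2060,nat_lit 2074,nat_lit 2076,nat_lit 2112,nat_lit 2123,nat_lit 2124,nat_lit 2132,nat_lit 2145,nat_lit 2150,nat_lit 2155,nat_lit 2156,nat_lit 2172,nat_lit 2180,nat_lit 2176,nat_lit 2187,nat_lit 2195,nat_lit 2201,nat_lit 2202,nat_lit 2242,nat_lit 2246,nat_lit 2251,nat_lit 2252,nat_lit 2267,nat_lit 2268,nat_lit 2282,nat_lit 2284,nat_lit 2292,nat_lit 2294,nat_lit 2320,nat_lit 2354,nat_lit 2360,nat_lit 2403,nat_lit 2411,nat_lit 2412,nat_lit 2426,nat_lit 2436,nat_lit 2434,nat_lit 2468,nat_lit 2483,nat_lit 2481,nat_lit 2491,nat_lit 2531,nat_lit 2546,nat_lit 2544,nat_lit 2555,nat_lit 2634,nat_lit 2640,nat_lit 2651,nat_lit 2657,nat_lit 2662,nat_lit 2690,nat_lit 2704,nat_lit 2711,nat_lit 2714,nat_lit 2728,nat_lit 2730,nat_lit 2736,nat_lit 2761,nat_lit 2762,nat_lit 2768,nat_lit 2785,nat_lit 2795,nat_lit 2826,nat_lit 2832,nat_lit 2849,nat_lit 2854,nat_lit 2859,nat_lit 2866,nat_lit 2875,nat_lit 2896,nat_lit 2907,nat_lit 2922,nat_lit 2929,nat_lit 2934,nat_lit 2939,nat_lit 2944,nat_lit 2955,nat_lit 2962,nat_lit 2966,nat_lit 2971,nat_lit 2987,nat_lit 3002,nat_lit 3011,nat_lit 3019,nat_lit 3034,nat_lit 3042,nat_lit 3089,nat_lit 3094,nat_lit 3099,nat_lit 3100,nat_lit 3116,nat_lit 3124,nat_lit 3120,nat_lit 3131,nat_lit 3139,nat_lit 3146,nat_lit 3154,nat_lit 3158,nat_lit 3163,nat_lit 3164,nat_lit 3175,nat_lit 3179,nat_lit 3194,nat_lit 3196,nat_lit 3235,nat_lit 3282,nat_lit 3289,nat_lit 3290,nat_lit 3331,nat_lit 3334,nat_lit 3339,nat_lit 3340,nat_lit 3344,nat_lit 3355,nat_lit 3356,nat_lit 3370,nat_lit 3372,nat_lit 3382,nat_lit 3402,nat_lit 3404,nat_lit 3412,nat_lit 3419,nat_lit 3444,nat_lit 3462,nat_lit 3512,nat_lit 3540,nat_lit 3547,nat_lit 3548,nat_lit 3562,nat_lit 3564,nat_lit 3571,nat_lit 3584,nat_lit 3603,nat_lit 3635,nat_lit 3650,nat_lit 3649,nat_lit 3659,nat_lit 3698,nat_lit 3712,nat_lit 3723,nat_lit 3760,nat_lit 3771,nat_lit 3777,nat_lit 3782,nat_lit 3787,nat_lit 3810,nat_lit 3814,nat_lit 3819,nat_lit 3851,nat_lit 3863,nat_lit 3880,nat_lit 3882,nat_lit 3914,nat_lit 3920,nat_lit 3962,nat_lit 3968,nat_lit 3979,nat_lit 3985,nat_lit 3990,nat_lit 3995,nat_lit 4011,nat_lit 4026,nat_lit 4032,nat_lit 4049,nat_lit 4054,nat_lit 4066,nat_lit 4070,nat_lit 4075,nat_lit 4091,nat_lit 4106,nat_lit 4123,nat_lit 4138,nat_lit 4145,nat_lit 4150,nat_lit 4156,nat_lit 4172,nat_lit 4194,nat_lit 4198,nat_lit 4203,nat_lit 4204,nat_lit 4215,nat_lit 4219,nat_lit 4220,nat_lit 4236,nat_lit 4275,nat_lit 4278,nat_lit 4283,nat_lit 4284,nat_lit 4288,nat_lit 4299,nat_lit 4300,nat_lit 4314,nat_lit 4330,nat_lit 4332,nat_lit 4363,nat_lit 4364,nat_lit 4378,nat_lit 4380,nat_lit 4384,nat_lit 4418,nat_lit 4422,nat_lit 4427,nat_lit 4439,nat_lit 4443,nat_lit 4458,nat_lit 4460,nat_lit 4468,nat_lit 4475,nat_lit 4499,nat_lit 4496,nat_lit 4507,nat_lit 4546,nat_lit 4554,nat_lit 4579,nat_lit 4582,nat_lit 4587,nat_lit 4592,nat_lit 4599,nat_lit 4603,nat_lit 4604,nat_lit 4618,nat_lit 4666,nat_lit 4684,nat_lit 4706,nat_lit 4721,nat_lit 4729,nat_lit 4730,nat_lit 4772,nat_lit 4774,nat_lit 4779,nat_lit 4784,nat_lit 4795,nat_lit 4796,nat_lit 4810,nat_lit 4812,nat_lit 4819,nat_lit 4842,nat_lit 4843,nat_lit 4844,nat_lit 4858,nat_lit 4860,nat_lit 4864,nat_lit 4880,nat_lit 4928,nat_lit 4948,nat_lit 4963,nat_lit 4971,nat_lit 4995,nat_lit 5066,nat_lit 5068,nat_lit 5083,nat_lit 5088,nat_lit 5100,nat_lit 5142,nat_lit 5170,nat_lit 5195,nat_lit 5281,nat_lit 5286,nat_lit 5291,nat_lit 5314,nat_lit 5318,nat_lit 5339,nat_lit 5354,nat_lit 5363,nat_lit 5366,nat_lit 5376,nat_lit 5387,nat_lit 5418,nat_lit 5430,nat_lit 5432,nat_lit 5450,nat_lit 5472,nat_lit 5483,nat_lit 5494,nat_lit 5504,nat_lit 5521,nat_lit 5526,nat_lit 5531,nat_lit 5558,nat_lit 5563,nat_lit 5579,nat_lit 5594,nat_lit 5610,nat_lit 5633,nat_lit 5638,nat_lit 5650,nat_lit 5654,nat_lit 5659,nat_lit 5671,nat_lit 5675,nat_lit 5686,nat_lit 5691,nat_lit 5696,nat_lit 5707,nat_lit 5722,nat_lit 5738,nat_lit 5770,nat_lit 5776,nat_lit 5794,nat_lit 5798,nat_lit 5803,nat_lit 5815,nat_lit 5835,nat_lit 5859,nat_lit 5862,nat_lit 5867,nat_lit 5872,nat_lit 5879,nat_lit 5883,nat_lit 5898,nat_lit 5906,nat_lit 5910,nat_lit 5931,nat_lit 5946,nat_lit 5963,nat_lit 5978,nat_lit 5990,nat_lit 5995,nat_lit 6000,nat_lit 6011,nat_lit 6026,nat_lit 6038,nat_lit 6043,nat_lit 6058,nat_lit 6059,nat_lit 6074,nat_lit 6080,nat_lit 6096,nat_lit 6112,nat_lit 6154,nat_lit 6176,nat_lit 6202,nat_lit 6214,nat_lit 6227,nat_lit 6230,nat_lit 6235,nat_lit 6236,nat_lit 6240,nat_lit 6247,nat_lit 6251,nat_lit 6252,nat_lit 6266,nat_lit 6280,nat_lit 6283,nat_lit 6298,nat_lit 6324,nat_lit 6339,nat_lit 6347,nat_lit 6370,nat_lit 6368,nat_lit 6417,nat_lit 6426,nat_lit 6452,nat_lit 6454,nat_lit 6459,nat_lit 6460,nat_lit 6464,nat_lit 6471,nat_lit 6475,nat_lit 6476,nat_lit 6490,nat_lit 6492,nat_lit 6503,nat_lit 6506,nat_lit 6507,nat_lit 6508,nat_lit 6523,nat_lit 6524,nat_lit 6538,nat_lit 6560,nat_lit 6576,nat_lit 6588,nat_lit 6609,nat_lit 6634,nat_lit 6678,nat_lit 6683,nat_lit 6688,nat_lit 6699,nat_lit 6714,nat_lit 6716,nat_lit 6721,nat_lit 6730,nat_lit 6731,nat_lit 6746,nat_lit 6748,nat_lit 6768,nat_lit 6827,nat_lit 6828,nat_lit 6842,nat_lit 6852,nat_lit 6858,nat_lit 6859,nat_lit 6864,nat_lit 6876,nat_lit 6884,nat_lit 6918,nat_lit 6929,nat_lit 6947,nat_lit 6962,nat_lit 6971,nat_lit 6994,nat_lit 7008,nat_lit 7020,nat_lit 7034,nat_lit 7062,nat_lit 7072,nat_lit 7095,nat_lit 7138,nat_lit 7142,nat_lit 7159,nat_lit 7187,nat_lit 7190,nat_lit 7195,nat_lit 7200,nat_lit 7207,nat_lit 7211,nat_lit 7226,nat_lit 7259,nat_lit 7264,nat_lit 7275,nat_lit 7290,nat_lit 7291,nat_lit 7306,nat_lit 7312,nat_lit 7336,nat_lit 7382,nat_lit 7387,nat_lit 7425,nat_lit 7430,nat_lit 7446,nat_lit 7451,nat_lit 7463,nat_lit 7467,nat_lit 7482,nat_lit 7488,nat_lit 7499,nat_lit 7514,nat_lit 7530,nat_lit 7570,nat_lit 7574,nat_lit 7591,nat_lit 7606,nat_lit 7611,nat_lit 7616,nat_lit 7623,nat_lit 7627,nat_lit 7642,nat_lit 7659,nat_lit 7674,nat_lit 7680,nat_lit 7691,nat_lit 7706,nat_lit 7722,nat_lit 7723,nat_lit 7738,nat_lit 7744,nat_lit 7760,nat_lit 7776,nat_lit 7798,nat_lit 7811,nat_lit 7814,nat_lit 7819,nat_lit 7824,nat_lit 7831,nat_lit 7835,nat_lit 7850,nat_lit 7864,nat_lit 7867,nat_lit 7894,nat_lit 7899,nat_lit 7904,nat_lit 7911,nat_lit 7915,nat_lit 7930,nat_lit 7932,nat_lit 7943,nat_lit 7946,nat_lit 7947,nat_lit 7963,nat_lit 7978,nat_lit 7980,nat_lit 7984,nat_lit 7996,nat_lit 8042,nat_lit 8048,nat_lit 8060,nat_lit 8096,nat_lit 8122,nat_lit 8129,nat_lit 8138,nat_lit 8139,nat_lit 8154,nat_lit 8156,nat_lit 8160,nat_lit 8172,nat_lit 8219,nat_lit 8220,nat_lit 8234,nat_lit 8240,nat_lit 8278,nat_lit 8289,nat_lit 8304,nat_lit 8316,nat_lit 8321,nat_lit 8326,nat_lit 8332,nat_lit 8359,nat_lit 8372,nat_lit 8374,nat_lit 8379,nat_lit 8384,nat_lit 8391,nat_lit 8395,nat_lit 8410,nat_lit 8439,nat_lit 8442,nat_lit 8443,nat_lit 8456,nat_lit 8459,nat_lit 8474,nat_lit 8523,nat_lit 8538,nat_lit 8563,nat_lit 8578,nat_lit 8587,nat_lit 8609,nat_lit 8608,nat_lit 8619,nat_lit 8650,nat_lit 8678,nat_lit 8683,nat_lit 8688,nat_lit 8695,nat_lit 8699,nat_lit 8714,nat_lit 8716,nat_lit 8737,nat_lit 8743,nat_lit 8746,nat_lit 8747,nat_lit 8763,nat_lit 8778,nat_lit 8800,nat_lit 8812,nat_lit 8838,nat_lit 8842,nat_lit 8843,nat_lit 8844,nat_lit 8859,nat_lit 8860,nat_lit 8874,nat_lit 8887,nat_lit 8890,nat_lit 8906,nat_lit 8928,nat_lit 8950,nat_lit 8961,nat_lit 9024,nat_lit 9035,nat_lit 9050,nat_lit 9067,nat_lit 9082,nat_lit 9088,nat_lit 9100,nat_lit 9114,nat_lit 9131,nat_lit 9147,nat_lit 9162,nat_lit 9168,nat_lit 9180,nat_lit 9201,nat_lit 9206,nat_lit 9212,nat_lit 9226,nat_lit 9236,nat_lit 9248,nat_lit 9267,nat_lit 9274,nat_lit 9275,nat_lit 9313,nat_lit 9318,nat_lit 9347,nat_lit 9367,nat_lit 9394,nat_lit 9419,nat_lit 9468,nat_lit 9472,nat_lit 9516,nat_lit 9544,nat_lit 9555,nat_lit 9558,nat_lit 9563,nat_lit 9568,nat_lit 9575,nat_lit 9595,nat_lit 9606,nat_lit 9616,nat_lit 9623,nat_lit 9627,nat_lit 9642,nat_lit 9655,nat_lit 9658,nat_lit 9690,nat_lit 9696,nat_lit 9722,nat_lit 9739,nat_lit 9754,nat_lit 9771,nat_lit 9786,nat_lit 9792,nat_lit 9814,nat_lit 9831,nat_lit 9866,nat_lit 9878,nat_lit 9895,nat_lit 9904,nat_lit 9911,nat_lit 9915,nat_lit 9930,nat_lit 9947,nat_lit 9962,nat_lit 9994,nat_lit 9995,nat_lit 10010,nat_lit 10016,nat_lit 10032,nat_lit 10054,nat_lit 10064,nat_lit 10071,nat_lit 10088,nat_lit 10091,nat_lit 10096,nat_lit 10103,nat_lit 10107,nat_lit 10122,nat_lit 10135,nat_lit 10138,nat_lit 10139,nat_lit 10155,nat_lit 10170,nat_lit 10176,nat_lit 10202,nat_lit 10208,nat_lit 10225,nat_lit 10234,nat_lit 10235,nat_lit 10250,nat_lit 10256,nat_lit 10283,nat_lit 10298,nat_lit 10304,nat_lit 10326,nat_lit 10337,nat_lit 10358,nat_lit 10375,nat_lit 10390,nat_lit 10400,nat_lit 10407,nat_lit 10411,nat_lit 10426,nat_lit 10439,nat_lit 10442,nat_lit 10456,nat_lit 10459,nat_lit 10474,nat_lit 10480,nat_lit 10507,nat_lit 10522,nat_lit 10528,nat_lit 10535,nat_lit 10539,nat_lit 10554,nat_lit 10561,nat_lit 10567,nat_lit 10570,nat_lit 10571,nat_lit 10587,nat_lit 10602,nat_lit 10608,nat_lit 10634,nat_lit 10646,nat_lit 10650,nat_lit 10651,nat_lit 10667,nat_lit 10682,nat_lit 10698,nat_lit 10704,nat_lit 10730,nat_lit 10742,nat_lit 10768,nat_lit 10785,nat_lit 10800,nat_lit 10859,nat_lit 10875,nat_lit 10890,nat_lit 10896,nat_lit 10922,nat_lit 10929,nat_lit 10934,nat_lit 10944,nat_lit 10970,nat_lit 10992,nat_lit 11009,nat_lit 11014,nat_lit 11031,nat_lit 11042,nat_lit 11072,nat_lit 11111,nat_lit 11126,nat_lit 11144,nat_lit 11158,nat_lit 11168,nat_lit 11175,nat_lit 11179,nat_lit 11180,nat_lit 11194,nat_lit 11201,nat_lit 11207,nat_lit 11210,nat_lit 11211,nat_lit 11224,nat_lit 11227,nat_lit 11228,nat_lit 11242,nat_lit 11248,nat_lit 11270,nat_lit 11272,nat_lit 11274,nat_lit 11275,nat_lit 11291,nat_lit 11306,nat_lit 11323,nat_lit 11324,nat_lit 11338,nat_lit 11340,nat_lit 11344,nat_lit 11370,nat_lit 11376,nat_lit 11394,nat_lit 11419,nat_lit 11504,nat_lit 11511,nat_lit 11515,nat_lit 11530,nat_lit 11532,nat_lit 11543,nat_lit 11547,nat_lit 11563,nat_lit 11578,nat_lit 11580,nat_lit 11584,nat_lit 11610,nat_lit 11623,nat_lit 11627,nat_lit 11638,nat_lit 11642,nat_lit 11643,nat_lit 11644,nat_lit 11659,nat_lit 11674,nat_lit 11676,nat_lit 11690,nat_lit 11692,nat_lit 11696,nat_lit 11708,nat_lit 11713,nat_lit 11718,nat_lit 11724,nat_lit 11728,nat_lit 11754,nat_lit 11755,nat_lit 11771,nat_lit 11772,nat_lit 11786,nat_lit 11796,nat_lit 11798,nat_lit 11802,nat_lit 11818,nat_lit 11828,nat_lit 11840,nat_lit 11888,nat_lit 11905,nat_lit 11910,nat_lit 11927,nat_lit 11963,nat_lit 11978,nat_lit 11984,nat_lit 12010,nat_lit 12016,nat_lit 12038,nat_lit 12044,nat_lit 12048,nat_lit 12090,nat_lit 12106,nat_lit 12112,nat_lit 12129,nat_lit 12134,nat_lit 12140,nat_lit 12144,nat_lit 12166,nat_lit 12172,nat_lit 12183,nat_lit 12196,nat_lit 12193,nat_lit 12208,nat_lit 12227,nat_lit 12241,nat_lit 12246,nat_lit 12252,nat_lit 12266,nat_lit 12267,nat_lit 12306,nat_lit 12310,nat_lit 12316,nat_lit 12327,nat_lit 12360,nat_lit 12439,nat_lit 12470,nat_lit 12480,nat_lit 12487,nat_lit 12506,nat_lit 12519,nat_lit 12536,nat_lit 12539,nat_lit 12554,nat_lit 12571,nat_lit 12577,nat_lit 12583,nat_lit 12586,nat_lit 12587,nat_lit 12603,nat_lit 12618,nat_lit 12624,nat_lit 12704,nat_lit 12730,nat_lit 12736,nat_lit 12762,nat_lit 12768,nat_lit 12785,nat_lit 12807,nat_lit 12848,nat_lit 12855,nat_lit 12872,nat_lit 12875,nat_lit 12887,nat_lit 12890,nat_lit 12891,nat_lit 12907,nat_lit 12922,nat_lit 12928,nat_lit 12954,nat_lit 12960,nat_lit 12987,nat_lit 13002,nat_lit 13008,nat_lit 13030,nat_lit 13056,nat_lit 13063,nat_lit 13067,nat_lit 13079,nat_lit 13096,nat_lit 13099,nat_lit 13115,nat_lit 13130,nat_lit 13137,nat_lit 13143,nat_lit 13146,nat_lit 13147,nat_lit 13163,nat_lit 13178,nat_lit 13184,nat_lit 13206,nat_lit 13210,nat_lit 13211,nat_lit 13227,nat_lit 13242,nat_lit 13258,nat_lit 13264,nat_lit 13286,nat_lit 13296,nat_lit 13313,nat_lit 13339,nat_lit 13355,nat_lit 13370,nat_lit 13376,nat_lit 13393,nat_lit 13398,nat_lit 13418,nat_lit 13424,nat_lit 13441,nat_lit 13463,nat_lit 13474,nat_lit 13495,nat_lit 13520,nat_lit 13527,nat_lit 13537,nat_lit 13543,nat_lit 13546,nat_lit 13547,nat_lit 13560,nat_lit 13563,nat_lit 13578,nat_lit 13584,nat_lit 13606,nat_lit 13608,nat_lit 13610,nat_lit 13611,nat_lit 13627,nat_lit 13643,nat_lit 13658,nat_lit 13664,nat_lit 13686,nat_lit 13706,nat_lit 13712,nat_lit 13735,nat_lit 13739,nat_lit 13755,nat_lit 13770,nat_lit 13776,nat_lit 13788,nat_lit 13799,nat_lit 13803,nat_lit 13814,nat_lit 13818,nat_lit 13819,nat_lit 13835,nat_lit 13850,nat_lit 13866,nat_lit 13872,nat_lit 13884,nat_lit 13889,nat_lit 13894,nat_lit 13900,nat_lit 13930,nat_lit 13931,nat_lit 13932,nat_lit 13947,nat_lit 13948,nat_lit 13962,nat_lit 13978,nat_lit 13984,nat_lit 14000,nat_lit 14017,nat_lit 14022,nat_lit 14055,nat_lit 14065,nat_lit 14070,nat_lit 14122,nat_lit 14138,nat_lit 14144,nat_lit 14161,nat_lit 14166,nat_lit 14172,nat_lit 14198,nat_lit 14204,nat_lit 14215,nat_lit 14220,nat_lit 14240,nat_lit 14257,nat_lit 14262,nat_lit 14268,nat_lit 14274,nat_lit 14278,nat_lit 14295,nat_lit 14312,nat_lit 14360,nat_lit 14364,nat_lit 14393,nat_lit 14400,nat_lit 14407,nat_lit 14411,nat_lit 14423,nat_lit 14427,nat_lit 14440,nat_lit 14443,nat_lit 14458,nat_lit 14480,nat_lit 14503,nat_lit 14507,nat_lit 14518,nat_lit 14520,nat_lit 14522,nat_lit 14523,nat_lit 14539,nat_lit 14554,nat_lit 14571,nat_lit 14586,nat_lit 14608,nat_lit 14625,nat_lit 14630,nat_lit 14648,nat_lit 14650,nat_lit 14651,nat_lit 14666,nat_lit 14667,nat_lit 14683,nat_lit 14698,nat_lit 14714,nat_lit 14720,nat_lit 14746,nat_lit 14768,nat_lit 14801,nat_lit 14806,nat_lit 14816,nat_lit 14833,nat_lit 14887,nat_lit 14891,nat_lit 14907,nat_lit 14922,nat_lit 14928,nat_lit 14940,nat_lit 14954,nat_lit 14966,nat_lit 14971,nat_lit 14986,nat_lit 15002,nat_lit 15008,nat_lit 15020,nat_lit 15046,nat_lit 15052,nat_lit 15078,nat_lit 15083,nat_lit 15098,nat_lit 15114,nat_lit 15115,nat_lit 15131,nat_lit 15146,nat_lit 15178,nat_lit 15184,nat_lit 15216,nat_lit 15249,nat_lit 15254,nat_lit 15260,nat_lit 15286,nat_lit 15292,nat_lit 15313,nat_lit 15344,nat_lit 15355,nat_lit 15356,nat_lit 15370,nat_lit 15386,nat_lit 15408,nat_lit 15427,nat_lit 15434,nat_lit 15472,nat_lit 15491,nat_lit 15505,nat_lit 15510,nat_lit 15521,nat_lit 15526,nat_lit 15538,nat_lit 15542,nat_lit 15559,nat_lit 15576,nat_lit 15594,nat_lit 15600,nat_lit 15622,nat_lit 15628,nat_lit 15632,nat_lit 15649,nat_lit 15654,nat_lit 15712,nat_lit 15728,nat_lit 15745,nat_lit 15750,nat_lit 15762,nat_lit 15766,nat_lit 15783,nat_lit 15788,nat_lit 15824,nat_lit 15844,nat_lit 15846,nat_lit 15864,nat_lit 15868,nat_lit 15873,nat_lit 15905,nat_lit 15938,nat_lit 15942,nat_lit 15948,nat_lit 15959,nat_lit 16019,nat_lit 16022,nat_lit 16072,nat_lit 16089,nat_lit 16112,nat_lit 16119,nat_lit 16129,nat_lit 16135,nat_lit 16152,nat_lit 16155,nat_lit 16160,nat_lit 16182,nat_lit 16184,nat_lit 16186,nat_lit 16187,nat_lit 16218,nat_lit 16224,nat_lit 16250,nat_lit 16263,nat_lit 16267,nat_lit 16278,nat_lit 16283,nat_lit 16299,nat_lit 16314,nat_lit 16330,nat_lit 16336,nat_lit 16353,nat_lit 16358,nat_lit 16384,nat_lit 16416,nat_lit 16433,nat_lit 16438,nat_lit 16472,nat_lit 16487,nat_lit 16504,nat_lit 16507,nat_lit 16523,nat_lit 16538,nat_lit 16550,nat_lit 16554,nat_lit 16555,nat_lit 16571,nat_lit 16586,nat_lit 16602,nat_lit 16608,nat_lit 16630,nat_lit 16640,nat_lit 16657,nat_lit 16682,nat_lit 16688,nat_lit 16705,nat_lit 16710,nat_lit 16737,nat_lit 16743,nat_lit 16746,nat_lit 16747,nat_lit 16760,nat_lit 16763,nat_lit 16778,nat_lit 16790,nat_lit 16792,nat_lit 16795,nat_lit 16811,nat_lit 16826,nat_lit 16842,nat_lit 16848,nat_lit 16871,nat_lit 16875,nat_lit 16886,nat_lit 16890,nat_lit 16891,nat_lit 16907,nat_lit 16922,nat_lit 16938,nat_lit 16944,nat_lit 16961,nat_lit 16966,nat_lit 16986,nat_lit 16987,nat_lit 17003,nat_lit 17018,nat_lit 17034,nat_lit 17040,nat_lit 17056,nat_lit 17073,nat_lit 17078,nat_lit 17095,nat_lit 17105,nat_lit 17122,nat_lit 17146,nat_lit 17162,nat_lit 17168,nat_lit 17185,nat_lit 17190,nat_lit 17206,nat_lit 17223,nat_lit 17232,nat_lit 17249,nat_lit 17254,nat_lit 17266,nat_lit 17270,nat_lit 17320,nat_lit 17335,nat_lit 17339,nat_lit 17352,nat_lit 17355,nat_lit 17367,nat_lit 17371,nat_lit 17382,nat_lit 17384,nat_lit 17386,nat_lit 17387,nat_lit 17403,nat_lit 17418,nat_lit 17435,nat_lit 17450,nat_lit 17456,nat_lit 17473,nat_lit 17478,nat_lit 17496,nat_lit 17498,nat_lit 17499,nat_lit 17514,nat_lit 17515,nat_lit 17531,nat_lit 17546,nat_lit 17562,nat_lit 17578,nat_lit 17584,nat_lit 17601,nat_lit 17606,nat_lit 17632,nat_lit 17649,nat_lit 17654,nat_lit 17670,nat_lit 17675,nat_lit 17690,nat_lit 17706,nat_lit 17712,nat_lit 17734,nat_lit 17744,nat_lit 17766,nat_lit 17771,nat_lit 17786,nat_lit 17802,nat_lit 17803,nat_lit 17819,nat_lit 17834,nat_lit 17850,nat_lit 17856,nat_lit 17872,nat_lit 17889,nat_lit 17894,nat_lit 17904,nat_lit 17926,nat_lit 17943,nat_lit 17953,nat_lit 17968,nat_lit 17979,nat_lit 17994,nat_lit 18026,nat_lit 18048,nat_lit 18064,nat_lit 18081,nat_lit 18086,nat_lit 18097,nat_lit 18114,nat_lit 18118,nat_lit 18135,nat_lit 18152,nat_lit 18162,nat_lit 18166,nat_lit 18192,nat_lit 18208,nat_lit 18225,nat_lit 18230,nat_lit 18242,nat_lit 18246,nat_lit 18263,nat_lit 18278,nat_lit 18288,nat_lit 18328,nat_lit 18343,nat_lit 18353,nat_lit 18370,nat_lit 18374,nat_lit 18401,nat_lit 18419,nat_lit 18422,nat_lit 18439,nat_lit 18456,nat_lit 18473,nat_lit 18504,nat_lit 18535,nat_lit 18552,nat_lit 18555,nat_lit 18570,nat_lit 18582,nat_lit 18584,nat_lit 18587,nat_lit 18588,nat_lit 18602,nat_lit 18619,nat_lit 18620,nat_lit 18634,nat_lit 18640,nat_lit 18662,nat_lit 18678,nat_lit 18680,nat_lit 18683,nat_lit 18684,nat_lit 18698,nat_lit 18712,nat_lit 18714,nat_lit 18715,nat_lit 18716,nat_lit 18730,nat_lit 18731,nat_lit 18732,nat_lit 18747,nat_lit 18748,nat_lit 18762,nat_lit 18778,nat_lit 18784,nat_lit 18810,nat_lit 18812,nat_lit 18816,nat_lit 18828,nat_lit 18833,nat_lit 18838,nat_lit 18854,nat_lit 18860,nat_lit 18887,nat_lit 18890,nat_lit 18891,nat_lit 18896,nat_lit 18907,nat_lit 18908,nat_lit 18922,nat_lit 18939,nat_lit 18954,nat_lit 18970,nat_lit 18976,nat_lit 18992,nat_lit 19009,nat_lit 19014,nat_lit 19024,nat_lit 19041,nat_lit 19046,nat_lit 19052,nat_lit 19062,nat_lit 19079,nat_lit 19089,nat_lit 19106,nat_lit 19116,nat_lit 19126,nat_lit 19131,nat_lit 19146,nat_lit 19162,nat_lit 19168,nat_lit 19190,nat_lit 19196,nat_lit 19200,nat_lit 19243,nat_lit 19258,nat_lit 19264,nat_lit 19280,nat_lit 19297,nat_lit 19302,nat_lit 19308,nat_lit 19312,nat_lit 19335,nat_lit 19350,nat_lit 19360,nat_lit 19371,nat_lit 19386,nat_lit 19392,nat_lit 19408,nat_lit 19419,nat_lit 19420,nat_lit 19434,nat_lit 19450,nat_lit 19456,nat_lit 19472,nat_lit 19489,nat_lit 19494,nat_lit 19500,nat_lit 19505,nat_lit 19510,nat_lit 19516,nat_lit 19522,nat_lit 19526,nat_lit 19532,nat_lit 19568,nat_lit 19575,nat_lit 19580,nat_lit 19627,nat_lit 19628,nat_lit 19642,nat_lit 19652,nat_lit 19648,nat_lit 19664,nat_lit 19680,nat_lit 19697,nat_lit 19702,nat_lit 19722,nat_lit 19745,nat_lit 19778,nat_lit 19782,nat_lit 19799,nat_lit 19810,nat_lit 19814,nat_lit 19843,nat_lit 19863,nat_lit 19880,nat_lit 19897,nat_lit 19904,nat_lit 19921,nat_lit 19926,nat_lit 19948,nat_lit 19958,nat_lit 19969,nat_lit 19974,nat_lit 19986,nat_lit 19990,nat_lit 20017,nat_lit 20022,nat_lit 20033,nat_lit 20050,nat_lit 20054,nat_lit 20071,nat_lit 20076,nat_lit 20086,nat_lit 20096,nat_lit 20103,nat_lit 20120,nat_lit 20154,nat_lit 20166,nat_lit 20242,nat_lit 20246,nat_lit 20259,nat_lit 20262,nat_lit 20272,nat_lit 20279,nat_lit 20312,nat_lit 20324,nat_lit 20361,nat_lit 20391,nat_lit 20408,nat_lit 20411,nat_lit 20423,nat_lit 20438,nat_lit 20440,nat_lit 20442,nat_lit 20443,nat_lit 20459,nat_lit 20474,nat_lit 20481,nat_lit 20506,nat_lit 20507,nat_lit 20522,nat_lit 20523,nat_lit 20539,nat_lit 20554,nat_lit 20560,nat_lit 20577,nat_lit 20592,nat_lit 20619,nat_lit 20634,nat_lit 20650,nat_lit 20666,nat_lit 20682,nat_lit 20688,nat_lit 20704,nat_lit 20721,nat_lit 20726,nat_lit 20742,nat_lit 20774,nat_lit 20785,nat_lit 20802,nat_lit 20806,nat_lit 20823,nat_lit 20854,nat_lit 20856,nat_lit 20859,nat_lit 20875,nat_lit 20890,nat_lit 20906,nat_lit 20912,nat_lit 20938,nat_lit 20939,nat_lit 20955,nat_lit 20970,nat_lit 20986,nat_lit 20992,nat_lit 21008,nat_lit 21025,nat_lit 21030,nat_lit 21057,nat_lit 21074,nat_lit 21088,nat_lit 21105,nat_lit 21122,nat_lit 21159,nat_lit 21163,nat_lit 21174,nat_lit 21176,nat_lit 21178,nat_lit 21179,nat_lit 21210,nat_lit 21227,nat_lit 21242,nat_lit 21248,nat_lit 21272,nat_lit 21274,nat_lit 21275,nat_lit 21290,nat_lit 21291,nat_lit 21306,nat_lit 21322,nat_lit 21328,nat_lit 21344,nat_lit 21361,nat_lit 21382,nat_lit 21387,nat_lit 21402,nat_lit 21418,nat_lit 21419,nat_lit 21435,nat_lit 21450,nat_lit 21466,nat_lit 21472,nat_lit 21488,nat_lit 21505,nat_lit 21510,nat_lit 21526,nat_lit 21543,nat_lit 21552,nat_lit 21563,nat_lit 21578,nat_lit 21594,nat_lit 21600,nat_lit 21616,nat_lit 21633,nat_lit 21649,nat_lit 21654,nat_lit 21666,nat_lit 21670,nat_lit 21687,nat_lit 21714,nat_lit 21731,nat_lit 21744,nat_lit 21760,nat_lit 21777,nat_lit 21782,nat_lit 21794,nat_lit 21815,nat_lit 21848,nat_lit 21857,nat_lit 21874,nat_lit 21878,nat_lit 21895,nat_lit 21907,nat_lit 21910,nat_lit 21927,nat_lit 21958,nat_lit 21960,nat_lit 21963,nat_lit 21964,nat_lit 21978,nat_lit 21995,nat_lit 21996,nat_lit 22010,nat_lit 22022,nat_lit 22024,nat_lit 22027,nat_lit 22028,nat_lit 22042,nat_lit 22056,nat_lit 22058,nat_lit 22059,nat_lit 22074,nat_lit 22075,nat_lit 22091,nat_lit 22106,nat_lit 22122,nat_lit 22128,nat_lit 22154,nat_lit 22160,nat_lit 22177,nat_lit 22182,nat_lit 22198,nat_lit 22231,nat_lit 22234,nat_lit 22235,nat_lit 22240,nat_lit 22251,nat_lit 22266,nat_lit 22283,nat_lit 22298,nat_lit 22314,nat_lit 22320,nat_lit 22336,nat_lit 22352,nat_lit 22369,nat_lit 22374,nat_lit 22390,nat_lit 22407,nat_lit 22417,nat_lit 22434,nat_lit 22438,nat_lit 22490,nat_lit 22496,nat_lit 22512,nat_lit 22529,nat_lit 22534,nat_lit 22540,nat_lit 22556,nat_lit 22576,nat_lit 22587,nat_lit 22602,nat_lit 22608,nat_lit 22624,nat_lit 22635,nat_lit 22650,nat_lit 22666,nat_lit 22672,nat_lit 22688,nat_lit 22705,nat_lit 22710,nat_lit 22721,nat_lit 22738,nat_lit 22742,nat_lit 22748,nat_lit 22759,nat_lit 22784,nat_lit 22791,nat_lit 22796,nat_lit 22808,nat_lit 22843,nat_lit 22844,nat_lit 22858,nat_lit 22864,nat_lit 22880,nat_lit 22897,nat_lit 22902,nat_lit 22913,nat_lit 22930,nat_lit 22934,nat_lit 22951,nat_lit 22962,nat_lit 22966,nat_lit 22979,nat_lit 22982,nat_lit 22999,nat_lit 23016,nat_lit 23046,nat_lit 23056,nat_lit 23073,nat_lit 23078,nat_lit 23089,nat_lit 23106,nat_lit 23110,nat_lit 23127,nat_lit 23132,nat_lit 23139,nat_lit 23142,nat_lit 23152,nat_lit 23159,nat_lit 23176,nat_lit 23180,nat_lit 23225,nat_lit 23228,nat_lit 23250,nat_lit 23267,nat_lit 23270,nat_lit 23276,nat_lit 23280,nat_lit 23287,nat_lit 23316,nat_lit 23335,nat_lit 23352,nat_lit 23369,nat_lit 23414,nat_lit 23416,nat_lit 23419,nat_lit 23435,nat_lit 23450,nat_lit 23456,nat_lit 23480,nat_lit 23483,nat_lit 23499,nat_lit 23500,nat_lit 23514,nat_lit 23536,nat_lit 23562,nat_lit 23564,nat_lit 23584,nat_lit 23601,nat_lit 23606,nat_lit 23632,nat_lit 23640,nat_lit 23643,nat_lit 23644,nat_lit 23659,nat_lit 23660,nat_lit 23674,nat_lit 23688,nat_lit 23696,nat_lit 23719,nat_lit 23722,nat_lit 23723,nat_lit 23724,nat_lit 23728,nat_lit 23739,nat_lit 23740,nat_lit 23754,nat_lit 23768,nat_lit 23770,nat_lit 23787,nat_lit 23802,nat_lit 23834,nat_lit 23856,nat_lit 23872,nat_lit 23889,nat_lit 23904,nat_lit 23937,nat_lit 23942,nat_lit 23970,nat_lit 23974,nat_lit 23991,nat_lit 24000,nat_lit 24007,nat_lit 24022,nat_lit 24042,nat_lit 24048,nat_lit 24059,nat_lit 24074,nat_lit 24091,nat_lit 24106,nat_lit 24108,nat_lit 24128,nat_lit 24154,nat_lit 24160,nat_lit 24176,nat_lit 24193,nat_lit 24198,nat_lit 24209,nat_lit 24226,nat_lit 24230,nat_lit 24247,nat_lit 24257,nat_lit 24262,nat_lit 24274,nat_lit 24284,nat_lit 24327,nat_lit 24344,nat_lit 24354,nat_lit 24371,nat_lit 24374,nat_lit 24380,nat_lit 24411,nat_lit 24426,nat_lit 24432,nat_lit 24448,nat_lit 24465,nat_lit 24470,nat_lit 24492,nat_lit 24538,nat_lit 24544,nat_lit 24561,nat_lit 24566,nat_lit 24577,nat_lit 24582,nat_lit 24598,nat_lit 24615,nat_lit 24620,nat_lit 24625,nat_lit 24699,nat_lit 24714,nat_lit 24720,nat_lit 24737,nat_lit 24742,nat_lit 24764,nat_lit 24778,nat_lit 24788,nat_lit 24784,nat_lit 24795,nat_lit 24800,nat_lit 24816,nat_lit 24833,nat_lit 24838,nat_lit 24849,nat_lit 24866,nat_lit 24870,nat_lit 24914,nat_lit 24918,nat_lit 24935,nat_lit 24963,nat_lit 24966,nat_lit 24972,nat_lit 24976,nat_lit 24983,nat_lit 24988,nat_lit 25015,nat_lit 25018,nat_lit 25044,nat_lit 25047,nat_lit 25066,nat_lit 25076,nat_lit 25088,nat_lit 25107,nat_lit 25104,nat_lit 25137,nat_lit 25142,nat_lit 25153,nat_lit 25158,nat_lit 25170,nat_lit 25174,nat_lit 25191,nat_lit 25218,nat_lit 25222,nat_lit 25235,nat_lit 25238,nat_lit 25248,nat_lit 25255,nat_lit 25272,nat_lit 25286,nat_lit 25296,nat_lit 25303,nat_lit 25324,nat_lit 25336,nat_lit 25353,nat_lit 25377,nat_lit 25382,nat_lit 25394,nat_lit 25398,nat_lit 25458,nat_lit 25462,nat_lit 25494,nat_lit 25526,nat_lit 25543,nat_lit 25558,nat_lit 25571,nat_lit 25574,nat_lit 25580,nat_lit 25584,nat_lit 25591,nat_lit 25608,nat_lit 25612,nat_lit 25639,nat_lit 25658,nat_lit 25672,nat_lit 25731,nat_lit 25734,nat_lit 25740,nat_lit 25744,nat_lit 25764,nat_lit 25766,nat_lit 25776,nat_lit 25788,nat_lit 25799,nat_lit 25816,nat_lit 25833,nat_lit 25845,nat_lit 25878,nat_lit 25880,nat_lit 25914,nat_lit 25926,nat_lit 25928,nat_lit 25944,nat_lit 25946,nat_lit 25947,nat_lit 25962,nat_lit 25963,nat_lit 25979,nat_lit 25994,nat_lit 26010,nat_lit 26016,nat_lit 26038,nat_lit 26059,nat_lit 26074,nat_lit 26091,nat_lit 26106,nat_lit 26122,nat_lit 26128,nat_lit 26145,nat_lit 26162,nat_lit 26177,nat_lit 26202,nat_lit 26208,nat_lit 26224,nat_lit 26235,nat_lit 26240,nat_lit 26256,nat_lit 26273,nat_lit 26289,nat_lit 26306,nat_lit 26310,nat_lit 26336,nat_lit 26359,nat_lit 26370,nat_lit 26390,nat_lit 26407,nat_lit 26424,nat_lit 26442,nat_lit 26459,nat_lit 26474,nat_lit 26490,nat_lit 26496,nat_lit 26512,nat_lit 26529,nat_lit 26544,nat_lit 26555,nat_lit 26570,nat_lit 26586,nat_lit 26592,nat_lit 26608,nat_lit 26625,nat_lit 26630,nat_lit 26641,nat_lit 26658,nat_lit 26690,nat_lit 26721,nat_lit 26726,nat_lit 26738,nat_lit 26742,nat_lit 26755,nat_lit 26774,nat_lit 26776,nat_lit 26779,nat_lit 26794,nat_lit 26808,nat_lit 26810,nat_lit 26811,nat_lit 26826,nat_lit 26827,nat_lit 26843,nat_lit 26858,nat_lit 26864,nat_lit 26890,nat_lit 26896,nat_lit 26913,nat_lit 26935,nat_lit 26938,nat_lit 26939,nat_lit 26944,nat_lit 26955,nat_lit 26970,nat_lit 26987,nat_lit 27002,nat_lit 27008,nat_lit 27024,nat_lit 27041,nat_lit 27057,nat_lit 27062,nat_lit 27074,nat_lit 27078,nat_lit 27099,nat_lit 27114,nat_lit 27120,nat_lit 27147,nat_lit 27162,nat_lit 27178,nat_lit 27184,nat_lit 27200,nat_lit 27217,nat_lit 27233,nat_lit 27238,nat_lit 27250,nat_lit 27254,nat_lit 27271,nat_lit 27280,nat_lit 27338,nat_lit 27344,nat_lit 27360,nat_lit 27377,nat_lit 27382,nat_lit 27393,nat_lit 27410,nat_lit 27414,nat_lit 27426,nat_lit 27430,nat_lit 27447,nat_lit 27459,nat_lit 27462,nat_lit 27479,nat_lit 27507,nat_lit 27510,nat_lit 27524,nat_lit 27537,nat_lit 27542,nat_lit 27553,nat_lit 27570,nat_lit 27574,nat_lit 27591,nat_lit 27603,nat_lit 27606,nat_lit 27624,nat_lit 27650,nat_lit 27667,nat_lit 27670,nat_lit 27680,nat_lit 27687,nat_lit 27704,nat_lit 27716,nat_lit 27718,nat_lit 27735,nat_lit 27768,nat_lit 27771,nat_lit 27787,nat_lit 27802,nat_lit 27816,nat_lit 27824,nat_lit 27850,nat_lit 27867,nat_lit 27872,nat_lit 27888,nat_lit 27896,nat_lit 27899,nat_lit 27915,nat_lit 27930,nat_lit 27942,nat_lit 27952,nat_lit 27975,nat_lit 27978,nat_lit 27979,nat_lit 27984,nat_lit 27995,nat_lit 28010,nat_lit 28027,nat_lit 28042,nat_lit 28058,nat_lit 28064,nat_lit 28080,nat_lit 28097,nat_lit 28112,nat_lit 28129,nat_lit 28146,nat_lit 28150,nat_lit 28176,nat_lit 28203,nat_lit 28208,nat_lit 28219,nat_lit 28234,nat_lit 28251,nat_lit 28266,nat_lit 28272,nat_lit 28298,nat_lit 28304,nat_lit 28320,nat_lit 28337,nat_lit 28342,nat_lit 28353,nat_lit 28369,nat_lit 28374,nat_lit 28386,nat_lit 28390,nat_lit 28407,nat_lit 28423,nat_lit 28450,nat_lit 28467,nat_lit 28470,nat_lit 28496,nat_lit 28513,nat_lit 28518,nat_lit 28529,nat_lit 28546,nat_lit 28550,nat_lit 28619,nat_lit 28634,nat_lit 28640,nat_lit 28657,nat_lit 28683,nat_lit 28698,nat_lit 28704,nat_lit 28720,nat_lit 28737,nat_lit 28742,nat_lit 28753,nat_lit 28770,nat_lit 28774,nat_lit 28791,nat_lit 28802,nat_lit 28806,nat_lit 28819,nat_lit 28822,nat_lit 28832,nat_lit 28839,nat_lit 28854,nat_lit 28872,nat_lit 28887,nat_lit 28912,nat_lit 28954,nat_lit 28976,nat_lit 28993,nat_lit 28998,nat_lit 29009,nat_lit 29014,nat_lit 29026,nat_lit 29030,nat_lit 29047,nat_lit 29058,nat_lit 29075,nat_lit 29078,nat_lit 29088,nat_lit 29095,nat_lit 29126,nat_lit 29136,nat_lit 29143,nat_lit 29156,nat_lit 29192,nat_lit 29216,nat_lit 29250,nat_lit 29254,nat_lit 29271,nat_lit 29282,nat_lit 29286,nat_lit 29299,nat_lit 29302,nat_lit 29312,nat_lit 29336,nat_lit 29351,nat_lit 29364,nat_lit 29376,nat_lit 29383,nat_lit 29416,nat_lit 29433,nat_lit 29448,nat_lit 29491,nat_lit 29494,nat_lit 29508,nat_lit 29520,nat_lit 29527,nat_lit 29542,nat_lit 29559,nat_lit 29576,nat_lit 29589,nat_lit 29656,nat_lit 29659,nat_lit 29675,nat_lit 29690,nat_lit 29706,nat_lit 29712,nat_lit 29729,nat_lit 29751,nat_lit 29755,nat_lit 29756,nat_lit 29770,nat_lit 29786,nat_lit 29808,nat_lit 29825,nat_lit 29830,nat_lit 29840,nat_lit 29873,nat_lit 29878,nat_lit 29890,nat_lit 29894,nat_lit 29911,nat_lit 29928,nat_lit 29931,nat_lit 29943,nat_lit 29947,nat_lit 29948,nat_lit 29962,nat_lit 29994,nat_lit 29996,nat_lit 30011,nat_lit 30016,nat_lit 30049,nat_lit 30054,nat_lit 30074,nat_lit 30075,nat_lit 30076,nat_lit 30080,nat_lit 30091,nat_lit 30092,nat_lit 30106,nat_lit 30108,nat_lit 30119,nat_lit 30139,nat_lit 30154,nat_lit 30156,nat_lit 30171,nat_lit 30176,nat_lit 30188,nat_lit 30234,nat_lit 30240,nat_lit 30256,nat_lit 30273,nat_lit 30278,nat_lit 30289,nat_lit 30306,nat_lit 30310,nat_lit 30321,nat_lit 30326,nat_lit 30332,nat_lit 30338,nat_lit 30342,nat_lit 30348,nat_lit 30359,nat_lit 30371,nat_lit 30374,nat_lit 30384,nat_lit 30391,nat_lit 30423,nat_lit 30428,nat_lit 30444,nat_lit 30475,nat_lit 30481,nat_lit 30491,nat_lit 30506,nat_lit 30512,nat_lit 30538,nat_lit 30544,nat_lit 30556,nat_lit 30570,nat_lit 30577,nat_lit 30582,nat_lit 30592,nat_lit 30609,nat_lit 30614,nat_lit 30625,nat_lit 30642,nat_lit 30646,nat_lit 30663,nat_lit 30674,nat_lit 30694,nat_lit 30704,nat_lit 30711,nat_lit 30728,nat_lit 30738,nat_lit 30759,nat_lit 30771,nat_lit 30774,nat_lit 30780,nat_lit 30786,nat_lit 30825,nat_lit 30835,nat_lit 30854,nat_lit 30860,nat_lit 30864,nat_lit 30876,nat_lit 30886,nat_lit 30906,nat_lit 30912,nat_lit 30929,nat_lit 30945,nat_lit 30962,nat_lit 30999,nat_lit 31008,nat_lit 31025,nat_lit 31030,nat_lit 31042,nat_lit 31046,nat_lit 31052,nat_lit 31063,nat_lit 31074,nat_lit 31078,nat_lit 31111,nat_lit 31178,nat_lit 31184,nat_lit 31201,nat_lit 31206,nat_lit 31218,nat_lit 31222,nat_lit 31239,nat_lit 31252,nat_lit 31264,nat_lit 31276,nat_lit 31280,nat_lit 31291,nat_lit 31329,nat_lit 31334,nat_lit 31345,nat_lit 31362,nat_lit 31366,nat_lit 31383,nat_lit 31394,nat_lit 31398,nat_lit 31404,nat_lit 31411,nat_lit 31414,nat_lit 31424,nat_lit 31431,nat_lit 31446,nat_lit 31452,nat_lit 31463,nat_lit 31500,nat_lit 31504,nat_lit 31511,nat_lit 31516,nat_lit 31526,nat_lit 31543,nat_lit 31546,nat_lit 31560,nat_lit 31568,nat_lit 31590,nat_lit 31594,nat_lit 31611,nat_lit 31623,nat_lit 31648,nat_lit 31667,nat_lit 31681,nat_lit 31686,nat_lit 31696,nat_lit 31730,nat_lit 31734,nat_lit 31762,nat_lit 31766,nat_lit 31795,nat_lit 31798,nat_lit 31808,nat_lit 31815,nat_lit 31832,nat_lit 31843,nat_lit 31846,nat_lit 31863,nat_lit 31876,nat_lit 31884,nat_lit 31888,nat_lit 31895,nat_lit 31911,nat_lit 31928,nat_lit 31945,nat_lit 31952,nat_lit 31959,nat_lit 31975,nat_lit 31978,nat_lit 32004,nat_lit 32050,nat_lit 32083,nat_lit 32086,nat_lit 32128,nat_lit 32160,nat_lit 32167,nat_lit 32192,nat_lit 32214,nat_lit 32224,nat_lit 32231,nat_lit 32243,nat_lit 32263,nat_lit 32266,nat_lit 32280,nat_lit 32297,nat_lit 32328,nat_lit 32374,nat_lit 32384,nat_lit 32404,nat_lit 32403,nat_lit 32423,nat_lit 32437,nat_lit 32448,nat_lit 32465,nat_lit 32471,nat_lit 32480,nat_lit 32502,nat_lit 32504,nat_lit 32521,nat_lit 32568,nat_lit 32587,nat_lit 32592,nat_lit 32616,nat_lit 32635,nat_lit 32647,nat_lit 32650,nat_lit 32651,nat_lit 32667,nat_lit 32682,nat_lit 32699,nat_lit 32714,nat_lit 32730,nat_lit 32736,nat_lit 32752,nat_lit 32769,nat_lit 32784,nat_lit 32791,nat_lit 32810,nat_lit 32816,nat_lit 32842,nat_lit 32848,nat_lit 32864,nat_lit 32881,nat_lit 32886,nat_lit 32898,nat_lit 32915,nat_lit 32918,nat_lit 32944,nat_lit 32961,nat_lit 33009,nat_lit 33025,nat_lit 33042,nat_lit 33046,nat_lit 33058,nat_lit 33078,nat_lit 33088,nat_lit 33128,nat_lit 33142,nat_lit 33152,nat_lit 33159,nat_lit 33176,nat_lit 33200,nat_lit 33211,nat_lit 33226,nat_lit 33232,nat_lit 33248,nat_lit 33265,nat_lit 33281,nat_lit 33298,nat_lit 33302,nat_lit 33323,nat_lit 33338,nat_lit 33344,nat_lit 33360,nat_lit 33377,nat_lit 33382,nat_lit 33393,nat_lit 33410,nat_lit 33414,nat_lit 33442,nat_lit 33446,nat_lit 33475,nat_lit 33490,nat_lit 33494,nat_lit 33523,nat_lit 33526,nat_lit 33543,nat_lit 33568,nat_lit 33576,nat_lit 33595,nat_lit 33610,nat_lit 33616,nat_lit 33639,nat_lit 33642,nat_lit 33643,nat_lit 33659,nat_lit 33674,nat_lit 33691,nat_lit 33706,nat_lit 33722,nat_lit 33728,nat_lit 33745,nat_lit 33760,nat_lit 33777,nat_lit 33794,nat_lit 33819,nat_lit 33824,nat_lit 33835,nat_lit 33850,nat_lit 33867,nat_lit 33882,nat_lit 33888,nat_lit 33914,nat_lit 33920,nat_lit 33937,nat_lit 33953,nat_lit 33970,nat_lit 33974,nat_lit 33986,nat_lit 33990,nat_lit 34007,nat_lit 34019,nat_lit 34022,nat_lit 34032,nat_lit 34058,nat_lit 34064,nat_lit 34081,nat_lit 34106,nat_lit 34112,nat_lit 34128,nat_lit 34145,nat_lit 34150,nat_lit 34161,nat_lit 34166,nat_lit 34178,nat_lit 34182,nat_lit 34194,nat_lit 34198,nat_lit 34215,nat_lit 34227,nat_lit 34230,nat_lit 34240,nat_lit 34247,nat_lit 34288,nat_lit 34305,nat_lit 34310,nat_lit 34321,nat_lit 34326,nat_lit 34338,nat_lit 34342,nat_lit 34359,nat_lit 34370,nat_lit 34374,nat_lit 34387,nat_lit 34390,nat_lit 34400,nat_lit 34407,nat_lit 34419,nat_lit 34422,nat_lit 34432,nat_lit 34468,nat_lit 34487,nat_lit 34516,nat_lit 34528,nat_lit 34549,nat_lit 34556,nat_lit 34562,nat_lit 34566,nat_lit 34594,nat_lit 34598,nat_lit 34611,nat_lit 34614,nat_lit 34624,nat_lit 34648,nat_lit 34660,nat_lit 34662,nat_lit 34672,nat_lit 34679,nat_lit 34707,nat_lit 34710,nat_lit 34724,nat_lit 34726,nat_lit 34743,nat_lit 34759,nat_lit 34776,nat_lit 34823,nat_lit 34855,nat_lit 34859,nat_lit 34874,nat_lit 34890,nat_lit 34892,nat_lit 34896,nat_lit 34929,nat_lit 34944,nat_lit 34977,nat_lit 35000,nat_lit 35003,nat_lit 35015,nat_lit 35019,nat_lit 35020,nat_lit 35034,nat_lit 35050,nat_lit 35052,nat_lit 35056,nat_lit 35089,nat_lit 35100,nat_lit 35114,nat_lit 35115,nat_lit 35116,nat_lit 35120,nat_lit 35131,nat_lit 35146,nat_lit 35163,nat_lit 35178,nat_lit 35180,nat_lit 35184,nat_lit 35210,nat_lit 35216,nat_lit 35232,nat_lit 35249,nat_lit 35254,nat_lit 35265,nat_lit 35282,nat_lit 35286,nat_lit 35297,nat_lit 35302,nat_lit 35314,nat_lit 35318,nat_lit 35324,nat_lit 35331,nat_lit 35334,nat_lit 35344,nat_lit 35351,nat_lit 35367,nat_lit 35370,nat_lit 35386,nat_lit 35403,nat_lit 35418,nat_lit 35424,nat_lit 35450,nat_lit 35456,nat_lit 35468,nat_lit 35473,nat_lit 35478,nat_lit 35488,nat_lit 35505,nat_lit 35510,nat_lit 35521,nat_lit 35526,nat_lit 35538,nat_lit 35542,nat_lit 35570,nat_lit 35586,nat_lit 35590,nat_lit 35607,nat_lit 35619,nat_lit 35622,nat_lit 35628,nat_lit 35632,nat_lit 35639,nat_lit 35686,nat_lit 35702,nat_lit 35712,nat_lit 35724,nat_lit 35729,nat_lit 35734,nat_lit 35746,nat_lit 35750,nat_lit 35767,nat_lit 35778,nat_lit 35798,nat_lit 35834,nat_lit 35840,nat_lit 35857,nat_lit 35874,nat_lit 35878,nat_lit 35898,nat_lit 35904,nat_lit 35921,nat_lit 35926,nat_lit 35937,nat_lit 35942,nat_lit 35954,nat_lit 35958,nat_lit 35986,nat_lit 36003,nat_lit 36006,nat_lit 36012,nat_lit 36016,nat_lit 36023,nat_lit 36040,nat_lit 36051,nat_lit 36054,nat_lit 36064,nat_lit 36071,nat_lit 36084,nat_lit 36096,nat_lit 36108,nat_lit 36119,nat_lit 36122,nat_lit 36124,nat_lit 36136,nat_lit 36182,nat_lit 36186,nat_lit 36208,nat_lit 36225,nat_lit 36230,nat_lit 36242,nat_lit 36246,nat_lit 36263,nat_lit 36274,nat_lit 36278,nat_lit 36295,nat_lit 36307,nat_lit 36310,nat_lit 36320,nat_lit 36327,nat_lit 36344,nat_lit 36355,nat_lit 36358,nat_lit 36372,nat_lit 36384,nat_lit 36391,nat_lit 36407,nat_lit 36424,nat_lit 36432,nat_lit 36455,nat_lit 36472,nat_lit 36492,nat_lit 36513,nat_lit 36522,nat_lit 36534,nat_lit 36544,nat_lit 36551,nat_lit 36579,nat_lit 36582,nat_lit 36592,nat_lit 36612,nat_lit 36620,nat_lit 36624,nat_lit 36631,nat_lit 36647,nat_lit 36650,nat_lit 36668,nat_lit 36693,nat_lit 36700,nat_lit 36714,nat_lit 36728,nat_lit 36745,nat_lit 36788,nat_lit 36790,nat_lit 36796,nat_lit 36821,nat_lit 36828,nat_lit 36833,nat_lit 36839,nat_lit 36844,nat_lit 36856,nat_lit 36886,nat_lit 36888,nat_lit 36935,nat_lit 36939,nat_lit 36954,nat_lit 36970,nat_lit 36976,nat_lit 36992,nat_lit 37009,nat_lit 37026,nat_lit 37051,nat_lit 37066,nat_lit 37088,nat_lit 37104,nat_lit 37116,nat_lit 37121,nat_lit 37126,nat_lit 37138,nat_lit 37142,nat_lit 37148,nat_lit 37159,nat_lit 37169,nat_lit 37174,nat_lit 37186,nat_lit 37190,nat_lit 37207,nat_lit 37222,nat_lit 37271,nat_lit 37275,nat_lit 37290,nat_lit 37307,nat_lit 37322,nat_lit 37344,nat_lit 37360,nat_lit 37372,nat_lit 37386,nat_lit 37409,nat_lit 37414,nat_lit 37426,nat_lit 37430,nat_lit 37436,nat_lit 37447,nat_lit 37467,nat_lit 37468,nat_lit 37482,nat_lit 37498,nat_lit 37515,nat_lit 37530,nat_lit 37552,nat_lit 37616,nat_lit 37628,nat_lit 37642,nat_lit 37665,nat_lit 37670,nat_lit 37696,nat_lit 37713,nat_lit 37718,nat_lit 37729,nat_lit 37746,nat_lit 37750,nat_lit 37778,nat_lit 37795,nat_lit 37798,nat_lit 37804,nat_lit 37808,nat_lit 37815,nat_lit 37826,nat_lit 37830,nat_lit 37875,nat_lit 37878,nat_lit 37884,nat_lit 37888,nat_lit 37895,nat_lit 37942,nat_lit 37952,nat_lit 37959,nat_lit 37964,nat_lit 37975,nat_lit 37978,nat_lit 37980,nat_lit 37992,nat_lit 38010,nat_lit 38012,nat_lit 38020,nat_lit 38023,nat_lit 38036,nat_lit 38058,nat_lit 38075,nat_lit 38090,nat_lit 38096,nat_lit 38113,nat_lit 38118,nat_lit 38128,nat_lit 38145,nat_lit 38156,nat_lit 38194,nat_lit 38198,nat_lit 38225,nat_lit 38230,nat_lit 38242,nat_lit 38246,nat_lit 38263,nat_lit 38274,nat_lit 38278,nat_lit 38291,nat_lit 38294,nat_lit 38304,nat_lit 38311,nat_lit 38328,nat_lit 38339,nat_lit 38342,nat_lit 38352,nat_lit 38375,nat_lit 38409,nat_lit 38419,nat_lit 38422,nat_lit 38452,nat_lit 38454,nat_lit 38460,nat_lit 38464,nat_lit 38476,nat_lit 38534,nat_lit 38544,nat_lit 38556,nat_lit 38566,nat_lit 38586,nat_lit 38588,nat_lit 38596,nat_lit 38592,nat_lit 38624,nat_lit 38641,nat_lit 38646,nat_lit 38658,nat_lit 38662,nat_lit 38674,nat_lit 38691,nat_lit 38721,nat_lit 38726,nat_lit 38738,nat_lit 38742,nat_lit 38774,nat_lit 38784,nat_lit 38791,nat_lit 38835,nat_lit 38838,nat_lit 38848,nat_lit 38855,nat_lit 38880,nat_lit 38897,nat_lit 38902,nat_lit 38914,nat_lit 38918,nat_lit 38924,nat_lit 38935,nat_lit 38947,nat_lit 38950,nat_lit 38960,nat_lit 38967,nat_lit 38984,nat_lit 39009,nat_lit 39028,nat_lit 39024,nat_lit 39074,nat_lit 39078,nat_lit 39095,nat_lit 39106,nat_lit 39110,nat_lit 39123,nat_lit 39136,nat_lit 39143,nat_lit 39160,nat_lit 39174,nat_lit 39184,nat_lit 39228,nat_lit 39232,nat_lit 39244,nat_lit 39255,nat_lit 39258,nat_lit 39272,nat_lit 39287,nat_lit 39332,nat_lit 39351,nat_lit 39354,nat_lit 39356,nat_lit 39414,nat_lit 39418,nat_lit 39435,nat_lit 39449,nat_lit 39482,nat_lit 39537,nat_lit 39542,nat_lit 39570,nat_lit 39574,nat_lit 39622,nat_lit 39632,nat_lit 39654,nat_lit 39664,nat_lit 39671,nat_lit 39684,nat_lit 39692,nat_lit 39696,nat_lit 39703,nat_lit 39719,nat_lit 39722,nat_lit 39736,nat_lit 39753,nat_lit 39766,nat_lit 39776,nat_lit 39783,nat_lit 39800,nat_lit 39813,nat_lit 39828,nat_lit 39841,nat_lit 39847,nat_lit 39880,nat_lit 39921,nat_lit 39927,nat_lit 39962,nat_lit 39987,nat_lit 40003,nat_lit 40006,nat_lit 40022,nat_lit 40071,nat_lit 40106,nat_lit 40112,nat_lit 40129,nat_lit 40135,nat_lit 40152,nat_lit 40164,nat_lit 40217,nat_lit 40268,nat_lit 40279,nat_lit 40291,nat_lit 40308,nat_lit 40326,nat_lit 40328,nat_lit 40353,nat_lit 40375,nat_lit 40390,nat_lit 40392,nat_lit 40396,nat_lit 40441,nat_lit 40471,nat_lit 40475,nat_lit 40490,nat_lit 40497,nat_lit 40519,nat_lit 40538,nat_lit 40554,nat_lit 40555,nat_lit 40586,nat_lit 40602,nat_lit 40608,nat_lit 40634,nat_lit 40640,nat_lit 40656,nat_lit 40673,nat_lit 40689,nat_lit 40706,nat_lit 40727,nat_lit 40752,nat_lit 40769,nat_lit 40774,nat_lit 40784,nat_lit 40801,nat_lit 40817,nat_lit 40834,nat_lit 40838,nat_lit 40867,nat_lit 40886,nat_lit 40896,nat_lit 40913,nat_lit 40930,nat_lit 40946,nat_lit 40966,nat_lit 40982,nat_lit 41072,nat_lit 41079,nat_lit 41089,nat_lit 41095,nat_lit 41112,nat_lit 41147,nat_lit 41162,nat_lit 41168,nat_lit 41185,nat_lit 41201,nat_lit 41218,nat_lit 41234,nat_lit 41251,nat_lit 41254,nat_lit 41264,nat_lit 41290,nat_lit 41296,nat_lit 41313,nat_lit 41318,nat_lit 41329,nat_lit 41334,nat_lit 41346,nat_lit 41350,nat_lit 41378,nat_lit 41382,nat_lit 41395,nat_lit 41398,nat_lit 41427,nat_lit 41430,nat_lit 41440,nat_lit 41460,nat_lit 41475,nat_lit 41478,nat_lit 41488,nat_lit 41495,nat_lit 41508,nat_lit 41560,nat_lit 41575,nat_lit 41579,nat_lit 41594,nat_lit 41600,nat_lit 41617,nat_lit 41642,nat_lit 41643,nat_lit 41659,nat_lit 41674,nat_lit 41690,nat_lit 41696,nat_lit 41722,nat_lit 41728,nat_lit 41744,nat_lit 41761,nat_lit 41766,nat_lit 41778,nat_lit 41793,nat_lit 41810,nat_lit 41827,nat_lit 41850,nat_lit 41867,nat_lit 41882,nat_lit 41888,nat_lit 41914,nat_lit 41920,nat_lit 41937,nat_lit 41952,nat_lit 41969,nat_lit 41974,nat_lit 41986,nat_lit 42002,nat_lit 42006,nat_lit 42019,nat_lit 42022,nat_lit 42032,nat_lit 42051,nat_lit 42064,nat_lit 42071,nat_lit 42100,nat_lit 42112,nat_lit 42138,nat_lit 42144,nat_lit 42161,nat_lit 42178,nat_lit 42182,nat_lit 42192,nat_lit 42209,nat_lit 42214,nat_lit 42225,nat_lit 42230,nat_lit 42242,nat_lit 42246,nat_lit 42263,nat_lit 42274,nat_lit 42278,nat_lit 42295,nat_lit 42307,nat_lit 42310,nat_lit 42320,nat_lit 42327,nat_lit 42339,nat_lit 42342,nat_lit 42352,nat_lit 42359,nat_lit 42388,nat_lit 42400,nat_lit 42449,nat_lit 42454,nat_lit 42466,nat_lit 42470,nat_lit 42487,nat_lit 42498,nat_lit 42502,nat_lit 42519,nat_lit 42531,nat_lit 42544,nat_lit 42551,nat_lit 42579,nat_lit 42582,nat_lit 42592,nat_lit 42612,nat_lit 42614,nat_lit 42624,nat_lit 42631,nat_lit 42647,nat_lit 42676,nat_lit 42688,nat_lit 42714,nat_lit 42725,nat_lit 42726,nat_lit 42732,nat_lit 42757,nat_lit 42800,nat_lit 42819,nat_lit 42822,nat_lit 42832,nat_lit 42839,nat_lit 42851,nat_lit 42854,nat_lit 42864,nat_lit 42884,nat_lit 42886,nat_lit 42896,nat_lit 42903,nat_lit 42950,nat_lit 42960,nat_lit 42967,nat_lit 42986,nat_lit 43012,nat_lit 43014,nat_lit 43024,nat_lit 43046,nat_lit 43080,nat_lit 43096,nat_lit 43147,nat_lit 43162,nat_lit 43168,nat_lit 43184,nat_lit 43210,nat_lit 43217,nat_lit 43222,nat_lit 43234,nat_lit 43238,nat_lit 43249,nat_lit 43254,nat_lit 43266,nat_lit 43287,nat_lit 43291,nat_lit 43306,nat_lit 43323,nat_lit 43338,nat_lit 43351,nat_lit 43360,nat_lit 43376,nat_lit 43409,nat_lit 43426,nat_lit 43430,nat_lit 43441,nat_lit 43456,nat_lit 43467,nat_lit 43482,nat_lit 43515,nat_lit 43530,nat_lit 43536,nat_lit 43562,nat_lit 43568,nat_lit 43601,nat_lit 43606,nat_lit 43616,nat_lit 43633,nat_lit 43649,nat_lit 43666,nat_lit 43670,nat_lit 43698,nat_lit 43702,nat_lit 43715,nat_lit 43718,nat_lit 43728,nat_lit 43735,nat_lit 43746,nat_lit 43750,nat_lit 43779,nat_lit 43782,nat_lit 43792,nat_lit 43799,nat_lit 43810,nat_lit 43830,nat_lit 43840,nat_lit 43847,nat_lit 43863,nat_lit 43866,nat_lit 43880,nat_lit 43894,nat_lit 43898,nat_lit 43915,nat_lit 43920,nat_lit 43946,nat_lit 43952,nat_lit 43969,nat_lit 43974,nat_lit 43984,nat_lit 44001,nat_lit 44006,nat_lit 44016,nat_lit 44034,nat_lit 44038,nat_lit 44065,nat_lit 44082,nat_lit 44086,nat_lit 44103,nat_lit 44114,nat_lit 44147,nat_lit 44150,nat_lit 44160,nat_lit 44167,nat_lit 44182,nat_lit 44198,nat_lit 44208,nat_lit 44215,nat_lit 44232,nat_lit 44246,nat_lit 44256,nat_lit 44263,nat_lit 44295,nat_lit 44312,nat_lit 44320,nat_lit 44336,nat_lit 44353,nat_lit 44362,nat_lit 44368,nat_lit 44386,nat_lit 44407,nat_lit 44419,nat_lit 44422,nat_lit 44432,nat_lit 44470,nat_lit 44496,nat_lit 44513,nat_lit 44530,nat_lit 44534,nat_lit 44550,nat_lit 44560,nat_lit 44576,nat_lit 44593,nat_lit 44598,nat_lit 44610,nat_lit 44614,nat_lit 44642,nat_lit 44646,nat_lit 44663,nat_lit 44675,nat_lit 44678,nat_lit 44688,nat_lit 44695,nat_lit 44707,nat_lit 44710,nat_lit 44724,nat_lit 44726,nat_lit 44736,nat_lit 44743,nat_lit 44758,nat_lit 44775,nat_lit 44778,nat_lit 44792,nat_lit 44820,nat_lit 44822,nat_lit 44832,nat_lit 44855,nat_lit 44872,nat_lit 44892,nat_lit 44903,nat_lit 44912,nat_lit 44934,nat_lit 44938,nat_lit 44985,nat_lit 45002,nat_lit 45025,nat_lit 45030,nat_lit 45078,nat_lit 45088,nat_lit 45095,nat_lit 45112,nat_lit 45126,nat_lit 45136,nat_lit 45143,nat_lit 45172,nat_lit 45184,nat_lit 45191,nat_lit 45207,nat_lit 45224,nat_lit 45252,nat_lit 45254,nat_lit 45264,nat_lit 45271,nat_lit 45285,nat_lit 45286,nat_lit 45292,nat_lit 45297,nat_lit 45303,nat_lit 45320,nat_lit 45334,nat_lit 45336,nat_lit 45361,nat_lit 45367,nat_lit 45370,nat_lit 45384,nat_lit 45401,nat_lit 45434,nat_lit 45456,nat_lit 45463,nat_lit 45479,nat_lit 45482,nat_lit 45508,nat_lit 45520,nat_lit 45527,nat_lit 45546,nat_lit 45557,nat_lit 45591,nat_lit 45594,nat_lit 45608,nat_lit 45690,nat_lit 45721,nat_lit 45749,nat_lit 45750,nat_lit 45819,nat_lit 45831,nat_lit 45848,nat_lit 45863,nat_lit 45896,nat_lit 45931,nat_lit 45946,nat_lit 45952,nat_lit 45968,nat_lit 45985,nat_lit 46001,nat_lit 46018,nat_lit 46035,nat_lit 46058,nat_lit 46060,nat_lit 46064,nat_lit 46076,nat_lit 46081,nat_lit 46086,nat_lit 46097,nat_lit 46102,nat_lit 46130,nat_lit 46134,nat_lit 46151,nat_lit 46163,nat_lit 46166,nat_lit 46176,nat_lit 46183,nat_lit 46198,nat_lit 46226,nat_lit 46230,nat_lit 46259,nat_lit 46262,nat_lit 46272,nat_lit 46279,nat_lit 46326,nat_lit 46331,nat_lit 46346,nat_lit 46352,nat_lit 46378,nat_lit 46380,nat_lit 46384,nat_lit 46401,nat_lit 46406,nat_lit 46417,nat_lit 46428,nat_lit 46432,nat_lit 46466,nat_lit 46470,nat_lit 46487,nat_lit 46499,nat_lit 46502,nat_lit 46512,nat_lit 46519,nat_lit 46552,nat_lit 46570,nat_lit 46572,nat_lit 46587,nat_lit 46604,nat_lit 46634,nat_lit 46640,nat_lit 46652,nat_lit 46657,nat_lit 46662,nat_lit 46668,nat_lit 46673,nat_lit 46684,nat_lit 46688,nat_lit 46722,nat_lit 46726,nat_lit 46753,nat_lit 46758,nat_lit 46770,nat_lit 46774,nat_lit 46780,nat_lit 46802,nat_lit 46806,nat_lit 46819,nat_lit 46822,nat_lit 46832,nat_lit 46839,nat_lit 46854,nat_lit 46870,nat_lit 46880,nat_lit 46887,nat_lit 46902,nat_lit 46919,nat_lit 46936,nat_lit 46947,nat_lit 46950,nat_lit 46956,nat_lit 46960,nat_lit 46967,nat_lit 46980,nat_lit 46982,nat_lit 46988,nat_lit 46992,nat_lit 47004,nat_lit 47031,nat_lit 47048,nat_lit 47056,nat_lit 47079,nat_lit 47082,nat_lit 47096,nat_lit 47104,nat_lit 47111,nat_lit 47126,nat_lit 47130,nat_lit 47147,nat_lit 47159,nat_lit 47162,nat_lit 47177,nat_lit 47195,nat_lit 47196,nat_lit 47210,nat_lit 47223,nat_lit 47264,nat_lit 47290,nat_lit 47296,nat_lit 47313,nat_lit 47330,nat_lit 47334,nat_lit 47361,nat_lit 47366,nat_lit 47378,nat_lit 47382,nat_lit 47388,nat_lit 47393,nat_lit 47411,nat_lit 47414,nat_lit 47424,nat_lit 47442,nat_lit 47446,nat_lit 47463,nat_lit 47475,nat_lit 47478,nat_lit 47488,nat_lit 47495,nat_lit 47523,nat_lit 47526,nat_lit 47536,nat_lit 47556,nat_lit 47558,nat_lit 47564,nat_lit 47568,nat_lit 47591,nat_lit 47608,nat_lit 47625,nat_lit 47638,nat_lit 47648,nat_lit 47665,nat_lit 47671,nat_lit 47686,nat_lit 47718,nat_lit 47728,nat_lit 47756,nat_lit 47760,nat_lit 47772,nat_lit 47782,nat_lit 47793,nat_lit 47799,nat_lit 47802,nat_lit 47808,nat_lit 47824,nat_lit 47850,nat_lit 47852,nat_lit 47856,nat_lit 47900,nat_lit 47908,nat_lit 47914,nat_lit 47920,nat_lit 47953,nat_lit 47958,nat_lit 47970,nat_lit 47974,nat_lit 48003,nat_lit 48006,nat_lit 48016,nat_lit 48035,nat_lit 48054,nat_lit 48066,nat_lit 48070,nat_lit 48102,nat_lit 48112,nat_lit 48128,nat_lit 48135,nat_lit 48151,nat_lit 48180,nat_lit 48182,nat_lit 48192,nat_lit 48199,nat_lit 48215,nat_lit 48241,nat_lit 48246,nat_lit 48258,nat_lit 48262,nat_lit 48279,nat_lit 48291,nat_lit 48294,nat_lit 48300,nat_lit 48304,nat_lit 48311,nat_lit 48322,nat_lit 48344,nat_lit 48356,nat_lit 48368,nat_lit 48375,nat_lit 48380,nat_lit 48391,nat_lit 48394,nat_lit 48408,nat_lit 48434,nat_lit 48448,nat_lit 48486,nat_lit 48496,nat_lit 48503,nat_lit 48534,nat_lit 48544,nat_lit 48551,nat_lit 48572,nat_lit 48583,nat_lit 48600,nat_lit 48624,nat_lit 48631,nat_lit 48647,nat_lit 48660,nat_lit 48679,nat_lit 48682,nat_lit 48684,nat_lit 48692,nat_lit 48688,nat_lit 48710,nat_lit 48712,nat_lit 48714,nat_lit 48731,nat_lit 48745,nat_lit 48771,nat_lit 48794,nat_lit 48811,nat_lit 48826,nat_lit 48842,nat_lit 48896,nat_lit 48914,nat_lit 48918,nat_lit 48950,nat_lit 48960,nat_lit 48967,nat_lit 48976,nat_lit 48999,nat_lit 49002,nat_lit 49008,nat_lit 49015,nat_lit 49031,nat_lit 49048,nat_lit 49061,nat_lit 49076,nat_lit 49089,nat_lit 49095,nat_lit 49098,nat_lit 49126,nat_lit 49128,nat_lit 49130,nat_lit 49161,nat_lit 49184,nat_lit 49201,nat_lit 49207,nat_lit 49267,nat_lit 49287,nat_lit 49302,nat_lit 49304,nat_lit 49335,nat_lit 49354,nat_lit 49398,nat_lit 49408,nat_lit 49450,nat_lit 49473,nat_lit 49479,nat_lit 49512,nat_lit 49529,nat_lit 49572,nat_lit 49592,nat_lit 49604,nat_lit 49640,nat_lit 49657,nat_lit 49671,nat_lit 49686,nat_lit 49688,nat_lit 49704,nat_lit 49771,nat_lit 49786,nat_lit 49792,nat_lit 49810,nat_lit 49835,nat_lit 49840,nat_lit 49867,nat_lit 49882,nat_lit 49888,nat_lit 49921,nat_lit 49936,nat_lit 49953,nat_lit 49958,nat_lit 49969,nat_lit 49986,nat_lit 50002,nat_lit 50019,nat_lit 50022,nat_lit 50049,nat_lit 50066,nat_lit 50070,nat_lit 50097,nat_lit 50114,nat_lit 50130,nat_lit 50147,nat_lit 50150,nat_lit 50160,nat_lit 50180,nat_lit 50182,nat_lit 50226,nat_lit 50246,nat_lit 50259,nat_lit 50288,nat_lit 50305,nat_lit 50311,nat_lit 50328,nat_lit 50343,nat_lit 50394,nat_lit 50400,nat_lit 50417,nat_lit 50434,nat_lit 50450,nat_lit 50470,nat_lit 50483,nat_lit 50500,nat_lit 50502,nat_lit 50512,nat_lit 50538,nat_lit 50544,nat_lit 50561,nat_lit 50566,nat_lit 50578,nat_lit 50582,nat_lit 50610,nat_lit 50614,nat_lit 50643,nat_lit 50646,nat_lit 50656,nat_lit 50675,nat_lit 50688,nat_lit 50708,nat_lit 50710,nat_lit 50727,nat_lit 50740,nat_lit 50752,nat_lit 50778,nat_lit 50790,nat_lit 50887,nat_lit 50891,nat_lit 50907,nat_lit 50922,nat_lit 50928,nat_lit 50945,nat_lit 50962,nat_lit 50966,nat_lit 50987,nat_lit 51002,nat_lit 51018,nat_lit 51024,nat_lit 51040,nat_lit 51057,nat_lit 51062,nat_lit 51072,nat_lit 51089,nat_lit 51094,nat_lit 51105,nat_lit 51122,nat_lit 51126,nat_lit 51155,nat_lit 51170,nat_lit 51174,nat_lit 51187,nat_lit 51190,nat_lit 51204,nat_lit 51216,nat_lit 51242,nat_lit 51248,nat_lit 51265,nat_lit 51270,nat_lit 51280,nat_lit 51297,nat_lit 51314,nat_lit 51329,nat_lit 51346,nat_lit 51350,nat_lit 51379,nat_lit 51382,nat_lit 51395,nat_lit 51398,nat_lit 51408,nat_lit 51428,nat_lit 51440,nat_lit 51463,nat_lit 51476,nat_lit 51495,nat_lit 51525,nat_lit 51546,nat_lit 51569,nat_lit 51586,nat_lit 51603,nat_lit 51606,nat_lit 51616,nat_lit 51633,nat_lit 51638,nat_lit 51650,nat_lit 51654,nat_lit 51671,nat_lit 51682,nat_lit 51686,nat_lit 51703,nat_lit 51715,nat_lit 51718,nat_lit 51728,nat_lit 51735,nat_lit 51763,nat_lit 51766,nat_lit 51776,nat_lit 51812,nat_lit 51814,nat_lit 51824,nat_lit 51847,nat_lit 51876,nat_lit 51911,nat_lit 51941,nat_lit 51942,nat_lit 51948,nat_lit 51962,nat_lit 51970,nat_lit 51974,nat_lit 51991,nat_lit 52003,nat_lit 52006,nat_lit 52016,nat_lit 52023,nat_lit 52064,nat_lit 52100,nat_lit 52102,nat_lit 52119,nat_lit 52122,nat_lit 52148,nat_lit 52150,nat_lit 52160,nat_lit 52183,nat_lit 52197,nat_lit 52198,nat_lit 52204,nat_lit 52208,nat_lit 52215,nat_lit 52225,nat_lit 52231,nat_lit 52262,nat_lit 52277,nat_lit 52278,nat_lit 52326,nat_lit 52343,nat_lit 52348,nat_lit 52353,nat_lit 52358,nat_lit 52362,nat_lit 52374,nat_lit 52404,nat_lit 52406,nat_lit 52416,nat_lit 52423,nat_lit 52439,nat_lit 52470,nat_lit 52480,nat_lit 52487,nat_lit 52517,nat_lit 52518,nat_lit 52524,nat_lit 52528,nat_lit 52535,nat_lit 52551,nat_lit 52554,nat_lit 52568,nat_lit 52583,nat_lit 52602,nat_lit 52616,nat_lit 52652,nat_lit 52746,nat_lit 52752,nat_lit 52769,nat_lit 52774,nat_lit 52785,nat_lit 52790,nat_lit 52796,nat_lit 52818,nat_lit 52822,nat_lit 52851,nat_lit 52854,nat_lit 52864,nat_lit 52876,nat_lit 52882,nat_lit 52886,nat_lit 52918,nat_lit 52939,nat_lit 52954,nat_lit 52960,nat_lit 52986,nat_lit 52988,nat_lit 52992,nat_lit 53025,nat_lit 53041,nat_lit 53046,nat_lit 53052,nat_lit 53058,nat_lit 53062,nat_lit 53078,nat_lit 53088,nat_lit 53100,nat_lit 53131,nat_lit 53146,nat_lit 53148,nat_lit 53152,nat_lit 53178,nat_lit 53184,nat_lit 53201,nat_lit 53216,nat_lit 53233,nat_lit 53244,nat_lit 53250,nat_lit 53254,nat_lit 53281,nat_lit 53286,nat_lit 53298,nat_lit 53302,nat_lit 53314,nat_lit 53318,nat_lit 53331,nat_lit 53334,nat_lit 53344,nat_lit 53351,nat_lit 53363,nat_lit 53366,nat_lit 53376,nat_lit 53396,nat_lit 53398,nat_lit 53408,nat_lit 53415,nat_lit 53420,nat_lit 53431,nat_lit 53448,nat_lit 53462,nat_lit 53472,nat_lit 53479,nat_lit 53492,nat_lit 53494,nat_lit 53500,nat_lit 53504,nat_lit 53511,nat_lit 53527,nat_lit 53530,nat_lit 53544,nat_lit 53568,nat_lit 53591,nat_lit 53594,nat_lit 53596,nat_lit 53612,nat_lit 53622,nat_lit 53624,nat_lit 53626,nat_lit 53628,nat_lit 53644,nat_lit 53657,nat_lit 53674,nat_lit 53691,nat_lit 53692,nat_lit 53713,nat_lit 53718,nat_lit 53728,nat_lit 53745,nat_lit 53750,nat_lit 53762,nat_lit 53766,nat_lit 53783,nat_lit 53793,nat_lit 53798,nat_lit 53810,nat_lit 53820,nat_lit 53859,nat_lit 53862,nat_lit 53872,nat_lit 53879,nat_lit 53890,nat_lit 53907,nat_lit 53910,nat_lit 53920,nat_lit 53927,nat_lit 53944,nat_lit 53955,nat_lit 53958,nat_lit 53972,nat_lit 53974,nat_lit 53984,nat_lit 54007,nat_lit 54010,nat_lit 54024,nat_lit 54032,nat_lit 54048,nat_lit 54055,nat_lit 54071,nat_lit 54074,nat_lit 54088,nat_lit 54112,nat_lit 54124,nat_lit 54129,nat_lit 54135,nat_lit 54138,nat_lit 54140,nat_lit 54152,nat_lit 54168,nat_lit 54185,nat_lit 54193,nat_lit 54220,nat_lit 54234,nat_lit 54251,nat_lit 54278,nat_lit 54310,nat_lit 54320,nat_lit 54327,nat_lit 54343,nat_lit 54352,nat_lit 54359,nat_lit 54369,nat_lit 54374,nat_lit 54386,nat_lit 54390,nat_lit 54403,nat_lit 54406,nat_lit 54412,nat_lit 54416,nat_lit 54432,nat_lit 54439,nat_lit 54455,nat_lit 54458,nat_lit 54465,nat_lit 54470,nat_lit 54482,nat_lit 54486,nat_lit 54503,nat_lit 54518,nat_lit 54528,nat_lit 54535,nat_lit 54550,nat_lit 54560,nat_lit 54596,nat_lit 54608,nat_lit 54615,nat_lit 54631,nat_lit 54634,nat_lit 54660,nat_lit 54672,nat_lit 54684,nat_lit 54693,nat_lit 54700,nat_lit 54704,nat_lit 54721,nat_lit 54727,nat_lit 54730,nat_lit 54732,nat_lit 54744,nat_lit 54774,nat_lit 54778,nat_lit 54795,nat_lit 54809,nat_lit 54822,nat_lit 54832,nat_lit 54849,nat_lit 54855,nat_lit 54858,nat_lit 54872,nat_lit 54889,nat_lit 54922,nat_lit 54954,nat_lit 54992,nat_lit 55040,nat_lit 55063,nat_lit 55066,nat_lit 55104,nat_lit 55111,nat_lit 55130,nat_lit 55157,nat_lit 55164,nat_lit 55169,nat_lit 55175,nat_lit 55178,nat_lit 55192,nat_lit 55206,nat_lit 55208,nat_lit 55225,nat_lit 55238,nat_lit 55248,nat_lit 55265,nat_lit 55271,nat_lit 55302,nat_lit 55319,nat_lit 55351,nat_lit 55366,nat_lit 55368,nat_lit 55385,nat_lit 55400,nat_lit 55431,nat_lit 55434,nat_lit 55448,nat_lit 55481,nat_lit 55504,nat_lit 55521,nat_lit 55527,nat_lit 55530,nat_lit 55558,nat_lit 55589,nat_lit 55596,nat_lit 55601,nat_lit 55607,nat_lit 55610,nat_lit 55624,nat_lit 55672,nat_lit 55705,nat_lit 55772,nat_lit 55800,nat_lit 55804,nat_lit 55847,nat_lit 55866,nat_lit 55872,nat_lit 55889,nat_lit 55905,nat_lit 55922,nat_lit 55938,nat_lit 55942,nat_lit 55955,nat_lit 55972,nat_lit 55974,nat_lit 55984,nat_lit 55996,nat_lit 56017,nat_lit 56022,nat_lit 56050,nat_lit 56054,nat_lit 56071,nat_lit 56082,nat_lit 56086,nat_lit 56092,nat_lit 56115,nat_lit 56118,nat_lit 56124,nat_lit 56128,nat_lit 56135,nat_lit 56164,nat_lit 56166,nat_lit 56176,nat_lit 56199,nat_lit 56204,nat_lit 56243,nat_lit 56246,nat_lit 56256,nat_lit 56263,nat_lit 56276,nat_lit 56278,nat_lit 56288,nat_lit 56295,nat_lit 56311,nat_lit 56328,nat_lit 56347,nat_lit 56362,nat_lit 56368,nat_lit 56385,nat_lit 56400,nat_lit 56412,nat_lit 56433,nat_lit 56450,nat_lit 56454,nat_lit 56471,nat_lit 56482,nat_lit 56486,nat_lit 56492,nat_lit 56497,nat_lit 56531,nat_lit 56534,nat_lit 56540,nat_lit 56544,nat_lit 56568,nat_lit 56580,nat_lit 56582,nat_lit 56592,nat_lit 56615,nat_lit 56620,nat_lit 56632,nat_lit 56656,nat_lit 56668,nat_lit 56682,nat_lit 56720,nat_lit 56737,nat_lit 56742,nat_lit 56756,nat_lit 56752,nat_lit 56770,nat_lit 56774,nat_lit 56818,nat_lit 56822,nat_lit 56828,nat_lit 56836,nat_lit 56867,nat_lit 56870,nat_lit 56880,nat_lit 56898,nat_lit 56902,nat_lit 56919,nat_lit 56931,nat_lit 56934,nat_lit 56944,nat_lit 56951,nat_lit 56979,nat_lit 56982,nat_lit 56992,nat_lit 57012,nat_lit 57014,nat_lit 57024,nat_lit 57047,nat_lit 57064,nat_lit 57072,nat_lit 57088,nat_lit 57105,nat_lit 57111,nat_lit 57116,nat_lit 57128,nat_lit 57132,nat_lit 57158,nat_lit 57160,nat_lit 57162,nat_lit 57164,nat_lit 57177,nat_lit 57188,nat_lit 57190,nat_lit 57200,nat_lit 57239,nat_lit 57242,nat_lit 57256,nat_lit 57269,nat_lit 57270,nat_lit 57280,nat_lit 57287,nat_lit 57292,nat_lit 57313,nat_lit 57319,nat_lit 57322,nat_lit 57324,nat_lit 57350,nat_lit 57352,nat_lit 57354,nat_lit 57383,nat_lit 57398,nat_lit 57400,nat_lit 57402,nat_lit 57404,nat_lit 57420,nat_lit 57436,nat_lit 57482,nat_lit 57499,nat_lit 57500,nat_lit 57516,nat_lit 57580,nat_lit 57588,nat_lit 57595,nat_lit 57633,nat_lit 57648,nat_lit 57665,nat_lit 57670,nat_lit 57682,nat_lit 57686,nat_lit 57702,nat_lit 57712,nat_lit 57730,nat_lit 57763,nat_lit 57766,nat_lit 57772,nat_lit 57776,nat_lit 57796,nat_lit 57794,nat_lit 57828,nat_lit 57830,nat_lit 57840,nat_lit 57847,nat_lit 57875,nat_lit 57878,nat_lit 57888,nat_lit 57924,nat_lit 57926,nat_lit 57936,nat_lit 57959,nat_lit 57962,nat_lit 57976,nat_lit 57988,nat_lit 57990,nat_lit 58000,nat_lit 58023,nat_lit 58037,nat_lit 58038,nat_lit 58048,nat_lit 58081,nat_lit 58087,nat_lit 58090,nat_lit 58102,nat_lit 58104,nat_lit 58121,nat_lit 58144,nat_lit 58161,nat_lit 58183,nat_lit 58198,nat_lit 58224,nat_lit 58241,nat_lit 58247,nat_lit 58250,nat_lit 58282,nat_lit 58284,nat_lit 58288,nat_lit 58327,nat_lit 58332,nat_lit 58346,nat_lit 58385,nat_lit 58412,nat_lit 58426,nat_lit 58474,nat_lit 58514,nat_lit 58547,nat_lit 58550,nat_lit 58580,nat_lit 58592,nat_lit 58599,nat_lit 58628,nat_lit 58630,nat_lit 58662,nat_lit 58672,nat_lit 58688,nat_lit 58695,nat_lit 58721,nat_lit 58727,nat_lit 58774,nat_lit 58784,nat_lit 58801,nat_lit 58807,nat_lit 58850,nat_lit 58854,nat_lit 58886,nat_lit 58896,nat_lit 58903,nat_lit 58920,nat_lit 58934,nat_lit 58940,nat_lit 58944,nat_lit 58951,nat_lit 58956,nat_lit 58963,nat_lit 58983,nat_lit 59000,nat_lit 59045,nat_lit 59057,nat_lit 59063,nat_lit 59066,nat_lit 59068,nat_lit 59080,nat_lit 59092,nat_lit 59088,nat_lit 59110,nat_lit 59112,nat_lit 59158,nat_lit 59184,nat_lit 59191,nat_lit 59207,nat_lit 59232,nat_lit 59239,nat_lit 59255,nat_lit 59272,nat_lit 59284,nat_lit 59302,nat_lit 59304,nat_lit 59329,nat_lit 59335,nat_lit 59356,nat_lit 59366,nat_lit 59379,nat_lit 59398,nat_lit 59419,nat_lit 59420,nat_lit 59428,nat_lit 59440,nat_lit 59480,nat_lit 59482,nat_lit 59497,nat_lit 59616,nat_lit 59654,nat_lit 59680,nat_lit 59703,nat_lit 59729,nat_lit 59738,nat_lit 59752,nat_lit 59754,nat_lit 59777,nat_lit 59783,nat_lit 59800,nat_lit 59814,nat_lit 59816,nat_lit 59859,nat_lit 59879,nat_lit 59882,nat_lit 59894,nat_lit 59896,nat_lit 59898,nat_lit 59928,nat_lit 59930,nat_lit 59945,nat_lit 59985,nat_lit 59991,nat_lit 60007,nat_lit 60024,nat_lit 60054,nat_lit 60056,nat_lit 60072,nat_lit 60106,nat_lit 60128,nat_lit 60145,nat_lit 60183,nat_lit 60200,nat_lit 60217,nat_lit 60295,nat_lit 60297,nat_lit 60328,nat_lit 60344,nat_lit 60394,nat_lit 60400,nat_lit 60417,nat_lit 60435,nat_lit 60458,nat_lit 60465,nat_lit 60490,nat_lit 60513,nat_lit 60518,nat_lit 60530,nat_lit 60545,nat_lit 60562,nat_lit 60566,nat_lit 60594,nat_lit 60611,nat_lit 60614,nat_lit 60627,nat_lit 60630,nat_lit 60644,nat_lit 60646,nat_lit 60674,nat_lit 60691,nat_lit 60694,nat_lit 60704,nat_lit 60722,nat_lit 60739,nat_lit 60755,nat_lit 60772,nat_lit 60774,nat_lit 60784,nat_lit 60832,nat_lit 60851,nat_lit 60864,nat_lit 60919,nat_lit 60936,nat_lit 60976,nat_lit 60993,nat_lit 61010,nat_lit 61027,nat_lit 61043,nat_lit 61056,nat_lit 61076,nat_lit 61078,nat_lit 61094,nat_lit 61104,nat_lit 61158,nat_lit 61174,nat_lit 61206,nat_lit 61216,nat_lit 61235,nat_lit 61238,nat_lit 61248,nat_lit 61268,nat_lit 61280,nat_lit 61306,nat_lit 61335,nat_lit 61367,nat_lit 61467,nat_lit 61482,nat_lit 61498,nat_lit 61504,nat_lit 61521,nat_lit 61538,nat_lit 61555,nat_lit 61558,nat_lit 61568,nat_lit 61594,nat_lit 61600,nat_lit 61616,nat_lit 61633,nat_lit 61638,nat_lit 61649,nat_lit 61666,nat_lit 61670,nat_lit 61697,nat_lit 61714,nat_lit 61718,nat_lit 61746,nat_lit 61750,nat_lit 61763,nat_lit 61776,nat_lit 61783,nat_lit 61796,nat_lit 61811,nat_lit 61814,nat_lit 61824,nat_lit 61831,nat_lit 61844,nat_lit 61846,nat_lit 61856,nat_lit 61878,nat_lit 61889,nat_lit 61904,nat_lit 61921,nat_lit 61926,nat_lit 61938,nat_lit 61942,nat_lit 61986,nat_lit 62003,nat_lit 62006,nat_lit 62018,nat_lit 62035,nat_lit 62038,nat_lit 62048,nat_lit 62068,nat_lit 62080,nat_lit 62100,nat_lit 62112,nat_lit 62135,nat_lit 62167,nat_lit 62170,nat_lit 62184,nat_lit 62197,nat_lit 62198,nat_lit 62214,nat_lit 62218,nat_lit 62230,nat_lit 62258,nat_lit 62262,nat_lit 62275,nat_lit 62278,nat_lit 62292,nat_lit 62294,nat_lit 62304,nat_lit 62327,nat_lit 62338,nat_lit 62342,nat_lit 62359,nat_lit 62374,nat_lit 62384,nat_lit 62419,nat_lit 62422,nat_lit 62432,nat_lit 62468,nat_lit 62470,nat_lit 62480,nat_lit 62503,nat_lit 62532,nat_lit 62534,nat_lit 62544,nat_lit 62581,nat_lit 62582,nat_lit 62588,nat_lit 62592,nat_lit 62609,nat_lit 62615,nat_lit 62618,nat_lit 62630,nat_lit 62634,nat_lit 62645,nat_lit 62646,nat_lit 62678,nat_lit 62688,nat_lit 62695,nat_lit 62714,nat_lit 62731,nat_lit 62742,nat_lit 62759,nat_lit 62790,nat_lit 62800,nat_lit 62823,nat_lit 62826,nat_lit 62858,nat_lit 62869,nat_lit 62876,nat_lit 62880,nat_lit 62902,nat_lit 62923,nat_lit 62961,nat_lit 62967,nat_lit 63015,nat_lit 63030,nat_lit 63031,nat_lit 63079,nat_lit 63126,nat_lit 63143,nat_lit 63159,nat_lit 63176,nat_lit 63270,nat_lit 63280,nat_lit 63297,nat_lit 63303,nat_lit 63306,nat_lit 63334,nat_lit 63344,nat_lit 63361,nat_lit 63367,nat_lit 63370,nat_lit 63408,nat_lit 63430,nat_lit 63435,nat_lit 63450,nat_lit 63480,nat_lit 63528,nat_lit 63561,nat_lit 63584,nat_lit 63601,nat_lit 63606,nat_lit 63618,nat_lit 63622,nat_lit 63650,nat_lit 63654,nat_lit 63681,nat_lit 63702,nat_lit 63712,nat_lit 63734,nat_lit 63744,nat_lit 63751,nat_lit 63767,nat_lit 63776,nat_lit 63795,nat_lit 63798,nat_lit 63808,nat_lit 63824,nat_lit 63831,nat_lit 63850,nat_lit 63856,nat_lit 63873,nat_lit 63888,nat_lit 63914,nat_lit 63921,nat_lit 63926,nat_lit 63938,nat_lit 63942,nat_lit 63954,nat_lit 63958,nat_lit 64003,nat_lit 64006,nat_lit 64016,nat_lit 64023,nat_lit 64032,nat_lit 64039,nat_lit 64055,nat_lit 64058,nat_lit 64064,nat_lit 64090,nat_lit 64096,nat_lit 64129,nat_lit 64134,nat_lit 64144,nat_lit 64161,nat_lit 64166,nat_lit 64178,nat_lit 64193,nat_lit 64210,nat_lit 64214,nat_lit 64243,nat_lit 64246,nat_lit 64256,nat_lit 64263,nat_lit 64274,nat_lit 64278,nat_lit 64307,nat_lit 64310,nat_lit 64320,nat_lit 64327,nat_lit 64339,nat_lit 64342,nat_lit 64352,nat_lit 64372,nat_lit 64374,nat_lit 64384,nat_lit 64391,nat_lit 64407,nat_lit 64410,nat_lit 64424,nat_lit 64438,nat_lit 64448,nat_lit 64471,nat_lit 64474,nat_lit 64485,nat_lit 64486,nat_lit 64496,nat_lit 64513,nat_lit 64519,nat_lit 64536,nat_lit 64544,nat_lit 64566,nat_lit 64570,nat_lit 64585,nat_lit 64592,nat_lit 64615,nat_lit 64632,nat_lit 64646,nat_lit 64656,nat_lit 64663,nat_lit 64676,nat_lit 64678,nat_lit 64689,nat_lit 64695,nat_lit 64698,nat_lit 64726,nat_lit 64728,nat_lit 64730,nat_lit 64761,nat_lit 64775,nat_lit 64790,nat_lit 64792,nat_lit 64794,nat_lit 64840,nat_lit 64856,nat_lit 64858,nat_lit 64923,nat_lit 64944,nat_lit 64955,nat_lit 64994,nat_lit 64998,nat_lit 65025,nat_lit 65030,nat_lit 65042,nat_lit 65075,nat_lit 65078,nat_lit 65088,nat_lit 65095,nat_lit 65112,nat_lit 65155,nat_lit 65158,nat_lit 65188,nat_lit 65190,nat_lit 65200,nat_lit 65207,nat_lit 65223,nat_lit 65240,nat_lit 65254,nat_lit 65270,nat_lit 65280,nat_lit 65287,nat_lit 65303,nat_lit 65306,nat_lit 65320,nat_lit 65350,nat_lit 65360,nat_lit 65381,nat_lit 65382,nat_lit 65392,nat_lit 65409,nat_lit 65415,nat_lit 65418,nat_lit 65430,nat_lit 65432,nat_lit 65434,nat_lit 65465,nat_lit 65473,nat_lit 65489,nat_lit 65495,nat_lit 65498,nat_lit 65512,nat_lit 65578,nat_lit 65584,nat_lit 65607,nat_lit 65610,nat_lit 65624,nat_lit 65689,nat_lit 65722,nat_lit 65738,nat_lit 65744,nat_lit 65755,nat_lit 65776,nat_lit 65783,nat_lit 65792,nat_lit 65815,nat_lit 65846,nat_lit 65863,nat_lit 65890,nat_lit 65894,nat_lit 65926,nat_lit 65936,nat_lit 65943,nat_lit 65956,nat_lit 65958,nat_lit 65968,nat_lit 66007,nat_lit 66017,nat_lit 66023,nat_lit 66026,nat_lit 66054,nat_lit 66056,nat_lit 66058,nat_lit 66086,nat_lit 66103,nat_lit 66118,nat_lit 66128,nat_lit 66160,nat_lit 66183,nat_lit 66186,nat_lit 66208,nat_lit 66252,nat_lit 66257,nat_lit 66263,nat_lit 66266,nat_lit 66294,nat_lit 66325,nat_lit 66326,nat_lit 66337,nat_lit 66343,nat_lit 66352,nat_lit 66359,nat_lit 66374,nat_lit 66401,nat_lit 66407,nat_lit 66410,nat_lit 66423,nat_lit 66438,nat_lit 66440,nat_lit 66442,nat_lit 66489,nat_lit 66506,nat_lit 66560,nat_lit 66583,nat_lit 66599,nat_lit 66602,nat_lit 66616,nat_lit 66649,nat_lit 66688,nat_lit 66705,nat_lit 66721,nat_lit 66727,nat_lit 66730,nat_lit 66742,nat_lit 66744,nat_lit 66746,nat_lit 66769,nat_lit 66778,nat_lit 66811,nat_lit 66855,nat_lit 66858,nat_lit 66872,nat_lit 66920,nat_lit 66922,nat_lit 66937,nat_lit 66938,nat_lit 66983,nat_lit 67031,nat_lit 67062,nat_lit 67064,nat_lit 67080,nat_lit 67097,nat_lit 67129,nat_lit 67144,nat_lit 67146,nat_lit 67152,nat_lit 67177,nat_lit 67194,nat_lit 67206,nat_lit 67226,nat_lit 67238,nat_lit 67322,nat_lit 67336,nat_lit 67369,nat_lit 67385,nat_lit 67472,nat_lit 67489,nat_lit 67506,nat_lit 67522,nat_lit 67526,nat_lit 67539,nat_lit 67555,nat_lit 67568,nat_lit 67588,nat_lit 67590,nat_lit 67606,nat_lit 67633,nat_lit 67644,nat_lit 67648,nat_lit 67666,nat_lit 67670,nat_lit 67692,nat_lit 67699,nat_lit 67702,nat_lit 67712,nat_lit 67747,nat_lit 67750,nat_lit 67760,nat_lit 67767,nat_lit 67796,nat_lit 67808,nat_lit 67815,nat_lit 67830,nat_lit 67847,nat_lit 67864,nat_lit 67878,nat_lit 67888,nat_lit 67905,nat_lit 67911,nat_lit 67926,nat_lit 67943,nat_lit 67956,nat_lit 67958,nat_lit 67968,nat_lit 67991,nat_lit 68021,nat_lit 68022,nat_lit 68028,nat_lit 68032,nat_lit 68039,nat_lit 68049,nat_lit 68055,nat_lit 68058,nat_lit 68072,nat_lit 68088,nat_lit 68128,nat_lit 68145,nat_lit 68166,nat_lit 68177,nat_lit 68192,nat_lit 68210,nat_lit 68214,nat_lit 68227,nat_lit 68230,nat_lit 68240,nat_lit 68247,nat_lit 68264,nat_lit 68275,nat_lit 68278,nat_lit 68284,nat_lit 68288,nat_lit 68295,nat_lit 68306,nat_lit 68340,nat_lit 68342,nat_lit 68352,nat_lit 68359,nat_lit 68371,nat_lit 68391,nat_lit 68421,nat_lit 68422,nat_lit 68432,nat_lit 68449,nat_lit 68455,nat_lit 68470,nat_lit 68472,nat_lit 68474,nat_lit 68518,nat_lit 68524,nat_lit 68532,nat_lit 68528,nat_lit 68561,nat_lit 68566,nat_lit 68578,nat_lit 68582,nat_lit 68599,nat_lit 68608,nat_lit 68643,nat_lit 68646,nat_lit 68652,nat_lit 68656,nat_lit 68675,nat_lit 68678,nat_lit 68688,nat_lit 68706,nat_lit 68740,nat_lit 68742,nat_lit 68752,nat_lit 68775,nat_lit 68778,nat_lit 68787,nat_lit 68790,nat_lit 68800,nat_lit 68836,nat_lit 68838,nat_lit 68848,nat_lit 68860,nat_lit 68871,nat_lit 68874,nat_lit 68888,nat_lit 68900,nat_lit 68902,nat_lit 68912,nat_lit 68935,nat_lit 68938,nat_lit 68949,nat_lit 68950,nat_lit 68956,nat_lit 68960,nat_lit 68977,nat_lit 68983,nat_lit 68986,nat_lit 68988,nat_lit 68998,nat_lit 69000,nat_lit 69002,nat_lit 69025,nat_lit 69031,nat_lit 69034,nat_lit 69041,nat_lit 69063,nat_lit 69078,nat_lit 69080,nat_lit 69082,nat_lit 69092,nat_lit 69095,nat_lit 69098,nat_lit 69128,nat_lit 69144,nat_lit 69146,nat_lit 69161,nat_lit 69179,nat_lit 69190,nat_lit 69222,nat_lit 69228,nat_lit 69232,nat_lit 69244,nat_lit 69249,nat_lit 69255,nat_lit 69258,nat_lit 69260,nat_lit 69270,nat_lit 69272,nat_lit 69318,nat_lit 69328,nat_lit 69340,nat_lit 69345,nat_lit 69356,nat_lit 69368,nat_lit 69376,nat_lit 69399,nat_lit 69414,nat_lit 69416,nat_lit 69418,nat_lit 69441,nat_lit 69466,nat_lit 69510,nat_lit 69528,nat_lit 69530,nat_lit 69546,nat_lit 69563,nat_lit 69574,nat_lit 69576,nat_lit 69578,nat_lit 69588,nat_lit 69595,nat_lit 69616,nat_lit 69627,nat_lit 69652,nat_lit 69659,nat_lit 69684,nat_lit 69707,nat_lit 69745,nat_lit 69762,nat_lit 69766,nat_lit 69798,nat_lit 69808,nat_lit 69824,nat_lit 69850,nat_lit 69876,nat_lit 69878,nat_lit 69884,nat_lit 69888,nat_lit 69908,nat_lit 69907,nat_lit 69927,nat_lit 69938,nat_lit 69973,nat_lit 69974,nat_lit 69984,nat_lit 70001,nat_lit 70007,nat_lit 70036,nat_lit 70038,nat_lit 70048,nat_lit 70086,nat_lit 70092,nat_lit 70096,nat_lit 70113,nat_lit 70119,nat_lit 70122,nat_lit 70136,nat_lit 70182,nat_lit 70192,nat_lit 70204,nat_lit 70209,nat_lit 70215,nat_lit 70218,nat_lit 70230,nat_lit 70232,nat_lit 70246,nat_lit 70256,nat_lit 70268,nat_lit 70273,nat_lit 70279,nat_lit 70295,nat_lit 70310,nat_lit 70312,nat_lit 70314,nat_lit 70346,nat_lit 70361,nat_lit 70385,nat_lit 70407,nat_lit 70422,nat_lit 70449,nat_lit 70471,nat_lit 70474,nat_lit 70486,nat_lit 70490,nat_lit 70524,nat_lit 70532,nat_lit 70529,nat_lit 70538,nat_lit 70570,nat_lit 70610,nat_lit 70678,nat_lit 70692,nat_lit 70694,nat_lit 70704,nat_lit 70711,nat_lit 70726,nat_lit 70737,nat_lit 70743,nat_lit 70774,nat_lit 70784,nat_lit 70800,nat_lit 70833,nat_lit 70839,nat_lit 70871,nat_lit 70886,nat_lit 70896,nat_lit 70919,nat_lit 70935,nat_lit 70954,nat_lit 70966,nat_lit 70976,nat_lit 70992,nat_lit 70999,nat_lit 71015,nat_lit 71018,nat_lit 71032,nat_lit 71056,nat_lit 71068,nat_lit 71076,nat_lit 71078,nat_lit 71089,nat_lit 71095,nat_lit 71112,nat_lit 71120,nat_lit 71158,nat_lit 71160,nat_lit 71190,nat_lit 71210,nat_lit 71212,nat_lit 71222,nat_lit 71224,nat_lit 71243,nat_lit 71244,nat_lit 71252,nat_lit 71249,nat_lit 71258,nat_lit 71280,nat_lit 71320,nat_lit 71322,nat_lit 71344,nat_lit 71361,nat_lit 71367,nat_lit 71398,nat_lit 71409,nat_lit 71415,nat_lit 71432,nat_lit 71446,nat_lit 71475,nat_lit 71496,nat_lit 71527,nat_lit 71542,nat_lit 71576,nat_lit 71590,nat_lit 71608,nat_lit 71610,nat_lit 71636,nat_lit 71658,nat_lit 71689,nat_lit 71761,nat_lit 71767,nat_lit 71770,nat_lit 71782,nat_lit 71784,nat_lit 71786,nat_lit 71799,nat_lit 71802,nat_lit 71834,nat_lit 71851,nat_lit 71863,nat_lit 71866,nat_lit 71878,nat_lit 71880,nat_lit 71929,nat_lit 71958,nat_lit 71960,nat_lit 71962,nat_lit 71968,nat_lit 71979,nat_lit 71992,nat_lit 72041,nat_lit 72087,nat_lit 72120,nat_lit 72144,nat_lit 72152,nat_lit 72183,nat_lit 72192,nat_lit 72248,nat_lit 72297,nat_lit 72343,nat_lit 72352,nat_lit 72369,nat_lit 72374,nat_lit 72386,nat_lit 72404,nat_lit 72416,nat_lit 72434,nat_lit 72466,nat_lit 72470,nat_lit 72499,nat_lit 72502,nat_lit 72514,nat_lit 72531,nat_lit 72534,nat_lit 72544,nat_lit 72563,nat_lit 72580,nat_lit 72592,nat_lit 72612,nat_lit 72614,nat_lit 72624,nat_lit 72646,nat_lit 72656,nat_lit 72692,nat_lit 72694,nat_lit 72704,nat_lit 72739,nat_lit 72756,nat_lit 72772,nat_lit 72774,nat_lit 72790,nat_lit 72800,nat_lit 72817,nat_lit 72865,nat_lit 72888,nat_lit 72918,nat_lit 72947,nat_lit 72964,nat_lit 72980,nat_lit 72982,nat_lit 73014,nat_lit 73024,nat_lit 73088,nat_lit 73104,nat_lit 73130,nat_lit 73142,nat_lit 73152,nat_lit 73274,nat_lit 73280,nat_lit 73296,nat_lit 73313,nat_lit 73330,nat_lit 73334,nat_lit 73347,nat_lit 73350,nat_lit 73364,nat_lit 73376,nat_lit 73383,nat_lit 73399,nat_lit 73408,nat_lit 73425,nat_lit 73441,nat_lit 73446,nat_lit 73458,nat_lit 73462,nat_lit 73490,nat_lit 73494,nat_lit 73507,nat_lit 73510,nat_lit 73520,nat_lit 73538,nat_lit 73542,nat_lit 73555,nat_lit 73558,nat_lit 73568,nat_lit 73575,nat_lit 73587,nat_lit 73590,nat_lit 73600,nat_lit 73620,nat_lit 73622,nat_lit 73639,nat_lit 73656,nat_lit 73670,nat_lit 73684,nat_lit 73696,nat_lit 73719,nat_lit 73750,nat_lit 73760,nat_lit 73777,nat_lit 73792,nat_lit 73810,nat_lit 73842,nat_lit 73846,nat_lit 73863,nat_lit 73875,nat_lit 73878,nat_lit 73888,nat_lit 73910,nat_lit 73926,nat_lit 73936,nat_lit 73943,nat_lit 73955,nat_lit 73958,nat_lit 73972,nat_lit 73974,nat_lit 73984,nat_lit 73991,nat_lit 74021,nat_lit 74022,nat_lit 74039,nat_lit 74042,nat_lit 74053,nat_lit 74065,nat_lit 74071,nat_lit 74086,nat_lit 74090,nat_lit 74104,nat_lit 74106,nat_lit 74137,nat_lit 74150,nat_lit 74160,nat_lit 74186,nat_lit 74227,nat_lit 74230,nat_lit 74240,nat_lit 74260,nat_lit 74262,nat_lit 74272,nat_lit 74293,nat_lit 74294,nat_lit 74300,nat_lit 74304,nat_lit 74321,nat_lit 74330,nat_lit 74342,nat_lit 74346,nat_lit 74358,nat_lit 74368,nat_lit 74400,nat_lit 74436,nat_lit 74448,nat_lit 74485,nat_lit 74486,nat_lit 74492,nat_lit 74496,nat_lit 74513,nat_lit 74519,nat_lit 74534,nat_lit 74560,nat_lit 74583,nat_lit 74608,nat_lit 74620,nat_lit 74631,nat_lit 74647,nat_lit 74650,nat_lit 74663,nat_lit 74666,nat_lit 74678,nat_lit 74682,nat_lit 74699,nat_lit 74714,nat_lit 74742,nat_lit 74752,nat_lit 74759,nat_lit 74768,nat_lit 74775,nat_lit 74791,nat_lit 74848,nat_lit 74855,nat_lit 74880,nat_lit 74906,nat_lit 74918,nat_lit 74955,nat_lit 74966,nat_lit 74993,nat_lit 75160,nat_lit 75200,nat_lit 75223,nat_lit 75254,nat_lit 75370,nat_lit 75449,nat_lit 75473,nat_lit 75484,nat_lit 75490,nat_lit 75494,nat_lit 75526,nat_lit 75536,nat_lit 75555,nat_lit 75558,nat_lit 75564,nat_lit 75568,nat_lit 75600,nat_lit 75607,nat_lit 75612,nat_lit 75626,nat_lit 75632,nat_lit 75649,nat_lit 75655,nat_lit 75692,nat_lit 75718,nat_lit 75728,nat_lit 75735,nat_lit 75751,nat_lit 75754,nat_lit 75761,nat_lit 75767,nat_lit 75770,nat_lit 75784,nat_lit 75788,nat_lit 75792,nat_lit 75809,nat_lit 75826,nat_lit 75830,nat_lit 75841,nat_lit 75852,nat_lit 75874,nat_lit 75878,nat_lit 75907,nat_lit 75910,nat_lit 75916,nat_lit 75920,nat_lit 75927,nat_lit 75939,nat_lit 75942,nat_lit 75948,nat_lit 75952,nat_lit 75959,nat_lit 75972,nat_lit 75974,nat_lit 75980,nat_lit 75984,nat_lit 76007,nat_lit 76024,nat_lit 76033,nat_lit 76039,nat_lit 76042,nat_lit 76070,nat_lit 76074,nat_lit 76076,nat_lit 76112,nat_lit 76129,nat_lit 76134,nat_lit 76140,nat_lit 76146,nat_lit 76150,nat_lit 76177,nat_lit 76194,nat_lit 76198,nat_lit 76227,nat_lit 76230,nat_lit 76236,nat_lit 76246,nat_lit 76259,nat_lit 76262,nat_lit 76268,nat_lit 76272,nat_lit 76279,nat_lit 76292,nat_lit 76294,nat_lit 76304,nat_lit 76311,nat_lit 76327,nat_lit 76344,nat_lit 76355,nat_lit 76358,nat_lit 76368,nat_lit 76388,nat_lit 76390,nat_lit 76400,nat_lit 76423,nat_lit 76440,nat_lit 76452,nat_lit 76454,nat_lit 76464,nat_lit 76487,nat_lit 76501,nat_lit 76502,nat_lit 76512,nat_lit 76519,nat_lit 76529,nat_lit 76535,nat_lit 76538,nat_lit 76566,nat_lit 76568,nat_lit 76570,nat_lit 76587,nat_lit 76608,nat_lit 76625,nat_lit 76631,nat_lit 76634,nat_lit 76646,nat_lit 76650,nat_lit 76678,nat_lit 76688,nat_lit 76695,nat_lit 76705,nat_lit 76711,nat_lit 76727,nat_lit 76742,nat_lit 76744,nat_lit 76748,nat_lit 76761,nat_lit 76764,nat_lit 76792,nat_lit 76794,nat_lit 76796,nat_lit 76833,nat_lit 76839,nat_lit 76854,nat_lit 76856,nat_lit 76858,nat_lit 76880,nat_lit 76897,nat_lit 76908,nat_lit 76920,nat_lit 76934,nat_lit 76967,nat_lit 76970,nat_lit 76972,nat_lit 76982,nat_lit 76984,nat_lit 77018,nat_lit 77033,nat_lit 77034,nat_lit 77078,nat_lit 77096,nat_lit 77098,nat_lit 77100,nat_lit 77116,nat_lit 77132,nat_lit 77159,nat_lit 77162,nat_lit 77168,nat_lit 77201,nat_lit 77211,nat_lit 77238,nat_lit 77248,nat_lit 77255,nat_lit 77270,nat_lit 77302,nat_lit 77316,nat_lit 77318,nat_lit 77328,nat_lit 77335,nat_lit 77351,nat_lit 77368,nat_lit 77404,nat_lit 77408,nat_lit 77430,nat_lit 77440,nat_lit 77457,nat_lit 77463,nat_lit 77466,nat_lit 77480,nat_lit 77494,nat_lit 77496,nat_lit 77498,nat_lit 77513,nat_lit 77520,nat_lit 77536,nat_lit 77553,nat_lit 77559,nat_lit 77562,nat_lit 77590,nat_lit 77592,nat_lit 77632,nat_lit 77649,nat_lit 77655,nat_lit 77658,nat_lit 77680,nat_lit 77697,nat_lit 77719,nat_lit 77722,nat_lit 77734,nat_lit 77736,nat_lit 77738,nat_lit 77755,nat_lit 77768,nat_lit 77770,nat_lit 77785,nat_lit 77803,nat_lit 77847,nat_lit 77850,nat_lit 77862,nat_lit 77864,nat_lit 77866,nat_lit 77883,nat_lit 77944,nat_lit 77952,nat_lit 77977,nat_lit 78000,nat_lit 78038,nat_lit 78043,nat_lit 78071,nat_lit 78118,nat_lit 78154,nat_lit 78166,nat_lit 78176,nat_lit 78183,nat_lit 78192,nat_lit 78215,nat_lit 78246,nat_lit 78252,nat_lit 78256,nat_lit 78273,nat_lit 78279,nat_lit 78282,nat_lit 78284,nat_lit 78294,nat_lit 78296,nat_lit 78311,nat_lit 78314,nat_lit 78316,nat_lit 78328,nat_lit 78347,nat_lit 78348,nat_lit 78360,nat_lit 78400,nat_lit 78407,nat_lit 78432,nat_lit 78455,nat_lit 78458,nat_lit 78465,nat_lit 78471,nat_lit 78513,nat_lit 78519,nat_lit 78524,nat_lit 78551,nat_lit 78554,nat_lit 78566,nat_lit 78650,nat_lit 78662,nat_lit 78668,nat_lit 78711,nat_lit 78722,nat_lit 78730,nat_lit 78744,nat_lit 78774,nat_lit 78776,nat_lit 78792,nat_lit 78809,nat_lit 78848,nat_lit 78865,nat_lit 78871,nat_lit 78888,nat_lit 78904,nat_lit 78912,nat_lit 78961,nat_lit 78999,nat_lit 79002,nat_lit 79014,nat_lit 79050,nat_lit 79066,nat_lit 79083,nat_lit 79095,nat_lit 79098,nat_lit 79115,nat_lit 79142,nat_lit 79144,nat_lit 79146,nat_lit 79152,nat_lit 79163,nat_lit 79177,nat_lit 79193,nat_lit 79226,nat_lit 79288,nat_lit 79321,nat_lit 79369,nat_lit 79376,nat_lit 79398,nat_lit 79418,nat_lit 79435,nat_lit 79447,nat_lit 79513,nat_lit 79553,nat_lit 79558,nat_lit 79570,nat_lit 79590,nat_lit 79603,nat_lit 79616,nat_lit 79636,nat_lit 79638,nat_lit 79652,nat_lit 79654,nat_lit 79671,nat_lit 79674,nat_lit 79686,nat_lit 79696,nat_lit 79703,nat_lit 79730,nat_lit 79734,nat_lit 79740,nat_lit 79779,nat_lit 79782,nat_lit 79792,nat_lit 79830,nat_lit 79840,nat_lit 79863,nat_lit 79876,nat_lit 79878,nat_lit 79884,nat_lit 79888,nat_lit 79895,nat_lit 79911,nat_lit 79928,nat_lit 79941,nat_lit 79942,nat_lit 79953,nat_lit 79959,nat_lit 79962,nat_lit 79964,nat_lit 79980,nat_lit 80006,nat_lit 80008,nat_lit 80032,nat_lit 80039,nat_lit 80055,nat_lit 80071,nat_lit 80104,nat_lit 80108,nat_lit 80134,nat_lit 80144,nat_lit 80161,nat_lit 80167,nat_lit 80182,nat_lit 80184,nat_lit 80186,nat_lit 80198,nat_lit 80208,nat_lit 80241,nat_lit 80264,nat_lit 80279,nat_lit 80282,nat_lit 80296,nat_lit 80332,nat_lit 80353,nat_lit 80370,nat_lit 80374,nat_lit 80384,nat_lit 80391,nat_lit 80402,nat_lit 80406,nat_lit 80412,nat_lit 80438,nat_lit 80448,nat_lit 80470,nat_lit 80476,nat_lit 80480,nat_lit 80503,nat_lit 80520,nat_lit 80548,nat_lit 80550,nat_lit 80556,nat_lit 80560,nat_lit 80567,nat_lit 80572,nat_lit 80579,nat_lit 80599,nat_lit 80646,nat_lit 80656,nat_lit 80668,nat_lit 80673,nat_lit 80679,nat_lit 80684,nat_lit 80726,nat_lit 80742,nat_lit 80752,nat_lit 80769,nat_lit 80791,nat_lit 80796,nat_lit 80806,nat_lit 80808,nat_lit 80810,nat_lit 80824,nat_lit 80826,nat_lit 80828,nat_lit 80841,nat_lit 80859,nat_lit 80876,nat_lit 80884,nat_lit 80886,nat_lit 80896,nat_lit 80930,nat_lit 80934,nat_lit 80963,nat_lit 80966,nat_lit 80976,nat_lit 80983,nat_lit 81028,nat_lit 81030,nat_lit 81036,nat_lit 81040,nat_lit 81092,nat_lit 81094,nat_lit 81100,nat_lit 81104,nat_lit 81127,nat_lit 81130,nat_lit 81157,nat_lit 81158,nat_lit 81168,nat_lit 81185,nat_lit 81191,nat_lit 81206,nat_lit 81210,nat_lit 81236,nat_lit 81238,nat_lit 81248,nat_lit 81271,nat_lit 81285,nat_lit 81286,nat_lit 81296,nat_lit 81313,nat_lit 81319,nat_lit 81322,nat_lit 81350,nat_lit 81352,nat_lit 81397,nat_lit 81398,nat_lit 81408,nat_lit 81425,nat_lit 81431,nat_lit 81446,nat_lit 81450,nat_lit 81467,nat_lit 81488,nat_lit 81521,nat_lit 81543,nat_lit 81546,nat_lit 81558,nat_lit 81562,nat_lit 81564,nat_lit 81579,nat_lit 81608,nat_lit 81610,nat_lit 81655,nat_lit 81658,nat_lit 81670,nat_lit 81672,nat_lit 81674,nat_lit 81703,nat_lit 81718,nat_lit 81722,nat_lit 81736,nat_lit 81738,nat_lit 81740,nat_lit 81756,nat_lit 81771,nat_lit 81779,nat_lit 81786,nat_lit 81849,nat_lit 81850,nat_lit 81852,nat_lit 81856,nat_lit 81867,nat_lit 81920,nat_lit 81953,nat_lit 81991,nat_lit 82006,nat_lit 82008,nat_lit 82010,nat_lit 82058,nat_lit 82080,nat_lit 82097,nat_lit 82130,nat_lit 82135,nat_lit 82140,nat_lit 82169,nat_lit 82198,nat_lit 82200,nat_lit 82202,nat_lit 82216,nat_lit 82218,nat_lit 82220,nat_lit 82272,nat_lit 82296,nat_lit 82314,nat_lit 82316,nat_lit 82320,nat_lit 82331,nat_lit 82348,nat_lit 82364,nat_lit 82419,nat_lit 82427,nat_lit 82449,nat_lit 82459,nat_lit 82491,nat_lit 82566,nat_lit 82576,nat_lit 82592,nat_lit 82618,nat_lit 82625,nat_lit 82662,nat_lit 82672,nat_lit 82684,nat_lit 82694,nat_lit 82705,nat_lit 82711,nat_lit 82714,nat_lit 82758,nat_lit 82790,nat_lit 82800,nat_lit 82817,nat_lit 82823,nat_lit 82826,nat_lit 82839,nat_lit 82842,nat_lit 82854,nat_lit 82869,nat_lit 82870,nat_lit 82880,nat_lit 82897,nat_lit 82912,nat_lit 82945,nat_lit 82951,nat_lit 82967,nat_lit 82970,nat_lit 82982,nat_lit 82984,nat_lit 82986,nat_lit 83024,nat_lit 83041,nat_lit 83047,nat_lit 83050,nat_lit 83079,nat_lit 83082,nat_lit 83094,nat_lit 83096,nat_lit 83098,nat_lit 83115,nat_lit 83130,nat_lit 83145,nat_lit 83152,nat_lit 83169,nat_lit 83202,nat_lit 83207,nat_lit 83224,nat_lit 83238,nat_lit 83240,nat_lit 83242,nat_lit 83258,nat_lit 83274,nat_lit 83335,nat_lit 83350,nat_lit 83360,nat_lit 83378,nat_lit 83398,nat_lit 83402,nat_lit 83408,nat_lit 83434,nat_lit 83473,nat_lit 83520,nat_lit 83546,nat_lit 83552,nat_lit 83574,nat_lit 83584,nat_lit 83601,nat_lit 83607,nat_lit 83639,nat_lit 83670,nat_lit 83680,nat_lit 83697,nat_lit 83706,nat_lit 83713,nat_lit 83719,nat_lit 83722,nat_lit 83735,nat_lit 83750,nat_lit 83754,nat_lit 83766,nat_lit 83793,nat_lit 83799,nat_lit 83834,nat_lit 83856,nat_lit 83879,nat_lit 83882,nat_lit 83889,nat_lit 83895,nat_lit 83912,nat_lit 83930,nat_lit 83978,nat_lit 83980,nat_lit 83988,nat_lit 84003,nat_lit 84006,nat_lit 84039,nat_lit 84054,nat_lit 84056,nat_lit 84104,nat_lit 84128,nat_lit 84144,nat_lit 84156,nat_lit 84170,nat_lit 84184,nat_lit 84220,nat_lit 84228,nat_lit 84241,nat_lit 84250,nat_lit 84311,nat_lit 84314,nat_lit 84337,nat_lit 84359,nat_lit 84362,nat_lit 84374,nat_lit 84392,nat_lit 84407,nat_lit 84410,nat_lit 84412,nat_lit 84422,nat_lit 84426,nat_lit 84428,nat_lit 84456,nat_lit 84487,nat_lit 84502,nat_lit 84520,nat_lit 84522,nat_lit 84524,nat_lit 84537,nat_lit 84569,nat_lit 84595,nat_lit 84650,nat_lit 84662,nat_lit 84666,nat_lit 84683,nat_lit 84742,nat_lit 84744,nat_lit 84746,nat_lit 84752,nat_lit 84763,nat_lit 84808,nat_lit 84816,nat_lit 84827,nat_lit 84857,nat_lit 84880,nat_lit 84888,nat_lit 84912,nat_lit 84934,nat_lit 84939,nat_lit 84969,nat_lit 85032,nat_lit 85047,nat_lit 85078,nat_lit 85112,nat_lit 85129,nat_lit 85137,nat_lit 85154,nat_lit 85158,nat_lit 85187,nat_lit 85206,nat_lit 85222,nat_lit 85235,nat_lit 85251,nat_lit 85254,nat_lit 85264,nat_lit 85284,nat_lit 85286,nat_lit 85296,nat_lit 85315,nat_lit 85332,nat_lit 85334,nat_lit 85344,nat_lit 85380,nat_lit 85409,nat_lit 85457,nat_lit 85463,nat_lit 85466,nat_lit 85472,nat_lit 85489,nat_lit 85510,nat_lit 85520,nat_lit 85537,nat_lit 85556,nat_lit 85590,nat_lit 85600,nat_lit 85616,nat_lit 85633,nat_lit 85674,nat_lit 85716,nat_lit 85718,nat_lit 85749,nat_lit 85750,nat_lit 85760,nat_lit 85834,nat_lit 85856,nat_lit 85888,nat_lit 85905,nat_lit 85921,nat_lit 85938,nat_lit 85942,nat_lit 85955,nat_lit 85958,nat_lit 85968,nat_lit 85988,nat_lit 86000,nat_lit 86007,nat_lit 86021,nat_lit 86022,nat_lit 86039,nat_lit 86070,nat_lit 86081,nat_lit 86086,nat_lit 86098,nat_lit 86102,nat_lit 86114,nat_lit 86135,nat_lit 86147,nat_lit 86160,nat_lit 86182,nat_lit 86192,nat_lit 86224,nat_lit 86247,nat_lit 86259,nat_lit 86272,nat_lit 86292,nat_lit 86294,nat_lit 86304,nat_lit 86327,nat_lit 86344,nat_lit 86356,nat_lit 86368,nat_lit 86406,nat_lit 86416,nat_lit 86438,nat_lit 86440,nat_lit 86464,nat_lit 86485,nat_lit 86497,nat_lit 86503,nat_lit 86518,nat_lit 86522,nat_lit 86528,nat_lit 86545,nat_lit 86551,nat_lit 86554,nat_lit 86567,nat_lit 86583,nat_lit 86586,nat_lit 86598,nat_lit 86614,nat_lit 86624,nat_lit 86631,nat_lit 86662,nat_lit 86672,nat_lit 86679,nat_lit 86704,nat_lit 86720,nat_lit 86727,nat_lit 86743,nat_lit 86746,nat_lit 86760,nat_lit 86774,nat_lit 86784,nat_lit 86805,nat_lit 86816,nat_lit 86823,nat_lit 86833,nat_lit 86870,nat_lit 86880,nat_lit 86902,nat_lit 86904,nat_lit 86906,nat_lit 86934,nat_lit 86951,nat_lit 86970,nat_lit 86986,nat_lit 87017,nat_lit 87018,nat_lit 87050,nat_lit 87088,nat_lit 87110,nat_lit 87120,nat_lit 87143,nat_lit 87157,nat_lit 87158,nat_lit 87164,nat_lit 87168,nat_lit 87185,nat_lit 87191,nat_lit 87216,nat_lit 87223,nat_lit 87239,nat_lit 87249,nat_lit 87258,nat_lit 87274,nat_lit 87291,nat_lit 87306,nat_lit 87328,nat_lit 87361,nat_lit 87382,nat_lit 87393,nat_lit 87399,nat_lit 87402,nat_lit 87424,nat_lit 87457,nat_lit 87463,nat_lit 87494,nat_lit 87542,nat_lit 87562,nat_lit 87606,nat_lit 87642,nat_lit 87674,nat_lit 87712,nat_lit 87735,nat_lit 87745,nat_lit 87751,nat_lit 87768,nat_lit 87783,nat_lit 87814,nat_lit 87825,nat_lit 87831,nat_lit 87866,nat_lit 88050,nat_lit 88054,nat_lit 88065,nat_lit 88083,nat_lit 88086,nat_lit 88096,nat_lit 88112,nat_lit 88119,nat_lit 88138,nat_lit 88148,nat_lit 88150,nat_lit 88160,nat_lit 88167,nat_lit 88179,nat_lit 88199,nat_lit 88202,nat_lit 88209,nat_lit 88215,nat_lit 88218,nat_lit 88232,nat_lit 88240,nat_lit 88247,nat_lit 88267,nat_lit 88273,nat_lit 88295,nat_lit 88310,nat_lit 88326,nat_lit 88336,nat_lit 88353,nat_lit 88359,nat_lit 88362,nat_lit 88376,nat_lit 88390,nat_lit 88394,nat_lit 88423,nat_lit 88426,nat_lit 88440,nat_lit 88488,nat_lit 88497,nat_lit 88514,nat_lit 88518,nat_lit 88534,nat_lit 88544,nat_lit 88551,nat_lit 88566,nat_lit 88577,nat_lit 88582,nat_lit 88595,nat_lit 88598,nat_lit 88608,nat_lit 88615,nat_lit 88628,nat_lit 88630,nat_lit 88640,nat_lit 88659,nat_lit 88679,nat_lit 88708,nat_lit 88710,nat_lit 88720,nat_lit 88759,nat_lit 88762,nat_lit 88776,nat_lit 88789,nat_lit 88790,nat_lit 88800,nat_lit 88833,nat_lit 88839,nat_lit 88842,nat_lit 88854,nat_lit 88856,nat_lit 88887,nat_lit 88890,nat_lit 88902,nat_lit 88906,nat_lit 88923,nat_lit 88936,nat_lit 88938,nat_lit 88966,nat_lit 88977,nat_lit 88998,nat_lit 89046,nat_lit 89056,nat_lit 89078,nat_lit 89094,nat_lit 89104,nat_lit 89124,nat_lit 89126,nat_lit 89136,nat_lit 89155,nat_lit 89168,nat_lit 89175,nat_lit 89190,nat_lit 89200,nat_lit 89239,nat_lit 89256,nat_lit 89270,nat_lit 89280,nat_lit 89297,nat_lit 89303,nat_lit 89320,nat_lit 89334,nat_lit 89336,nat_lit 89353,nat_lit 89364,nat_lit 89366,nat_lit 89376,nat_lit 89399,nat_lit 89402,nat_lit 89413,nat_lit 89414,nat_lit 89424,nat_lit 89431,nat_lit 89441,nat_lit 89447,nat_lit 89462,nat_lit 89464,nat_lit 89466,nat_lit 89494,nat_lit 89504,nat_lit 89521,nat_lit 89527,nat_lit 89542,nat_lit 89558,nat_lit 89568,nat_lit 89575,nat_lit 89585,nat_lit 89591,nat_lit 89608,nat_lit 89623,nat_lit 89626,nat_lit 89638,nat_lit 89640,nat_lit 89672,nat_lit 89674,nat_lit 89690,nat_lit 89707,nat_lit 89735,nat_lit 89754,nat_lit 89766,nat_lit 89770,nat_lit 89787,nat_lit 89800,nat_lit 89802,nat_lit 89831,nat_lit 89847,nat_lit 89874,nat_lit 89879,nat_lit 89896,nat_lit 89910,nat_lit 89912,nat_lit 89928,nat_lit 89930,nat_lit 89945,nat_lit 90007,nat_lit 90009,nat_lit 90010,nat_lit 90016,nat_lit 90027,nat_lit 90055,nat_lit 90070,nat_lit 90072,nat_lit 90088,nat_lit 90090,nat_lit 90105,nat_lit 90129,nat_lit 90146,nat_lit 90151,nat_lit 90164,nat_lit 90185,nat_lit 90214,nat_lit 90216,nat_lit 90224,nat_lit 90264,nat_lit 90282,nat_lit 90288,nat_lit 90344,nat_lit 90359,nat_lit 90362,nat_lit 90368,nat_lit 90392,nat_lit 90410,nat_lit 90427,nat_lit 90442,nat_lit 90448,nat_lit 90465,nat_lit 90482,nat_lit 90491,nat_lit 90506,nat_lit 90512,nat_lit 90519,nat_lit 90535,nat_lit 90552,nat_lit 90583,nat_lit 90598,nat_lit 90608,nat_lit 90625,nat_lit 90631,nat_lit 90648,nat_lit 90662,nat_lit 90664,nat_lit 90681,nat_lit 90694,nat_lit 90705,nat_lit 90720,nat_lit 90737,nat_lit 90743,nat_lit 90746,nat_lit 90759,nat_lit 90762,nat_lit 90774,nat_lit 90776,nat_lit 90809,nat_lit 90824,nat_lit 90826,nat_lit 90841,nat_lit 90842,nat_lit 90859,nat_lit 90881,nat_lit 90887,nat_lit 90897,nat_lit 90903,nat_lit 90906,nat_lit 90919,nat_lit 90922,nat_lit 90934,nat_lit 90955,nat_lit 90968,nat_lit 90985,nat_lit 90993,nat_lit 91015,nat_lit 91018,nat_lit 91032,nat_lit 91034,nat_lit 91051,nat_lit 91057,nat_lit 91074,nat_lit 91094,nat_lit 91096,nat_lit 91098,nat_lit 91104,nat_lit 91128,nat_lit 91130,nat_lit 91145,nat_lit 91163,nat_lit 91191,nat_lit 91193,nat_lit 91194,nat_lit 91226,nat_lit 91256,nat_lit 91264,nat_lit 91275,nat_lit 91290,nat_lit 91323,nat_lit 91353,nat_lit 91366,nat_lit 91398,nat_lit 91415,nat_lit 91419,nat_lit 91446,nat_lit 91450,nat_lit 91488,nat_lit 91511,nat_lit 91537,nat_lit 91543,nat_lit 91558,nat_lit 91560,nat_lit 91562,nat_lit 91568,nat_lit 91580,nat_lit 91610,nat_lit 91623,nat_lit 91626,nat_lit 91638,nat_lit 91688,nat_lit 91706,nat_lit 91718,nat_lit 91720,nat_lit 91722,nat_lit 91831,nat_lit 91834,nat_lit 91863,nat_lit 91882,nat_lit 91911,nat_lit 91914,nat_lit 91926,nat_lit 91943,nat_lit 91946,nat_lit 91958,nat_lit 91962,nat_lit 91969,nat_lit 91975,nat_lit 91978,nat_lit 91990,nat_lit 91992,nat_lit 92000,nat_lit 92056,nat_lit 92070,nat_lit 92106,nat_lit 92137,nat_lit 92169,nat_lit 92185,nat_lit 92209,nat_lit 92226,nat_lit 92231,nat_lit 92248,nat_lit 92281,nat_lit 92294,nat_lit 92326,nat_lit 92422,nat_lit 92432,nat_lit 92464,nat_lit 92474,nat_lit 92489,nat_lit 92496,nat_lit 92518,nat_lit 92523,nat_lit 92554,nat_lit 92634,nat_lit 92646,nat_lit 92663,nat_lit 92683,nat_lit 92715,nat_lit 92738,nat_lit 92742,nat_lit 92759,nat_lit 92774,nat_lit 92784,nat_lit 92804,nat_lit 92806,nat_lit 92823,nat_lit 92826,nat_lit 92837,nat_lit 92848,nat_lit 92869,nat_lit 92870,nat_lit 92880,nat_lit 92887,nat_lit 92902,nat_lit 92906,nat_lit 92928,nat_lit 92945,nat_lit 92951,nat_lit 92954,nat_lit 92968,nat_lit 92982,nat_lit 92988,nat_lit 92992,nat_lit 93004,nat_lit 93014,nat_lit 93030,nat_lit 93040,nat_lit 93047,nat_lit 93063,nat_lit 93066,nat_lit 93068,nat_lit 93072,nat_lit 93089,nat_lit 93095,nat_lit 93098,nat_lit 93112,nat_lit 93126,nat_lit 93136,nat_lit 93143,nat_lit 93169,nat_lit 93175,nat_lit 93178,nat_lit 93192,nat_lit 93206,nat_lit 93210,nat_lit 93238,nat_lit 93248,nat_lit 93255,nat_lit 93271,nat_lit 93274,nat_lit 93286,nat_lit 93313,nat_lit 93319,nat_lit 93336,nat_lit 93352,nat_lit 93383,nat_lit 93416,nat_lit 93430,nat_lit 93432,nat_lit 93447,nat_lit 93464,nat_lit 93472,nat_lit 93489,nat_lit 93511,nat_lit 93526,nat_lit 93528,nat_lit 93530,nat_lit 93544,nat_lit 93546,nat_lit 93584,nat_lit 93601,nat_lit 93610,nat_lit 93612,nat_lit 93618,nat_lit 93623,nat_lit 93656,nat_lit 93664,nat_lit 93675,nat_lit 93718,nat_lit 93734,nat_lit 93744,nat_lit 93751,nat_lit 93767,nat_lit 93784,nat_lit 93798,nat_lit 93808,nat_lit 93815,nat_lit 93840,nat_lit 93863,nat_lit 93866,nat_lit 93872,nat_lit 93905,nat_lit 93911,nat_lit 93926,nat_lit 93928,nat_lit 93957,nat_lit 93958,nat_lit 93968,nat_lit 93980,nat_lit 93988,nat_lit 93990,nat_lit 94001,nat_lit 94007,nat_lit 94010,nat_lit 94032,nat_lit 94070,nat_lit 94080,nat_lit 94097,nat_lit 94106,nat_lit 94116,nat_lit 94112,nat_lit 94135,nat_lit 94150,nat_lit 94184,nat_lit 94192,nat_lit 94209,nat_lit 94231,nat_lit 94246,nat_lit 94248,nat_lit 94250,nat_lit 94260,nat_lit 94263,nat_lit 94280,nat_lit 94297,nat_lit 94329,nat_lit 94336,nat_lit 94347,nat_lit 94404,nat_lit 94422,nat_lit 94470,nat_lit 94480,nat_lit 94500,nat_lit 94502,nat_lit 94512,nat_lit 94535,nat_lit 94538,nat_lit 94565,nat_lit 94566,nat_lit 94576,nat_lit 94609,nat_lit 94630,nat_lit 94640,nat_lit 94662,nat_lit 94673,nat_lit 94679,nat_lit 94682,nat_lit 94694,nat_lit 94696,nat_lit 94715,nat_lit 94726,nat_lit 94736,nat_lit 94748,nat_lit 94753,nat_lit 94759,nat_lit 94764,nat_lit 94775,nat_lit 94778,nat_lit 94780,nat_lit 94790,nat_lit 94810,nat_lit 94837,nat_lit 94838,nat_lit 94848,nat_lit 94865,nat_lit 94871,nat_lit 94886,nat_lit 94902,nat_lit 94912,nat_lit 94924,nat_lit 94929,nat_lit 94935,nat_lit 94940,nat_lit 94951,nat_lit 94954,nat_lit 94956,nat_lit 94966,nat_lit 94970,nat_lit 94972,nat_lit 95000,nat_lit 95030,nat_lit 95040,nat_lit 95052,nat_lit 95057,nat_lit 95079,nat_lit 95082,nat_lit 95094,nat_lit 95112,nat_lit 95114,nat_lit 95131,nat_lit 95153,nat_lit 95170,nat_lit 95175,nat_lit 95190,nat_lit 95192,nat_lit 95194,nat_lit 95196,nat_lit 95200,nat_lit 95224,nat_lit 95226,nat_lit 95243,nat_lit 95254,nat_lit 95287,nat_lit 95290,nat_lit 95296,nat_lit 95307,nat_lit 95318,nat_lit 95322,nat_lit 95339,nat_lit 95352,nat_lit 95354,nat_lit 95387,nat_lit 95398,nat_lit 95408,nat_lit 95416,nat_lit 95418,nat_lit 95435,nat_lit 95449,nat_lit 95450,nat_lit 95456,nat_lit 95467,nat_lit 95480,nat_lit 95498,nat_lit 95530,nat_lit 95568,nat_lit 95593,nat_lit 95601,nat_lit 95611,nat_lit 95633,nat_lit 95642,nat_lit 95650,nat_lit 95655,nat_lit 95670,nat_lit 95672,nat_lit 95676,nat_lit 95688,nat_lit 95690,nat_lit 95692,nat_lit 95724,nat_lit 95728,nat_lit 95745,nat_lit 95762,nat_lit 95767,nat_lit 95770,nat_lit 95772,nat_lit 95783,nat_lit 95786,nat_lit 95788,nat_lit 95798,nat_lit 95800,nat_lit 95802,nat_lit 95804,nat_lit 95812,nat_lit 95810,nat_lit 95848,nat_lit 95850,nat_lit 95872,nat_lit 95895,nat_lit 95898,nat_lit 95904,nat_lit 95928,nat_lit 95937,nat_lit 95962,nat_lit 95968,nat_lit 95994,nat_lit 96001,nat_lit 96011,nat_lit 96052,nat_lit 96075,nat_lit 96098,nat_lit 96170,nat_lit 96177,nat_lit 96186,nat_lit 96224,nat_lit 96231,nat_lit 96247,nat_lit 96295,nat_lit 96298,nat_lit 96310,nat_lit 96352,nat_lit 96369,nat_lit 96375,nat_lit 96378,nat_lit 96380,nat_lit 96386,nat_lit 96391,nat_lit 96396,nat_lit 96406,nat_lit 96438,nat_lit 96442,nat_lit 96444,nat_lit 96448,nat_lit 96472,nat_lit 96486,nat_lit 96496,nat_lit 96508,nat_lit 96513,nat_lit 96519,nat_lit 96538,nat_lit 96545,nat_lit 96562,nat_lit 96567,nat_lit 96584,nat_lit 96598,nat_lit 96600,nat_lit 96602,nat_lit 96608,nat_lit 96619,nat_lit 96632,nat_lit 96634,nat_lit 96673,nat_lit 96679,nat_lit 96690,nat_lit 96700,nat_lit 96712,nat_lit 96714,nat_lit 96731,nat_lit 96742,nat_lit 96744,nat_lit 96746,nat_lit 96752,nat_lit 96778,nat_lit 96793,nat_lit 96794,nat_lit 96865,nat_lit 96882,nat_lit 96892,nat_lit 96903,nat_lit 96908,nat_lit 96920,nat_lit 96938,nat_lit 96944,nat_lit 96954,nat_lit 96970,nat_lit 96976,nat_lit 96987,nat_lit 97019,nat_lit 97030,nat_lit 97032,nat_lit 97040,nat_lit 97048,nat_lit 97079,nat_lit 97082,nat_lit 97098,nat_lit 97104,nat_lit 97126,nat_lit 97136,nat_lit 97147,nat_lit 97174,nat_lit 97216,nat_lit 97233,nat_lit 97239,nat_lit 97242,nat_lit 97258,nat_lit 97270,nat_lit 97313,nat_lit 97319,nat_lit 97330,nat_lit 97335,nat_lit 97338,nat_lit 97367,nat_lit 97386,nat_lit 97414,nat_lit 97418,nat_lit 97456,nat_lit 97474,nat_lit 97479,nat_lit 97504,nat_lit 97515,nat_lit 97527,nat_lit 97546,nat_lit 97575,nat_lit 97578,nat_lit 97590,nat_lit 97592,nat_lit 97594,nat_lit 97644,nat_lit 97652,nat_lit 97667,nat_lit 97686,nat_lit 97718,nat_lit 97720,nat_lit 97736,nat_lit 97754,nat_lit 97767,nat_lit 97770,nat_lit 97812,nat_lit 97860,nat_lit 97883,nat_lit 97936,nat_lit 97959,nat_lit 97974,nat_lit 97976,nat_lit 97978,nat_lit 98008,nat_lit 98023,nat_lit 98038,nat_lit 98048,nat_lit 98088,nat_lit 98090,nat_lit 98137,nat_lit 98138,nat_lit 98160,nat_lit 98168,nat_lit 98185,nat_lit 98272,nat_lit 98283,nat_lit 98336,nat_lit 98368,nat_lit 98390,nat_lit 98395,nat_lit 98425,nat_lit 98438,nat_lit 98443,nat_lit 98488,nat_lit 98505,nat_lit 98518,nat_lit 98535,nat_lit 98539,nat_lit 98554,nat_lit 98583,nat_lit 98586,nat_lit 98601,nat_lit 98615,nat_lit 98619,nat_lit 98658,nat_lit 98662,nat_lit 98675,nat_lit 98678,nat_lit 98688,nat_lit 98710,nat_lit 98720,nat_lit 98758,nat_lit 98772,nat_lit 98774,nat_lit 98784,nat_lit 98822,nat_lit 98832,nat_lit 98849,nat_lit 98868,nat_lit 98886,nat_lit 98896,nat_lit 98913,nat_lit 98919,nat_lit 98922,nat_lit 98934,nat_lit 98951,nat_lit 98967,nat_lit 98982,nat_lit 98986,nat_lit 99009,nat_lit 99026,nat_lit 99031,nat_lit 99040,nat_lit 99057,nat_lit 99079,nat_lit 99094,nat_lit 99104,nat_lit 99121,nat_lit 99137,nat_lit 99154,nat_lit 99200,nat_lit 99207,nat_lit 99297,nat_lit 99314,nat_lit 99330,nat_lit 99347,nat_lit 99350,nat_lit 99360,nat_lit 99380,nat_lit 99382,nat_lit 99392,nat_lit 99399,nat_lit 99415,nat_lit 99429,nat_lit 99430,nat_lit 99436,nat_lit 99447,nat_lit 99464,nat_lit 99478,nat_lit 99488,nat_lit 99495,nat_lit 99510,nat_lit 99528,nat_lit 99530,nat_lit 99542,nat_lit 99559,nat_lit 99571,nat_lit 99574,nat_lit 99584,nat_lit 99606,nat_lit 99638,nat_lit 99655,nat_lit 99664,nat_lit 99671,nat_lit 99703,nat_lit 99718,nat_lit 99732,nat_lit 99734,nat_lit 99751,nat_lit 99765,nat_lit 99766,nat_lit 99776,nat_lit 99793,nat_lit 99814,nat_lit 99816,nat_lit 99818,nat_lit 99846,nat_lit 99857,nat_lit 99872,nat_lit 99879,nat_lit 99889,nat_lit 99895,nat_lit 99898,nat_lit 99912,nat_lit 99946,nat_lit 99958,nat_lit 99975,nat_lit 99994,nat_lit 100010,nat_lit 100033,nat_lit 100055,nat_lit 100074,nat_lit 100102,nat_lit 100106,nat_lit 100122,nat_lit 100139,nat_lit 100144,nat_lit 100151,nat_lit 100160,nat_lit 100183,nat_lit 100208,nat_lit 100225,nat_lit 100231,nat_lit 100234,nat_lit 100248,nat_lit 100279,nat_lit 100282,nat_lit 100296,nat_lit 100310,nat_lit 100312,nat_lit 100352,nat_lit 100369,nat_lit 100390,nat_lit 100401,nat_lit 100407,nat_lit 100465,nat_lit 100488,nat_lit 100505,nat_lit 100506,nat_lit 100554,nat_lit 100576,nat_lit 100602,nat_lit 100635,nat_lit 100641,nat_lit 100656,nat_lit 100673,nat_lit 100694,nat_lit 100710,nat_lit 100720,nat_lit 100732,nat_lit 100742,nat_lit 100753,nat_lit 100762,nat_lit 100775,nat_lit 100790,nat_lit 100807,nat_lit 100912,nat_lit 100929,nat_lit 100960,nat_lit 100983,nat_lit 100986,nat_lit 100998,nat_lit 101002,nat_lit 101025,nat_lit 101047,nat_lit 101062,nat_lit 101130,nat_lit 101152,nat_lit 101169,nat_lit 101207,nat_lit 101222,nat_lit 101224,nat_lit 101287,nat_lit 101334,nat_lit 101340,nat_lit 101344,nat_lit 101356,nat_lit 101382,nat_lit 101392,nat_lit 101399,nat_lit 101415,nat_lit 101418,nat_lit 101425,nat_lit 101431,nat_lit 101436,nat_lit 101467,nat_lit 101477,nat_lit 101478,nat_lit 101488,nat_lit 101500,nat_lit 101505,nat_lit 101511,nat_lit 101514,nat_lit 101516,nat_lit 101528,nat_lit 101558,nat_lit 101562,nat_lit 101591,nat_lit 101594,nat_lit 101596,nat_lit 101606,nat_lit 101608,nat_lit 101612,nat_lit 101644,nat_lit 101703,nat_lit 101718,nat_lit 101761,nat_lit 101783,nat_lit 101786,nat_lit 101798,nat_lit 101800,nat_lit 101850,nat_lit 101880,nat_lit 101888,nat_lit 101914,nat_lit 101942,nat_lit 101958,nat_lit 101968,nat_lit 101975,nat_lit 101984,nat_lit 102007,nat_lit 102024,nat_lit 102044,nat_lit 102084,nat_lit 102086,nat_lit 102096,nat_lit 102119,nat_lit 102122,nat_lit 102150,nat_lit 102160,nat_lit 102172,nat_lit 102177,nat_lit 102183,nat_lit 102186,nat_lit 102188,nat_lit 102214,nat_lit 102216,nat_lit 102218,nat_lit 102220,nat_lit 102229,nat_lit 102230,nat_lit 102236,nat_lit 102240,nat_lit 102257,nat_lit 102263,nat_lit 102268,nat_lit 102280,nat_lit 102326,nat_lit 102336,nat_lit 102348,nat_lit 102353,nat_lit 102362,nat_lit 102364,nat_lit 102375,nat_lit 102378,nat_lit 102390,nat_lit 102394,nat_lit 102424,nat_lit 102426,nat_lit 102428,nat_lit 102454,nat_lit 102458,nat_lit 102460,nat_lit 102490,nat_lit 102535,nat_lit 102540,nat_lit 102544,nat_lit 102582,nat_lit 102592,nat_lit 102608,nat_lit 102615,nat_lit 102631,nat_lit 102634,nat_lit 102640,nat_lit 102647,nat_lit 102656,nat_lit 102663,nat_lit 102679,nat_lit 102682,nat_lit 102694,nat_lit 102704,nat_lit 102716,nat_lit 102721,nat_lit 102730,nat_lit 102759,nat_lit 102776,nat_lit 102784,nat_lit 102796,nat_lit 102807,nat_lit 102822,nat_lit 102824,nat_lit 102848,nat_lit 102865,nat_lit 102871,nat_lit 102876,nat_lit 102887,nat_lit 102890,nat_lit 102892,nat_lit 102902,nat_lit 102921,nat_lit 102936,nat_lit 102938,nat_lit 102953,nat_lit 102982,nat_lit 102992,nat_lit 103009,nat_lit 103015,nat_lit 103030,nat_lit 103034,nat_lit 103062,nat_lit 103072,nat_lit 103089,nat_lit 103095,nat_lit 103112,nat_lit 103127,nat_lit 103130,nat_lit 103142,nat_lit 103160,nat_lit 103162,nat_lit 103200,nat_lit 103217,nat_lit 103223,nat_lit 103239,nat_lit 103242,nat_lit 103244,nat_lit 103254,nat_lit 103272,nat_lit 103274,nat_lit 103280,nat_lit 103287,nat_lit 103297,nat_lit 103303,nat_lit 103320,nat_lit 103330,nat_lit 103335,nat_lit 103352,nat_lit 103369,nat_lit 103382,nat_lit 103384,nat_lit 103392,nat_lit 103416,nat_lit 103418,nat_lit 103420,nat_lit 103434,nat_lit 103447,nat_lit 103450,nat_lit 103456,nat_lit 103467,nat_lit 103510,nat_lit 103544,nat_lit 103546,nat_lit 103563,nat_lit 103591,nat_lit 103600,nat_lit 103611,nat_lit 103624,nat_lit 103638,nat_lit 103640,nat_lit 103655,nat_lit 103658,nat_lit 103670,nat_lit 103689,nat_lit 103690,nat_lit 103696,nat_lit 103704,nat_lit 103706,nat_lit 103708,nat_lit 103721,nat_lit 103722,nat_lit 103737,nat_lit 103740,nat_lit 103744,nat_lit 103755,nat_lit 103786,nat_lit 103804,nat_lit 103808,nat_lit 103820,nat_lit 103825,nat_lit 103835,nat_lit 103862,nat_lit 103880,nat_lit 103882,nat_lit 103913,nat_lit 103920,nat_lit 103959,nat_lit 103975,nat_lit 103978,nat_lit 103980,nat_lit 103990,nat_lit 103992,nat_lit 103994,nat_lit 104001,nat_lit 104040,nat_lit 104057,nat_lit 104058,nat_lit 104070,nat_lit 104087,nat_lit 104090,nat_lit 104092,nat_lit 104113,nat_lit 104123,nat_lit 104135,nat_lit 104154,nat_lit 104172,nat_lit 104177,nat_lit 104240,nat_lit 104257,nat_lit 104274,nat_lit 104283,nat_lit 104299,nat_lit 104314,nat_lit 104337,nat_lit 104343,nat_lit 104360,nat_lit 104374,nat_lit 104376,nat_lit 104416,nat_lit 104433,nat_lit 104439,nat_lit 104455,nat_lit 104458,nat_lit 104470,nat_lit 104472,nat_lit 104504,nat_lit 104521,nat_lit 104522,nat_lit 104577,nat_lit 104583,nat_lit 104586,nat_lit 104594,nat_lit 104599,nat_lit 104604,nat_lit 104614,nat_lit 104616,nat_lit 104646,nat_lit 104650,nat_lit 104656,nat_lit 104680,nat_lit 104698,nat_lit 104727,nat_lit 104762,nat_lit 104779,nat_lit 104807,nat_lit 104834,nat_lit 104842,nat_lit 104854,nat_lit 104886,nat_lit 104888,nat_lit 104890,nat_lit 104896,nat_lit 104920,nat_lit 104922,nat_lit 104951,nat_lit 104953,nat_lit 104954,nat_lit 104970,nat_lit 104978,nat_lit 104983,nat_lit 104986,nat_lit 104998,nat_lit 105002,nat_lit 105034,nat_lit 105051,nat_lit 105074,nat_lit 105114,nat_lit 105129,nat_lit 105136,nat_lit 105147,nat_lit 105158,nat_lit 105177,nat_lit 105178,nat_lit 105195,nat_lit 105242,nat_lit 105318,nat_lit 105323,nat_lit 105344,nat_lit 105355,nat_lit 105399,nat_lit 105403,nat_lit 105415,nat_lit 105419,nat_lit 105432,nat_lit 105435,nat_lit 105450,nat_lit 105466,nat_lit 105495,nat_lit 105510,nat_lit 105512,nat_lit 105514,nat_lit 105527,nat_lit 105530,nat_lit 105542,nat_lit 105560,nat_lit 105578,nat_lit 105610,nat_lit 105612,nat_lit 105654,nat_lit 105658,nat_lit 105688,nat_lit 105706,nat_lit 105723,nat_lit 105786,nat_lit 105814,nat_lit 105818,nat_lit 105846,nat_lit 105850,nat_lit 105856,nat_lit 105882,nat_lit 105894,nat_lit 105904,nat_lit 105916,nat_lit 105928,nat_lit 105930,nat_lit 105932,nat_lit 105948,nat_lit 106000,nat_lit 106008,nat_lit 106025,nat_lit 106038,nat_lit 106057,nat_lit 106167,nat_lit 106184,nat_lit 106186,nat_lit 106231,nat_lit 106240,nat_lit 106256,nat_lit 106278,nat_lit 106296,nat_lit 106304,nat_lit 106330,nat_lit 106342,nat_lit 106359,nat_lit 106363,nat_lit 106400,nat_lit 106411,nat_lit 106423,nat_lit 106443,nat_lit 106486,nat_lit 106496,nat_lit 106503,nat_lit 106528,nat_lit 106535,nat_lit 106551,nat_lit 106565,nat_lit 106566,nat_lit 106576,nat_lit 106598,nat_lit 106602,nat_lit 106630,nat_lit 106641,nat_lit 106650,nat_lit 106662,nat_lit 106672,nat_lit 106689,nat_lit 106695,nat_lit 106698,nat_lit 106712,nat_lit 106730,nat_lit 106753,nat_lit 106770,nat_lit 106775,nat_lit 106778,nat_lit 106792,nat_lit 106832,nat_lit 106839,nat_lit 106844,nat_lit 106871,nat_lit 106874,nat_lit 106876,nat_lit 106880,nat_lit 106912,nat_lit 106929,nat_lit 106935,nat_lit 106966,nat_lit 106970,nat_lit 107009,nat_lit 107015,nat_lit 107031,nat_lit 107034,nat_lit 107036,nat_lit 107046,nat_lit 107048,nat_lit 107088,nat_lit 107105,nat_lit 107111,nat_lit 107116,nat_lit 107128,nat_lit 107143,nat_lit 107146,nat_lit 107148,nat_lit 107158,nat_lit 107160,nat_lit 107162,nat_lit 107164,nat_lit 107179,nat_lit 107208,nat_lit 107210,nat_lit 107232,nat_lit 107249,nat_lit 107255,nat_lit 107258,nat_lit 107286,nat_lit 107290,nat_lit 107292,nat_lit 107296,nat_lit 107307,nat_lit 107308,nat_lit 107324,nat_lit 107383,nat_lit 107386,nat_lit 107398,nat_lit 107400,nat_lit 107424,nat_lit 107432,nat_lit 107436,nat_lit 107489,nat_lit 107511,nat_lit 107528,nat_lit 107530,nat_lit 107544,nat_lit 107546,nat_lit 107600,nat_lit 107617,nat_lit 107634,nat_lit 107639,nat_lit 107642,nat_lit 107687,nat_lit 107704,nat_lit 107722,nat_lit 107734,nat_lit 107739,nat_lit 107760,nat_lit 107767,nat_lit 107776,nat_lit 107802,nat_lit 107830,nat_lit 107832,nat_lit 107856,nat_lit 107879,nat_lit 107905,nat_lit 107911,nat_lit 107914,nat_lit 107926,nat_lit 107959,nat_lit 107962,nat_lit 107964,nat_lit 107975,nat_lit 107990,nat_lit 107996,nat_lit 108008,nat_lit 108012,nat_lit 108026,nat_lit 108038,nat_lit 108048,nat_lit 108065,nat_lit 108076,nat_lit 108080,nat_lit 108102,nat_lit 108135,nat_lit 108138,nat_lit 108154,nat_lit 108202,nat_lit 108209,nat_lit 108231,nat_lit 108236,nat_lit 108252,nat_lit 108259,nat_lit 108256,nat_lit 108294,nat_lit 108329,nat_lit 108332,nat_lit 108359,nat_lit 108374,nat_lit 108384,nat_lit 108392,nat_lit 108394,nat_lit 108396,nat_lit 108409,nat_lit 108416,nat_lit 108428,nat_lit 108439,nat_lit 108442,nat_lit 108523,nat_lit 108576,nat_lit 108602,nat_lit 108614,nat_lit 108624,nat_lit 108641,nat_lit 108662,nat_lit 108666,nat_lit 108694,nat_lit 108704,nat_lit 108721,nat_lit 108732,nat_lit 108743,nat_lit 108746,nat_lit 108748,nat_lit 108752,nat_lit 108759,nat_lit 108769,nat_lit 108775,nat_lit 108780,nat_lit 108807,nat_lit 108810,nat_lit 108822,nat_lit 108824,nat_lit 108843,nat_lit 108856,nat_lit 108873,nat_lit 108896,nat_lit 108913,nat_lit 108919,nat_lit 108922,nat_lit 108924,nat_lit 108928,nat_lit 108946,nat_lit 108951,nat_lit 108956,nat_lit 108966,nat_lit 108998,nat_lit 109000,nat_lit 109008,nat_lit 109019,nat_lit 109020,nat_lit 109034,nat_lit 109050,nat_lit 109056,nat_lit 109078,nat_lit 109088,nat_lit 109105,nat_lit 109127,nat_lit 109142,nat_lit 109160,nat_lit 109168,nat_lit 109185,nat_lit 109194,nat_lit 109218,nat_lit 109223,nat_lit 109238,nat_lit 109270,nat_lit 109272,nat_lit 109274,nat_lit 109280,nat_lit 109320,nat_lit 109322,nat_lit 109350,nat_lit 109354,nat_lit 109367,nat_lit 109376,nat_lit 109393,nat_lit 109431,nat_lit 109446,nat_lit 109456,nat_lit 109468,nat_lit 109480,nat_lit 109482,nat_lit 109495,nat_lit 109497,nat_lit 109504,nat_lit 109515,nat_lit 109538,nat_lit 109543,nat_lit 109559,nat_lit 109574,nat_lit 109584,nat_lit 109592,nat_lit 109594,nat_lit 109596,nat_lit 109610,nat_lit 109616,nat_lit 109654,nat_lit 109671,nat_lit 109674,nat_lit 109676,nat_lit 109680,nat_lit 109691,nat_lit 109744,nat_lit 109761,nat_lit 109771,nat_lit 109792,nat_lit 109800,nat_lit 109802,nat_lit 109819,nat_lit 109847,nat_lit 109849,nat_lit 109856,nat_lit 109867,nat_lit 109888,nat_lit 109896,nat_lit 109912,nat_lit 109914,nat_lit 109930,nat_lit 109932,nat_lit 109936,nat_lit 109947,nat_lit 109996,nat_lit 110001,nat_lit 110011,nat_lit 110092,nat_lit 110114,nat_lit 110146,nat_lit 110154,nat_lit 110183,nat_lit 110186,nat_lit 110198,nat_lit 110200,nat_lit 110208,nat_lit 110216,nat_lit 110218,nat_lit 110220,nat_lit 110263,nat_lit 110265,nat_lit 110266,nat_lit 110272,nat_lit 110284,nat_lit 110298,nat_lit 110321,nat_lit 110338,nat_lit 110355,nat_lit 110359,nat_lit 110362,nat_lit 110364,nat_lit 110378,nat_lit 110384,nat_lit 110402,nat_lit 110422,nat_lit 110424,nat_lit 110426,nat_lit 110428,nat_lit 110432,nat_lit 110444,nat_lit 110472,nat_lit 110474,nat_lit 110496,nat_lit 110530,nat_lit 110538,nat_lit 110567,nat_lit 110570,nat_lit 110576,nat_lit 110598,nat_lit 110618,nat_lit 110624,nat_lit 110636,nat_lit 110641,nat_lit 110651,nat_lit 110674,nat_lit 110688,nat_lit 110705,nat_lit 110716,nat_lit 110738,nat_lit 110747,nat_lit 110762,nat_lit 110771,nat_lit 110811,nat_lit 110842,nat_lit 110871,nat_lit 110888,nat_lit 110902,nat_lit 110920,nat_lit 110922,nat_lit 110928,nat_lit 110952,nat_lit 110961,nat_lit 110967,nat_lit 110970,nat_lit 110978,nat_lit 110983,nat_lit 110986,nat_lit 110988,nat_lit 110998,nat_lit 111000,nat_lit 111020,nat_lit 111025,nat_lit 111034,nat_lit 111047,nat_lit 111062,nat_lit 111064,nat_lit 111096,nat_lit 111104,nat_lit 111112,nat_lit 111114,nat_lit 111120,nat_lit 111158,nat_lit 111177,nat_lit 111178,nat_lit 111184,nat_lit 111201,nat_lit 111207,nat_lit 111234,nat_lit 111242,nat_lit 111256,nat_lit 111264,nat_lit 111275,nat_lit 111282,nat_lit 111290,nat_lit 111303,nat_lit 111306,nat_lit 111320,nat_lit 111322,nat_lit 111352,nat_lit 111370,nat_lit 111376,nat_lit 111398,nat_lit 111403,nat_lit 111434,nat_lit 111440,nat_lit 111458,nat_lit 111480,nat_lit 111498,nat_lit 111530,nat_lit 111547,nat_lit 111568,nat_lit 111576,nat_lit 111578,nat_lit 111593,nat_lit 111600,nat_lit 111611,nat_lit 111622,nat_lit 111682,nat_lit 111699,nat_lit 111703,nat_lit 111714,nat_lit 111736,nat_lit 111748,nat_lit 111787,nat_lit 111802,nat_lit 111808,nat_lit 111835,nat_lit 111846,nat_lit 111851,nat_lit 111896,nat_lit 111928,nat_lit 111945,nat_lit 111960,nat_lit 111962,nat_lit 111968,nat_lit 111984,nat_lit 111995,nat_lit 112006,nat_lit 112023,nat_lit 112027,nat_lit 112033,nat_lit 112043,nat_lit 112075,nat_lit 112081,nat_lit 112098,nat_lit 112103,nat_lit 112106,nat_lit 112118,nat_lit 112144,nat_lit 112183,nat_lit 112215,nat_lit 112234,nat_lit 112240,nat_lit 112262,nat_lit 112266,nat_lit 112288,nat_lit 112298,nat_lit 112304,nat_lit 112315,nat_lit 112339,nat_lit 112343,nat_lit 112374,nat_lit 112379,nat_lit 112406,nat_lit 112408,nat_lit 112410,nat_lit 112438,nat_lit 112440,nat_lit 112448,nat_lit 112472,nat_lit 112490,nat_lit 112516,nat_lit 112531,nat_lit 112544,nat_lit 112576,nat_lit 112584,nat_lit 112586,nat_lit 112602,nat_lit 112615,nat_lit 112618,nat_lit 112656,nat_lit 112742,nat_lit 112752,nat_lit 112760,nat_lit 112777,nat_lit 112778,nat_lit 112807,nat_lit 112840,nat_lit 112842,nat_lit 112860,nat_lit 112873,nat_lit 112874,nat_lit 112892,nat_lit 112936,nat_lit 112953,nat_lit 112987,nat_lit 113016,nat_lit 113030,nat_lit 113047,nat_lit 113051,nat_lit 113095,nat_lit 113099,nat_lit 113114,nat_lit 113129,nat_lit 113130,nat_lit 113159,nat_lit 113163,nat_lit 113179,nat_lit 113194,nat_lit 113225,nat_lit 113226,nat_lit 113275,nat_lit 113290,nat_lit 113302,nat_lit 113312,nat_lit 113334,nat_lit 113344,nat_lit 113351,nat_lit 113376,nat_lit 113393,nat_lit 113408,nat_lit 113430,nat_lit 113440,nat_lit 113457,nat_lit 113472,nat_lit 113489,nat_lit 113511,nat_lit 113514,nat_lit 113526,nat_lit 113536,nat_lit 113553,nat_lit 113575,nat_lit 113590,nat_lit 113594,nat_lit 113616,nat_lit 113654,nat_lit 113674,nat_lit 113698,nat_lit 113719,nat_lit 113745,nat_lit 113754,nat_lit 113762,nat_lit 113767,nat_lit 113792,nat_lit 113809,nat_lit 113826,nat_lit 113842,nat_lit 113879,nat_lit 113906,nat_lit 113923,nat_lit 113939,nat_lit 113942,nat_lit 113958,nat_lit 113968,nat_lit 113975,nat_lit 114005,nat_lit 114006,nat_lit 114016,nat_lit 114033,nat_lit 114039,nat_lit 114056,nat_lit 114070,nat_lit 114086,nat_lit 114096,nat_lit 114103,nat_lit 114118,nat_lit 114134,nat_lit 114136,nat_lit 114138,nat_lit 114167,nat_lit 114183,nat_lit 114216,nat_lit 114234,nat_lit 114240,nat_lit 114256,nat_lit 114263,nat_lit 114294,nat_lit 114304,nat_lit 114311,nat_lit 114327,nat_lit 114336,nat_lit 114343,nat_lit 114352,nat_lit 114359,nat_lit 114374,nat_lit 114385,nat_lit 114391,nat_lit 114408,nat_lit 114422,nat_lit 114440,nat_lit 114454,nat_lit 114464,nat_lit 114486,nat_lit 114502,nat_lit 114512,nat_lit 114519,nat_lit 114529,nat_lit 114551,nat_lit 114568,nat_lit 114570,nat_lit 114608,nat_lit 114631,nat_lit 114641,nat_lit 114647,nat_lit 114664,nat_lit 114679,nat_lit 114682,nat_lit 114698,nat_lit 114727,nat_lit 114730,nat_lit 114752,nat_lit 114778,nat_lit 114800,nat_lit 114823,nat_lit 114842,nat_lit 114872,nat_lit 114874,nat_lit 114880,nat_lit 114907,nat_lit 114929,nat_lit 114952,nat_lit 114961,nat_lit 114993,nat_lit 115018,nat_lit 115032,nat_lit 115034,nat_lit 115051,nat_lit 115080,nat_lit 115113,nat_lit 115128,nat_lit 115146,nat_lit 115153,nat_lit 115178,nat_lit 115207,nat_lit 115258,nat_lit 115274,nat_lit 115296,nat_lit 115313,nat_lit 115377,nat_lit 115402,nat_lit 115416,nat_lit 115424,nat_lit 115441,nat_lit 115450,nat_lit 115452,nat_lit 115456,nat_lit 115490,nat_lit 115495,nat_lit 115498,nat_lit 115526,nat_lit 115544,nat_lit 115569,nat_lit 115601,nat_lit 115622,nat_lit 115632,nat_lit 115656,nat_lit 115658,nat_lit 115687,nat_lit 115702,nat_lit 115722,nat_lit 115728,nat_lit 115786,nat_lit 115840,nat_lit 115847,nat_lit 115862,nat_lit 115888,nat_lit 115904,nat_lit 115921,nat_lit 115927,nat_lit 115962,nat_lit 115991,nat_lit 115994,nat_lit 116006,nat_lit 116017,nat_lit 116054,nat_lit 116064,nat_lit 116081,nat_lit 116096,nat_lit 116119,nat_lit 116122,nat_lit 116134,nat_lit 116136,nat_lit 116167,nat_lit 116200,nat_lit 116230,nat_lit 116232,nat_lit 116240,nat_lit 116263,nat_lit 116298,nat_lit 116310,nat_lit 116312,nat_lit 116342,nat_lit 116352,nat_lit 116360,nat_lit 116375,nat_lit 116390,nat_lit 116392,nat_lit 116394,nat_lit 116400,nat_lit 116424,nat_lit 116426,nat_lit 116474,nat_lit 116486,nat_lit 116512,nat_lit 116519,nat_lit 116528,nat_lit 116551,nat_lit 116568,nat_lit 116577,nat_lit 116583,nat_lit 116586,nat_lit 116598,nat_lit 116600,nat_lit 116602,nat_lit 116624,nat_lit 116646,nat_lit 116656,nat_lit 116679,nat_lit 116682,nat_lit 116694,nat_lit 116696,nat_lit 116698,nat_lit 116720,nat_lit 116727,nat_lit 116737,nat_lit 116743,nat_lit 116746,nat_lit 116752,nat_lit 116775,nat_lit 116778,nat_lit 116790,nat_lit 116823,nat_lit 116840,nat_lit 116842,nat_lit 116857,nat_lit 116858,nat_lit 116886,nat_lit 116902,nat_lit 116912,nat_lit 116934,nat_lit 116945,nat_lit 116967,nat_lit 116982,nat_lit 117024,nat_lit 117041,nat_lit 117047,nat_lit 117050,nat_lit 117056,nat_lit 117074,nat_lit 117126,nat_lit 117136,nat_lit 117160,nat_lit 117162,nat_lit 117191,nat_lit 117193,nat_lit 117200,nat_lit 117224,nat_lit 117232,nat_lit 117242,nat_lit 117270,nat_lit 117274,nat_lit 117291,nat_lit 117305,nat_lit 117306,nat_lit 117321,nat_lit 117329,nat_lit 117344,nat_lit 117351,nat_lit 117367,nat_lit 117383,nat_lit 117414,nat_lit 117418,nat_lit 117447,nat_lit 117450,nat_lit 117464,nat_lit 117473,nat_lit 117479,nat_lit 117510,nat_lit 117536,nat_lit 117553,nat_lit 117568,nat_lit 117591,nat_lit 117594,nat_lit 117622,nat_lit 117624,nat_lit 117655,nat_lit 117690,nat_lit 117704,nat_lit 117722,nat_lit 117729,nat_lit 117746,nat_lit 117751,nat_lit 117766,nat_lit 117780,nat_lit 117777,nat_lit 117798,nat_lit 117802,nat_lit 117808,nat_lit 117831,nat_lit 117848,nat_lit 117850,nat_lit 117879,nat_lit 117881,nat_lit 117888,nat_lit 117914,nat_lit 117920,nat_lit 117937,nat_lit 117943,nat_lit 117959,nat_lit 117962,nat_lit 117974,nat_lit 117994,nat_lit 118016,nat_lit 118033,nat_lit 118039,nat_lit 118050,nat_lit 118055,nat_lit 118070,nat_lit 118072,nat_lit 118102,nat_lit 118104,nat_lit 118112,nat_lit 118136,nat_lit 118138,nat_lit 118151,nat_lit 118160,nat_lit 118177,nat_lit 118202,nat_lit 118214,nat_lit 118230,nat_lit 118234,nat_lit 118240,nat_lit 118251,nat_lit 118266,nat_lit 118280,nat_lit 118282,nat_lit 118295,nat_lit 118304,nat_lit 118315,nat_lit 118321,nat_lit 118344,nat_lit 118354,nat_lit 118359,nat_lit 118374,nat_lit 118376,nat_lit 118407,nat_lit 118422,nat_lit 118424,nat_lit 118441,nat_lit 118464,nat_lit 118472,nat_lit 118474,nat_lit 118489,nat_lit 118490,nat_lit 118502,nat_lit 118519,nat_lit 118522,nat_lit 118528,nat_lit 118552,nat_lit 118585,nat_lit 118586,nat_lit 118592,nat_lit 118609,nat_lit 118619,nat_lit 118648,nat_lit 118650,nat_lit 118665,nat_lit 118672,nat_lit 118683,nat_lit 118713,nat_lit 118721,nat_lit 118731,nat_lit 118776,nat_lit 118794,nat_lit 118806,nat_lit 118810,nat_lit 118832,nat_lit 118840,nat_lit 118842,nat_lit 118888,nat_lit 118890,nat_lit 118905,nat_lit 118906,nat_lit 118912,nat_lit 118936,nat_lit 118938,nat_lit 119002,nat_lit 119009,nat_lit 119073,nat_lit 119088,nat_lit 119115,nat_lit 119130,nat_lit 119136,nat_lit 119144,nat_lit 119146,nat_lit 119159,nat_lit 119161,nat_lit 119162,nat_lit 119168,nat_lit 119226,nat_lit 119238,nat_lit 119240,nat_lit 119242,nat_lit 119248,nat_lit 119268,nat_lit 119271,nat_lit 119288,nat_lit 119305,nat_lit 119312,nat_lit 119351,nat_lit 119370,nat_lit 119376,nat_lit 119399,nat_lit 119403,nat_lit 119418,nat_lit 119424,nat_lit 119467,nat_lit 119482,nat_lit 119498,nat_lit 119504,nat_lit 119520,nat_lit 119538,nat_lit 119553,nat_lit 119570,nat_lit 119595,nat_lit 119610,nat_lit 119626,nat_lit 119632,nat_lit 119655,nat_lit 119672,nat_lit 119704,nat_lit 119721,nat_lit 119729,nat_lit 119746,nat_lit 119751,nat_lit 119754,nat_lit 119766,nat_lit 119768,nat_lit 119782,nat_lit 119784,nat_lit 119786,nat_lit 119792,nat_lit 119816,nat_lit 119833,nat_lit 119834,nat_lit 119847,nat_lit 119849,nat_lit 119850,nat_lit 119883,nat_lit 119890,nat_lit 119895,nat_lit 119912,nat_lit 119914,nat_lit 119943,nat_lit 119958,nat_lit 119960,nat_lit 119972,nat_lit 119992,nat_lit 120024,nat_lit 120032,nat_lit 120054,nat_lit 120059,nat_lit 120071,nat_lit 120073,nat_lit 120091,nat_lit 120105,nat_lit 120152,nat_lit 120170,nat_lit 120176,nat_lit 120200,nat_lit 120208,nat_lit 120216,nat_lit 120218,nat_lit 120233,nat_lit 120234,nat_lit 120240,nat_lit 120262,nat_lit 120281,nat_lit 120288,nat_lit 120314,nat_lit 120330,nat_lit 120336,nat_lit 120378,nat_lit 120394,nat_lit 120426,nat_lit 120432,nat_lit 120492,nat_lit 120507,nat_lit 120539,nat_lit 120567,nat_lit 120651,nat_lit 120683,nat_lit 120712,nat_lit 120715,nat_lit 120730,nat_lit 120744,nat_lit 120762,nat_lit 120777,nat_lit 120779,nat_lit 120794,nat_lit 120800,nat_lit 120838,nat_lit 120856,nat_lit 120874,nat_lit 120902,nat_lit 120904,nat_lit 120912,nat_lit 120936,nat_lit 120938,nat_lit 120951,nat_lit 120954,nat_lit 120971,nat_lit 120988,nat_lit 121008,nat_lit 121016,nat_lit 121018,nat_lit 121047,nat_lit 121050,nat_lit 121056,nat_lit 121067,nat_lit 121114,nat_lit 121136,nat_lit 121146,nat_lit 121152,nat_lit 121174,nat_lit 121184,nat_lit 121195,nat_lit 121208,nat_lit 121222,nat_lit 121232,nat_lit 121257,nat_lit 121258,nat_lit 121264,nat_lit 121290,nat_lit 121320,nat_lit 121337,nat_lit 121354,nat_lit 121367,nat_lit 121398,nat_lit 121400,nat_lit 121402,nat_lit 121451,nat_lit 121495,nat_lit 121513,nat_lit 121514,nat_lit 121526,nat_lit 121536,nat_lit 121559,nat_lit 121579,nat_lit 121606,nat_lit 121643,nat_lit 121658,nat_lit 121664,nat_lit 121671,nat_lit 121687,nat_lit 121713,nat_lit 121719,nat_lit 121750,nat_lit 121766,nat_lit 121776,nat_lit 121793,nat_lit 121802,nat_lit 121816,nat_lit 121818,nat_lit 121840,nat_lit 121858,nat_lit 121863,nat_lit 121866,nat_lit 121888,nat_lit 121905,nat_lit 121922,nat_lit 121927,nat_lit 121930,nat_lit 121944,nat_lit 121984,nat_lit 122002,nat_lit 122023,nat_lit 122040,nat_lit 122042,nat_lit 122048,nat_lit 122087,nat_lit 122108,nat_lit 122112,nat_lit 122134,nat_lit 122140,nat_lit 122156,nat_lit 122170,nat_lit 122193,nat_lit 122215,nat_lit 122218,nat_lit 122230,nat_lit 122236,nat_lit 122250,nat_lit 122274,nat_lit 122294,nat_lit 122310,nat_lit 122320,nat_lit 122346,nat_lit 122360,nat_lit 122385,nat_lit 122402,nat_lit 122407,nat_lit 122410,nat_lit 122424,nat_lit 122470,nat_lit 122472,nat_lit 122474,nat_lit 122480,nat_lit 122491,nat_lit 122506,nat_lit 122520,nat_lit 122522,nat_lit 122555,nat_lit 122599,nat_lit 122608,nat_lit 122625,nat_lit 122642,nat_lit 122647,nat_lit 122650,nat_lit 122662,nat_lit 122688,nat_lit 122696,nat_lit 122698,nat_lit 122704,nat_lit 122726,nat_lit 122728,nat_lit 122742,nat_lit 122747,nat_lit 122768,nat_lit 122810,nat_lit 122840,nat_lit 122872,nat_lit 122904,nat_lit 122919,nat_lit 122934,nat_lit 122936,nat_lit 122954,nat_lit 122960,nat_lit 122971,nat_lit 122992,nat_lit 123009,nat_lit 123026,nat_lit 123043,nat_lit 123047,nat_lit 123050,nat_lit 123052,nat_lit 123068,nat_lit 123072,nat_lit 123096,nat_lit 123120,nat_lit 123143,nat_lit 123147,nat_lit 123162,nat_lit 123175,nat_lit 123201,nat_lit 123207,nat_lit 123210,nat_lit 123227,nat_lit 123240,nat_lit 123242,nat_lit 123258,nat_lit 123271,nat_lit 123290,nat_lit 123303,nat_lit 123306,nat_lit 123318,nat_lit 123322,nat_lit 123354,nat_lit 123366,nat_lit 123368,nat_lit 123414,nat_lit 123432,nat_lit 123465,nat_lit 123466,nat_lit 123499,nat_lit 123504,nat_lit 123521,nat_lit 123538,nat_lit 123543,nat_lit 123546,nat_lit 123548,nat_lit 123556,nat_lit 123553,nat_lit 123606,nat_lit 123610,nat_lit 123616,nat_lit 123648,nat_lit 123666,nat_lit 123671,nat_lit 123686,nat_lit 123700,nat_lit 123716,nat_lit 123760,nat_lit 123768,nat_lit 123770,nat_lit 123786,nat_lit 123814,nat_lit 123824,nat_lit 123832,nat_lit 123848,nat_lit 123850,nat_lit 123863,nat_lit 123865,nat_lit 123866,nat_lit 123872,nat_lit 123883,nat_lit 123914,nat_lit 123940,nat_lit 123936,nat_lit 124010,nat_lit 124027,nat_lit 124032,nat_lit 124049,nat_lit 124090,nat_lit 124107,nat_lit 124112,nat_lit 124129,nat_lit 124146,nat_lit 124151,nat_lit 124182,nat_lit 124184,nat_lit 124186,nat_lit 124188,nat_lit 124192,nat_lit 124203,nat_lit 124204,nat_lit 124215,nat_lit 124218,nat_lit 124225,nat_lit 124231,nat_lit 124234,nat_lit 124248,nat_lit 124258,nat_lit 124282,nat_lit 124298,nat_lit 124310,nat_lit 124312,nat_lit 124331,nat_lit 124361,nat_lit 124393,nat_lit 124417,nat_lit 124423,nat_lit 124426,nat_lit 124434,nat_lit 124439,nat_lit 124442,nat_lit 124444,nat_lit 124454,nat_lit 124458,nat_lit 124460,nat_lit 124476,nat_lit 124481,nat_lit 124487,nat_lit 124490,nat_lit 124519,nat_lit 124524,nat_lit 124534,nat_lit 124536,nat_lit 124540,nat_lit 124568,nat_lit 124570,nat_lit 124576,nat_lit 124584,nat_lit 124586,nat_lit 124588,nat_lit 124604,nat_lit 124614,nat_lit 124619,nat_lit 124620,nat_lit 124640,nat_lit 124672,nat_lit 124689,nat_lit 124704,nat_lit 124721,nat_lit 124727,nat_lit 124738,nat_lit 124743,nat_lit 124758,nat_lit 124778,nat_lit 124791,nat_lit 124801,nat_lit 124818,nat_lit 124823,nat_lit 124826,nat_lit 124828,nat_lit 124855,nat_lit 124860,nat_lit 124870,nat_lit 124876,nat_lit 124888,nat_lit 124896,nat_lit 124904,nat_lit 124906,nat_lit 124908,nat_lit 124924,nat_lit 124928,nat_lit 124950,nat_lit 124955,nat_lit 124967,nat_lit 124970,nat_lit 124976,nat_lit 124987,nat_lit 124988,nat_lit 125033,nat_lit 125034,nat_lit 125041,nat_lit 125058,nat_lit 125068,nat_lit 125078,nat_lit 125088,nat_lit 125096,nat_lit 125098,nat_lit 125110,nat_lit 125120,nat_lit 125143,nat_lit 125152,nat_lit 125177,nat_lit 125211,nat_lit 125239,nat_lit 125254,nat_lit 125270,nat_lit 125280,nat_lit 125288,nat_lit 125290,nat_lit 125304,nat_lit 125306,nat_lit 125319,nat_lit 125322,nat_lit 125328,nat_lit 125339,nat_lit 125352,nat_lit 125354,nat_lit 125360,nat_lit 125382,nat_lit 125399,nat_lit 125418,nat_lit 125424,nat_lit 125450,nat_lit 125457,nat_lit 125467,nat_lit 125489,nat_lit 125499,nat_lit 125506,nat_lit 125530,nat_lit 125544,nat_lit 125559,nat_lit 125561,nat_lit 125568,nat_lit 125579,nat_lit 125633,nat_lit 125643,nat_lit 125672,nat_lit 125687,nat_lit 125689,nat_lit 125690,nat_lit 125705,nat_lit 125712,nat_lit 125753,nat_lit 125761,nat_lit 125792,nat_lit 125810,nat_lit 125819,nat_lit 125867,nat_lit 125875,nat_lit 125879,nat_lit 125882,nat_lit 125888,nat_lit 125912,nat_lit 125920,nat_lit 125944,nat_lit 125978,nat_lit 125991,nat_lit 125993,nat_lit 125994,nat_lit 126000,nat_lit 126012,nat_lit 126026,nat_lit 126042,nat_lit 126058,nat_lit 126064,nat_lit 126081,nat_lit 126092,nat_lit 126096,nat_lit 126130,nat_lit 126151,nat_lit 126167,nat_lit 126172,nat_lit 126192,nat_lit 126224,nat_lit 126280,nat_lit 126284,nat_lit 126297,nat_lit 126298,nat_lit 126300,nat_lit 126304,nat_lit 126328,nat_lit 126330,nat_lit 126356,nat_lit 126352,nat_lit 126375,nat_lit 126378,nat_lit 126384,nat_lit 126406,nat_lit 126458,nat_lit 126464,nat_lit 126481,nat_lit 126486,nat_lit 126503,nat_lit 126507,nat_lit 126512,nat_lit 126529,nat_lit 126544,nat_lit 126562,nat_lit 126571,nat_lit 126586,nat_lit 126609,nat_lit 126626,nat_lit 126641,nat_lit 126667,nat_lit 126682,nat_lit 126736,nat_lit 126758,nat_lit 126760,nat_lit 126777,nat_lit 126792,nat_lit 126809,nat_lit 126816,nat_lit 126838,nat_lit 126843,nat_lit 126871,nat_lit 126874,nat_lit 126888,nat_lit 126890,nat_lit 126924,nat_lit 126934,nat_lit 126936,nat_lit 126938,nat_lit 126940,nat_lit 126944,nat_lit 126956,nat_lit 126970,nat_lit 126984,nat_lit 127001,nat_lit 127062,nat_lit 127072,nat_lit 127080,nat_lit 127082,nat_lit 127084,nat_lit 127098,nat_lit 127100,nat_lit 127113,nat_lit 127114,nat_lit 127130,nat_lit 127143,nat_lit 127145,nat_lit 127146,nat_lit 127179,nat_lit 127233,nat_lit 127239,nat_lit 127250,nat_lit 127260,nat_lit 127272,nat_lit 127290,nat_lit 127296,nat_lit 127334,nat_lit 127339,nat_lit 127367,nat_lit 127370,nat_lit 127376,nat_lit 127400,nat_lit 127402,nat_lit 127408,nat_lit 127440,nat_lit 127466,nat_lit 127483,nat_lit 127494,nat_lit 127511,nat_lit 127515,nat_lit 127530,nat_lit 127536,nat_lit 127553,nat_lit 127578,nat_lit 127580,nat_lit 127594,nat_lit 127612,nat_lit 127656,nat_lit 127680,nat_lit 127718,nat_lit 127723,nat_lit 127751,nat_lit 127755,nat_lit 127788,nat_lit 127800,nat_lit 127872,nat_lit 127883,nat_lit 127899,nat_lit 127927,nat_lit 127931,nat_lit 127946,nat_lit 127977,nat_lit 128009,nat_lit 128010,nat_lit 128059,nat_lit 128087,nat_lit 128107,nat_lit 128122,nat_lit 128130,nat_lit 128139,nat_lit 128170,nat_lit 128183,nat_lit 128186,nat_lit 128199,nat_lit 128214,nat_lit 128218,nat_lit 128224,nat_lit 128250,nat_lit 128262,nat_lit 128282,nat_lit 128298,nat_lit 128304,nat_lit 128326,nat_lit 128346,nat_lit 128352,nat_lit 128395,nat_lit 128406,nat_lit 128411,nat_lit 128439,nat_lit 128442,nat_lit 128458,nat_lit 128475,nat_lit 128490,nat_lit 128506,nat_lit 128522,nat_lit 128552,nat_lit 128570,nat_lit 128599,nat_lit 128602,nat_lit 128627,nat_lit 128641,nat_lit 128650,nat_lit 128680,nat_lit 128695,nat_lit 128698,nat_lit 128704,nat_lit 128720,nat_lit 128746,nat_lit 128752,nat_lit 128794,nat_lit 128808,nat_lit 128823,nat_lit 128825,nat_lit 128826,nat_lit 128842,nat_lit 128889,nat_lit 128896,nat_lit 128918,nat_lit 128960,nat_lit 128985,nat_lit 129018,nat_lit 129034,nat_lit 129047,nat_lit 129067,nat_lit 129099,nat_lit 129114,nat_lit 129146,nat_lit 129179,nat_lit 129194,nat_lit 129210,nat_lit 129216,nat_lit 129240,nat_lit 129242,nat_lit 129274,nat_lit 129280,nat_lit 129296,nat_lit 129303,nat_lit 129319,nat_lit 129322,nat_lit 129328,nat_lit 129351,nat_lit 129377,nat_lit 129394,nat_lit 129399,nat_lit 129409,nat_lit 129424,nat_lit 129441,nat_lit 129463,nat_lit 129473,nat_lit 129479,nat_lit 129490,nat_lit 129495,nat_lit 129510,nat_lit 129512,nat_lit 129536,nat_lit 129553,nat_lit 129570,nat_lit 129575,nat_lit 129590,nat_lit 129592,nat_lit 129610,nat_lit 129633,nat_lit 129648,nat_lit 129658,nat_lit 129683,nat_lit 129702,nat_lit 129704,nat_lit 129714,nat_lit 129719,nat_lit 129766,nat_lit 129768,nat_lit 129777,nat_lit 129794,nat_lit 129818,nat_lit 129827,nat_lit 129859,nat_lit 129878,nat_lit 129894,nat_lit 129904,nat_lit 129911,nat_lit 129920,nat_lit 129937,nat_lit 129943,nat_lit 129974,nat_lit 129984,nat_lit 129996,nat_lit 130001,nat_lit 130007,nat_lit 130023,nat_lit 130038,nat_lit 130040,nat_lit 130072,nat_lit 130080,nat_lit 130087,nat_lit 130097,nat_lit 130103,nat_lit 130106,nat_lit 130108,nat_lit 130152,nat_lit 130170,nat_lit 130200,nat_lit 130231,nat_lit 130240,nat_lit 130257,nat_lit 130279,nat_lit 130304,nat_lit 130311,nat_lit 130321,nat_lit 130327,nat_lit 130344,nat_lit 130358,nat_lit 130360,nat_lit 130362,nat_lit 130369,nat_lit 130375,nat_lit 130392,nat_lit 130401,nat_lit 130407,nat_lit 130442,nat_lit 130455,nat_lit 130458,nat_lit 130470,nat_lit 130472,nat_lit 130474,nat_lit 130504,nat_lit 130519,nat_lit 130522,nat_lit 130528,nat_lit 130545,nat_lit 130570,nat_lit 130576,nat_lit 130593,nat_lit 130599,nat_lit 130616,nat_lit 130634,nat_lit 130646,nat_lit 130663,nat_lit 130672,nat_lit 130683,nat_lit 130689,nat_lit 130710,nat_lit 130712,nat_lit 130714,nat_lit 130727,nat_lit 130742,nat_lit 130744,nat_lit 130774,nat_lit 130776,nat_lit 130778,nat_lit 130826,nat_lit 130832,nat_lit 130858,nat_lit 130864,nat_lit 130881,nat_lit 130906,nat_lit 130935,nat_lit 130938,nat_lit 130944,nat_lit 130966,nat_lit 130988,nat_lit 130999,nat_lit 131002,nat_lit 131042,nat_lit 131082,nat_lit 131099,nat_lit 131129,nat_lit 131179,nat_lit 131298,nat_lit 131306,nat_lit 131312,nat_lit 131335,nat_lit 131354,nat_lit 131372,nat_lit 131388,nat_lit 131402,nat_lit 131434,nat_lit 131480,nat_lit 131495,nat_lit 131530,nat_lit 131546,nat_lit 131578,nat_lit 131584,nat_lit 131606,nat_lit 131626,nat_lit 131632,nat_lit 131681,nat_lit 131687,nat_lit 131692,nat_lit 131704,nat_lit 131745,nat_lit 131767,nat_lit 131770,nat_lit 131772,nat_lit 131782,nat_lit 131814,nat_lit 131820,nat_lit 131836,nat_lit 131872,nat_lit 131889,nat_lit 131906,nat_lit 131911,nat_lit 131914,nat_lit 131916,nat_lit 131942,nat_lit 131944,nat_lit 131946,nat_lit 131948,nat_lit 131952,nat_lit 131964,nat_lit 131976,nat_lit 131996,nat_lit 132023,nat_lit 132032,nat_lit 132040,nat_lit 132042,nat_lit 132044,nat_lit 132058,nat_lit 132060,nat_lit 132070,nat_lit 132076,nat_lit 132144,nat_lit 132152,nat_lit 132168,nat_lit 132188,nat_lit 132198,nat_lit 132208,nat_lit 132216,nat_lit 132218,nat_lit 132234,nat_lit 132240,nat_lit 132262,nat_lit 132288,nat_lit 132304,nat_lit 132327,nat_lit 132343,nat_lit 132375,nat_lit 132390,nat_lit 132392,nat_lit 132394,nat_lit 132426,nat_lit 132438,nat_lit 132472,nat_lit 132474,nat_lit 132489,nat_lit 132490,nat_lit 132528,nat_lit 132535,nat_lit 132545,nat_lit 132566,nat_lit 132600,nat_lit 132602,nat_lit 132641,nat_lit 132647,nat_lit 132650,nat_lit 132664,nat_lit 132674,nat_lit 132694,nat_lit 132696,nat_lit 132700,nat_lit 132716,nat_lit 132742,nat_lit 132752,nat_lit 132776,nat_lit 132778,nat_lit 132780,nat_lit 132807,nat_lit 132809,nat_lit 132812,nat_lit 132816,nat_lit 132842,nat_lit 132880,nat_lit 132897,nat_lit 132903,nat_lit 132908,nat_lit 132930,nat_lit 132935,nat_lit 132938,nat_lit 132940,nat_lit 132950,nat_lit 132970,nat_lit 132977,nat_lit 132983,nat_lit 132994,nat_lit 132999,nat_lit 133002,nat_lit 133004,nat_lit 133014,nat_lit 133036,nat_lit 133072,nat_lit 133080,nat_lit 133094,nat_lit 133113,nat_lit 133120,nat_lit 133145,nat_lit 133162,nat_lit 133164,nat_lit 133169,nat_lit 133179,nat_lit 133208,nat_lit 133228,nat_lit 133290,nat_lit 133339,nat_lit 133351,nat_lit 133382,nat_lit 133398,nat_lit 133418,nat_lit 133446,nat_lit 133448,nat_lit 133467,nat_lit 133498,nat_lit 133510,nat_lit 133530,nat_lit 133537,nat_lit 133554,nat_lit 133559,nat_lit 133564,nat_lit 133590,nat_lit 133594,nat_lit 133596,nat_lit 133600,nat_lit 133612,nat_lit 133624,nat_lit 133642,nat_lit 133654,nat_lit 133658,nat_lit 133687,nat_lit 133690,nat_lit 133719,nat_lit 133735,nat_lit 133750,nat_lit 133752,nat_lit 133756,nat_lit 133768,nat_lit 133772,nat_lit 133777,nat_lit 133783,nat_lit 133786,nat_lit 133808,nat_lit 133816,nat_lit 133818,nat_lit 133820,nat_lit 133824,nat_lit 133846,nat_lit 133851,nat_lit 133852,nat_lit 133879,nat_lit 133888,nat_lit 133913,nat_lit 133914,nat_lit 133930,nat_lit 133937,nat_lit 133963,nat_lit 133969,nat_lit 133986,nat_lit 133991,nat_lit 133996,nat_lit 134006,nat_lit 134022,nat_lit 134024,nat_lit 134026,nat_lit 134032,nat_lit 134056,nat_lit 134064,nat_lit 134081,nat_lit 134103,nat_lit 134118,nat_lit 134120,nat_lit 134135,nat_lit 134150,nat_lit 134168,nat_lit 134192,nat_lit 134200,nat_lit 134202,nat_lit 134217,nat_lit 134218,nat_lit 134230,nat_lit 134247,nat_lit 134250,nat_lit 134256,nat_lit 134282,nat_lit 134314,nat_lit 134320,nat_lit 134344,nat_lit 134352,nat_lit 134360,nat_lit 134362,nat_lit 134368,nat_lit 134390,nat_lit 134396,nat_lit 134439,nat_lit 134441,nat_lit 134442,nat_lit 134448,nat_lit 134473,nat_lit 134474,nat_lit 134491,nat_lit 134519,nat_lit 134547,nat_lit 134551,nat_lit 134566,nat_lit 134584,nat_lit 134614,nat_lit 134616,nat_lit 134624,nat_lit 134632,nat_lit 134634,nat_lit 134649,nat_lit 134680,nat_lit 134682,nat_lit 134684,nat_lit 134695,nat_lit 134698,nat_lit 134700,nat_lit 134704,nat_lit 134716,nat_lit 134730,nat_lit 134736,nat_lit 134759,nat_lit 134763,nat_lit 134777,nat_lit 134778,nat_lit 134780,nat_lit 134784,nat_lit 134795,nat_lit 134796,nat_lit 134801,nat_lit 134842,nat_lit 134848,nat_lit 134865,nat_lit 134875,nat_lit 134876,nat_lit 134891,nat_lit 134906,nat_lit 134922,nat_lit 134928,nat_lit 134961,nat_lit 135019,nat_lit 135034,nat_lit 135050,nat_lit 135072,nat_lit 135080,nat_lit 135082,nat_lit 135114,nat_lit 135127,nat_lit 135136,nat_lit 135161,nat_lit 135164,nat_lit 135168,nat_lit 135196,nat_lit 135212,nat_lit 135217,nat_lit 135282,nat_lit 135298,nat_lit 135338,nat_lit 135370,nat_lit 135383,nat_lit 135386,nat_lit 135392,nat_lit 135404,nat_lit 135440,nat_lit 135457,nat_lit 135468,nat_lit 135496,nat_lit 135500,nat_lit 135513,nat_lit 135514,nat_lit 135516,nat_lit 135520,nat_lit 135532,nat_lit 135555,nat_lit 135559,nat_lit 135591,nat_lit 135596,nat_lit 135622,nat_lit 135642,nat_lit 135648,nat_lit 135691,nat_lit 135706,nat_lit 135712,nat_lit 135740,nat_lit 135754,nat_lit 135776,nat_lit 135835,nat_lit 135882,nat_lit 135888,nat_lit 135904,nat_lit 135926,nat_lit 135942,nat_lit 135944,nat_lit 135961,nat_lit 135975,nat_lit 135977,nat_lit 135994,nat_lit 136002,nat_lit 136007,nat_lit 136026,nat_lit 136040,nat_lit 136042,nat_lit 136059,nat_lit 136072,nat_lit 136090,nat_lit 136096,nat_lit 136104,nat_lit 136106,nat_lit 136121,nat_lit 136128,nat_lit 136150,nat_lit 136155,nat_lit 136170,nat_lit 136217,nat_lit 136240,nat_lit 136251,nat_lit 136279,nat_lit 136294,nat_lit 136296,nat_lit 136313,nat_lit 136314,nat_lit 136344,nat_lit 136352,nat_lit 136360,nat_lit 136378,nat_lit 136380,nat_lit 136394,nat_lit 136423,nat_lit 136438,nat_lit 136443,nat_lit 136455,nat_lit 136474,nat_lit 136489,nat_lit 136553,nat_lit 136560,nat_lit 136582,nat_lit 136601,nat_lit 136618,nat_lit 136633,nat_lit 136634,nat_lit 136640,nat_lit 136666,nat_lit 136672,nat_lit 136683,nat_lit 136694,nat_lit 136711,nat_lit 136715,nat_lit 136730,nat_lit 136737,nat_lit 136752,nat_lit 136785,nat_lit 136816,nat_lit 136832,nat_lit 136854,nat_lit 136920,nat_lit 136923,nat_lit 136938,nat_lit 136971,nat_lit 136986,nat_lit 136992,nat_lit 137017,nat_lit 137019,nat_lit 137024,nat_lit 137051,nat_lit 137066,nat_lit 137072,nat_lit 137112,nat_lit 137114,nat_lit 137130,nat_lit 137147,nat_lit 137160,nat_lit 137162,nat_lit 137178,nat_lit 137207,nat_lit 137216,nat_lit 137242,nat_lit 137248,nat_lit 137304,nat_lit 137319,nat_lit 137322,nat_lit 137328,nat_lit 137354,nat_lit 137360,nat_lit 137387,nat_lit 137419,nat_lit 137432,nat_lit 137440,nat_lit 137462,nat_lit 137479,nat_lit 137489,nat_lit 137499,nat_lit 137529,nat_lit 137530,nat_lit 137548,nat_lit 137612,nat_lit 137639,nat_lit 137642,nat_lit 137658,nat_lit 137664,nat_lit 137691,nat_lit 137706,nat_lit 137754,nat_lit 137771,nat_lit 137786,nat_lit 137815,nat_lit 137830,nat_lit 137879,nat_lit 137898,nat_lit 137904,nat_lit 137927,nat_lit 137958,nat_lit 137975,nat_lit 138008,nat_lit 138010,nat_lit 138016,nat_lit 138033,nat_lit 138050,nat_lit 138055,nat_lit 138058,nat_lit 138087,nat_lit 138096,nat_lit 138135,nat_lit 138150,nat_lit 138154,nat_lit 138160,nat_lit 138177,nat_lit 138183,nat_lit 138186,nat_lit 138194,nat_lit 138199,nat_lit 138202,nat_lit 138215,nat_lit 138230,nat_lit 138232,nat_lit 138234,nat_lit 138240,nat_lit 138273,nat_lit 138298,nat_lit 138312,nat_lit 138314,nat_lit 138336,nat_lit 138358,nat_lit 138374,nat_lit 138380,nat_lit 138426,nat_lit 138438,nat_lit 138442,nat_lit 138482,nat_lit 138502,nat_lit 138508,nat_lit 138512,nat_lit 138524,nat_lit 138538,nat_lit 138560,nat_lit 138571,nat_lit 138600,nat_lit 138602,nat_lit 138616,nat_lit 138618,nat_lit 138620,nat_lit 138636,nat_lit 138666,nat_lit 138674,nat_lit 138695,nat_lit 138698,nat_lit 138700,nat_lit 138710,nat_lit 138712,nat_lit 138716,nat_lit 138732,nat_lit 138752,nat_lit 138760,nat_lit 138762,nat_lit 138764,nat_lit 138778,nat_lit 138784,nat_lit 138795,nat_lit 138806,nat_lit 138811,nat_lit 138812,nat_lit 138855,nat_lit 138864,nat_lit 138875,nat_lit 138906,nat_lit 138913,nat_lit 138930,nat_lit 138947,nat_lit 138951,nat_lit 138954,nat_lit 138966,nat_lit 138976,nat_lit 139000,nat_lit 139016,nat_lit 139031,nat_lit 139036,nat_lit 139040,nat_lit 139062,nat_lit 139111,nat_lit 139115,nat_lit 139116,nat_lit 139130,nat_lit 139163,nat_lit 139194,nat_lit 139196,nat_lit 139222,nat_lit 139242,nat_lit 139258,nat_lit 139264,nat_lit 139286,nat_lit 139291,nat_lit 139313,nat_lit 139330,nat_lit 139351,nat_lit 139367,nat_lit 139370,nat_lit 139392,nat_lit 139411,nat_lit 139415,nat_lit 139478,nat_lit 139499,nat_lit 139514,nat_lit 139542,nat_lit 139546,nat_lit 139559,nat_lit 139562,nat_lit 139578,nat_lit 139595,nat_lit 139626,nat_lit 139632,nat_lit 139674,nat_lit 139702,nat_lit 139706,nat_lit 139712,nat_lit 139738,nat_lit 139784,nat_lit 139786,nat_lit 139788,nat_lit 139804,nat_lit 139808,nat_lit 139816,nat_lit 139818,nat_lit 139831,nat_lit 139833,nat_lit 139836,nat_lit 139852,nat_lit 139856,nat_lit 139867,nat_lit 139889,nat_lit 139911,nat_lit 139914,nat_lit 139927,nat_lit 139930,nat_lit 139932,nat_lit 139942,nat_lit 139952,nat_lit 139964,nat_lit 139970,nat_lit 139975,nat_lit 139978,nat_lit 139987,nat_lit 139985,nat_lit 140024,nat_lit 140026,nat_lit 140032,nat_lit 140054,nat_lit 140083,nat_lit 140087,nat_lit 140102,nat_lit 140112,nat_lit 140120,nat_lit 140131,nat_lit 140138,nat_lit 140147,nat_lit 140168,nat_lit 140170,nat_lit 140185,nat_lit 140186,nat_lit 140192,nat_lit 140220,nat_lit 140224,nat_lit 140248,nat_lit 140263,nat_lit 140266,nat_lit 140279,nat_lit 140282,nat_lit 140288,nat_lit 140313,nat_lit 140330,nat_lit 140336,nat_lit 140353,nat_lit 140363,nat_lit 140443,nat_lit 140465,nat_lit 140474,nat_lit 140482,nat_lit 140496,nat_lit 140507,nat_lit 140529,nat_lit 140538,nat_lit 140546,nat_lit 140567,nat_lit 140572,nat_lit 140582,nat_lit 140584,nat_lit 140586,nat_lit 140588,nat_lit 140592,nat_lit 140600,nat_lit 140602,nat_lit 140604,nat_lit 140624,nat_lit 140636,nat_lit 140650,nat_lit 140662,nat_lit 140667,nat_lit 140668,nat_lit 140688,nat_lit 140738,nat_lit 140762,nat_lit 140793,nat_lit 140858,nat_lit 140873,nat_lit 140930,nat_lit 140935,nat_lit 140938,nat_lit 140950,nat_lit 140954,nat_lit 140979,nat_lit 140983,nat_lit 140998,nat_lit 141000,nat_lit 141002,nat_lit 141004,nat_lit 141020,nat_lit 141026,nat_lit 141048,nat_lit 141050,nat_lit 141052,nat_lit 141068,nat_lit 141078,nat_lit 141082,nat_lit 141158,nat_lit 141160,nat_lit 141184,nat_lit 141192,nat_lit 141196,nat_lit 141210,nat_lit 141212,nat_lit 141239,nat_lit 141241,nat_lit 141242,nat_lit 141272,nat_lit 141287,nat_lit 141289,nat_lit 141292,nat_lit 141296,nat_lit 141355,nat_lit 141409,nat_lit 141426,nat_lit 141441,nat_lit 141458,nat_lit 141463,nat_lit 141478,nat_lit 141495,nat_lit 141500,nat_lit 141510,nat_lit 141520,nat_lit 141528,nat_lit 141530,nat_lit 141536,nat_lit 141547,nat_lit 141561,nat_lit 141570,nat_lit 141575,nat_lit 141587,nat_lit 141591,nat_lit 141606,nat_lit 141616,nat_lit 141654,nat_lit 141680,nat_lit 141688,nat_lit 141690,nat_lit 141719,nat_lit 141738,nat_lit 141751,nat_lit 141754,nat_lit 141760,nat_lit 141786,nat_lit 141814,nat_lit 141819,nat_lit 141835,nat_lit 141866,nat_lit 141872,nat_lit 141889,nat_lit 141899,nat_lit 141900,nat_lit 141920,nat_lit 141946,nat_lit 141970,nat_lit 141994,nat_lit 142016,nat_lit 142040,nat_lit 142042,nat_lit 142055,nat_lit 142058,nat_lit 142064,nat_lit 142075,nat_lit 142087,nat_lit 142092,nat_lit 142139,nat_lit 142170,nat_lit 142182,nat_lit 142184,nat_lit 142200,nat_lit 142208,nat_lit 142218,nat_lit 142232,nat_lit 142234,nat_lit 142247,nat_lit 142250,nat_lit 142256,nat_lit 142281,nat_lit 142284,nat_lit 142288,nat_lit 142299,nat_lit 142314,nat_lit 142316,nat_lit 142320,nat_lit 142332,nat_lit 142337,nat_lit 142342,nat_lit 142347,nat_lit 142348,nat_lit 142406,nat_lit 142423,nat_lit 142427,nat_lit 142443,nat_lit 142448,nat_lit 142460,nat_lit 142465,nat_lit 142476,nat_lit 142498,nat_lit 142507,nat_lit 142508,nat_lit 142522,nat_lit 142530,nat_lit 142539,nat_lit 142540,nat_lit 142556,nat_lit 142571,nat_lit 142599,nat_lit 142601,nat_lit 142617,nat_lit 142641,nat_lit 142651,nat_lit 142674,nat_lit 142683,nat_lit 142711,nat_lit 142713,nat_lit 142730,nat_lit 142780,nat_lit 142785,nat_lit 142827,nat_lit 142859,nat_lit 142874,nat_lit 142903,nat_lit 142906,nat_lit 142920,nat_lit 142922,nat_lit 142928,nat_lit 142969,nat_lit 143002,nat_lit 143008,nat_lit 143034,nat_lit 143050,nat_lit 143056,nat_lit 143073,nat_lit 143084,nat_lit 143088,nat_lit 143120,nat_lit 143136,nat_lit 143147,nat_lit 143153,nat_lit 143170,nat_lit 143180,nat_lit 143185,nat_lit 143219,nat_lit 143260,nat_lit 143271,nat_lit 143281,nat_lit 143319,nat_lit 143354,nat_lit 143356,nat_lit 143360,nat_lit 143372,nat_lit 143404,nat_lit 143482,nat_lit 143484,nat_lit 143488,nat_lit 143505,nat_lit 143510,nat_lit 143527,nat_lit 143536,nat_lit 143553,nat_lit 143570,nat_lit 143574,nat_lit 143591,nat_lit 143611,nat_lit 143626,nat_lit 143633,nat_lit 143638,nat_lit 143650,nat_lit 143660,nat_lit 143691,nat_lit 143706,nat_lit 143730,nat_lit 143747,nat_lit 143786,nat_lit 143792,nat_lit 143819,nat_lit 143832,nat_lit 143849,nat_lit 143910,nat_lit 143927,nat_lit 143960,nat_lit 143962,nat_lit 143968,nat_lit 143994,nat_lit 144019,nat_lit 144042,nat_lit 144057,nat_lit 144058,nat_lit 144060,nat_lit 144064,nat_lit 144076,nat_lit 144090,nat_lit 144108,nat_lit 144112,nat_lit 144176,nat_lit 144184,nat_lit 144200,nat_lit 144217,nat_lit 144218,nat_lit 144224,nat_lit 144248,nat_lit 144256,nat_lit 144331,nat_lit 144346,nat_lit 144394,nat_lit 144402,nat_lit 144407,nat_lit 144424,nat_lit 144442,nat_lit 144450,nat_lit 144474,nat_lit 144480,nat_lit 144519,nat_lit 144523,nat_lit 144538,nat_lit 144550,nat_lit 144552,nat_lit 144554,nat_lit 144560,nat_lit 144608,nat_lit 144630,nat_lit 144646,nat_lit 144656,nat_lit 144667,nat_lit 144695,nat_lit 144715,nat_lit 144730,nat_lit 144753,nat_lit 144770,nat_lit 144784,nat_lit 144810,nat_lit 144870,nat_lit 144887,nat_lit 144891,nat_lit 144906,nat_lit 144920,nat_lit 144923,nat_lit 144938,nat_lit 144948,nat_lit 144987,nat_lit 145018,nat_lit 145035,nat_lit 145050,nat_lit 145098,nat_lit 145144,nat_lit 145147,nat_lit 145162,nat_lit 145216,nat_lit 145242,nat_lit 145274,nat_lit 145290,nat_lit 145296,nat_lit 145318,nat_lit 145360,nat_lit 145376,nat_lit 145419,nat_lit 145424,nat_lit 145446,nat_lit 145479,nat_lit 145483,nat_lit 145498,nat_lit 145514,nat_lit 145520,nat_lit 145562,nat_lit 145623,nat_lit 145626,nat_lit 145632,nat_lit 145658,nat_lit 145664,nat_lit 145735,nat_lit 145738,nat_lit 145754,nat_lit 145760,nat_lit 145798,nat_lit 145840,nat_lit 145863,nat_lit 145866,nat_lit 145898,nat_lit 145904,nat_lit 145931,nat_lit 145958,nat_lit 146059,nat_lit 146090,nat_lit 146096,nat_lit 146138,nat_lit 146144,nat_lit 146160,nat_lit 146202,nat_lit 146224,nat_lit 146241,nat_lit 146263,nat_lit 146294,nat_lit 146321,nat_lit 146342,nat_lit 146354,nat_lit 146371,nat_lit 146375,nat_lit 146402,nat_lit 146407,nat_lit 146410,nat_lit 146417,nat_lit 146434,nat_lit 146439,nat_lit 146454,nat_lit 146458,nat_lit 146466,nat_lit 146471,nat_lit 146486,nat_lit 146518,nat_lit 146528,nat_lit 146536,nat_lit 146561,nat_lit 146578,nat_lit 146599,nat_lit 146632,nat_lit 146634,nat_lit 146656,nat_lit 146674,nat_lit 146698,nat_lit 146704,nat_lit 146727,nat_lit 146744,nat_lit 146762,nat_lit 146771,nat_lit 146794,nat_lit 146800,nat_lit 146808,nat_lit 146834,nat_lit 146858,nat_lit 146902,nat_lit 146912,nat_lit 146919,nat_lit 146928,nat_lit 146945,nat_lit 146951,nat_lit 146977,nat_lit 146999,nat_lit 147014,nat_lit 147024,nat_lit 147041,nat_lit 147047,nat_lit 147056,nat_lit 147079,nat_lit 147082,nat_lit 147094,nat_lit 147110,nat_lit 147128,nat_lit 147159,nat_lit 147175,nat_lit 147178,nat_lit 147192,nat_lit 147207,nat_lit 147210,nat_lit 147226,nat_lit 147249,nat_lit 147258,nat_lit 147271,nat_lit 147274,nat_lit 147329,nat_lit 147355,nat_lit 147366,nat_lit 147383,nat_lit 147430,nat_lit 147432,nat_lit 147464,nat_lit 147482,nat_lit 147514,nat_lit 147526,nat_lit 147528,nat_lit 147554,nat_lit 147559,nat_lit 147574,nat_lit 147584,nat_lit 147606,nat_lit 147608,nat_lit 147610,nat_lit 147640,nat_lit 147642,nat_lit 147687,nat_lit 147706,nat_lit 147712,nat_lit 147729,nat_lit 147760,nat_lit 147771,nat_lit 147786,nat_lit 147799,nat_lit 147802,nat_lit 147814,nat_lit 147816,nat_lit 147864,nat_lit 147882,nat_lit 147889,nat_lit 147899,nat_lit 147930,nat_lit 147944,nat_lit 147946,nat_lit 147962,nat_lit 147968,nat_lit 147990,nat_lit 148008,nat_lit 148040,nat_lit 148058,nat_lit 148080,nat_lit 148097,nat_lit 148123,nat_lit 148186,nat_lit 148192,nat_lit 148214,nat_lit 148262,nat_lit 148266,nat_lit 148295,nat_lit 148315,nat_lit 148378,nat_lit 148384,nat_lit 148426,nat_lit 148458,nat_lit 148519,nat_lit 148538,nat_lit 148560,nat_lit 148593,nat_lit 148618,nat_lit 148624,nat_lit 148641,nat_lit 148663,nat_lit 148678,nat_lit 148680,nat_lit 148695,nat_lit 148722,nat_lit 148727,nat_lit 148730,nat_lit 148742,nat_lit 148744,nat_lit 148752,nat_lit 148775,nat_lit 148794,nat_lit 148808,nat_lit 148810,nat_lit 148822,nat_lit 148824,nat_lit 148832,nat_lit 148849,nat_lit 148866,nat_lit 148887,nat_lit 148890,nat_lit 148902,nat_lit 148912,nat_lit 148930,nat_lit 148935,nat_lit 148938,nat_lit 148944,nat_lit 148952,nat_lit 148954,nat_lit 148976,nat_lit 148998,nat_lit 149000,nat_lit 149014,nat_lit 149024,nat_lit 149047,nat_lit 149082,nat_lit 149096,nat_lit 149111,nat_lit 149114,nat_lit 149120,nat_lit 149144,nat_lit 149152,nat_lit 149178,nat_lit 149191,nat_lit 149224,nat_lit 149255,nat_lit 149258,nat_lit 149290,nat_lit 149306,nat_lit 149322,nat_lit 149328,nat_lit 149344,nat_lit 149366,nat_lit 149383,nat_lit 149393,nat_lit 149414,nat_lit 149432,nat_lit 149435,nat_lit 149446,nat_lit 149462,nat_lit 149480,nat_lit 149482,nat_lit 149520,nat_lit 149544,nat_lit 149559,nat_lit 149561,nat_lit 149568,nat_lit 149594,nat_lit 149617,nat_lit 149623,nat_lit 149626,nat_lit 149640,nat_lit 149650,nat_lit 149672,nat_lit 149687,nat_lit 149696,nat_lit 149707,nat_lit 149714,nat_lit 149719,nat_lit 149722,nat_lit 149734,nat_lit 149736,nat_lit 149769,nat_lit 149800,nat_lit 149818,nat_lit 149830,nat_lit 149832,nat_lit 149834,nat_lit 149864,nat_lit 149866,nat_lit 149878,nat_lit 149895,nat_lit 149897,nat_lit 149904,nat_lit 149928,nat_lit 149945,nat_lit 149946,nat_lit 149962,nat_lit 149977,nat_lit 149985,nat_lit 150017,nat_lit 150023,nat_lit 150034,nat_lit 150039,nat_lit 150042,nat_lit 150054,nat_lit 150065,nat_lit 150087,nat_lit 150090,nat_lit 150102,nat_lit 150112,nat_lit 150144,nat_lit 150152,nat_lit 150154,nat_lit 150160,nat_lit 150186,nat_lit 150198,nat_lit 150211,nat_lit 150215,nat_lit 150234,nat_lit 150280,nat_lit 150312,nat_lit 150327,nat_lit 150329,nat_lit 150362,nat_lit 150379,nat_lit 150394,nat_lit 150411,nat_lit 150426,nat_lit 150434,nat_lit 150443,nat_lit 150471,nat_lit 150496,nat_lit 150522,nat_lit 150534,nat_lit 150554,nat_lit 150576,nat_lit 150587,nat_lit 150600,nat_lit 150666,nat_lit 150672,nat_lit 150711,nat_lit 150714,nat_lit 150726,nat_lit 150738,nat_lit 150752,nat_lit 150760,nat_lit 150762,nat_lit 150768,nat_lit 150816,nat_lit 150839,nat_lit 150842,nat_lit 150874,nat_lit 150905,nat_lit 150906,nat_lit 150912,nat_lit 150936,nat_lit 150950,nat_lit 150952,nat_lit 150968,nat_lit 150986,nat_lit 150996,nat_lit 150998,nat_lit 151000,nat_lit 151015,nat_lit 151028,nat_lit 151096,nat_lit 151111,nat_lit 151120,nat_lit 151144,nat_lit 151158,nat_lit 151163,nat_lit 151175,nat_lit 151194,nat_lit 151225,nat_lit 151233,nat_lit 151258,nat_lit 151264,nat_lit 151291,nat_lit 151298,nat_lit 151335,nat_lit 151351,nat_lit 151366,nat_lit 151378,nat_lit 151400,nat_lit 151408,nat_lit 151416,nat_lit 151433,nat_lit 151434,nat_lit 151440,nat_lit 151462,nat_lit 151479,nat_lit 151489,nat_lit 151506,nat_lit 151511,nat_lit 151526,nat_lit 151544,nat_lit 151574,nat_lit 151592,nat_lit 151607,nat_lit 151626,nat_lit 151639,nat_lit 151641,nat_lit 151642,nat_lit 151648,nat_lit 151674,nat_lit 151680,nat_lit 151707,nat_lit 151721,nat_lit 151728,nat_lit 151745,nat_lit 151760,nat_lit 151776,nat_lit 151798,nat_lit 151815,nat_lit 151818,nat_lit 151832,nat_lit 151847,nat_lit 151849,nat_lit 151850,nat_lit 151856,nat_lit 151878,nat_lit 151895,nat_lit 151910,nat_lit 151929,nat_lit 151930,nat_lit 151952,nat_lit 151963,nat_lit 151969,nat_lit 151994,nat_lit 152000,nat_lit 152026,nat_lit 152038,nat_lit 152055,nat_lit 152070,nat_lit 152088,nat_lit 152103,nat_lit 152106,nat_lit 152112,nat_lit 152120,nat_lit 152122,nat_lit 152137,nat_lit 152154,nat_lit 152167,nat_lit 152176,nat_lit 152217,nat_lit 152224,nat_lit 152248,nat_lit 152265,nat_lit 152266,nat_lit 152272,nat_lit 152298,nat_lit 152305,nat_lit 152320,nat_lit 152336,nat_lit 152379,nat_lit 152394,nat_lit 152408,nat_lit 152410,nat_lit 152416,nat_lit 152442,nat_lit 152449,nat_lit 152459,nat_lit 152480,nat_lit 152498,nat_lit 152523,nat_lit 152534,nat_lit 152546,nat_lit 152555,nat_lit 152577,nat_lit 152587,nat_lit 152602,nat_lit 152624,nat_lit 152641,nat_lit 152658,nat_lit 152682,nat_lit 152704,nat_lit 152721,nat_lit 152728,nat_lit 152730,nat_lit 152743,nat_lit 152746,nat_lit 152752,nat_lit 152768,nat_lit 152794,nat_lit 152801,nat_lit 152826,nat_lit 152841,nat_lit 152849,nat_lit 152907,nat_lit 152923,nat_lit 152931,nat_lit 152944,nat_lit 152960,nat_lit 152986,nat_lit 152992,nat_lit 153009,nat_lit 153024,nat_lit 153041,nat_lit 153058,nat_lit 153095,nat_lit 153112,nat_lit 153130,nat_lit 153136,nat_lit 153174,nat_lit 153184,nat_lit 153207,nat_lit 153242,nat_lit 153255,nat_lit 153271,nat_lit 153291,nat_lit 153302,nat_lit 153322,nat_lit 153328,nat_lit 153361,nat_lit 153376,nat_lit 153393,nat_lit 153418,nat_lit 153424,nat_lit 153446,nat_lit 153462,nat_lit 153488,nat_lit 153496,nat_lit 153513,nat_lit 153514,nat_lit 153530,nat_lit 153545,nat_lit 153587,nat_lit 153591,nat_lit 153608,nat_lit 153642,nat_lit 153659,nat_lit 153690,nat_lit 153707,nat_lit 153720,nat_lit 153722,nat_lit 153738,nat_lit 153744,nat_lit 153782,nat_lit 153787,nat_lit 153799,nat_lit 153818,nat_lit 153824,nat_lit 153835,nat_lit 153857,nat_lit 153894,nat_lit 153896,nat_lit 153912,nat_lit 153929,nat_lit 153930,nat_lit 153977,nat_lit 153978,nat_lit 154036,nat_lit 154073,nat_lit 154074,nat_lit 154087,nat_lit 154106,nat_lit 154120,nat_lit 154123,nat_lit 154182,nat_lit 154218,nat_lit 154224,nat_lit 154250,nat_lit 154256,nat_lit 154273,nat_lit 154278,nat_lit 154288,nat_lit 154310,nat_lit 154315,nat_lit 154343,nat_lit 154360,nat_lit 154363,nat_lit 154378,nat_lit 154402,nat_lit 154411,nat_lit 154454,nat_lit 154470,nat_lit 154487,nat_lit 154507,nat_lit 154528,nat_lit 154554,nat_lit 154560,nat_lit 154577,nat_lit 154603,nat_lit 154618,nat_lit 154650,nat_lit 154656,nat_lit 154698,nat_lit 154720,nat_lit 154731,nat_lit 154759,nat_lit 154762,nat_lit 154768,nat_lit 154784,nat_lit 154810,nat_lit 154817,nat_lit 154832,nat_lit 154874,nat_lit 154890,nat_lit 154896,nat_lit 154923,nat_lit 154945,nat_lit 154999,nat_lit 155009,nat_lit 155014,nat_lit 155031,nat_lit 155051,nat_lit 155067,nat_lit 155104,nat_lit 155162,nat_lit 155184,nat_lit 155206,nat_lit 155248,nat_lit 155274,nat_lit 155291,nat_lit 155319,nat_lit 155344,nat_lit 155382,nat_lit 155402,nat_lit 155434,nat_lit 155440,nat_lit 155463,nat_lit 155466,nat_lit 155482,nat_lit 155495,nat_lit 155514,nat_lit 155520,nat_lit 155546,nat_lit 155553,nat_lit 155574,nat_lit 155576,nat_lit 155578,nat_lit 155592,nat_lit 155594,nat_lit 155600,nat_lit 155639,nat_lit 155654,nat_lit 155658,nat_lit 155687,nat_lit 155690,nat_lit 155702,nat_lit 155706,nat_lit 155712,nat_lit 155734,nat_lit 155736,nat_lit 155738,nat_lit 155754,nat_lit 155776,nat_lit 155798,nat_lit 155810,nat_lit 155824,nat_lit 155850,nat_lit 155856,nat_lit 155899,nat_lit 155914,nat_lit 155916,nat_lit 155948,nat_lit 155991,nat_lit 156008,nat_lit 156010,nat_lit 156024,nat_lit 156038,nat_lit 156048,nat_lit 156064,nat_lit 156076,nat_lit 156081,nat_lit 156091,nat_lit 156122,nat_lit 156160,nat_lit 156198,nat_lit 156231,nat_lit 156246,nat_lit 156248,nat_lit 156252,nat_lit 156256,nat_lit 156296,nat_lit 156314,nat_lit 156336,nat_lit 156362,nat_lit 156375,nat_lit 156378,nat_lit 156384,nat_lit 156395,nat_lit 156416,nat_lit 156438,nat_lit 156443,nat_lit 156475,nat_lit 156522,nat_lit 156529,nat_lit 156539,nat_lit 156571,nat_lit 156578,nat_lit 156595,nat_lit 156602,nat_lit 156615,nat_lit 156630,nat_lit 156632,nat_lit 156640,nat_lit 156664,nat_lit 156678,nat_lit 156711,nat_lit 156730,nat_lit 156743,nat_lit 156746,nat_lit 156758,nat_lit 156775,nat_lit 156795,nat_lit 156810,nat_lit 156875,nat_lit 156890,nat_lit 156906,nat_lit 156912,nat_lit 156928,nat_lit 156950,nat_lit 156967,nat_lit 156971,nat_lit 156986,nat_lit 156994,nat_lit 157011,nat_lit 157019,nat_lit 157050,nat_lit 157052,nat_lit 157056,nat_lit 157073,nat_lit 157078,nat_lit 157127,nat_lit 157146,nat_lit 157152,nat_lit 157176,nat_lit 157178,nat_lit 157210,nat_lit 157216,nat_lit 157227,nat_lit 157264,nat_lit 157281,nat_lit 157322,nat_lit 157328,nat_lit 157350,nat_lit 157385,nat_lit 157434,nat_lit 157448,nat_lit 157463,nat_lit 157466,nat_lit 157472,nat_lit 157497,nat_lit 157514,nat_lit 157546,nat_lit 157553,nat_lit 157563,nat_lit 157591,nat_lit 157594,nat_lit 157606,nat_lit 157616,nat_lit 157638,nat_lit 157644,nat_lit 157648,nat_lit 157660,nat_lit 157671,nat_lit 157674,nat_lit 157688,nat_lit 157716,nat_lit 157712,nat_lit 157777,nat_lit 157815,nat_lit 157818,nat_lit 157824,nat_lit 157846,nat_lit 157867,nat_lit 157879,nat_lit 157894,nat_lit 157904,nat_lit 157928,nat_lit 157943,nat_lit 157962,nat_lit 158007,nat_lit 158009,nat_lit 158010,nat_lit 158016,nat_lit 158042,nat_lit 158048,nat_lit 158091,nat_lit 158119,nat_lit 158138,nat_lit 158144,nat_lit 158166,nat_lit 158169,nat_lit 158170,nat_lit 158176,nat_lit 158193,nat_lit 158216,nat_lit 158218,nat_lit 158224,nat_lit 158241,nat_lit 158267,nat_lit 158306,nat_lit 158314,nat_lit 158343,nat_lit 158353,nat_lit 158363,nat_lit 158386,nat_lit 158419,nat_lit 158423,nat_lit 158428,nat_lit 158438,nat_lit 158440,nat_lit 158442,nat_lit 158444,nat_lit 158455,nat_lit 158458,nat_lit 158472,nat_lit 158492,nat_lit 158496,nat_lit 158518,nat_lit 158536,nat_lit 158538,nat_lit 158551,nat_lit 158554,nat_lit 158556,nat_lit 158560,nat_lit 158572,nat_lit 158584,nat_lit 158586,nat_lit 158598,nat_lit 158604,nat_lit 158608,nat_lit 158647,nat_lit 158651,nat_lit 158752,nat_lit 158787,nat_lit 158791,nat_lit 158806,nat_lit 158808,nat_lit 158810,nat_lit 158840,nat_lit 158842,nat_lit 158871,nat_lit 158876,nat_lit 158886,nat_lit 158888,nat_lit 158904,nat_lit 158922,nat_lit 158924,nat_lit 158928,nat_lit 158940,nat_lit 158952,nat_lit 158954,nat_lit 158960,nat_lit 158999,nat_lit 159001,nat_lit 159002,nat_lit 159004,nat_lit 159008,nat_lit 159020,nat_lit 159032,nat_lit 159034,nat_lit 159088,nat_lit 159128,nat_lit 159143,nat_lit 159146,nat_lit 159168,nat_lit 159188,nat_lit 159194,nat_lit 159226,nat_lit 159257,nat_lit 159260,nat_lit 159274,nat_lit 159292,nat_lit 159313,nat_lit 159346,nat_lit 159378,nat_lit 159383,nat_lit 159395,nat_lit 159399,nat_lit 159402,nat_lit 159404,nat_lit 159414,nat_lit 159432,nat_lit 159446,nat_lit 159472,nat_lit 159482,nat_lit 159496,nat_lit 159511,nat_lit 159520,nat_lit 159537,nat_lit 159547,nat_lit 159587,nat_lit 159591,nat_lit 159606,nat_lit 159628,nat_lit 159638,nat_lit 159640,nat_lit 159642,nat_lit 159648,nat_lit 159656,nat_lit 159688,nat_lit 159692,nat_lit 159706,nat_lit 159719,nat_lit 159722,nat_lit 159728,nat_lit 159754,nat_lit 159760,nat_lit 159786,nat_lit 159788,nat_lit 159792,nat_lit 159804,nat_lit 159809,nat_lit 159814,nat_lit 159819,nat_lit 159820,nat_lit 159851,nat_lit 159882,nat_lit 159888,nat_lit 159922,nat_lit 159931,nat_lit 159932,nat_lit 159946,nat_lit 159953,nat_lit 159984,nat_lit 160010,nat_lit 160016,nat_lit 160028,nat_lit 160040,nat_lit 160055,nat_lit 160057,nat_lit 160064,nat_lit 160090,nat_lit 160096,nat_lit 160118,nat_lit 160123,nat_lit 160152,nat_lit 160186,nat_lit 160216,nat_lit 160247,nat_lit 160250,nat_lit 160257,nat_lit 160264,nat_lit 160266,nat_lit 160272,nat_lit 160295,nat_lit 160298,nat_lit 160304,nat_lit 160330,nat_lit 160336,nat_lit 160353,nat_lit 160378,nat_lit 160401,nat_lit 160411,nat_lit 160432,nat_lit 160458,nat_lit 160465,nat_lit 160470,nat_lit 160480,nat_lit 160498,nat_lit 160502,nat_lit 160507,nat_lit 160519,nat_lit 160523,nat_lit 160538,nat_lit 160545,nat_lit 160571,nat_lit 160587,nat_lit 160602,nat_lit 160618,nat_lit 160625,nat_lit 160640,nat_lit 160658,nat_lit 160673,nat_lit 160699,nat_lit 160714,nat_lit 160755,nat_lit 160826,nat_lit 160838,nat_lit 160841,nat_lit 160891,nat_lit 160923,nat_lit 160953,nat_lit 160970,nat_lit 160976,nat_lit 161002,nat_lit 161034,nat_lit 161050,nat_lit 161056,nat_lit 161082,nat_lit 161114,nat_lit 161120,nat_lit 161162,nat_lit 161168,nat_lit 161185,nat_lit 161200,nat_lit 161216,nat_lit 161233,nat_lit 161250,nat_lit 161254,nat_lit 161260,nat_lit 161265,nat_lit 161297,nat_lit 161302,nat_lit 161313,nat_lit 161323,nat_lit 161346,nat_lit 161363,nat_lit 161371,nat_lit 161419,nat_lit 161482,nat_lit 161484,nat_lit 161488,nat_lit 161514,nat_lit 161521,nat_lit 161526,nat_lit 161532,nat_lit 161536,nat_lit 161568,nat_lit 161601,nat_lit 161618,nat_lit 161622,nat_lit 161639,nat_lit 161656,nat_lit 161665,nat_lit 161682,nat_lit 161686,nat_lit 161702,nat_lit 161719,nat_lit 161739,nat_lit 161754,nat_lit 161760,nat_lit 161778,nat_lit 161782,nat_lit 161850,nat_lit 161856,nat_lit 161875,nat_lit 161904,nat_lit 161926,nat_lit 162025,nat_lit 162026,nat_lit 162032,nat_lit 162084,nat_lit 162096,nat_lit 162128,nat_lit 162140,nat_lit 162154,nat_lit 162172,nat_lit 162176,nat_lit 162248,nat_lit 162265,nat_lit 162281,nat_lit 162284,nat_lit 162300,nat_lit 162304,nat_lit 162358,nat_lit 162440,nat_lit 162464,nat_lit 162476,nat_lit 162536,nat_lit 162539,nat_lit 162554,nat_lit 162576,nat_lit 162586,nat_lit 162601,nat_lit 162602,nat_lit 162608,nat_lit 162646,nat_lit 162663,nat_lit 162679,nat_lit 162689,nat_lit 162699,nat_lit 162728,nat_lit 162731,nat_lit 162746,nat_lit 162752,nat_lit 162770,nat_lit 162779,nat_lit 162812,nat_lit 162856,nat_lit 162874,nat_lit 162905,nat_lit 162907,nat_lit 162922,nat_lit 162928,nat_lit 162970,nat_lit 163002,nat_lit 163008,nat_lit 163024,nat_lit 163051,nat_lit 163066,nat_lit 163089,nat_lit 163104,nat_lit 163120,nat_lit 163136,nat_lit 163201,nat_lit 163226,nat_lit 163233,nat_lit 163238,nat_lit 163275,nat_lit 163290,nat_lit 163334,nat_lit 163344,nat_lit 163370,nat_lit 163376,nat_lit 163398,nat_lit 163408,nat_lit 163425,nat_lit 163450,nat_lit 163456,nat_lit 163472,nat_lit 163494,nat_lit 163526,nat_lit 163546,nat_lit 163552,nat_lit 163568,nat_lit 163648,nat_lit 163680,nat_lit 163697,nat_lit 163739,nat_lit 163782,nat_lit 163802,nat_lit 163810,nat_lit 163834,nat_lit 163847,nat_lit 163850,nat_lit 163863,nat_lit 163895,nat_lit 163898,nat_lit 163938,nat_lit 163959,nat_lit 163962,nat_lit 163974,nat_lit 163976,nat_lit 163992,nat_lit 163994,nat_lit 164040,nat_lit 164056,nat_lit 164064,nat_lit 164088,nat_lit 164105,nat_lit 164114,nat_lit 164131,nat_lit 164150,nat_lit 164167,nat_lit 164170,nat_lit 164176,nat_lit 164218,nat_lit 164224,nat_lit 164241,nat_lit 164279,nat_lit 164282,nat_lit 164288,nat_lit 164344,nat_lit 164361,nat_lit 164378,nat_lit 164384,nat_lit 164407,nat_lit 164423,nat_lit 164471,nat_lit 164486,nat_lit 164498,nat_lit 164518,nat_lit 164570,nat_lit 164572,nat_lit 164582,nat_lit 164618,nat_lit 164648,nat_lit 164656,nat_lit 164664,nat_lit 164679,nat_lit 164697,nat_lit 164698,nat_lit 164712,nat_lit 164762,nat_lit 164780,nat_lit 164842,nat_lit 164848,nat_lit 164866,nat_lit 164875,nat_lit 164890,nat_lit 164904,nat_lit 164906,nat_lit 164918,nat_lit 164936,nat_lit 164970,nat_lit 165016,nat_lit 165047,nat_lit 165062,nat_lit 165080,nat_lit 165089,nat_lit 165112,nat_lit 165130,nat_lit 165159,nat_lit 165162,nat_lit 165168,nat_lit 165194,nat_lit 165200,nat_lit 165217,nat_lit 165239,nat_lit 165242,nat_lit 165249,nat_lit 165259,nat_lit 165291,nat_lit 165302,nat_lit 165304,nat_lit 165306,nat_lit 165336,nat_lit 165367,nat_lit 165376,nat_lit 165394,nat_lit 165403,nat_lit 165418,nat_lit 165435,nat_lit 165450,nat_lit 165456,nat_lit 165472,nat_lit 165512,nat_lit 165527,nat_lit 165546,nat_lit 165574,nat_lit 165586,nat_lit 165616,nat_lit 165627,nat_lit 165638,nat_lit 165655,nat_lit 165664,nat_lit 165674,nat_lit 165704,nat_lit 165760,nat_lit 165802,nat_lit 165825,nat_lit 165856,nat_lit 165873,nat_lit 165910,nat_lit 165912,nat_lit 165930,nat_lit 165932,nat_lit 165975,nat_lit 165990,nat_lit 165994,nat_lit 166000,nat_lit 166016,nat_lit 166024,nat_lit 166026,nat_lit 166028,nat_lit 166044,nat_lit 166054,nat_lit 166060,nat_lit 166080,nat_lit 166103,nat_lit 166106,nat_lit 166108,nat_lit 166112,nat_lit 166178,nat_lit 166199,nat_lit 166214,nat_lit 166220,nat_lit 166224,nat_lit 166236,nat_lit 166240,nat_lit 166248,nat_lit 166250,nat_lit 166252,nat_lit 166268,nat_lit 166328,nat_lit 166330,nat_lit 166343,nat_lit 166346,nat_lit 166348,nat_lit 166352,nat_lit 166374,nat_lit 166423,nat_lit 166428,nat_lit 166458,nat_lit 166464,nat_lit 166487,nat_lit 166506,nat_lit 166508,nat_lit 166512,nat_lit 166524,nat_lit 166534,nat_lit 166566,nat_lit 166600,nat_lit 166615,nat_lit 166618,nat_lit 166630,nat_lit 166652,nat_lit 166656,nat_lit 166672,nat_lit 166688,nat_lit 166705,nat_lit 166710,nat_lit 166726,nat_lit 166743,nat_lit 166747,nat_lit 166760,nat_lit 166791,nat_lit 166809,nat_lit 166811,nat_lit 166826,nat_lit 166842,nat_lit 166856,nat_lit 166871,nat_lit 166880,nat_lit 166902,nat_lit 166919,nat_lit 166921,nat_lit 166937,nat_lit 166954,nat_lit 166961,nat_lit 166994,nat_lit 167014,nat_lit 167016,nat_lit 167018,nat_lit 167063,nat_lit 167079,nat_lit 167105,nat_lit 167115,nat_lit 167139,nat_lit 167143,nat_lit 167146,nat_lit 167158,nat_lit 167168,nat_lit 167192,nat_lit 167241,nat_lit 167244,nat_lit 167260,nat_lit 167321,nat_lit 167328,nat_lit 167369,nat_lit 167386,nat_lit 167388,nat_lit 167393,nat_lit 167432,nat_lit 167434,nat_lit 167440,nat_lit 167456,nat_lit 167468,nat_lit 167490,nat_lit 167506,nat_lit 167511,nat_lit 167514,nat_lit 167526,nat_lit 167543,nat_lit 167558,nat_lit 167568,nat_lit 167580,nat_lit 167592,nat_lit 167622,nat_lit 167628,nat_lit 167644,nat_lit 167656,nat_lit 167688,nat_lit 167690,nat_lit 167703,nat_lit 167706,nat_lit 167712,nat_lit 167729,nat_lit 167768,nat_lit 167783,nat_lit 167802,nat_lit 167831,nat_lit 167833,nat_lit 167847,nat_lit 167882,nat_lit 167888,nat_lit 167899,nat_lit 167920,nat_lit 167948,nat_lit 167979,nat_lit 168006,nat_lit 168009,nat_lit 168032,nat_lit 168056,nat_lit 168064,nat_lit 168075,nat_lit 168091,nat_lit 168119,nat_lit 168122,nat_lit 168128,nat_lit 168145,nat_lit 168166,nat_lit 168168,nat_lit 168172,nat_lit 168188,nat_lit 168200,nat_lit 168204,nat_lit 168232,nat_lit 168234,nat_lit 168250,nat_lit 168252,nat_lit 168256,nat_lit 168268,nat_lit 168284,nat_lit 168314,nat_lit 168320,nat_lit 168362,nat_lit 168368,nat_lit 168410,nat_lit 168412,nat_lit 168424,nat_lit 168441,nat_lit 168455,nat_lit 168458,nat_lit 168460,nat_lit 168464,nat_lit 168476,nat_lit 168488,nat_lit 168490,nat_lit 168537,nat_lit 168540,nat_lit 168552,nat_lit 168554,nat_lit 168569,nat_lit 168572,nat_lit 168586,nat_lit 168588,nat_lit 168593,nat_lit 168598,nat_lit 168631,nat_lit 168650,nat_lit 168667,nat_lit 168698,nat_lit 168706,nat_lit 168715,nat_lit 168720,nat_lit 168731,nat_lit 168790,nat_lit 168806,nat_lit 168812,nat_lit 168816,nat_lit 168826,nat_lit 168855,nat_lit 168872,nat_lit 168887,nat_lit 168889,nat_lit 168890,nat_lit 168912,nat_lit 168969,nat_lit 168978,nat_lit 169014,nat_lit 169024,nat_lit 169032,nat_lit 169047,nat_lit 169056,nat_lit 169064,nat_lit 169079,nat_lit 169097,nat_lit 169098,nat_lit 169104,nat_lit 169130,nat_lit 169146,nat_lit 169152,nat_lit 169169,nat_lit 169179,nat_lit 169184,nat_lit 169206,nat_lit 169226,nat_lit 169240,nat_lit 169249,nat_lit 169266,nat_lit 169276,nat_lit 169286,nat_lit 169302,nat_lit 169319,nat_lit 169338,nat_lit 169344,nat_lit 169367,nat_lit 169386,nat_lit 169408,nat_lit 169425,nat_lit 169430,nat_lit 169447,nat_lit 169504,nat_lit 169521,nat_lit 169531,nat_lit 169624,nat_lit 169638,nat_lit 169671,nat_lit 169690,nat_lit 169696,nat_lit 169713,nat_lit 169722,nat_lit 169735,nat_lit 169744,nat_lit 169776,nat_lit 169801,nat_lit 169802,nat_lit 169809,nat_lit 169834,nat_lit 169836,nat_lit 169841,nat_lit 169882,nat_lit 169888,nat_lit 169900,nat_lit 169916,nat_lit 169938,nat_lit 169948,nat_lit 169974,nat_lit 170000,nat_lit 170049,nat_lit 170060,nat_lit 170082,nat_lit 170092,nat_lit 170179,nat_lit 170188,nat_lit 170204,nat_lit 170240,nat_lit 170257,nat_lit 170274,nat_lit 170291,nat_lit 170299,nat_lit 170304,nat_lit 170344,nat_lit 170346,nat_lit 170359,nat_lit 170368,nat_lit 170394,nat_lit 170400,nat_lit 170417,nat_lit 170433,nat_lit 170448,nat_lit 170466,nat_lit 170492,nat_lit 170538,nat_lit 170582,nat_lit 170593,nat_lit 170608,nat_lit 170625,nat_lit 170642,nat_lit 170652,nat_lit 170674,nat_lit 170699,nat_lit 170714,nat_lit 170716,nat_lit 170736,nat_lit 170748,nat_lit 170753,nat_lit 170758,nat_lit 170764,nat_lit 170816,nat_lit 170827,nat_lit 170828,nat_lit 170856,nat_lit 170887,nat_lit 170896,nat_lit 170913,nat_lit 170950,nat_lit 170962,nat_lit 170998,nat_lit 171048,nat_lit 171066,nat_lit 171082,nat_lit 171088,nat_lit 171143,nat_lit 171160,nat_lit 171195,nat_lit 171227,nat_lit 171258,nat_lit 171264,nat_lit 171280,nat_lit 171297,nat_lit 171302,nat_lit 171319,nat_lit 171323,nat_lit 171338,nat_lit 171352,nat_lit 171377,nat_lit 171410,nat_lit 171432,nat_lit 171450,nat_lit 171488,nat_lit 171500,nat_lit 171546,nat_lit 171592,nat_lit 171595,nat_lit 171627,nat_lit 171655,nat_lit 171681,nat_lit 171696,nat_lit 171718,nat_lit 171730,nat_lit 171739,nat_lit 171751,nat_lit 171766,nat_lit 171787,nat_lit 171819,nat_lit 171835,nat_lit 171850,nat_lit 171856,nat_lit 171911,nat_lit 171962,nat_lit 171984,nat_lit 172042,nat_lit 172048,nat_lit 172107,nat_lit 172154,nat_lit 172160,nat_lit 172177,nat_lit 172187,nat_lit 172198,nat_lit 172208,nat_lit 172226,nat_lit 172256,nat_lit 172272,nat_lit 172289,nat_lit 172346,nat_lit 172358,nat_lit 172363,nat_lit 172375,nat_lit 172395,nat_lit 172470,nat_lit 172487,nat_lit 172512,nat_lit 172552,nat_lit 172586,nat_lit 172592,nat_lit 172604,nat_lit 172608,nat_lit 172650,nat_lit 172667,nat_lit 172672,nat_lit 172683,nat_lit 172698,nat_lit 172704,nat_lit 172715,nat_lit 172747,nat_lit 172754,nat_lit 172763,nat_lit 172776,nat_lit 172794,nat_lit 172800,nat_lit 172826,nat_lit 172832,nat_lit 172870,nat_lit 172890,nat_lit 172907,nat_lit 172922,nat_lit 172928,nat_lit 172954,nat_lit 172960,nat_lit 172987,nat_lit 173000,nat_lit 173002,nat_lit 173018,nat_lit 173024,nat_lit 173040,nat_lit 173062,nat_lit 173067,nat_lit 173079,nat_lit 173083,nat_lit 173099,nat_lit 173110,nat_lit 173120,nat_lit 173137,nat_lit 173162,nat_lit 173168,nat_lit 173180,nat_lit 173200,nat_lit 173222,nat_lit 173224,nat_lit 173226,nat_lit 173244,nat_lit 173248,nat_lit 173291,nat_lit 173292,nat_lit 173313,nat_lit 173346,nat_lit 173370,nat_lit 173393,nat_lit 173430,nat_lit 173432,nat_lit 173448,nat_lit 173450,nat_lit 173452,nat_lit 173466,nat_lit 173500,nat_lit 173511,nat_lit 173516,nat_lit 173520,nat_lit 173552,nat_lit 173578,nat_lit 173580,nat_lit 173584,nat_lit 173601,nat_lit 173638,nat_lit 173659,nat_lit 173674,nat_lit 173707,nat_lit 173714,nat_lit 173763,nat_lit 173783,nat_lit 173786,nat_lit 173792,nat_lit 173814,nat_lit 173832,nat_lit 173857,nat_lit 173862,nat_lit 173910,nat_lit 173932,nat_lit 173975,nat_lit 173995,nat_lit 174010,nat_lit 174016,nat_lit 174044,nat_lit 174064,nat_lit 174086,nat_lit 174119,nat_lit 174123,nat_lit 174139,nat_lit 174154,nat_lit 174179,nat_lit 174203,nat_lit 174218,nat_lit 174262,nat_lit 174278,nat_lit 174312,nat_lit 174320,nat_lit 174337,nat_lit 174362,nat_lit 174406,nat_lit 174411,nat_lit 174433,nat_lit 174450,nat_lit 174464,nat_lit 174486,nat_lit 174503,nat_lit 174507,nat_lit 174524,nat_lit 174551,nat_lit 174570,nat_lit 174576,nat_lit 174593,nat_lit 174616,nat_lit 174618,nat_lit 174636,nat_lit 174658,nat_lit 174667,nat_lit 174682,nat_lit 174694,nat_lit 174704,nat_lit 174720,nat_lit 174760,nat_lit 174762,nat_lit 174764,nat_lit 174772,nat_lit 174774,nat_lit 174778,nat_lit 174796,nat_lit 174804,nat_lit 174800,nat_lit 174855,nat_lit 174864,nat_lit 174922,nat_lit 174928,nat_lit 174945,nat_lit 174950,nat_lit 174955,nat_lit 174967,nat_lit 174998,nat_lit 175008,nat_lit 175032,nat_lit 175034,nat_lit 175047,nat_lit 175050,nat_lit 175066,nat_lit 175094,nat_lit 175097,nat_lit 175098,nat_lit 175114,nat_lit 175120,nat_lit 175137,nat_lit 175152,nat_lit 175206,nat_lit 175210,nat_lit 175216,nat_lit 175257,nat_lit 175258,nat_lit 175272,nat_lit 175274,nat_lit 175280,nat_lit 175297,nat_lit 175361,nat_lit 175378,nat_lit 175402,nat_lit 175415,nat_lit 175446,nat_lit 175458,nat_lit 175467,nat_lit 175482,nat_lit 175491,nat_lit 175495,nat_lit 175511,nat_lit 175514,nat_lit 175516,nat_lit 175526,nat_lit 175528,nat_lit 175530,nat_lit 175532,nat_lit 175539,nat_lit 175543,nat_lit 175560,nat_lit 175564,nat_lit 175578,nat_lit 175584,nat_lit 175658,nat_lit 175660,nat_lit 175722,nat_lit 175728,nat_lit 175754,nat_lit 175760,nat_lit 175772,nat_lit 175786,nat_lit 175793,nat_lit 175798,nat_lit 175804,nat_lit 175808,nat_lit 175868,nat_lit 175878,nat_lit 175915,nat_lit 175942,nat_lit 175959,nat_lit 175974,nat_lit 175992,nat_lit 176009,nat_lit 176010,nat_lit 176016,nat_lit 176039,nat_lit 176041,nat_lit 176042,nat_lit 176048,nat_lit 176070,nat_lit 176072,nat_lit 176084,nat_lit 176104,nat_lit 176135,nat_lit 176138,nat_lit 176144,nat_lit 176156,nat_lit 176170,nat_lit 176188,nat_lit 176192,nat_lit 176266,nat_lit 176268,nat_lit 176282,nat_lit 176288,nat_lit 176300,nat_lit 176314,nat_lit 176332,nat_lit 176336,nat_lit 176392,nat_lit 176409,nat_lit 176426,nat_lit 176428,nat_lit 176432,nat_lit 176444,nat_lit 176454,nat_lit 176460,nat_lit 176474,nat_lit 176522,nat_lit 176524,nat_lit 176544,nat_lit 176556,nat_lit 176578,nat_lit 176603,nat_lit 176611,nat_lit 176615,nat_lit 176630,nat_lit 176632,nat_lit 176647,nat_lit 176650,nat_lit 176652,nat_lit 176662,nat_lit 176668,nat_lit 176672,nat_lit 176691,nat_lit 176698,nat_lit 176704,nat_lit 176712,nat_lit 176727,nat_lit 176736,nat_lit 176744,nat_lit 176748,nat_lit 176760,nat_lit 176768,nat_lit 176791,nat_lit 176810,nat_lit 176817,nat_lit 176834,nat_lit 176843,nat_lit 176858,nat_lit 176868,nat_lit 176871,nat_lit 176886,nat_lit 176890,nat_lit 176896,nat_lit 176904,nat_lit 176928,nat_lit 176938,nat_lit 176960,nat_lit 176984,nat_lit 176999,nat_lit 177015,nat_lit 177040,nat_lit 177066,nat_lit 177068,nat_lit 177072,nat_lit 177094,nat_lit 177104,nat_lit 177126,nat_lit 177136,nat_lit 177148,nat_lit 177162,nat_lit 177169,nat_lit 177184,nat_lit 177206,nat_lit 177212,nat_lit 177227,nat_lit 177242,nat_lit 177249,nat_lit 177280,nat_lit 177297,nat_lit 177302,nat_lit 177323,nat_lit 177338,nat_lit 177408,nat_lit 177463,nat_lit 177478,nat_lit 177482,nat_lit 177515,nat_lit 177520,nat_lit 177542,nat_lit 177559,nat_lit 177578,nat_lit 177593,nat_lit 177642,nat_lit 177674,nat_lit 177687,nat_lit 177690,nat_lit 177696,nat_lit 177713,nat_lit 177737,nat_lit 177738,nat_lit 177744,nat_lit 177761,nat_lit 177776,nat_lit 177788,nat_lit 177793,nat_lit 177810,nat_lit 177836,nat_lit 177866,nat_lit 177873,nat_lit 177878,nat_lit 177884,nat_lit 177906,nat_lit 177910,nat_lit 177916,nat_lit 177931,nat_lit 177958,nat_lit 177963,nat_lit 177975,nat_lit 177979,nat_lit 177994,nat_lit 178011,nat_lit 178026,nat_lit 178074,nat_lit 178090,nat_lit 178096,nat_lit 178112,nat_lit 178130,nat_lit 178140,nat_lit 178172,nat_lit 178202,nat_lit 178208,nat_lit 178236,nat_lit 178240,nat_lit 178265,nat_lit 178282,nat_lit 178330,nat_lit 178384,nat_lit 178400,nat_lit 178422,nat_lit 178448,nat_lit 178470,nat_lit 178480,nat_lit 178491,nat_lit 178497,nat_lit 178514,nat_lit 178518,nat_lit 178524,nat_lit 178529,nat_lit 178545,nat_lit 178562,nat_lit 178566,nat_lit 178579,nat_lit 178582,nat_lit 178587,nat_lit 178604,nat_lit 178614,nat_lit 178642,nat_lit 178646,nat_lit 178674,nat_lit 178683,nat_lit 178698,nat_lit 178715,nat_lit 178731,nat_lit 178746,nat_lit 178762,nat_lit 178768,nat_lit 178780,nat_lit 178801,nat_lit 178806,nat_lit 178812,nat_lit 178838,nat_lit 178844,nat_lit 178855,nat_lit 178860,nat_lit 178897,nat_lit 178908,nat_lit 178914,nat_lit 178918,nat_lit 178934,nat_lit 178951,nat_lit 178968,nat_lit 178985,nat_lit 178994,nat_lit 179011,nat_lit 179014,nat_lit 179047,nat_lit 179067,nat_lit 179088,nat_lit 179105,nat_lit 179126,nat_lit 179136,nat_lit 179152,nat_lit 179174,nat_lit 179206,nat_lit 179223,nat_lit 179248,nat_lit 179318,nat_lit 179324,nat_lit 179328,nat_lit 179401,nat_lit 179434,nat_lit 179436,nat_lit 179449,nat_lit 179478,nat_lit 179536,nat_lit 179563,nat_lit 179578,nat_lit 179584,nat_lit 179610,nat_lit 179616,nat_lit 179642,nat_lit 179648,nat_lit 179670,nat_lit 179687,nat_lit 179704,nat_lit 179739,nat_lit 179771,nat_lit 179786,nat_lit 179792,nat_lit 179888,nat_lit 179930,nat_lit 179936,nat_lit 179984,nat_lit 180001,nat_lit 180042,nat_lit 180097,nat_lit 180144,nat_lit 180166,nat_lit 180202,nat_lit 180208,nat_lit 180241,nat_lit 180256,nat_lit 180273,nat_lit 180278,nat_lit 180305,nat_lit 180336,nat_lit 180374,nat_lit 180416,nat_lit 180433,nat_lit 180538,nat_lit 180544,nat_lit 180567,nat_lit 180576,nat_lit 180598,nat_lit 180602,nat_lit 180608,nat_lit 180646,nat_lit 180675,nat_lit 180679,nat_lit 180682,nat_lit 180694,nat_lit 180728,nat_lit 180762,nat_lit 180768,nat_lit 180794,nat_lit 180807,nat_lit 180810,nat_lit 180824,nat_lit 180841,nat_lit 180867,nat_lit 180874,nat_lit 180922,nat_lit 180928,nat_lit 180945,nat_lit 180960,nat_lit 180977,nat_lit 180994,nat_lit 181018,nat_lit 181024,nat_lit 181046,nat_lit 181065,nat_lit 181142,nat_lit 181158,nat_lit 181200,nat_lit 181227,nat_lit 181242,nat_lit 181256,nat_lit 181264,nat_lit 181275,nat_lit 181287,nat_lit 181304,nat_lit 181337,nat_lit 181338,nat_lit 181352,nat_lit 181354,nat_lit 181360,nat_lit 181371,nat_lit 181424,nat_lit 181467,nat_lit 181482,nat_lit 181488,nat_lit 181514,nat_lit 181520,nat_lit 181544,nat_lit 181568,nat_lit 181579,nat_lit 181591,nat_lit 181606,nat_lit 181608,nat_lit 181624,nat_lit 181659,nat_lit 181674,nat_lit 181706,nat_lit 181712,nat_lit 181744,nat_lit 181755,nat_lit 181761,nat_lit 181766,nat_lit 181778,nat_lit 181798,nat_lit 181802,nat_lit 181835,nat_lit 181850,nat_lit 181872,nat_lit 181880,nat_lit 181898,nat_lit 181927,nat_lit 181946,nat_lit 181958,nat_lit 181979,nat_lit 181994,nat_lit 182032,nat_lit 182049,nat_lit 182070,nat_lit 182087,nat_lit 182106,nat_lit 182112,nat_lit 182139,nat_lit 182166,nat_lit 182171,nat_lit 182199,nat_lit 182216,nat_lit 182288,nat_lit 182321,nat_lit 182352,nat_lit 182360,nat_lit 182384,nat_lit 182410,nat_lit 182422,nat_lit 182424,nat_lit 182432,nat_lit 182442,nat_lit 182448,nat_lit 182470,nat_lit 182488,nat_lit 182490,nat_lit 182503,nat_lit 182512,nat_lit 182536,nat_lit 182582,nat_lit 182618,nat_lit 182624,nat_lit 182647,nat_lit 182657,nat_lit 182662,nat_lit 182679,nat_lit 182694,nat_lit 182704,nat_lit 182712,nat_lit 182714,nat_lit 182726,nat_lit 182742,nat_lit 182752,nat_lit 182776,nat_lit 182778,nat_lit 182791,nat_lit 182800,nat_lit 182824,nat_lit 182838,nat_lit 182855,nat_lit 182858,nat_lit 182864,nat_lit 182890,nat_lit 182896,nat_lit 182919,nat_lit 182929,nat_lit 182934,nat_lit 182951,nat_lit 182992,nat_lit 183030,nat_lit 183040,nat_lit 183066,nat_lit 183078,nat_lit 183088,nat_lit 183111,nat_lit 183127,nat_lit 183145,nat_lit 183158,nat_lit 183162,nat_lit 183211,nat_lit 183222,nat_lit 183233,nat_lit 183249,nat_lit 183254,nat_lit 183270,nat_lit 183287,nat_lit 183291,nat_lit 183303,nat_lit 183320,nat_lit 183323,nat_lit 183338,nat_lit 183353,nat_lit 183355,nat_lit 183368,nat_lit 183402,nat_lit 183408,nat_lit 183424,nat_lit 183447,nat_lit 183465,nat_lit 183473,nat_lit 183483,nat_lit 183513,nat_lit 183530,nat_lit 183544,nat_lit 183546,nat_lit 183552,nat_lit 183570,nat_lit 183591,nat_lit 183608,nat_lit 183626,nat_lit 183656,nat_lit 183673,nat_lit 183691,nat_lit 183706,nat_lit 183719,nat_lit 183722,nat_lit 183734,nat_lit 183744,nat_lit 183768,nat_lit 183799,nat_lit 183818,nat_lit 183833,nat_lit 183834,nat_lit 183866,nat_lit 183873,nat_lit 183896,nat_lit 183904,nat_lit 183915,nat_lit 183930,nat_lit 183938,nat_lit 183947,nat_lit 183962,nat_lit 183968,nat_lit 184027,nat_lit 184043,nat_lit 184055,nat_lit 184070,nat_lit 184074,nat_lit 184104,nat_lit 184118,nat_lit 184124,nat_lit 184136,nat_lit 184160,nat_lit 184183,nat_lit 184200,nat_lit 184202,nat_lit 184224,nat_lit 184247,nat_lit 184263,nat_lit 184272,nat_lit 184298,nat_lit 184304,nat_lit 184321,nat_lit 184359,nat_lit 184374,nat_lit 184378,nat_lit 184409,nat_lit 184426,nat_lit 184438,nat_lit 184448,nat_lit 184465,nat_lit 184475,nat_lit 184497,nat_lit 184553,nat_lit 184570,nat_lit 184602,nat_lit 184609,nat_lit 184619,nat_lit 184650,nat_lit 184666,nat_lit 184672,nat_lit 184689,nat_lit 184706,nat_lit 184728,nat_lit 184746,nat_lit 184756,nat_lit 184772,nat_lit 184794,nat_lit 184826,nat_lit 184832,nat_lit 184848,nat_lit 184881,nat_lit 184886,nat_lit 184891,nat_lit 184896,nat_lit 184918,nat_lit 184928,nat_lit 184960,nat_lit 184977,nat_lit 184982,nat_lit 184992,nat_lit 185018,nat_lit 185031,nat_lit 185065,nat_lit 185066,nat_lit 185072,nat_lit 185083,nat_lit 185095,nat_lit 185098,nat_lit 185110,nat_lit 185124,nat_lit 185120,nat_lit 185176,nat_lit 185178,nat_lit 185188,nat_lit 185242,nat_lit 185257,nat_lit 185264,nat_lit 185290,nat_lit 185298,nat_lit 185302,nat_lit 185307,nat_lit 185319,nat_lit 185339,nat_lit 185376,nat_lit 185466,nat_lit 185480,nat_lit 185492,nat_lit 185494,nat_lit 185512,nat_lit 185520,nat_lit 185546,nat_lit 185559,nat_lit 185577,nat_lit 185578,nat_lit 185600,nat_lit 185622,nat_lit 185664,nat_lit 185672,nat_lit 185688,nat_lit 185703,nat_lit 185722,nat_lit 185729,nat_lit 185736,nat_lit 185751,nat_lit 185769,nat_lit 185770,nat_lit 185784,nat_lit 185792,nat_lit 185809,nat_lit 185824,nat_lit 185840,nat_lit 185857,nat_lit 185862,nat_lit 185874,nat_lit 185878,nat_lit 185883,nat_lit 185910,nat_lit 185936,nat_lit 185962,nat_lit 185970,nat_lit 185995,nat_lit 186039,nat_lit 186064,nat_lit 186081,nat_lit 186102,nat_lit 186112,nat_lit 186129,nat_lit 186150,nat_lit 186167,nat_lit 186193,nat_lit 186219,nat_lit 186247,nat_lit 186288,nat_lit 186315,nat_lit 186330,nat_lit 186336,nat_lit 186361,nat_lit 186369,nat_lit 186385,nat_lit 186410,nat_lit 186416,nat_lit 186434,nat_lit 186459,nat_lit 186474,nat_lit 186513,nat_lit 186528,nat_lit 186545,nat_lit 186599,nat_lit 186609,nat_lit 186626,nat_lit 186641,nat_lit 186659,nat_lit 186674,nat_lit 186692,nat_lit 186699,nat_lit 186707,nat_lit 186715,nat_lit 186742,nat_lit 186754,nat_lit 186771,nat_lit 186795,nat_lit 186822,nat_lit 186839,nat_lit 186848,nat_lit 186874,nat_lit 186881,nat_lit 186896,nat_lit 186913,nat_lit 186930,nat_lit 186946,nat_lit 186966,nat_lit 187003,nat_lit 187008,nat_lit 187031,nat_lit 187042,nat_lit 187046,nat_lit 187057,nat_lit 187078,nat_lit 187110,nat_lit 187131,nat_lit 187146,nat_lit 187152,nat_lit 187163,nat_lit 187178,nat_lit 187185,nat_lit 187190,nat_lit 187195,nat_lit 187200,nat_lit 187222,nat_lit 187239,nat_lit 187265,nat_lit 187296,nat_lit 187336,nat_lit 187345,nat_lit 187362,nat_lit 187395,nat_lit 187440,nat_lit 187456,nat_lit 187496,nat_lit 187514,nat_lit 187552,nat_lit 187569,nat_lit 187574,nat_lit 187585,nat_lit 187602,nat_lit 187623,nat_lit 187640,nat_lit 187643,nat_lit 187658,nat_lit 187698,nat_lit 187776,nat_lit 187819,nat_lit 187850,nat_lit 187864,nat_lit 187874,nat_lit 187894,nat_lit 188010,nat_lit 188026,nat_lit 188032,nat_lit 188049,nat_lit 188080,nat_lit 188160,nat_lit 188182,nat_lit 188194,nat_lit 188203,nat_lit 188241,nat_lit 188267,nat_lit 188278,nat_lit 188343,nat_lit 188347,nat_lit 188379,nat_lit 188407,nat_lit 188424,nat_lit 188464,nat_lit 188476,nat_lit 188492,nat_lit 188496,nat_lit 188539,nat_lit 188571,nat_lit 188592,nat_lit 188619,nat_lit 188667,nat_lit 188682,nat_lit 188698,nat_lit 188704,nat_lit 188721,nat_lit 188736,nat_lit 188778,nat_lit 188795,nat_lit 188816,nat_lit 188833,nat_lit 188838,nat_lit 188843,nat_lit 188848,nat_lit 188870,nat_lit 188906,nat_lit 188912,nat_lit 188928,nat_lit 188955,nat_lit 188966,nat_lit 188983,nat_lit 188987,nat_lit 189002,nat_lit 189019,nat_lit 189034,nat_lit 189050,nat_lit 189073,nat_lit 189104,nat_lit 189121,nat_lit 189176,nat_lit 189194,nat_lit 189196,nat_lit 189200,nat_lit 189223,nat_lit 189233,nat_lit 189282,nat_lit 189292,nat_lit 189299,nat_lit 189307,nat_lit 189334,nat_lit 189344,nat_lit 189352,nat_lit 189383,nat_lit 189386,nat_lit 189392,nat_lit 189424,nat_lit 189446,nat_lit 189466,nat_lit 189479,nat_lit 189505,nat_lit 189520,nat_lit 189531,nat_lit 189558,nat_lit 189591,nat_lit 189610,nat_lit 189651,nat_lit 189668,nat_lit 189688,nat_lit 189690,nat_lit 189696,nat_lit 189751,nat_lit 189783,nat_lit 189802,nat_lit 189808,nat_lit 189835,nat_lit 189850,nat_lit 189856,nat_lit 189873,nat_lit 189910,nat_lit 189927,nat_lit 189944,nat_lit 189947,nat_lit 189962,nat_lit 189978,nat_lit 189984,nat_lit 190004,nat_lit 190026,nat_lit 190071,nat_lit 190091,nat_lit 190097,nat_lit 190128,nat_lit 190155,nat_lit 190178,nat_lit 190203,nat_lit 190209,nat_lit 190231,nat_lit 190251,nat_lit 190282,nat_lit 190298,nat_lit 190304,nat_lit 190321,nat_lit 190347,nat_lit 190362,nat_lit 190368,nat_lit 190395,nat_lit 190411,nat_lit 190426,nat_lit 190448,nat_lit 190488,nat_lit 190503,nat_lit 190505,nat_lit 190506,nat_lit 190508,nat_lit 190524,nat_lit 190536,nat_lit 190547,nat_lit 190550,nat_lit 190554,nat_lit 190596,nat_lit 190611,nat_lit 190608,nat_lit 190650,nat_lit 190672,nat_lit 190689,nat_lit 190694,nat_lit 190706,nat_lit 190715,nat_lit 190727,nat_lit 190731,nat_lit 190746,nat_lit 190763,nat_lit 190768,nat_lit 190792,nat_lit 190794,nat_lit 190807,nat_lit 190842,nat_lit 190848,nat_lit 190864,nat_lit 190889,nat_lit 190890,nat_lit 190906,nat_lit 190912,nat_lit 190928,nat_lit 190945,nat_lit 190950,nat_lit 191002,nat_lit 191008,nat_lit 191030,nat_lit 191048,nat_lit 191050,nat_lit 191056,nat_lit 191082,nat_lit 191088,nat_lit 191105,nat_lit 191122,nat_lit 191168,nat_lit 191190,nat_lit 191192,nat_lit 191194,nat_lit 191200,nat_lit 191227,nat_lit 191242,nat_lit 191271,nat_lit 191274,nat_lit 191286,nat_lit 191288,nat_lit 191302,nat_lit 191304,nat_lit 191306,nat_lit 191308,nat_lit 191312,nat_lit 191324,nat_lit 191335,nat_lit 191338,nat_lit 191352,nat_lit 191370,nat_lit 191388,nat_lit 191402,nat_lit 191412,nat_lit 191450,nat_lit 191464,nat_lit 191489,nat_lit 191504,nat_lit 191516,nat_lit 191530,nat_lit 191536,nat_lit 191553,nat_lit 191558,nat_lit 191568,nat_lit 191585,nat_lit 191590,nat_lit 191596,nat_lit 191600,nat_lit 191638,nat_lit 191644,nat_lit 191660,nat_lit 191665,nat_lit 191670,nat_lit 191751,nat_lit 191766,nat_lit 191784,nat_lit 191799,nat_lit 191801,nat_lit 191824,nat_lit 191865,nat_lit 191866,nat_lit 191882,nat_lit 191928,nat_lit 191978,nat_lit 191994,nat_lit 192000,nat_lit 192022,nat_lit 192028,nat_lit 192032,nat_lit 192096,nat_lit 192108,nat_lit 192122,nat_lit 192128,nat_lit 192156,nat_lit 192160,nat_lit 192231,nat_lit 192233,nat_lit 192250,nat_lit 192256,nat_lit 192267,nat_lit 192282,nat_lit 192294,nat_lit 192299,nat_lit 192304,nat_lit 192315,nat_lit 192340,nat_lit 192342,nat_lit 192379,nat_lit 192380,nat_lit 192401,nat_lit 192416,nat_lit 192438,nat_lit 192443,nat_lit 192471,nat_lit 192486,nat_lit 192496,nat_lit 192504,nat_lit 192534,nat_lit 192536,nat_lit 192538,nat_lit 192540,nat_lit 192544,nat_lit 192556,nat_lit 192564,nat_lit 192567,nat_lit 192570,nat_lit 192584,nat_lit 192620,nat_lit 192664,nat_lit 192679,nat_lit 192697,nat_lit 192712,nat_lit 192727,nat_lit 192730,nat_lit 192759,nat_lit 192769,nat_lit 192790,nat_lit 192793,nat_lit 192794,nat_lit 192800,nat_lit 192827,nat_lit 192843,nat_lit 192858,nat_lit 192887,nat_lit 192902,nat_lit 192904,nat_lit 192920,nat_lit 192922,nat_lit 192952,nat_lit 192967,nat_lit 192970,nat_lit 192977,nat_lit 192984,nat_lit 192986,nat_lit 192992,nat_lit 193031,nat_lit 193050,nat_lit 193066,nat_lit 193078,nat_lit 193088,nat_lit 193114,nat_lit 193121,nat_lit 193126,nat_lit 193143,nat_lit 193153,nat_lit 193175,nat_lit 193185,nat_lit 193190,nat_lit 193196,nat_lit 193238,nat_lit 193244,nat_lit 193276,nat_lit 193284,nat_lit 193286,nat_lit 193306,nat_lit 193362,nat_lit 193366,nat_lit 193402,nat_lit 193408,nat_lit 193446,nat_lit 193465,nat_lit 193466,nat_lit 193483,nat_lit 193498,nat_lit 193510,nat_lit 193527,nat_lit 193544,nat_lit 193600,nat_lit 193625,nat_lit 193626,nat_lit 193632,nat_lit 193649,nat_lit 193666,nat_lit 193690,nat_lit 193696,nat_lit 193713,nat_lit 193730,nat_lit 193745,nat_lit 193750,nat_lit 193760,nat_lit 193778,nat_lit 193782,nat_lit 193819,nat_lit 193842,nat_lit 193846,nat_lit 193873,nat_lit 193891,nat_lit 193894,nat_lit 193915,nat_lit 193946,nat_lit 193959,nat_lit 193963,nat_lit 193978,nat_lit 193995,nat_lit 194010,nat_lit 194016,nat_lit 194042,nat_lit 194048,nat_lit 194064,nat_lit 194080,nat_lit 194097,nat_lit 194118,nat_lit 194131,nat_lit 194163,nat_lit 194176,nat_lit 194198,nat_lit 194219,nat_lit 194250,nat_lit 194294,nat_lit 194310,nat_lit 194342,nat_lit 194379,nat_lit 194406,nat_lit 194422,nat_lit 194443,nat_lit 194452,nat_lit 194450,nat_lit 194454,nat_lit 194466,nat_lit 194470,nat_lit 194491,nat_lit 194499,nat_lit 194502,nat_lit 194507,nat_lit 194519,nat_lit 194523,nat_lit 194539,nat_lit 194556,nat_lit 194570,nat_lit 194580,nat_lit 194611,nat_lit 194614,nat_lit 194624,nat_lit 194651,nat_lit 194666,nat_lit 194698,nat_lit 194714,nat_lit 194720,nat_lit 194753,nat_lit 194768,nat_lit 194790,nat_lit 194811,nat_lit 194817,nat_lit 194822,nat_lit 194827,nat_lit 194832,nat_lit 194839,nat_lit 194854,nat_lit 194876,nat_lit 194887,nat_lit 194898,nat_lit 194934,nat_lit 194967,nat_lit 194984,nat_lit 195001,nat_lit 195027,nat_lit 195046,nat_lit 195083,nat_lit 195105,nat_lit 195122,nat_lit 195136,nat_lit 195402,nat_lit 195408,nat_lit 195440,nat_lit 195462,nat_lit 195472,nat_lit 195528,nat_lit 195545,nat_lit 195578,nat_lit 195606,nat_lit 195632,nat_lit 195760,nat_lit 195777,nat_lit 195809,nat_lit 195814,nat_lit 195936,nat_lit 195974,nat_lit 195976,nat_lit 195985,nat_lit 196010,nat_lit 196016,nat_lit 196038,nat_lit 196056,nat_lit 196071,nat_lit 196074,nat_lit 196090,nat_lit 196120,nat_lit 196138,nat_lit 196144,nat_lit 196176,nat_lit 196202,nat_lit 196208,nat_lit 196233,nat_lit 196250,nat_lit 196263,nat_lit 196266,nat_lit 196272,nat_lit 196288,nat_lit 196305,nat_lit 196354,nat_lit 196374,nat_lit 196384,nat_lit 196406,nat_lit 196423,nat_lit 196442,nat_lit 196464,nat_lit 196472,nat_lit 196488,nat_lit 196535,nat_lit 196555,nat_lit 196586,nat_lit 196616,nat_lit 196624,nat_lit 196650,nat_lit 196656,nat_lit 196667,nat_lit 196673,nat_lit 196678,nat_lit 196710,nat_lit 196730,nat_lit 196736,nat_lit 196768,nat_lit 196779,nat_lit 196795,nat_lit 196827,nat_lit 196858,nat_lit 196872,nat_lit 196928,nat_lit 196944,nat_lit 196955,nat_lit 196961,nat_lit 196982,nat_lit 196987,nat_lit 197010,nat_lit 197014,nat_lit 197035,nat_lit 197043,nat_lit 197066,nat_lit 197098,nat_lit 197128,nat_lit 197143,nat_lit 197146,nat_lit 197178,nat_lit 197184,nat_lit 197211,nat_lit 197226,nat_lit 197232,nat_lit 197249,nat_lit 197254,nat_lit 197312,nat_lit 197329,nat_lit 197367,nat_lit 197371,nat_lit 197400,nat_lit 197464,nat_lit 197479,nat_lit 197489,nat_lit 197500,nat_lit 197520,nat_lit 197528,nat_lit 197530,nat_lit 197546,nat_lit 197560,nat_lit 197568,nat_lit 197590,nat_lit 197607,nat_lit 197623,nat_lit 197626,nat_lit 197632,nat_lit 197658,nat_lit 197660,nat_lit 197665,nat_lit 197712,nat_lit 197734,nat_lit 197766,nat_lit 197783,nat_lit 197798,nat_lit 197808,nat_lit 197825,nat_lit 197832,nat_lit 197847,nat_lit 197850,nat_lit 197852,nat_lit 197856,nat_lit 197868,nat_lit 197900,nat_lit 197927,nat_lit 197930,nat_lit 197936,nat_lit 197962,nat_lit 197964,nat_lit 197969,nat_lit 198022,nat_lit 198026,nat_lit 198032,nat_lit 198049,nat_lit 198064,nat_lit 198076,nat_lit 198081,nat_lit 198114,nat_lit 198118,nat_lit 198135,nat_lit 198155,nat_lit 198161,nat_lit 198198,nat_lit 198204,nat_lit 198231,nat_lit 198264,nat_lit 198267,nat_lit 198280,nat_lit 198314,nat_lit 198359,nat_lit 198374,nat_lit 198390,nat_lit 198407,nat_lit 198411,nat_lit 198423,nat_lit 198440,nat_lit 198443,nat_lit 198458,nat_lit 198472,nat_lit 198489,nat_lit 198491,nat_lit 198506,nat_lit 198512,nat_lit 198554,nat_lit 198571,nat_lit 198576,nat_lit 198593,nat_lit 198633,nat_lit 198648,nat_lit 198650,nat_lit 198667,nat_lit 198682,nat_lit 198698,nat_lit 198704,nat_lit 198730,nat_lit 198736,nat_lit 198779,nat_lit 198792,nat_lit 198807,nat_lit 198810,nat_lit 198841,nat_lit 198856,nat_lit 198874,nat_lit 198902,nat_lit 198904,nat_lit 198906,nat_lit 198936,nat_lit 198967,nat_lit 199004,nat_lit 199040,nat_lit 199067,nat_lit 199082,nat_lit 199089,nat_lit 199116,nat_lit 199147,nat_lit 199162,nat_lit 199168,nat_lit 199185,nat_lit 199226,nat_lit 199238,nat_lit 199248,nat_lit 199256,nat_lit 199258,nat_lit 199287,nat_lit 199304,nat_lit 199306,nat_lit 199318,nat_lit 199335,nat_lit 199369,nat_lit 199370,nat_lit 199383,nat_lit 199385,nat_lit 199386,nat_lit 199388,nat_lit 199434,nat_lit 199446,nat_lit 199457,nat_lit 199472,nat_lit 199483,nat_lit 199489,nat_lit 199494,nat_lit 199510,nat_lit 199536,nat_lit 199578,nat_lit 199595,nat_lit 199609,nat_lit 199610,nat_lit 199617,nat_lit 199643,nat_lit 199690,nat_lit 199712,nat_lit 199739,nat_lit 199754,nat_lit 199776,nat_lit 199810,nat_lit 199835,nat_lit 199850,nat_lit 199852,nat_lit 199868,nat_lit 199875,nat_lit 199882,nat_lit 199891,nat_lit 199904,nat_lit 199916,nat_lit 199920,nat_lit 199937,nat_lit 199942,nat_lit 199964,nat_lit 199970,nat_lit 199980,nat_lit 200049,nat_lit 200054,nat_lit 200082,nat_lit 200086,nat_lit 200118,nat_lit 200124,nat_lit 200153,nat_lit 200168,nat_lit 200176,nat_lit 200188,nat_lit 200198,nat_lit 200204,nat_lit 200220,nat_lit 200268,nat_lit 200272,nat_lit 200314,nat_lit 200320,nat_lit 200346,nat_lit 200363,nat_lit 200364,nat_lit 200385,nat_lit 200396,nat_lit 200439,nat_lit 200443,nat_lit 200475,nat_lit 200512,nat_lit 200535,nat_lit 200538,nat_lit 200540,nat_lit 200547,nat_lit 200583,nat_lit 200593,nat_lit 200608,nat_lit 200633,nat_lit 200656,nat_lit 200678,nat_lit 200712,nat_lit 200727,nat_lit 200743,nat_lit 200761,nat_lit 200762,nat_lit 200768,nat_lit 200792,nat_lit 200807,nat_lit 200825,nat_lit 200826,nat_lit 200840,nat_lit 200848,nat_lit 200860,nat_lit 200874,nat_lit 200881,nat_lit 200898,nat_lit 200913,nat_lit 200918,nat_lit 200929,nat_lit 200934,nat_lit 200946,nat_lit 200950,nat_lit 200955,nat_lit 200979,nat_lit 200987,nat_lit 201035,nat_lit 201041,nat_lit 201083,nat_lit 201098,nat_lit 201121,nat_lit 201138,nat_lit 201162,nat_lit 201169,nat_lit 201174,nat_lit 201190,nat_lit 201195,nat_lit 201207,nat_lit 201286,nat_lit 201291,nat_lit 201312,nat_lit 201329,nat_lit 201352,nat_lit 201354,nat_lit 201362,nat_lit 201378,nat_lit 201409,nat_lit 201414,nat_lit 201420,nat_lit 201452,nat_lit 201474,nat_lit 201484,nat_lit 201528,nat_lit 201538,nat_lit 201555,nat_lit 201564,nat_lit 201596,nat_lit 201644,nat_lit 201770,nat_lit 201777,nat_lit 201792,nat_lit 201810,nat_lit 201825,nat_lit 201830,nat_lit 201926,nat_lit 201944,nat_lit 201958,nat_lit 201963,nat_lit 201964,nat_lit 201980,nat_lit 202042,nat_lit 202048,nat_lit 202065,nat_lit 202076,nat_lit 202118,nat_lit 202124,nat_lit 202139,nat_lit 202156,nat_lit 202176,nat_lit 202183,nat_lit 202188,nat_lit 202204,nat_lit 202210,nat_lit 202220,nat_lit 202251,nat_lit 202292,nat_lit 202374,nat_lit 202386,nat_lit 202407,nat_lit 202418,nat_lit 202456,nat_lit 202490,nat_lit 202496,nat_lit 202560,nat_lit 202640,nat_lit 202662,nat_lit 202705,nat_lit 202747,nat_lit 202794,nat_lit 202827,nat_lit 202872,nat_lit 202891,nat_lit 202897,nat_lit 202908,nat_lit 202912,nat_lit 203003,nat_lit 203018,nat_lit 203034,nat_lit 203040,nat_lit 203056,nat_lit 203073,nat_lit 203078,nat_lit 203120,nat_lit 203131,nat_lit 203158,nat_lit 203195,nat_lit 203222,nat_lit 203227,nat_lit 203248,nat_lit 203270,nat_lit 203286,nat_lit 203306,nat_lit 203339,nat_lit 203354,nat_lit 203386,nat_lit 203392,nat_lit 203408,nat_lit 203458,nat_lit 203468,nat_lit 203482,nat_lit 203488,nat_lit 203500,nat_lit 203521,nat_lit 203554,nat_lit 203604,nat_lit 203611,nat_lit 203626,nat_lit 203649,nat_lit 203656,nat_lit 203671,nat_lit 203690,nat_lit 203692,nat_lit 203696,nat_lit 203708,nat_lit 203718,nat_lit 203724,nat_lit 203772,nat_lit 203814,nat_lit 203819,nat_lit 203820,nat_lit 203847,nat_lit 203864,nat_lit 203867,nat_lit 203872,nat_lit 203892,nat_lit 203909,nat_lit 203930,nat_lit 203936,nat_lit 203992,nat_lit 204000,nat_lit 204011,nat_lit 204042,nat_lit 204048,nat_lit 204065,nat_lit 204103,nat_lit 204107,nat_lit 204123,nat_lit 204139,nat_lit 204154,nat_lit 204160,nat_lit 204176,nat_lit 204193,nat_lit 204213,nat_lit 204248,nat_lit 204278,nat_lit 204331,nat_lit 204346,nat_lit 204379,nat_lit 204416,nat_lit 204433,nat_lit 204438,nat_lit 204459,nat_lit 204474,nat_lit 204480,nat_lit 204497,nat_lit 204538,nat_lit 204568,nat_lit 204583,nat_lit 204602,nat_lit 204604,nat_lit 204618,nat_lit 204620,nat_lit 204624,nat_lit 204636,nat_lit 204644,nat_lit 204649,nat_lit 204650,nat_lit 204660,nat_lit 204656,nat_lit 204698,nat_lit 204784,nat_lit 204801,nat_lit 204806,nat_lit 204818,nat_lit 204839,nat_lit 204843,nat_lit 204859,nat_lit 204874,nat_lit 204891,nat_lit 204906,nat_lit 204952,nat_lit 204954,nat_lit 204967,nat_lit 204976,nat_lit 205008,nat_lit 205025,nat_lit 205041,nat_lit 205064,nat_lit 205066,nat_lit 205072,nat_lit 205088,nat_lit 205105,nat_lit 205110,nat_lit 205121,nat_lit 205126,nat_lit 205138,nat_lit 205142,nat_lit 205168,nat_lit 205190,nat_lit 205226,nat_lit 205232,nat_lit 205249,nat_lit 205281,nat_lit 205286,nat_lit 205344,nat_lit 205354,nat_lit 205369,nat_lit 205400,nat_lit 205418,nat_lit 205446,nat_lit 205448,nat_lit 205456,nat_lit 205472,nat_lit 205480,nat_lit 205497,nat_lit 205512,nat_lit 205516,nat_lit 205530,nat_lit 205532,nat_lit 205548,nat_lit 205558,nat_lit 205562,nat_lit 205580,nat_lit 205588,nat_lit 205584,nat_lit 205642,nat_lit 205644,nat_lit 205660,nat_lit 205712,nat_lit 205724,nat_lit 205761,nat_lit 205772,nat_lit 205776,nat_lit 205809,nat_lit 205814,nat_lit 205830,nat_lit 205847,nat_lit 205857,nat_lit 205878,nat_lit 205884,nat_lit 205895,nat_lit 205905,nat_lit 205948,nat_lit 205958,nat_lit 206040,nat_lit 206057,nat_lit 206074,nat_lit 206090,nat_lit 206102,nat_lit 206122,nat_lit 206128,nat_lit 206144,nat_lit 206167,nat_lit 206170,nat_lit 206176,nat_lit 206192,nat_lit 206204,nat_lit 206214,nat_lit 206235,nat_lit 206236,nat_lit 206246,nat_lit 206273,nat_lit 206278,nat_lit 206284,nat_lit 206288,nat_lit 206377,nat_lit 206411,nat_lit 206417,nat_lit 206428,nat_lit 206444,nat_lit 206475,nat_lit 206492,nat_lit 206604,nat_lit 206631,nat_lit 206635,nat_lit 206662,nat_lit 206664,nat_lit 206672,nat_lit 206680,nat_lit 206696,nat_lit 206711,nat_lit 206728,nat_lit 206732,nat_lit 206746,nat_lit 206748,nat_lit 206752,nat_lit 206774,nat_lit 206823,nat_lit 206871,nat_lit 206874,nat_lit 206876,nat_lit 206903,nat_lit 206921,nat_lit 206951,nat_lit 206970,nat_lit 206972,nat_lit 206976,nat_lit 206988,nat_lit 206998,nat_lit 207001,nat_lit 207014,nat_lit 207033,nat_lit 207056,nat_lit 207078,nat_lit 207114,nat_lit 207120,nat_lit 207144,nat_lit 207160,nat_lit 207178,nat_lit 207191,nat_lit 207200,nat_lit 207223,nat_lit 207226,nat_lit 207242,nat_lit 207248,nat_lit 207272,nat_lit 207287,nat_lit 207290,nat_lit 207296,nat_lit 207318,nat_lit 207334,nat_lit 207337,nat_lit 207344,nat_lit 207360,nat_lit 207372,nat_lit 207383,nat_lit 207393,nat_lit 207398,nat_lit 207404,nat_lit 207430,nat_lit 207447,nat_lit 207464,nat_lit 207478,nat_lit 207496,nat_lit 207506,nat_lit 207510,nat_lit 207516,nat_lit 207540,nat_lit 207537,nat_lit 207559,nat_lit 207572,nat_lit 207574,nat_lit 207588,nat_lit 207606,nat_lit 207632,nat_lit 207651,nat_lit 207654,nat_lit 207680,nat_lit 207722,nat_lit 207744,nat_lit 207755,nat_lit 207799,nat_lit 207816,nat_lit 207841,nat_lit 207866,nat_lit 207872,nat_lit 207889,nat_lit 207906,nat_lit 207953,nat_lit 207970,nat_lit 208002,nat_lit 208006,nat_lit 208012,nat_lit 208023,nat_lit 208028,nat_lit 208054,nat_lit 208108,nat_lit 208112,nat_lit 208124,nat_lit 208150,nat_lit 208167,nat_lit 208186,nat_lit 208192,nat_lit 208219,nat_lit 208234,nat_lit 208240,nat_lit 208266,nat_lit 208272,nat_lit 208294,nat_lit 208321,nat_lit 208337,nat_lit 208353,nat_lit 208358,nat_lit 208370,nat_lit 208412,nat_lit 208567,nat_lit 208587,nat_lit 208588,nat_lit 208604,nat_lit 208614,nat_lit 208659,nat_lit 208662,nat_lit 208679,nat_lit 208715,nat_lit 208731,nat_lit 208746,nat_lit 208763,nat_lit 208778,nat_lit 208794,nat_lit 208816,nat_lit 208854,nat_lit 208864,nat_lit 208906,nat_lit 208912,nat_lit 208928,nat_lit 208944,nat_lit 208966,nat_lit 208988,nat_lit 209008,nat_lit 209015,nat_lit 209020,nat_lit 209036,nat_lit 209095,nat_lit 209100,nat_lit 209116,nat_lit 209171,nat_lit 209174,nat_lit 209180,nat_lit 209191,nat_lit 209208,nat_lit 209225,nat_lit 209254,nat_lit 209271,nat_lit 209329,nat_lit 209344,nat_lit 209366,nat_lit 209382,nat_lit 209409,nat_lit 209433,nat_lit 209505,nat_lit 209569,nat_lit 209592,nat_lit 209610,nat_lit 209632,nat_lit 209654,nat_lit 209671,nat_lit 209689,nat_lit 209690,nat_lit 209702,nat_lit 209712,nat_lit 209754,nat_lit 209760,nat_lit 209777,nat_lit 209798,nat_lit 209808,nat_lit 209850,nat_lit 209867,nat_lit 209878,nat_lit 209921,nat_lit 209942,nat_lit 209958,nat_lit 209985,nat_lit 209990,nat_lit 210007,nat_lit 210056,nat_lit 210106,nat_lit 210122,nat_lit 210128,nat_lit 210154,nat_lit 210161,nat_lit 210166,nat_lit 210176,nat_lit 210203,nat_lit 210226,nat_lit 210230,nat_lit 210251,nat_lit 210267,nat_lit 210272,nat_lit 210315,nat_lit 210346,nat_lit 210362,nat_lit 210368,nat_lit 210401,nat_lit 210422,nat_lit 210427,nat_lit 210475,nat_lit 210490,nat_lit 210499,nat_lit 210502,nat_lit 210523,nat_lit 210538,nat_lit 210560,nat_lit 210576,nat_lit 210599,nat_lit 210618,nat_lit 210624,nat_lit 210640,nat_lit 210657,nat_lit 210682,nat_lit 210688,nat_lit 210710,nat_lit 210722,nat_lit 210726,nat_lit 210758,nat_lit 210770,nat_lit 210792,nat_lit 210795,nat_lit 210839,nat_lit 210866,nat_lit 210881,nat_lit 210904,nat_lit 210919,nat_lit 210922,nat_lit 210928,nat_lit 210944,nat_lit 210967,nat_lit 210982,nat_lit 210999,nat_lit 211030,nat_lit 211034,nat_lit 211040,nat_lit 211057,nat_lit 211072,nat_lit 211106,nat_lit 211126,nat_lit 211143,nat_lit 211176,nat_lit 211184,nat_lit 211201,nat_lit 211224,nat_lit 211239,nat_lit 211242,nat_lit 211258,nat_lit 211264,nat_lit 211287,nat_lit 211290,nat_lit 211302,nat_lit 211312,nat_lit 211354,nat_lit 211360,nat_lit 211377,nat_lit 211392,nat_lit 211418,nat_lit 211430,nat_lit 211450,nat_lit 211456,nat_lit 211473,nat_lit 211490,nat_lit 211505,nat_lit 211510,nat_lit 211520,nat_lit 211542,nat_lit 211575,nat_lit 211595,nat_lit 211610,nat_lit 211618,nat_lit 211639,nat_lit 211654,nat_lit 211672,nat_lit 211691,nat_lit 211706,nat_lit 211723,nat_lit 211755,nat_lit 211760,nat_lit 211783,nat_lit 211800,nat_lit 211803,nat_lit 211818,nat_lit 211832,nat_lit 211849,nat_lit 211851,nat_lit 211866,nat_lit 211872,nat_lit 211899,nat_lit 211915,nat_lit 211930,nat_lit 211936,nat_lit 211953,nat_lit 212001,nat_lit 212006,nat_lit 212022,nat_lit 212042,nat_lit 212058,nat_lit 212064,nat_lit 212075,nat_lit 212090,nat_lit 212112,nat_lit 212144,nat_lit 212155,nat_lit 212186,nat_lit 212201,nat_lit 212266,nat_lit 212272,nat_lit 212296,nat_lit 212314,nat_lit 212343,nat_lit 212379,nat_lit 212385,nat_lit 212410,nat_lit 212416,nat_lit 212474,nat_lit 212480,nat_lit 212528,nat_lit 212552,nat_lit 212554,nat_lit 212568,nat_lit 212583,nat_lit 212592,nat_lit 212618,nat_lit 212636,nat_lit 212652,nat_lit 212681,nat_lit 212698,nat_lit 212730,nat_lit 212746,nat_lit 212752,nat_lit 212784,nat_lit 212809,nat_lit 212810,nat_lit 212818,nat_lit 212833,nat_lit 212838,nat_lit 212843,nat_lit 212866,nat_lit 212870,nat_lit 212887,nat_lit 212939,nat_lit 212970,nat_lit 212976,nat_lit 212987,nat_lit 212994,nat_lit 213003,nat_lit 213024,nat_lit 213066,nat_lit 213094,nat_lit 213130,nat_lit 213136,nat_lit 213156,nat_lit 213172,nat_lit 213194,nat_lit 213233,nat_lit 213248,nat_lit 213270,nat_lit 213282,nat_lit 213286,nat_lit 213303,nat_lit 213313,nat_lit 213350,nat_lit 213362,nat_lit 213366,nat_lit 213395,nat_lit 213398,nat_lit 213435,nat_lit 213446,nat_lit 213464,nat_lit 213482,nat_lit 213489,nat_lit 213499,nat_lit 213508,nat_lit 213504,nat_lit 213515,nat_lit 213531,nat_lit 213540,nat_lit 213542,nat_lit 213547,nat_lit 213572,nat_lit 213579,nat_lit 213675,nat_lit 213682,nat_lit 213697,nat_lit 213723,nat_lit 213761,nat_lit 213786,nat_lit 213792,nat_lit 213812,nat_lit 213815,nat_lit 213818,nat_lit 213849,nat_lit 213862,nat_lit 213873,nat_lit 213878,nat_lit 213910,nat_lit 213927,nat_lit 213943,nat_lit 213994,nat_lit 214000,nat_lit 214017,nat_lit 214022,nat_lit 214039,nat_lit 214042,nat_lit 214057,nat_lit 214072,nat_lit 214080,nat_lit 214106,nat_lit 214113,nat_lit 214128,nat_lit 214166,nat_lit 214179,nat_lit 214198,nat_lit 214203,nat_lit 214219,nat_lit 214226,nat_lit 214230,nat_lit 214251,nat_lit 214259,nat_lit 214267,nat_lit 214279,nat_lit 214298,nat_lit 214308,nat_lit 214354,nat_lit 214378,nat_lit 214384,nat_lit 214402,nat_lit 214432,nat_lit 214454,nat_lit 214471,nat_lit 214487,nat_lit 214491,nat_lit 214539,nat_lit 214561,nat_lit 214578,nat_lit 214658,nat_lit 214662,nat_lit 214723,nat_lit 214738,nat_lit 214742,nat_lit 214763,nat_lit 214795,nat_lit 214803,nat_lit 214820,nat_lit 214827,nat_lit 214836,nat_lit 214848,nat_lit 214866,nat_lit 214881,nat_lit 214914,nat_lit 214918,nat_lit 214987,nat_lit 215035,nat_lit 215040,nat_lit 215062,nat_lit 215074,nat_lit 215089,nat_lit 215104,nat_lit 215111,nat_lit 215126,nat_lit 215175,nat_lit 215195,nat_lit 215200,nat_lit 215235,nat_lit 215250,nat_lit 215303,nat_lit 215336,nat_lit 215488,nat_lit 215531,nat_lit 215564,nat_lit 215610,nat_lit 215632,nat_lit 215670,nat_lit 215723,nat_lit 215814,nat_lit 215904,nat_lit 215964,nat_lit 215984,nat_lit 216001,nat_lit 216006,nat_lit 216012,nat_lit 216016,nat_lit 216069,nat_lit 216075,nat_lit 216090,nat_lit 216120,nat_lit 216135,nat_lit 216160,nat_lit 216198,nat_lit 216208,nat_lit 216231,nat_lit 216256,nat_lit 216298,nat_lit 216328,nat_lit 216331,nat_lit 216347,nat_lit 216362,nat_lit 216369,nat_lit 216389,nat_lit 216411,nat_lit 216416,nat_lit 216465,nat_lit 216475,nat_lit 216496,nat_lit 216513,nat_lit 216608,nat_lit 216625,nat_lit 216683,nat_lit 216730,nat_lit 216774,nat_lit 216790,nat_lit 216795,nat_lit 216811,nat_lit 216826,nat_lit 216832,nat_lit 216849,nat_lit 216870,nat_lit 216903,nat_lit 216918,nat_lit 216922,nat_lit 216928,nat_lit 216954,nat_lit 216960,nat_lit 216972,nat_lit 216986,nat_lit 216998,nat_lit 217004,nat_lit 217012,nat_lit 217008,nat_lit 217075,nat_lit 217072,nat_lit 217121,nat_lit 217138,nat_lit 217142,nat_lit 217159,nat_lit 217179,nat_lit 217195,nat_lit 217210,nat_lit 217226,nat_lit 217232,nat_lit 217258,nat_lit 217264,nat_lit 217287,nat_lit 217290,nat_lit 217296,nat_lit 217329,nat_lit 217345,nat_lit 217366,nat_lit 217378,nat_lit 217382,nat_lit 217402,nat_lit 217408,nat_lit 217425,nat_lit 217430,nat_lit 217441,nat_lit 217446,nat_lit 217458,nat_lit 217462,nat_lit 217483,nat_lit 217543,nat_lit 217553,nat_lit 217558,nat_lit 217584,nat_lit 217601,nat_lit 217606,nat_lit 217622,nat_lit 217638,nat_lit 217672,nat_lit 217674,nat_lit 217680,nat_lit 217719,nat_lit 217752,nat_lit 217770,nat_lit 217817,nat_lit 217818,nat_lit 217847,nat_lit 217850,nat_lit 217852,nat_lit 217864,nat_lit 217872,nat_lit 217898,nat_lit 217904,nat_lit 218000,nat_lit 218026,nat_lit 218049,nat_lit 218060,nat_lit 218064,nat_lit 218082,nat_lit 218086,nat_lit 218092,nat_lit 218097,nat_lit 218134,nat_lit 218151,nat_lit 218167,nat_lit 218184,nat_lit 218194,nat_lit 218215,nat_lit 218220,nat_lit 218230,nat_lit 218313,nat_lit 218330,nat_lit 218336,nat_lit 218352,nat_lit 218379,nat_lit 218384,nat_lit 218401,nat_lit 218417,nat_lit 218442,nat_lit 218448,nat_lit 218470,nat_lit 218481,nat_lit 218496,nat_lit 218540,nat_lit 218555,nat_lit 218578,nat_lit 218582,nat_lit 218588,nat_lit 218604,nat_lit 218609,nat_lit 218614,nat_lit 218650,nat_lit 218668,nat_lit 218674,nat_lit 218699,nat_lit 218754,nat_lit 218779,nat_lit 218808,nat_lit 218833,nat_lit 218840,nat_lit 218855,nat_lit 218858,nat_lit 218871,nat_lit 218890,nat_lit 218903,nat_lit 218906,nat_lit 218908,nat_lit 218920,nat_lit 218928,nat_lit 218948,nat_lit 218954,nat_lit 219017,nat_lit 219018,nat_lit 219024,nat_lit 219050,nat_lit 219065,nat_lit 219094,nat_lit 219104,nat_lit 219152,nat_lit 219178,nat_lit 219207,nat_lit 219233,nat_lit 219238,nat_lit 219255,nat_lit 219264,nat_lit 219319,nat_lit 219322,nat_lit 219354,nat_lit 219386,nat_lit 219392,nat_lit 219408,nat_lit 219425,nat_lit 219447,nat_lit 219462,nat_lit 219465,nat_lit 219466,nat_lit 219472,nat_lit 219494,nat_lit 219530,nat_lit 219553,nat_lit 219569,nat_lit 219584,nat_lit 219608,nat_lit 219618,nat_lit 219622,nat_lit 219639,nat_lit 219649,nat_lit 219654,nat_lit 219671,nat_lit 219688,nat_lit 219712,nat_lit 219747,nat_lit 219750,nat_lit 219760,nat_lit 219772,nat_lit 219780,nat_lit 219793,nat_lit 219836,nat_lit 219846,nat_lit 219926,nat_lit 219953,nat_lit 219958,nat_lit 219968,nat_lit 219985,nat_lit 219995,nat_lit 220024,nat_lit 220081,nat_lit 220098,nat_lit 220115,nat_lit 220130,nat_lit 220134,nat_lit 220163,nat_lit 220166,nat_lit 220176,nat_lit 220183,nat_lit 220194,nat_lit 220198,nat_lit 220216,nat_lit 220247,nat_lit 220259,nat_lit 220288,nat_lit 220311,nat_lit 220328,nat_lit 220336,nat_lit 220353,nat_lit 220378,nat_lit 220384,nat_lit 220406,nat_lit 220416,nat_lit 220433,nat_lit 220455,nat_lit 220482,nat_lit 220555,nat_lit 220571,nat_lit 220588,nat_lit 220603,nat_lit 220612,nat_lit 220646,nat_lit 220651,nat_lit 220663,nat_lit 220683,nat_lit 220698,nat_lit 220714,nat_lit 220720,nat_lit 220746,nat_lit 220752,nat_lit 220790,nat_lit 220800,nat_lit 220817,nat_lit 220832,nat_lit 220870,nat_lit 220914,nat_lit 220935,nat_lit 220955,nat_lit 220960,nat_lit 220967,nat_lit 220971,nat_lit 221003,nat_lit 221015,nat_lit 221035,nat_lit 221046,nat_lit 221056,nat_lit 221063,nat_lit 221096,nat_lit 221113,nat_lit 221136,nat_lit 221143,nat_lit 221160,nat_lit 221190,nat_lit 221282,nat_lit 221306,nat_lit 221312,nat_lit 221334,nat_lit 221351,nat_lit 221386,nat_lit 221416,nat_lit 221440,nat_lit 221457,nat_lit 221478,nat_lit 221505,nat_lit 221510,nat_lit 221531,nat_lit 221560,nat_lit 221611,nat_lit 221618,nat_lit 221622,nat_lit 221639,nat_lit 221680,nat_lit 221713,nat_lit 221718,nat_lit 221728,nat_lit 221746,nat_lit 221771,nat_lit 221787,nat_lit 221802,nat_lit 221811,nat_lit 221814,nat_lit 221835,nat_lit 221850,nat_lit 221898,nat_lit 221942,nat_lit 221954,nat_lit 221979,nat_lit 221994,nat_lit 222010,nat_lit 222038,nat_lit 222059,nat_lit 222074,nat_lit 222080,nat_lit 222097,nat_lit 222138,nat_lit 222144,nat_lit 222177,nat_lit 222182,nat_lit 222198,nat_lit 222230,nat_lit 222262,nat_lit 222331,nat_lit 222358,nat_lit 222380,nat_lit 222407,nat_lit 222426,nat_lit 222432,nat_lit 222454,nat_lit 222465,nat_lit 222470,nat_lit 222476,nat_lit 222490,nat_lit 222503,nat_lit 222538,nat_lit 222544,nat_lit 222561,nat_lit 222578,nat_lit 222593,nat_lit 222598,nat_lit 222631,nat_lit 222648,nat_lit 222673,nat_lit 222696,nat_lit 222714,nat_lit 222730,nat_lit 222752,nat_lit 222764,nat_lit 222774,nat_lit 222780,nat_lit 222823,nat_lit 222828,nat_lit 222848,nat_lit 222865,nat_lit 222886,nat_lit 222908,nat_lit 222935,nat_lit 222961,nat_lit 222966,nat_lit 222978,nat_lit 222982,nat_lit 223010,nat_lit 223014,nat_lit 223031,nat_lit 223036,nat_lit 223080,nat_lit 223104,nat_lit 223144,nat_lit 223179,nat_lit 223194,nat_lit 223200,nat_lit 223242,nat_lit 223272,nat_lit 223275,nat_lit 223291,nat_lit 223306,nat_lit 223312,nat_lit 223339,nat_lit 223355,nat_lit 223370,nat_lit 223376,nat_lit 223393,nat_lit 223434,nat_lit 223440,nat_lit 223494,nat_lit 223563,nat_lit 223579,nat_lit 223643,nat_lit 223696,nat_lit 223735,nat_lit 223738,nat_lit 223794,nat_lit 223803,nat_lit 223808,nat_lit 223825,nat_lit 223830,nat_lit 223840,nat_lit 223862,nat_lit 223895,nat_lit 223898,nat_lit 223904,nat_lit 223927,nat_lit 223946,nat_lit 224026,nat_lit 224032,nat_lit 224043,nat_lit 224048,nat_lit 224060,nat_lit 224064,nat_lit 224076,nat_lit 224092,nat_lit 224097,nat_lit 224122,nat_lit 224128,nat_lit 224147,nat_lit 224162,nat_lit 224166,nat_lit 224171,nat_lit 224183,nat_lit 224202,nat_lit 224219,nat_lit 224231,nat_lit 224248,nat_lit 224251,nat_lit 224272,nat_lit 224289,nat_lit 224299,nat_lit 224331,nat_lit 224353,nat_lit 224417,nat_lit 224428,nat_lit 224435,nat_lit 224442,nat_lit 224451,nat_lit 224486,nat_lit 224492,nat_lit 224519,nat_lit 224568,nat_lit 224611,nat_lit 224614,nat_lit 224646,nat_lit 224684,nat_lit 224714,nat_lit 224738,nat_lit 224748,nat_lit 224764,nat_lit 224768,nat_lit 224828,nat_lit 224843,nat_lit 224891,nat_lit 224940,nat_lit 224992,nat_lit 225004,nat_lit 225020,nat_lit 225027,nat_lit 225034,nat_lit 225095,nat_lit 225106,nat_lit 225110,nat_lit 225143,nat_lit 225163,nat_lit 225178,nat_lit 225184,nat_lit 225201,nat_lit 225222,nat_lit 225243,nat_lit 225257,nat_lit 225258,nat_lit 225264,nat_lit 225288,nat_lit 225306,nat_lit 225313,nat_lit 225324,nat_lit 225328,nat_lit 225346,nat_lit 225350,nat_lit 225356,nat_lit 225376,nat_lit 225408,nat_lit 225419,nat_lit 225434,nat_lit 225450,nat_lit 225459,nat_lit 225462,nat_lit 225483,nat_lit 225508,nat_lit 225530,nat_lit 225552,nat_lit 225573,nat_lit 225600,nat_lit 225622,nat_lit 225649,nat_lit 225671,nat_lit 225691,nat_lit 225707,nat_lit 225746,nat_lit 225782,nat_lit 225788,nat_lit 225804,nat_lit 225820,nat_lit 225884,nat_lit 225892,nat_lit 225915,nat_lit 225953,nat_lit 225986,nat_lit 226003,nat_lit 226006,nat_lit 226044,nat_lit 226070,nat_lit 226108,nat_lit 226140,nat_lit 226156,nat_lit 226187,nat_lit 226204,nat_lit 226236,nat_lit 226264,nat_lit 226449,nat_lit 226454,nat_lit 226470,nat_lit 226476,nat_lit 226497,nat_lit 226583,nat_lit 226609,nat_lit 226614,nat_lit 226620,nat_lit 226636,nat_lit 226668,nat_lit 226715,nat_lit 226730,nat_lit 226752,nat_lit 226795,nat_lit 226834,nat_lit 226843,nat_lit 226858,nat_lit 226865,nat_lit 226897,nat_lit 226971,nat_lit 226987,nat_lit 227002,nat_lit 227018,nat_lit 227024,nat_lit 227046,nat_lit 227062,nat_lit 227072,nat_lit 227098,nat_lit 227114,nat_lit 227120,nat_lit 227137,nat_lit 227148,nat_lit 227174,nat_lit 227180,nat_lit 227184,nat_lit 227228,nat_lit 227236,nat_lit 227238,nat_lit 227251,nat_lit 227248,nat_lit 227280,nat_lit 227314,nat_lit 227318,nat_lit 227334,nat_lit 227344,nat_lit 227351,nat_lit 227368,nat_lit 227386,nat_lit 227402,nat_lit 227408,nat_lit 227424,nat_lit 227446,nat_lit 227456,nat_lit 227473,nat_lit 227494,nat_lit 227498,nat_lit 227504,nat_lit 227521,nat_lit 227554,nat_lit 227558,nat_lit 227575,nat_lit 227590,nat_lit 227607,nat_lit 227616,nat_lit 227633,nat_lit 227638,nat_lit 227654,nat_lit 227675,nat_lit 227686,nat_lit 227728,nat_lit 227739,nat_lit 227754,nat_lit 227768,nat_lit 227782,nat_lit 227809,nat_lit 227826,nat_lit 227856,nat_lit 227872,nat_lit 227895,nat_lit 227898,nat_lit 227904,nat_lit 227942,nat_lit 227959,nat_lit 227962,nat_lit 228000,nat_lit 228026,nat_lit 228032,nat_lit 228044,nat_lit 228092,nat_lit 228140,nat_lit 228162,nat_lit 228172,nat_lit 228177,nat_lit 228214,nat_lit 228220,nat_lit 228231,nat_lit 228236,nat_lit 228242,nat_lit 228246,nat_lit 228296,nat_lit 228312,nat_lit 228342,nat_lit 228410,nat_lit 228416,nat_lit 228433,nat_lit 228449,nat_lit 228481,nat_lit 228498,nat_lit 228502,nat_lit 228514,nat_lit 228528,nat_lit 228550,nat_lit 228578,nat_lit 228588,nat_lit 228643,nat_lit 228646,nat_lit 228652,nat_lit 228668,nat_lit 228674,nat_lit 228678,nat_lit 228780,nat_lit 228839,nat_lit 228842,nat_lit 228856,nat_lit 228871,nat_lit 228890,nat_lit 228896,nat_lit 228922,nat_lit 228953,nat_lit 228954,nat_lit 228956,nat_lit 228960,nat_lit 228972,nat_lit 228983,nat_lit 229014,nat_lit 229072,nat_lit 229084,nat_lit 229100,nat_lit 229146,nat_lit 229153,nat_lit 229164,nat_lit 229184,nat_lit 229222,nat_lit 229239,nat_lit 229256,nat_lit 229265,nat_lit 229290,nat_lit 229296,nat_lit 229312,nat_lit 229328,nat_lit 229339,nat_lit 229345,nat_lit 229361,nat_lit 229378,nat_lit 229398,nat_lit 229401,nat_lit 229402,nat_lit 229418,nat_lit 229440,nat_lit 229462,nat_lit 229488,nat_lit 229506,nat_lit 229522,nat_lit 229532,nat_lit 229574,nat_lit 229580,nat_lit 229584,nat_lit 229591,nat_lit 229596,nat_lit 229608,nat_lit 229659,nat_lit 229691,nat_lit 229702,nat_lit 229712,nat_lit 229735,nat_lit 229740,nat_lit 229748,nat_lit 229751,nat_lit 229766,nat_lit 229796,nat_lit 229824,nat_lit 229873,nat_lit 229890,nat_lit 229899,nat_lit 229914,nat_lit 229938,nat_lit 229955,nat_lit 229987,nat_lit 229990,nat_lit 230000,nat_lit 230007,nat_lit 230022,nat_lit 230032,nat_lit 230039,nat_lit 230044,nat_lit 230060,nat_lit 230072,nat_lit 230136,nat_lit 230184,nat_lit 230209,nat_lit 230226,nat_lit 230240,nat_lit 230257,nat_lit 230262,nat_lit 230306,nat_lit 230378,nat_lit 230439,nat_lit 230443,nat_lit 230458,nat_lit 230475,nat_lit 230490,nat_lit 230512,nat_lit 230534,nat_lit 230544,nat_lit 230566,nat_lit 230593,nat_lit 230625,nat_lit 230630,nat_lit 230684,nat_lit 230700,nat_lit 230764,nat_lit 230800,nat_lit 230823,nat_lit 230857,nat_lit 230887,nat_lit 230904,nat_lit 230921,nat_lit 230960,nat_lit 230977,nat_lit 230999,nat_lit 231024,nat_lit 231047,nat_lit 231050,nat_lit 231057,nat_lit 231074,nat_lit 231078,nat_lit 231106,nat_lit 231110,nat_lit 231159,nat_lit 231187,nat_lit 231190,nat_lit 231207,nat_lit 231250,nat_lit 231254,nat_lit 231291,nat_lit 231299,nat_lit 231322,nat_lit 231338,nat_lit 231366,nat_lit 231387,nat_lit 231402,nat_lit 231451,nat_lit 231482,nat_lit 231504,nat_lit 231520,nat_lit 231531,nat_lit 231546,nat_lit 231600,nat_lit 231617,nat_lit 231627,nat_lit 231638,nat_lit 231664,nat_lit 231738,nat_lit 231770,nat_lit 231776,nat_lit 231793,nat_lit 231798,nat_lit 231815,nat_lit 231830,nat_lit 231872,nat_lit 231921,nat_lit 231926,nat_lit 231938,nat_lit 231942,nat_lit 231970,nat_lit 231974,nat_lit 231991,nat_lit 232008,nat_lit 232040,nat_lit 232058,nat_lit 232064,nat_lit 232080,nat_lit 232097,nat_lit 232102,nat_lit 232112,nat_lit 232135,nat_lit 232150,nat_lit 232168,nat_lit 232183,nat_lit 232193,nat_lit 232198,nat_lit 232214,nat_lit 232231,nat_lit 232246,nat_lit 232274,nat_lit 232278,nat_lit 232295,nat_lit 232310,nat_lit 232315,nat_lit 232320,nat_lit 232327,nat_lit 232331,nat_lit 232342,nat_lit 232376,nat_lit 232411,nat_lit 232458,nat_lit 232464,nat_lit 232481,nat_lit 232523,nat_lit 232538,nat_lit 232560,nat_lit 232577,nat_lit 232602,nat_lit 232624,nat_lit 232672,nat_lit 232774,nat_lit 232794,nat_lit 232827,nat_lit 232854,nat_lit 232870,nat_lit 232938,nat_lit 232944,nat_lit 232986,nat_lit 232992,nat_lit 233008,nat_lit 233025,nat_lit 233035,nat_lit 233057,nat_lit 233067,nat_lit 233072,nat_lit 233094,nat_lit 233104,nat_lit 233126,nat_lit 233138,nat_lit 233142,nat_lit 233152,nat_lit 233169,nat_lit 233206,nat_lit 233211,nat_lit 233216,nat_lit 233223,nat_lit 233242,nat_lit 233256,nat_lit 233290,nat_lit 233323,nat_lit 233338,nat_lit 233345,nat_lit 233366,nat_lit 233371,nat_lit 233386,nat_lit 233410,nat_lit 233426,nat_lit 233444,nat_lit 233466,nat_lit 233488,nat_lit 233522,nat_lit 233526,nat_lit 233544,nat_lit 233574,nat_lit 233651,nat_lit 233668,nat_lit 233666,nat_lit 233684,nat_lit 233716,nat_lit 233763,nat_lit 233777,nat_lit 233796,nat_lit 233792,nat_lit 233812,nat_lit 233809,nat_lit 233834,nat_lit 233875,nat_lit 233878,nat_lit 233888,nat_lit 233915,nat_lit 233936,nat_lit 233953,nat_lit 233974,nat_lit 233984,nat_lit 233995,nat_lit 234010,nat_lit 234024,nat_lit 234026,nat_lit 234032,nat_lit 234049,nat_lit 234054,nat_lit 234074,nat_lit 234080,nat_lit 234098,nat_lit 234150,nat_lit 234160,nat_lit 234203,nat_lit 234215,nat_lit 234234,nat_lit 234240,nat_lit 234256,nat_lit 234276,nat_lit 234278,nat_lit 234299,nat_lit 234325,nat_lit 234336,nat_lit 234358,nat_lit 234390,nat_lit 234418,nat_lit 234443,nat_lit 234496,nat_lit 234528,nat_lit 234548,nat_lit 234564,nat_lit 234610,nat_lit 234627,nat_lit 234646,nat_lit 234695,nat_lit 234707,nat_lit 234727,nat_lit 234747,nat_lit 234818,nat_lit 234822,nat_lit 234828,nat_lit 234848,nat_lit 234855,nat_lit 234860,nat_lit 234870,nat_lit 234906,nat_lit 234914,nat_lit 234918,nat_lit 234935,nat_lit 234967,nat_lit 234984,nat_lit 235002,nat_lit 235008,nat_lit 235025,nat_lit 235059,nat_lit 235067,nat_lit 235082,nat_lit 235146,nat_lit 235162,nat_lit 235168,nat_lit 235184,nat_lit 235206,nat_lit 235232,nat_lit 235264,nat_lit 235280,nat_lit 235302,nat_lit 235314,nat_lit 235318,nat_lit 235323,nat_lit 235332,nat_lit 235329,nat_lit 235339,nat_lit 235356,nat_lit 235364,nat_lit 235366,nat_lit 235396,nat_lit 235411,nat_lit 235414,nat_lit 235440,nat_lit 235494,nat_lit 235504,nat_lit 235527,nat_lit 235531,nat_lit 235543,nat_lit 235560,nat_lit 235579,nat_lit 235584,nat_lit 235600,nat_lit 235617,nat_lit 235638,nat_lit 235706,nat_lit 235712,nat_lit 235729,nat_lit 235766,nat_lit 235776,nat_lit 235783,nat_lit 235800,nat_lit 235808,nat_lit 235815,nat_lit 235832,nat_lit 235841,nat_lit 235858,nat_lit 235862,nat_lit 235888,nat_lit 235899,nat_lit 235914,nat_lit 235920,nat_lit 235947,nat_lit 235962,nat_lit 235968,nat_lit 236000,nat_lit 236059,nat_lit 236086,nat_lit 236090,nat_lit 236096,nat_lit 236138,nat_lit 236154,nat_lit 236160,nat_lit 236192,nat_lit 236204,nat_lit 236209,nat_lit 236214,nat_lit 236220,nat_lit 236224,nat_lit 236246,nat_lit 236278,nat_lit 236284,nat_lit 236290,nat_lit 236327,nat_lit 236332,nat_lit 236342,nat_lit 236448,nat_lit 236464,nat_lit 236498,nat_lit 236530,nat_lit 236547,nat_lit 236598,nat_lit 236615,nat_lit 236627,nat_lit 236642,nat_lit 236662,nat_lit 236668,nat_lit 236684,nat_lit 236691,nat_lit 236694,nat_lit 236755,nat_lit 236778,nat_lit 236807,nat_lit 236832,nat_lit 236864,nat_lit 236875,nat_lit 236890,nat_lit 236896,nat_lit 236922,nat_lit 236929,nat_lit 236934,nat_lit 236944,nat_lit 236993,nat_lit 237008,nat_lit 237040,nat_lit 237058,nat_lit 237089,nat_lit 237094,nat_lit 237104,nat_lit 237111,nat_lit 237128,nat_lit 237168,nat_lit 237185,nat_lit 237201,nat_lit 237217,nat_lit 237250,nat_lit 237266,nat_lit 237306,nat_lit 237328,nat_lit 237344,nat_lit 237366,nat_lit 237383,nat_lit 237403,nat_lit 237411,nat_lit 237430,nat_lit 237442,nat_lit 237456,nat_lit 237478,nat_lit 237495,nat_lit 237499,nat_lit 237515,nat_lit 237520,nat_lit 237562,nat_lit 237578,nat_lit 237584,nat_lit 237601,nat_lit 237628,nat_lit 237636,nat_lit 237639,nat_lit 237648,nat_lit 237655,nat_lit 237713,nat_lit 237730,nat_lit 237747,nat_lit 237750,nat_lit 237755,nat_lit 237770,nat_lit 237795,nat_lit 237830,nat_lit 237840,nat_lit 237863,nat_lit 237880,nat_lit 237895,nat_lit 237905,nat_lit 237911,nat_lit 237928,nat_lit 237936,nat_lit 237993,nat_lit 238018,nat_lit 238054,nat_lit 238112,nat_lit 238139,nat_lit 238154,nat_lit 238186,nat_lit 238192,nat_lit 238214,nat_lit 238231,nat_lit 238246,nat_lit 238263,nat_lit 238282,nat_lit 238331,nat_lit 238375,nat_lit 238392,nat_lit 238424,nat_lit 238441,nat_lit 238465,nat_lit 238486,nat_lit 238504,nat_lit 238538,nat_lit 238544,nat_lit 238562,nat_lit 238582,nat_lit 238611,nat_lit 238614,nat_lit 238662,nat_lit 238679,nat_lit 238707,nat_lit 238710,nat_lit 238746,nat_lit 238758,nat_lit 238800,nat_lit 238811,nat_lit 238826,nat_lit 238864,nat_lit 238907,nat_lit 238922,nat_lit 238945,nat_lit 238966,nat_lit 238971,nat_lit 238992,nat_lit 239015,nat_lit 239024,nat_lit 239040,nat_lit 239062,nat_lit 239074,nat_lit 239078,nat_lit 239095,nat_lit 239112,nat_lit 239120,nat_lit 239132,nat_lit 239137,nat_lit 239142,nat_lit 239158,nat_lit 239175,nat_lit 239190,nat_lit 239207,nat_lit 239222,nat_lit 239239,nat_lit 239256,nat_lit 239287,nat_lit 239290,nat_lit 239296,nat_lit 239318,nat_lit 239334,nat_lit 239346,nat_lit 239350,nat_lit 239356,nat_lit 239367,nat_lit 239372,nat_lit 239404,nat_lit 239436,nat_lit 239462,nat_lit 239479,nat_lit 239495,nat_lit 239512,nat_lit 239547,nat_lit 239559,nat_lit 239576,nat_lit 239591,nat_lit 239595,nat_lit 239627,nat_lit 239640,nat_lit 239643,nat_lit 239712,nat_lit 239729,nat_lit 239770,nat_lit 239776,nat_lit 239793,nat_lit 239936,nat_lit 239952,nat_lit 239984,nat_lit 240006,nat_lit 240017,nat_lit 240043,nat_lit 240058,nat_lit 240075,nat_lit 240076,nat_lit 240092,nat_lit 240166,nat_lit 240176,nat_lit 240193,nat_lit 240214,nat_lit 240231,nat_lit 240235,nat_lit 240250,nat_lit 240263,nat_lit 240280,nat_lit 240315,nat_lit 240320,nat_lit 240346,nat_lit 240352,nat_lit 240374,nat_lit 240395,nat_lit 240410,nat_lit 240454,nat_lit 240460,nat_lit 240467,nat_lit 240588,nat_lit 240594,nat_lit 240660,nat_lit 240684,nat_lit 240691,nat_lit 240688,nat_lit 240723,nat_lit 240721,nat_lit 240774,nat_lit 240784,nat_lit 240833,nat_lit 240850,nat_lit 240864,nat_lit 240891,nat_lit 240906,nat_lit 240938,nat_lit 240944,nat_lit 240961,nat_lit 240978,nat_lit 240982,nat_lit 240999,nat_lit 241008,nat_lit 241025,nat_lit 241046,nat_lit 241052,nat_lit 241056,nat_lit 241068,nat_lit 241079,nat_lit 241083,nat_lit 241098,nat_lit 241116,nat_lit 241120,nat_lit 241142,nat_lit 241153,nat_lit 241173,nat_lit 241174,nat_lit 241195,nat_lit 241238,nat_lit 241255,nat_lit 241271,nat_lit 241283,nat_lit 241324,nat_lit 241379,nat_lit 241398,nat_lit 241494,nat_lit 241504,nat_lit 241522,nat_lit 241543,nat_lit 241548,nat_lit 241564,nat_lit 241575,nat_lit 241600,nat_lit 241622,nat_lit 241628,nat_lit 241644,nat_lit 241660,nat_lit 241696,nat_lit 241713,nat_lit 241748,nat_lit 241750,nat_lit 241755,nat_lit 241770,nat_lit 241776,nat_lit 241792,nat_lit 241808,nat_lit 241830,nat_lit 241841,nat_lit 241863,nat_lit 241894,nat_lit 241910,nat_lit 241915,nat_lit 241931,nat_lit 241942,nat_lit 241964,nat_lit 241980,nat_lit 241987,nat_lit 241985,nat_lit 242036,nat_lit 242054,nat_lit 242144,nat_lit 242156,nat_lit 242167,nat_lit 242187,nat_lit 242202,nat_lit 242216,nat_lit 242235,nat_lit 242250,nat_lit 242262,nat_lit 242273,nat_lit 242320,nat_lit 242337,nat_lit 242342,nat_lit 242368,nat_lit 242391,nat_lit 242408,nat_lit 242433,nat_lit 242439,nat_lit 242456,nat_lit 242486,nat_lit 242502,nat_lit 242512,nat_lit 242539,nat_lit 242554,nat_lit 242560,nat_lit 242586,nat_lit 242602,nat_lit 242608,nat_lit 242625,nat_lit 242651,nat_lit 242666,nat_lit 242682,nat_lit 242688,nat_lit 242720,nat_lit 242736,nat_lit 242753,nat_lit 242769,nat_lit 242774,nat_lit 242802,nat_lit 242812,nat_lit 242828,nat_lit 242880,nat_lit 242887,nat_lit 242892,nat_lit 242902,nat_lit 242977,nat_lit 243046,nat_lit 243063,nat_lit 243100,nat_lit 243132,nat_lit 243142,nat_lit 243216,nat_lit 243242,nat_lit 243249,nat_lit 243275,nat_lit 243296,nat_lit 243313,nat_lit 243324,nat_lit 243346,nat_lit 243350,nat_lit 243356,nat_lit 243394,nat_lit 243404,nat_lit 243430,nat_lit 243452,nat_lit 243462,nat_lit 243495,nat_lit 243512,nat_lit 243531,nat_lit 243537,nat_lit 243554,nat_lit 243570,nat_lit 243586,nat_lit 243632,nat_lit 243654,nat_lit 243670,nat_lit 243687,nat_lit 243744,nat_lit 243756,nat_lit 243777,nat_lit 243788,nat_lit 243819,nat_lit 243820,nat_lit 243834,nat_lit 243850,nat_lit 243872,nat_lit 243888,nat_lit 243905,nat_lit 243927,nat_lit 243930,nat_lit 243940,nat_lit 243959,nat_lit 244026,nat_lit 244035,nat_lit 244059,nat_lit 244075,nat_lit 244090,nat_lit 244118,nat_lit 244128,nat_lit 244135,nat_lit 244151,nat_lit 244168,nat_lit 244200,nat_lit 244220,nat_lit 244232,nat_lit 244249,nat_lit 244326,nat_lit 244346,nat_lit 244352,nat_lit 244368,nat_lit 244407,nat_lit 244439,nat_lit 244504,nat_lit 244521,nat_lit 244537,nat_lit 244562,nat_lit 244576,nat_lit 244583,nat_lit 244601,nat_lit 244608,nat_lit 244625,nat_lit 244646,nat_lit 244678,nat_lit 244711,nat_lit 244742,nat_lit 244811,nat_lit 244826,nat_lit 244902,nat_lit 244907,nat_lit 244912,nat_lit 244938,nat_lit 244998,nat_lit 245015,nat_lit 245030,nat_lit 245040,nat_lit 245064,nat_lit 245095,nat_lit 245104,nat_lit 245111,nat_lit 245126,nat_lit 245143,nat_lit 245159,nat_lit 245176,nat_lit 245191,nat_lit 245216,nat_lit 245223,nat_lit 245240,nat_lit 245274,nat_lit 245280,nat_lit 245302,nat_lit 245319,nat_lit 245335,nat_lit 245350,nat_lit 245367,nat_lit 245378,nat_lit 245382,nat_lit 245400,nat_lit 245415,nat_lit 245432,nat_lit 245449,nat_lit 245463,nat_lit 245480,nat_lit 245496,nat_lit 245513,nat_lit 245515,nat_lit 245544,nat_lit 245579,nat_lit 245627,nat_lit 245649,nat_lit 245697,nat_lit 245750,nat_lit 245761,nat_lit 245766,nat_lit 245803,nat_lit 245818,nat_lit 245862,nat_lit 245888,nat_lit 245911,nat_lit 245926,nat_lit 245936,nat_lit 245947,nat_lit 245963,nat_lit 245978,nat_lit 245984,nat_lit 246008,nat_lit 246027,nat_lit 246042,nat_lit 246054,nat_lit 246064,nat_lit 246081,nat_lit 246122,nat_lit 246128,nat_lit 246144,nat_lit 246177,nat_lit 246182,nat_lit 246196,nat_lit 246211,nat_lit 246244,nat_lit 246242,nat_lit 246251,nat_lit 246289,nat_lit 246320,nat_lit 246337,nat_lit 246358,nat_lit 246371,nat_lit 246395,nat_lit 246410,nat_lit 246416,nat_lit 246432,nat_lit 246449,nat_lit 246466,nat_lit 246483,nat_lit 246486,nat_lit 246503,nat_lit 246529,nat_lit 246560,nat_lit 246593,nat_lit 246599,nat_lit 246608,nat_lit 246635,nat_lit 246650,nat_lit 246656,nat_lit 246689,nat_lit 246694,nat_lit 246711,nat_lit 246763,nat_lit 246791,nat_lit 246838,nat_lit 246843,nat_lit 246849,nat_lit 246870,nat_lit 246880,nat_lit 246896,nat_lit 246908,nat_lit 246919,nat_lit 246954,nat_lit 246956,nat_lit 246967,nat_lit 247014,nat_lit 247031,nat_lit 247063,nat_lit 247080,nat_lit 247125,nat_lit 247126,nat_lit 247147,nat_lit 247162,nat_lit 247168,nat_lit 247190,nat_lit 247201,nat_lit 247217,nat_lit 247222,nat_lit 247239,nat_lit 247291,nat_lit 247307,nat_lit 247344,nat_lit 247364,nat_lit 247380,nat_lit 247393,nat_lit 247398,nat_lit 247457,nat_lit 247463,nat_lit 247472,nat_lit 247496,nat_lit 247514,nat_lit 247520,nat_lit 247546,nat_lit 247562,nat_lit 247568,nat_lit 247591,nat_lit 247617,nat_lit 247622,nat_lit 247638,nat_lit 247671,nat_lit 247688,nat_lit 247719,nat_lit 247736,nat_lit 247753,nat_lit 247776,nat_lit 247783,nat_lit 247818,nat_lit 247824,nat_lit 247841,nat_lit 247867,nat_lit 247872,nat_lit 247889,nat_lit 247906,nat_lit 247930,nat_lit 247936,nat_lit 247952,nat_lit 247974,nat_lit 247990,nat_lit 248001,nat_lit 248018,nat_lit 248034,nat_lit 248038,nat_lit 248044,nat_lit 248055,nat_lit 248070,nat_lit 248076,nat_lit 248082,nat_lit 248086,nat_lit 248119,nat_lit 248124,nat_lit 248144,nat_lit 248183,nat_lit 248273,nat_lit 248288,nat_lit 248306,nat_lit 248337,nat_lit 248354,nat_lit 248369,nat_lit 248390,nat_lit 248418,nat_lit 248496,nat_lit 248520,nat_lit 248539,nat_lit 248562,nat_lit 248630,nat_lit 248663,nat_lit 248689,nat_lit 248704,nat_lit 248727,nat_lit 248737,nat_lit 248743,nat_lit 248762,nat_lit 248784,nat_lit 248800,nat_lit 248822,nat_lit 248838,nat_lit 248858,nat_lit 248955,nat_lit 248970,nat_lit 248986,nat_lit 248992,nat_lit 249008,nat_lit 249025,nat_lit 249031,nat_lit 249064,nat_lit 249129,nat_lit 249159,nat_lit 249168,nat_lit 249257,nat_lit 249302,nat_lit 249319,nat_lit 249361,nat_lit 249378,nat_lit 249488,nat_lit 249499,nat_lit 249514,nat_lit 249530,nat_lit 249536,nat_lit 249559,nat_lit 249576,nat_lit 249584,nat_lit 249607,nat_lit 249642,nat_lit 249644,nat_lit 249687,nat_lit 249704,nat_lit 249767,nat_lit 249784,nat_lit 249808,nat_lit 249830,nat_lit 249847,nat_lit 249880,nat_lit 249895,nat_lit 249900,nat_lit 249916,nat_lit 249964,nat_lit 250024,nat_lit 250059,nat_lit 250198,nat_lit 250219,nat_lit 250234,nat_lit 250240,nat_lit 250273,nat_lit 250279,nat_lit 250284,nat_lit 250304,nat_lit 250331,nat_lit 250346,nat_lit 250362,nat_lit 250368,nat_lit 250390,nat_lit 250410,nat_lit 250411,nat_lit 250426,nat_lit 250432,nat_lit 250455,nat_lit 250470,nat_lit 250496,nat_lit 250518,nat_lit 250540,nat_lit 250546,nat_lit 250579,nat_lit 250611,nat_lit 250610,nat_lit 250619,nat_lit 250673,nat_lit 250698,nat_lit 250704,nat_lit 250731,nat_lit 250746,nat_lit 250752,nat_lit 250785,nat_lit 250790,nat_lit 250802,nat_lit 250819,nat_lit 250855,nat_lit 250897,nat_lit 250908,nat_lit 250919,nat_lit 250940,nat_lit 250970,nat_lit 250976,nat_lit 250998,nat_lit 251014,nat_lit 251031,nat_lit 251099,nat_lit 251114,nat_lit 251136,nat_lit 251153,nat_lit 251175,nat_lit 251180,nat_lit 251184,nat_lit 251191,nat_lit 251210,nat_lit 251212,nat_lit 251227,nat_lit 251228,nat_lit 251242,nat_lit 251275,nat_lit 251292,nat_lit 251334,nat_lit 251355,nat_lit 251370,nat_lit 251376,nat_lit 251398,nat_lit 251426,nat_lit 251446,nat_lit 251463,nat_lit 251521,nat_lit 251539,nat_lit 251555,nat_lit 251607,nat_lit 251612,nat_lit 251624,nat_lit 251658,nat_lit 251664,nat_lit 251681,nat_lit 251707,nat_lit 251712,nat_lit 251729,nat_lit 251762,nat_lit 251766,nat_lit 251792,nat_lit 251816,nat_lit 251848,nat_lit 251865,nat_lit 251920,nat_lit 251937,nat_lit 251985,nat_lit 252032,nat_lit 252054,nat_lit 252070,nat_lit 252114,nat_lit 252134,nat_lit 252150,nat_lit 252167,nat_lit 252215,nat_lit 252219,nat_lit 252220,nat_lit 252230,nat_lit 252278,nat_lit 252358,nat_lit 252386,nat_lit 252412,nat_lit 252475,nat_lit 252491,nat_lit 252567,nat_lit 252572,nat_lit 252600,nat_lit 252602,nat_lit 252603,nat_lit 252604,nat_lit 252640,nat_lit 252662,nat_lit 252678,nat_lit 252695,nat_lit 252711,nat_lit 252746,nat_lit 252752,nat_lit 252768,nat_lit 252790,nat_lit 252801,nat_lit 252818,nat_lit 252823,nat_lit 252888,nat_lit 252928,nat_lit 252935,nat_lit 252954,nat_lit 252962,nat_lit 252982,nat_lit 253002,nat_lit 253003,nat_lit 253018,nat_lit 253024,nat_lit 253062,nat_lit 253080,nat_lit 253111,nat_lit 253130,nat_lit 253147,nat_lit 253176,nat_lit 253238,nat_lit 253255,nat_lit 253304,nat_lit 253307,nat_lit 253319,nat_lit 253336,nat_lit 253392,nat_lit 253403,nat_lit 253424,nat_lit 253463,nat_lit 253515,nat_lit 253530,nat_lit 253536,nat_lit 253552,nat_lit 253569,nat_lit 253574,nat_lit 253591,nat_lit 253611,nat_lit 253626,nat_lit 253632,nat_lit 253649,nat_lit 253654,nat_lit 253702,nat_lit 253778,nat_lit 253787,nat_lit 253834,nat_lit 253840,nat_lit 253867,nat_lit 253882,nat_lit 253888,nat_lit 253910,nat_lit 253926,nat_lit 253947,nat_lit 253955,nat_lit 254007,nat_lit 254040,nat_lit 254042,nat_lit 254043,nat_lit 254064,nat_lit 254086,nat_lit 254103,nat_lit 254119,nat_lit 254154,nat_lit 254160,nat_lit 254177,nat_lit 254194,nat_lit 254214,nat_lit 254218,nat_lit 254220,nat_lit 254231,nat_lit 254283,nat_lit 254298,nat_lit 254316,nat_lit 254331,nat_lit 254376,nat_lit 254379,nat_lit 254395,nat_lit 254410,nat_lit 254416,nat_lit 254438,nat_lit 254487,nat_lit 254519,nat_lit 254530,nat_lit 254539,nat_lit 254546,nat_lit 254568,nat_lit 254583,nat_lit 254602,nat_lit 254619,nat_lit 254625,nat_lit 254646,nat_lit 254666,nat_lit 254673,nat_lit 254694,nat_lit 254710,nat_lit 254720,nat_lit 254777,nat_lit 254801,nat_lit 254806,nat_lit 254854,nat_lit 254871,nat_lit 254902,nat_lit 254919,nat_lit 254935,nat_lit 254940,nat_lit 254971,nat_lit 254972,nat_lit 254988,nat_lit 254999,nat_lit 255083,nat_lit 255098,nat_lit 255131,nat_lit 255143,nat_lit 255163,nat_lit 255179,nat_lit 255194,nat_lit 255208,nat_lit 255210,nat_lit 255211,nat_lit 255222,nat_lit 255239,nat_lit 255255,nat_lit 255272,nat_lit 255288,nat_lit 255296,nat_lit 255318,nat_lit 255329,nat_lit 255334,nat_lit 255362,nat_lit 255383,nat_lit 255431,nat_lit 255478,nat_lit 255495,nat_lit 255499,nat_lit 255515,nat_lit 255530,nat_lit 255536,nat_lit 255558,nat_lit 255606,nat_lit 255610,nat_lit 255612,nat_lit 255628,nat_lit 255671,nat_lit 255708,nat_lit 255724,nat_lit 255771,nat_lit 255786,nat_lit 255798,nat_lit 255816,nat_lit 255820,nat_lit 255834,nat_lit 255840,nat_lit 255862,nat_lit 255873,nat_lit 255894,nat_lit 255911,nat_lit 255946,nat_lit 255952,nat_lit 255969,nat_lit 255974,nat_lit 255990,nat_lit 256043,nat_lit 256064,nat_lit 256086,nat_lit 256106,nat_lit 256112,nat_lit 256134,nat_lit 256151,nat_lit 256171,nat_lit 256220,nat_lit 256236,nat_lit 256251,nat_lit 256252,nat_lit 256268,nat_lit 256278,nat_lit 256295,nat_lit 256312,nat_lit 256336,nat_lit 256370,nat_lit 256410,nat_lit 256412,nat_lit 256428,nat_lit 256438,nat_lit 256442,nat_lit 256476,nat_lit 256570,nat_lit 256576,nat_lit 256648,nat_lit 256667,nat_lit 256713,nat_lit 256714,nat_lit 256715,nat_lit 256716,nat_lit 256747,nat_lit 256762,nat_lit 256774,nat_lit 256791,nat_lit 256822,nat_lit 256848,nat_lit 256859,nat_lit 256902,nat_lit 256919,nat_lit 256935,nat_lit 256967,nat_lit 256987,nat_lit 257004,nat_lit 257015,nat_lit 257036,nat_lit 257051,nat_lit 257104,nat_lit 257132,nat_lit 257164,nat_lit 257178,nat_lit 257180,nat_lit 257196,nat_lit 257255,nat_lit 257272,nat_lit 257288,nat_lit 257334,nat_lit 257366,nat_lit 257399,nat_lit 257403,nat_lit 257430,nat_lit 257447,nat_lit 257467,nat_lit 257498,nat_lit 257504,nat_lit 257521,nat_lit 257526,nat_lit 257562,nat_lit 257611,nat_lit 257643,nat_lit 257674,nat_lit 257680,nat_lit 257703,nat_lit 257723,nat_lit 257744,nat_lit 257766,nat_lit 257798,nat_lit 257815,nat_lit 257840,nat_lit 257862,nat_lit 257878,nat_lit 257942,nat_lit 257963,nat_lit 257968,nat_lit 257990,nat_lit 258007,nat_lit 258059,nat_lit 258075,nat_lit 258090,nat_lit 258122,nat_lit 258135,nat_lit 258203,nat_lit 258220,nat_lit 258234,nat_lit 258251,nat_lit 258304,nat_lit 258345,nat_lit 258347,nat_lit 258395,nat_lit 258410,nat_lit 258412,nat_lit 258427,nat_lit 258442,nat_lit 258471,nat_lit 258523,nat_lit 258551,nat_lit 258730,nat_lit 258762,nat_lit 258875,nat_lit 258944,nat_lit 258966,nat_lit 258982,nat_lit 259020,nat_lit 259056,nat_lit 259114,nat_lit 259116,nat_lit 259126,nat_lit 259159,nat_lit 259190,nat_lit 259243,nat_lit 259356,nat_lit 259483,nat_lit 259514,nat_lit 259520,nat_lit 259532,nat_lit 259546,nat_lit 259686,nat_lit 259888,nat_lit 259900]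

/-- The deductions. -/
noncomputable def scz : List (List ℕ) := [[nat_lit 129,nat_lit 46,nat_lit 159,nat_lit 398],[nat_lit 130,nat_lit 40,nat_lit 105,nat_lit 281,nat_lit 1569,nat_lit 13567,nat_lit 14203],[nat_lit 3,nat_lit 1],[nat_lit 131,nat_lit 28,nat_lit 195,nat_lit 1228,nat_lit 1549,nat_lit 2412,nat_lit 2439,nat_lit 3043,nat_lit 3547,nat_lit 3693,nat_lit 4283,nat_lit 5882,nat_lit 9857,nat_lit 10925,nat_lit 11570,nat_lit 12791,nat_lit 13344,nat_lit 13563,nat_lit 14612],[nat_lit 4,nat_lit 3],[nat_lit 6,nat_lit 242,nat_lit 407,nat_lit 497,nat_lit 528,nat_lit 547,nat_lit 604,nat_lit 634,nat_lit 653,nat_lit 661,nat_lit 701,nat_lit 722,nat_lit 783,nat_lit 787,nat_lit 806,nat_lit 818,nat_lit 822,nat_lit 847,nat_lit 859,nat_lit 902,nat_lit 931,nat_lit 1009,nat_lit 1031,nat_lit 1047,nat_lit 1084,nat_lit 1159,nat_lit 1275,nat_lit 1564,nat_lit 1613,nat_lit 1806,nat_lit 1848,nat_lit 1902,nat_lit 1995,nat_lit 1999,nat_lit 2017,nat_lit 2173,nat_lit 2258,nat_lit 2276,nat_lit 2279,nat_lit 2374,nat_lit 2399,nat_lit 2454,nat_lit 2460,nat_lit 2483,nat_lit 2491,nat_lit 2496,nat_lit 2505,nat_lit 2509,nat_lit 2546,nat_lit 2666,nat_lit 2742,nat_lit 2769,nat_lit 2799,nat_lit 2804,nat_lit 2826,nat_lit 2832,nat_lit 2843,nat_lit 2850,nat_lit 2933,nat_lit 2940,nat_lit 2975,nat_lit 3010,nat_lit 3014,nat_lit 3025,nat_lit 3037,nat_lit 3065,nat_lit 3069,nat_lit 3145,nat_lit 3219,nat_lit 3241,nat_lit 3245,nat_lit 3258,nat_lit 3265,nat_lit 3278,nat_lit 3285,nat_lit 3340,nat_lit 3346,nat_lit 3350,nat_lit 3376,nat_lit 3384,nat_lit 3415,nat_lit 3421,nat_lit 3442,nat_lit 3455,nat_lit 3471,nat_lit 3476,nat_lit 3513,nat_lit 3520,nat_lit 3539,nat_lit 3566,nat_lit 3570,nat_lit 3578,nat_lit 3623,nat_lit 3671,nat_lit 3676,nat_lit 3687,nat_lit 3692,nat_lit 3701,nat_lit 3709,nat_lit 3732,nat_lit 3737,nat_lit 3907,nat_lit 3927,nat_lit 3957,nat_lit 3961,nat_lit 4026,nat_lit 4033,nat_lit 4039,nat_lit 4077,nat_lit 4082,nat_lit 4094,nat_lit 4117,nat_lit 4127,nat_lit 4137,nat_lit 4142,nat_lit 4241,nat_lit 4250,nat_lit 4305,nat_lit 4376,nat_lit 4422,nat_lit 4428,nat_lit 4444,nat_lit 4461,nat_lit 4464,nat_lit 4603,nat_lit 4608,nat_lit 4675,nat_lit 4729,nat_lit 4736,nat_lit 4751,nat_lit 4753,nat_lit 4771,nat_lit 4777,nat_lit 4784,nat_lit 4835,nat_lit 4848,nat_lit 4880,nat_lit 4889,nat_lit 4995,nat_lit 5032,nat_lit 5038,nat_lit 5043,nat_lit 5226,nat_lit 5244,nat_lit 5378,nat_lit 5396,nat_lit 5422,nat_lit 5485,nat_lit 5487,nat_lit 5490,nat_lit 5514,nat_lit 5523,nat_lit 5543,nat_lit 5548,nat_lit 5578,nat_lit 5600,nat_lit 5616,nat_lit 5659,nat_lit 5665,nat_lit 5720,nat_lit 5810,nat_lit 5824,nat_lit 5837,nat_lit 5861,nat_lit 5876,nat_lit 5909,nat_lit 6216,nat_lit 6262,nat_lit 6265,nat_lit 6268,nat_lit 6276,nat_lit 6301,nat_lit 6340,nat_lit 6345,nat_lit 6376,nat_lit 6383,nat_lit 6423,nat_lit 6444,nat_lit 6457,nat_lit 6522,nat_lit 6669,nat_lit 6684,nat_lit 6695,nat_lit 6704,nat_lit 6743,nat_lit 6930,nat_lit 7118,nat_lit 7128,nat_lit 7137,nat_lit 7150,nat_lit 7166,nat_lit 7246,nat_lit 7285,nat_lit 7337,nat_lit 7341,nat_lit 7343,nat_lit 7608,nat_lit 7631,nat_lit 7699,nat_lit 8085,nat_lit 8122,nat_lit 8132,nat_lit 8146,nat_lit 8149,nat_lit 8151,nat_lit 8163,nat_lit 8231,nat_lit 8272,nat_lit 8291,nat_lit 8335,nat_lit 9142,nat_lit 9185,nat_lit 9199,nat_lit 9212,nat_lit 9352,nat_lit 10277,nat_lit 13449,nat_lit 14427,nat_lit 14431,nat_lit 14844,nat_lit 14867,nat_lit 14870,nat_lit 15017,nat_lit 15150,nat_lit 15153,nat_lit 15219,nat_lit 15508,nat_lit 15565,nat_lit 15583,nat_lit 15611,nat_lit 15965],[nat_lit 7,nat_lit 340,nat_lit 707,nat_lit 852,nat_lit 910,nat_lit 1012,nat_lit 1050,nat_lit 1089,nat_lit 1163,nat_lit 1278,nat_lit 1304,nat_lit 1326,nat_lit 1374,nat_lit 1464,nat_lit 1618,nat_lit 1871,nat_lit 2032,nat_lit 2188,nat_lit 2306,nat_lit 2493,nat_lit 2598,nat_lit 2694,nat_lit 2834,nat_lit 2837,nat_lit 3046,nat_lit 3072,nat_lit 3095,nat_lit 3353,nat_lit 3386,nat_lit 3430,nat_lit 3451,nat_lit 3461,nat_lit 3481,nat_lit 3573,nat_lit 3585,nat_lit 3632,nat_lit 3696,nat_lit 3707,nat_lit 3739,nat_lit 3809,nat_lit 3969,nat_lit 4047,nat_lit 4091,nat_lit 4104,nat_lit 4155,nat_lit 4210,nat_lit 4281,nat_lit 4313,nat_lit 4319,nat_lit 4331,nat_lit 4385,nat_lit 4448,nat_lit 4454,nat_lit 4787,nat_lit 4797,nat_lit 4804,nat_lit 4844,nat_lit 4851,nat_lit 4868,nat_lit 5001,nat_lit 5086,nat_lit 5254,nat_lit 5315,nat_lit 5403,nat_lit 5529,nat_lit 5554,nat_lit 5584,nat_lit 5592,nat_lit 5667,nat_lit 5871,nat_lit 6100,nat_lit 6156,nat_lit 6239,nat_lit 6271,nat_lit 6327,nat_lit 6352,nat_lit 6364,nat_lit 6394,nat_lit 6427,nat_lit 6460,nat_lit 6524,nat_lit 6676,nat_lit 6740,nat_lit 6870,nat_lit 6996,nat_lit 7059,nat_lit 7134,nat_lit 7191,nat_lit 7194,nat_lit 7261,nat_lit 7288,nat_lit 7352,nat_lit 7380,nat_lit 7480,nat_lit 7623,nat_lit 7653,nat_lit 7680,nat_lit 7741,nat_lit 7847,nat_lit 7855,nat_lit 7923,nat_lit 7979,nat_lit 8043,nat_lit 8051,nat_lit 8128,nat_lit 8155,nat_lit 8172,nat_lit 8261,nat_lit 8275,nat_lit 8342,nat_lit 8582,nat_lit 8761,nat_lit 8766,nat_lit 8830,nat_lit 8878,nat_lit 8890,nat_lit 9013,nat_lit 9215,nat_lit 9221,nat_lit 9239,nat_lit 9294,nat_lit 9319,nat_lit 9327,nat_lit 9360,nat_lit 9395,nat_lit 9490,nat_lit 9546,nat_lit 9841,nat_lit 9871,nat_lit 9909,nat_lit 9969,nat_lit 10141,nat_lit 10256,nat_lit 10272,nat_lit 10296,nat_lit 10396,nat_lit 10440,nat_lit 10481,nat_lit 10691,nat_lit 11332,nat_lit 11406,nat_lit 11606,nat_lit 11609,nat_lit 12060,nat_lit 12321,nat_lit 12342,nat_lit 12545,nat_lit 12729,nat_lit 13129,nat_lit 13182,nat_lit 13286,nat_lit 14902,nat_lit 15261,nat_lit 15265,nat_lit 15376,nat_lit 15481,nat_lit 15484,nat_lit 15533],[nat_lit 8,nat_lit 2528,nat_lit 3468,nat_lit 3721,nat_lit 3748,nat_lit 3764,nat_lit 4106,nat_lit 4166,nat_lit 4184,nat_lit 4194,nat_lit 4212,nat_lit 4325,nat_lit 4398,nat_lit 4816,nat_lit 4863,nat_lit 4927,nat_lit 4970,nat_lit 5623,nat_lit 5679,nat_lit 6435,nat_lit 6533,nat_lit 7071,nat_lit 7403,nat_lit 7999,nat_lit 8062,nat_lit 8196,nat_lit 8914,nat_lit 8921,nat_lit 8991,nat_lit 9877,nat_lit 9955,nat_lit 10143,nat_lit 11213,nat_lit 11303,nat_lit 15284,nat_lit 15571,nat_lit 15742],[nat_lit 137,nat_lit 6871,nat_lit 6988,nat_lit 7432,nat_lit 7833,nat_lit 7875,nat_lit 8419,nat_lit 8446,nat_lit 8462,nat_lit 8540,nat_lit 8771,nat_lit 8879,nat_lit 8891,nat_lit 9110,nat_lit 9119,nat_lit 9169,nat_lit 9333,nat_lit 9478,nat_lit 9511,nat_lit 9547,nat_lit 9609,nat_lit 9774,nat_lit 9910,nat_lit 9983,nat_lit 10017,nat_lit 10397,nat_lit 10516,nat_lit 10609,nat_lit 10947,nat_lit 10985,nat_lit 11226,nat_lit 11407,nat_lit 11425,nat_lit 11431,nat_lit 12062,nat_lit 12953,nat_lit 13605],[nat_lit 10,nat_lit 72,nat_lit 97,nat_lit 127,nat_lit 135,nat_lit 175,nat_lit 194,nat_lit 237,nat_lit 303,nat_lit 331,nat_lit 346,nat_lit 379,nat_lit 408,nat_lit 421,nat_lit 456,nat_lit 462,nat_lit 483,nat_lit 498,nat_lit 509,nat_lit 529,nat_lit 548,nat_lit 556,nat_lit 567,nat_lit 609,nat_lit 625,nat_lit 635,nat_lit 640,nat_lit 662,nat_lit 668,nat_lit 702,nat_lit 708,nat_lit 723,nat_lit 730,nat_lit 748,nat_lit 788,nat_lit 807,nat_lit 823,nat_lit 828,nat_lit 848,nat_lit 853,nat_lit 860,nat_lit 866,nat_lit 903,nat_lit 911,nat_lit 921,nat_lit 932,nat_lit 937,nat_lit 1013,nat_lit 1020,nat_lit 1037,nat_lit 1048,nat_lit 1051,nat_lit 1058,nat_lit 1090,nat_lit 1098,nat_lit 1106,nat_lit 1164,nat_lit 1175,nat_lit 1197,nat_lit 1227,nat_lit 1279,nat_lit 1327,nat_lit 1332,nat_lit 1375,nat_lit 1384,nat_lit 1428,nat_lit 1465,nat_lit 1472,nat_lit 1544,nat_lit 1625,nat_lit 1655,nat_lit 1680,nat_lit 1740,nat_lit 1766,nat_lit 1789,nat_lit 1793,nat_lit 1856,nat_lit 1872,nat_lit 1884,nat_lit 1906,nat_lit 2083,nat_lit 2117,nat_lit 2189,nat_lit 2198,nat_lit 2213,nat_lit 2332,nat_lit 2345,nat_lit 2572,nat_lit 2617,nat_lit 2708,nat_lit 2720,nat_lit 3182,nat_lit 3321,nat_lit 4826,nat_lit 4878,nat_lit 5154,nat_lit 5309,nat_lit 5783,nat_lit 5976,nat_lit 6001,nat_lit 6150,nat_lit 6153,nat_lit 6490,nat_lit 6583,nat_lit 6734,nat_lit 6783,nat_lit 6861,nat_lit 6876,nat_lit 6963,nat_lit 6991,nat_lit 7003,nat_lit 7024,nat_lit 7062,nat_lit 7414,nat_lit 7421,nat_lit 7534,nat_lit 7543,nat_lit 7672,nat_lit 7789,nat_lit 7826,nat_lit 7842,nat_lit 7853,nat_lit 7959,nat_lit 7983,nat_lit 8004,nat_lit 8026,nat_lit 8406,nat_lit 8587,nat_lit 8594,nat_lit 8676,nat_lit 8706,nat_lit 8773,nat_lit 8792,nat_lit 8869,nat_lit 8897,nat_lit 8916,nat_lit 9062,nat_lit 9244,nat_lit 9529,nat_lit 9645,nat_lit 9756,nat_lit 9778,nat_lit 9784,nat_lit 9848,nat_lit 9898,nat_lit 9972,nat_lit 10008,nat_lit 10026,nat_lit 10083,nat_lit 10169,nat_lit 10329,nat_lit 10445,nat_lit 10506,nat_lit 10596,nat_lit 10901,nat_lit 11386,nat_lit 11530,nat_lit 11539,nat_lit 11786,nat_lit 11789,nat_lit 12149,nat_lit 12285,nat_lit 12302,nat_lit 12312,nat_lit 12739,nat_lit 13138,nat_lit 13145,nat_lit 13152,nat_lit 13303,nat_lit 13483,nat_lit 13530,nat_lit 13750,nat_lit 13974,nat_lit 13978,nat_lit 14019,nat_lit 14137,nat_lit 14565,nat_lit 14747,nat_lit 14932,nat_lit 14978,nat_lit 15056,nat_lit 15159,nat_lit 15205,nat_lit 15240,nat_lit 15301,nat_lit 15646,nat_lit 15651,nat_lit 15781,nat_lit 15813,nat_lit 15986,nat_lit 16158],[nat_lit 140,nat_lit 24,nat_lit 29,nat_lit 155,nat_lit 15045,nat_lit 15124],[nat_lit 13,nat_lit 1],[nat_lit 141,nat_lit 19,nat_lit 103,nat_lit 762,nat_lit 4408,nat_lit 4453,nat_lit 7361,nat_lit 7722,nat_lit 12971,nat_lit 14613,nat_lit 14708],[nat_lit 14,nat_lit 3],[nat_lit 15,nat_lit 118,nat_lit 141,nat_lit 186,nat_lit 198,nat_lit 255,nat_lit 263,nat_lit 277,nat_lit 333,nat_lit 348,nat_lit 354,nat_lit 363,nat_lit 447,nat_lit 466,nat_lit 474,nat_lit 618,nat_lit 761,nat_lit 770,nat_lit 888,nat_lit 956,nat_lit 972,nat_lit 986,nat_lit 997,nat_lit 1121,nat_lit 1133,nat_lit 1136,nat_lit 1141,nat_lit 1149,nat_lit 1179,nat_lit 1192,nat_lit 1221,nat_lit 1237,nat_lit 1239,nat_lit 1250,nat_lit 1254,nat_lit 1297,nat_lit 1301,nat_lit 1346,nat_lit 1355,nat_lit 1368,nat_lit 1388,nat_lit 1400,nat_lit 1403,nat_lit 1422,nat_lit 1434,nat_lit 1445,nat_lit 1499,nat_lit 1515,nat_lit 1538,nat_lit 1555,nat_lit 1558,nat_lit 1574,nat_lit 1596,nat_lit 1645,nat_lit 1704,nat_lit 1760,nat_lit 1775,nat_lit 1785,nat_lit 1799,nat_lit 1815,nat_lit 1829,nat_lit 1869,nat_lit 1897,nat_lit 1916,nat_lit 1941,nat_lit 1943,nat_lit 1952,nat_lit 1961,nat_lit 1984,nat_lit 1986,nat_lit 2089,nat_lit 2094,nat_lit 2125,nat_lit 2138,nat_lit 2147,nat_lit 2161,nat_lit 2222,nat_lit 2225,nat_lit 2235,nat_lit 2248,nat_lit 2266,nat_lit 2268,nat_lit 2322,nat_lit 2325,nat_lit 2340,nat_lit 2360,nat_lit 2365,nat_lit 2388,nat_lit 2391,nat_lit 2422,nat_lit 2443,nat_lit 2474,nat_lit 2553,nat_lit 2585,nat_lit 2641,nat_lit 2643,nat_lit 2655,nat_lit 2730,nat_lit 2753,nat_lit 2756,nat_lit 2789,nat_lit 2884,nat_lit 2921,nat_lit 2924,nat_lit 2959,nat_lit 2966,nat_lit 2999,nat_lit 3005,nat_lit 3017,nat_lit 3058,nat_lit 3130,nat_lit 3162,nat_lit 3164,nat_lit 3196,nat_lit 3210,nat_lit 3229,nat_lit 3249,nat_lit 3302,nat_lit 3329,nat_lit 3361,nat_lit 3504,nat_lit 3506,nat_lit 3529,nat_lit 3549,nat_lit 3557,nat_lit 3679,nat_lit 3786,nat_lit 3824,nat_lit 3855,nat_lit 3858,nat_lit 3872,nat_lit 3897,nat_lit 3977,nat_lit 3979,nat_lit 3998,nat_lit 4018,nat_lit 4063,nat_lit 4119,nat_lit 4131,nat_lit 4230,nat_lit 4287,nat_lit 4361,nat_lit 4530,nat_lit 4592,nat_lit 4616,nat_lit 4719,nat_lit 4743,nat_lit 4760,nat_lit 4763,nat_lit 4830,nat_lit 5059,nat_lit 5323,nat_lit 5797,nat_lit 6222,nat_lit 8974,nat_lit 10032,nat_lit 10102,nat_lit 10112,nat_lit 10773,nat_lit 10893,nat_lit 11120,nat_lit 11166,nat_lit 11261,nat_lit 11455,nat_lit 11582,nat_lit 11635,nat_lit 11702,nat_lit 11978,nat_lit 12086,nat_lit 12116,nat_lit 12314,nat_lit 12361,nat_lit 12383,nat_lit 12400,nat_lit 12506,nat_lit 12560,nat_lit 12822,nat_lit 12865,nat_lit 12868,nat_lit 12970,nat_lit 13001,nat_lit 13140,nat_lit 13171,nat_lit 13336,nat_lit 13388,nat_lit 13390,nat_lit 13404,nat_lit 13433,nat_lit 13550,nat_lit 13572,nat_lit 13592,nat_lit 13603,nat_lit 13662,nat_lit 13852,nat_lit 13939,nat_lit 13969,nat_lit 14011,nat_lit 14070,nat_lit 14077,nat_lit 14155,nat_lit 14229,nat_lit 14231,nat_lit 14237,nat_lit 14327,nat_lit 14445,nat_lit 14454,nat_lit 14478,nat_lit 14490,nat_lit 14499,nat_lit 14518,nat_lit 14555,nat_lit 14677,nat_lit 14742,nat_lit 14943,nat_lit 14967,nat_lit 15062,nat_lit 15210,nat_lit 15217,nat_lit 15321,nat_lit 15478,nat_lit 15503,nat_lit 15638,nat_lit 15689,nat_lit 15716,nat_lit 15736,nat_lit 15871,nat_lit 15994,nat_lit 16000,nat_lit 16057,nat_lit 16086,nat_lit 16118,nat_lit 16187],[nat_lit 16,nat_lit 170,nat_lit 370,nat_lit 392,nat_lit 478,nat_lit 491,nat_lit 599,nat_lit 621,nat_lit 630,nat_lit 727,nat_lit 804,nat_lit 863,nat_lit 907,nat_lit 1017,nat_lit 1055,nat_lit 1086,nat_lit 1242,nat_lit 1257,nat_lit 1269,nat_lit 1277,nat_lit 1323,nat_lit 1438,nat_lit 1448,nat_lit 1521,nat_lit 1579,nat_lit 1600,nat_lit 1651,nat_lit 1718,nat_lit 1731,nat_lit 1777,nat_lit 1900,nat_lit 1945,nat_lit 1967,nat_lit 1989,nat_lit 2011,nat_lit 2141,nat_lit 2228,nat_lit 2252,nat_lit 2271,nat_lit 2285,nat_lit 2370,nat_lit 2395,nat_lit 2426,nat_lit 2436,nat_lit 2447,nat_lit 2524,nat_lit 2630,nat_lit 2648,nat_lit 2660,nat_lit 2764,nat_lit 2819,nat_lit 2822,nat_lit 2865,nat_lit 2909,nat_lit 3032,nat_lit 3081,nat_lit 3084,nat_lit 3147,nat_lit 3252,nat_lit 3371,nat_lit 3460,nat_lit 3465,nat_lit 3637,nat_lit 3646,nat_lit 3682,nat_lit 3743,nat_lit 3751,nat_lit 3762,nat_lit 3808,nat_lit 3923,nat_lit 3943,nat_lit 4069,nat_lit 4101,nat_lit 4152,nat_lit 4163,nat_lit 4179,nat_lit 4266,nat_lit 4317,nat_lit 4338,nat_lit 4394,nat_lit 4405,nat_lit 4430,nat_lit 4434,nat_lit 4471,nat_lit 4492,nat_lit 4506,nat_lit 4667,nat_lit 4796,nat_lit 4811,nat_lit 4858,nat_lit 4866,nat_lit 4895,nat_lit 4901,nat_lit 4938,nat_lit 5018,nat_lit 5050,nat_lit 5062,nat_lit 5097,nat_lit 5104,nat_lit 5125,nat_lit 5178,nat_lit 5186,nat_lit 5193,nat_lit 5201,nat_lit 5234,nat_lit 5253,nat_lit 5273,nat_lit 5276,nat_lit 5415,nat_lit 5435,nat_lit 5519,nat_lit 5527,nat_lit 5556,nat_lit 5602,nat_lit 5629,nat_lit 5673,nat_lit 5683,nat_lit 5727,nat_lit 5745,nat_lit 5747,nat_lit 5765,nat_lit 5845,nat_lit 5884,nat_lit 5924,nat_lit 5935,nat_lit 5943,nat_lit 6025,nat_lit 6086,nat_lit 6093,nat_lit 6099,nat_lit 6186,nat_lit 6249,nat_lit 6254,nat_lit 6299,nat_lit 6312,nat_lit 6316,nat_lit 6326,nat_lit 6331,nat_lit 6350,nat_lit 6362,nat_lit 6399,nat_lit 6431,nat_lit 6446,nat_lit 6453,nat_lit 6459,nat_lit 6529,nat_lit 6538,nat_lit 6596,nat_lit 6657,nat_lit 6674,nat_lit 6697,nat_lit 6759,nat_lit 6801,nat_lit 6810,nat_lit 6821,nat_lit 6827,nat_lit 6937,nat_lit 7007,nat_lit 7012,nat_lit 7099,nat_lit 7142,nat_lit 7168,nat_lit 7201,nat_lit 7258,nat_lit 7299,nat_lit 7311,nat_lit 7360,nat_lit 7373,nat_lit 7379,nat_lit 7398,nat_lit 7479,nat_lit 7485,nat_lit 7494,nat_lit 7621,nat_lit 7639,nat_lit 7651,nat_lit 7778,nat_lit 7930,nat_lit 8127,nat_lit 8154,nat_lit 8171,nat_lit 8236,nat_lit 8375,nat_lit 8382,nat_lit 8624,nat_lit 8723,nat_lit 8809,nat_lit 8842,nat_lit 9026,nat_lit 9188,nat_lit 9201,nat_lit 9223,nat_lit 9238,nat_lit 9292,nat_lit 9358,nat_lit 9378,nat_lit 9728,nat_lit 10108,nat_lit 10280,nat_lit 10470,nat_lit 11125,nat_lit 11185,nat_lit 11773,nat_lit 12402,nat_lit 12529,nat_lit 12576,nat_lit 12637,nat_lit 13237,nat_lit 13636,nat_lit 13640,nat_lit 13763,nat_lit 14105,nat_lit 14210,nat_lit 14451,nat_lit 14578,nat_lit 14820,nat_lit 14953,nat_lit 14973,nat_lit 15342,nat_lit 15407,nat_lit 15483,nat_lit 15606,nat_lit 15683,nat_lit 15726,nat_lit 15762,nat_lit 15802,nat_lit 15842,nat_lit 15883,nat_lit 15906,nat_lit 16114,nat_lit 16160],[nat_lit 17,nat_lit 244,nat_lit 532,nat_lit 656,nat_lit 819,nat_lit 1032,nat_lit 1170,nat_lit 1379,nat_lit 1584,nat_lit 1605,nat_lit 1614,nat_lit 1622,nat_lit 1676,nat_lit 1825,nat_lit 1839,nat_lit 1996,nat_lit 2018,nat_lit 2074,nat_lit 2174,nat_lit 2484,nat_lit 2827,nat_lit 2976,nat_lit 3026,nat_lit 3038,nat_lit 3107,nat_lit 3381,nat_lit 3488,nat_lit 3540,nat_lit 3755,nat_lit 4193,nat_lit 4198,nat_lit 4440,nat_lit 4500,nat_lit 4508,nat_lit 4516,nat_lit 4556,nat_lit 4836,nat_lit 4873,nat_lit 4925,nat_lit 4933,nat_lit 4948,nat_lit 5033,nat_lit 5139,nat_lit 5204,nat_lit 5303,nat_lit 5621,nat_lit 5642,nat_lit 5696,nat_lit 5706,nat_lit 5735,nat_lit 5855,nat_lit 5893,nat_lit 5981,nat_lit 6040,nat_lit 6049,nat_lit 6058,nat_lit 6109,nat_lit 6369,nat_lit 6464,nat_lit 6637,nat_lit 6722,nat_lit 7268,nat_lit 7277,nat_lit 7402,nat_lit 7489,nat_lit 7500,nat_lit 7629,nat_lit 7772,nat_lit 7937,nat_lit 8249,nat_lit 8497,nat_lit 8505,nat_lit 8519,nat_lit 8641,nat_lit 8671,nat_lit 8999,nat_lit 10153,nat_lit 10371,nat_lit 10647,nat_lit 12187,nat_lit 12550,nat_lit 12955,nat_lit 13202,nat_lit 13240,nat_lit 13508,nat_lit 13955,nat_lit 14270,nat_lit 14304,nat_lit 14382,nat_lit 14723,nat_lit 15019,nat_lit 15220,nat_lit 15328,nat_lit 15347,nat_lit 15627,nat_lit 15741,nat_lit 15824,nat_lit 15912],[nat_lit 18,nat_lit 2033,nat_lit 2297,nat_lit 2514,nat_lit 3073,nat_lit 3633,nat_lit 4963,nat_lit 5711,nat_lit 5762,nat_lit 5784,nat_lit 6154,nat_lit 6485,nat_lit 6575,nat_lit 6780,nat_lit 6978,nat_lit 8416,nat_lit 8511,nat_lit 8806,nat_lit 9010,nat_lit 9595,nat_lit 9621,nat_lit 13077,nat_lit 15924],[nat_lit 19,nat_lit 171,nat_lit 245,nat_lit 416,nat_lit 541,nat_lit 2840,nat_lit 3390,nat_lit 3466,nat_lit 3744,nat_lit 3757,nat_lit 4102,nat_lit 4164,nat_lit 4180,nat_lit 4203,nat_lit 4209,nat_lit 4406,nat_lit 4412,nat_lit 4452,nat_lit 4488,nat_lit 4501,nat_lit 4668,nat_lit 4812,nat_lit 4859,nat_lit 4867,nat_lit 4896,nat_lit 4911,nat_lit 4922,nat_lit 4939,nat_lit 4944,nat_lit 5019,nat_lit 5110,nat_lit 5140,nat_lit 5187,nat_lit 5205,nat_lit 5215,nat_lit 5240,nat_lit 5292,nat_lit 5455,nat_lit 5480,nat_lit 5528,nat_lit 5557,nat_lit 5603,nat_lit 5684,nat_lit 5697,nat_lit 5728,nat_lit 5792,nat_lit 5831,nat_lit 5894,nat_lit 5936,nat_lit 5952,nat_lit 5961,nat_lit 6050,nat_lit 6063,nat_lit 6084,nat_lit 6090,nat_lit 6285,nat_lit 6313,nat_lit 6351,nat_lit 6363,nat_lit 6400,nat_lit 6506,nat_lit 6554,nat_lit 6649,nat_lit 6675,nat_lit 6691,nat_lit 6698,nat_lit 6723,nat_lit 6728,nat_lit 6760,nat_lit 6802,nat_lit 6885,nat_lit 6928,nat_lit 7008,nat_lit 7017,nat_lit 7039,nat_lit 7174,nat_lit 7178,nat_lit 7190,nat_lit 7219,nat_lit 7259,nat_lit 7281,nat_lit 7300,nat_lit 7350,nat_lit 7410,nat_lit 7617,nat_lit 7622,nat_lit 7659,nat_lit 7667,nat_lit 7708,nat_lit 7727,nat_lit 7802,nat_lit 7931,nat_lit 8175,nat_lit 8256,nat_lit 8278,nat_lit 8314,nat_lit 8629,nat_lit 8724,nat_lit 9202,nat_lit 9229,nat_lit 9359,nat_lit 9606,nat_lit 9622,nat_lit 9827,nat_lit 9895,nat_lit 10129,nat_lit 10299,nat_lit 10648,nat_lit 10694,nat_lit 11106,nat_lit 11646,nat_lit 13921,nat_lit 16046],[nat_lit 147,nat_lit 7860,nat_lit 8451,nat_lit 8896,nat_lit 8942,nat_lit 9519,nat_lit 9550,nat_lit 9563,nat_lit 9642,nat_lit 9890,nat_lit 10022,nat_lit 10265,nat_lit 10419,nat_lit 10573,nat_lit 10613,nat_lit 10651,nat_lit 10706,nat_lit 10850,nat_lit 10987,nat_lit 11107,nat_lit 11433,nat_lit 11555,nat_lit 11648,nat_lit 11974,nat_lit 12354,nat_lit 12373,nat_lit 12380,nat_lit 13714],[nat_lit 20,nat_lit 102,nat_lit 129,nat_lit 142,nat_lit 187,nat_lit 199,nat_lit 212,nat_lit 251,nat_lit 256,nat_lit 270,nat_lit 278,nat_lit 291,nat_lit 358,nat_lit 371,nat_lit 393,nat_lit 451,nat_lit 467,nat_lit 470,nat_lit 479,nat_lit 502,nat_lit 533,nat_lit 572,nat_lit 622,nat_lit 637,nat_lit 657,nat_lit 680,nat_lit 710,nat_lit 729,nat_lit 784,nat_lit 809,nat_lit 820,nat_lit 835,nat_lit 856,nat_lit 865,nat_lit 909,nat_lit 946,nat_lit 1019,nat_lit 1033,nat_lit 1052,nat_lit 1057,nat_lit 1088,nat_lit 1114,nat_lit 1172,nat_lit 1291,nat_lit 1306,nat_lit 1340,nat_lit 1381,nat_lit 1487,nat_lit 1752,nat_lit 2044,nat_lit 2106,nat_lit 2380,nat_lit 4110,nat_lit 5656,nat_lit 5708,nat_lit 5969,nat_lit 6145,nat_lit 6576,nat_lit 6653,nat_lit 6867,nat_lit 6922,nat_lit 6992,nat_lit 7445,nat_lit 7467,nat_lit 7661,nat_lit 7773,nat_lit 7864,nat_lit 7911,nat_lit 8009,nat_lit 8431,nat_lit 8439,nat_lit 8907,nat_lit 8909,nat_lit 8918,nat_lit 9403,nat_lit 9692,nat_lit 9828,nat_lit 9996,nat_lit 10056,nat_lit 10338,nat_lit 10702,nat_lit 10917,nat_lit 10967,nat_lit 11053,nat_lit 11126,nat_lit 11168,nat_lit 11192,nat_lit 11234,nat_lit 11365,nat_lit 11481,nat_lit 11618,nat_lit 11639,nat_lit 11763,nat_lit 11921,nat_lit 12121,nat_lit 12127,nat_lit 12417,nat_lit 12478,nat_lit 12484,nat_lit 12678,nat_lit 13158,nat_lit 13359,nat_lit 13865,nat_lit 13956,nat_lit 13960,nat_lit 14012,nat_lit 14090,nat_lit 14093,nat_lit 14178,nat_lit 14188,nat_lit 14234,nat_lit 14369,nat_lit 14534,nat_lit 14586,nat_lit 14625,nat_lit 14653,nat_lit 14744,nat_lit 14936,nat_lit 15003,nat_lit 15005,nat_lit 15140,nat_lit 15377,nat_lit 15534,nat_lit 16011,nat_lit 16152],[nat_lit 22,nat_lit 1],[nat_lit 150,nat_lit 8,nat_lit 11,nat_lit 3612,nat_lit 5988,nat_lit 14604,nat_lit 15390],[nat_lit 23,nat_lit 3],[nat_lit 24,nat_lit 85,nat_lit 112,nat_lit 209,nat_lit 268,nat_lit 287,nat_lit 336,nat_lit 356,nat_lit 367,nat_lit 390,nat_lit 450,nat_lit 476,nat_lit 489,nat_lit 598,nat_lit 629,nat_lit 1002,nat_lit 1256,nat_lit 1267,nat_lit 1437,nat_lit 1441,nat_lit 1447,nat_lit 1455,nat_lit 1561,nat_lit 1578,nat_lit 1581,nat_lit 1599,nat_lit 1650,nat_lit 1717,nat_lit 1730,nat_lit 1802,nat_lit 1818,nat_lit 1821,nat_lit 1832,nat_lit 1899,nat_lit 1919,nat_lit 1964,nat_lit 1966,nat_lit 1988,nat_lit 2006,nat_lit 2096,nat_lit 2127,nat_lit 2140,nat_lit 2150,nat_lit 2152,nat_lit 2209,nat_lit 2227,nat_lit 2238,nat_lit 2251,nat_lit 2254,nat_lit 2270,nat_lit 2284,nat_lit 2287,nat_lit 2327,nat_lit 2363,nat_lit 2368,nat_lit 2394,nat_lit 2424,nat_lit 2428,nat_lit 2435,nat_lit 2449,nat_lit 2477,nat_lit 2479,nat_lit 2579,nat_lit 2588,nat_lit 2593,nat_lit 2627,nat_lit 2645,nat_lit 2647,nat_lit 2662,nat_lit 2677,nat_lit 2679,nat_lit 2733,nat_lit 2737,nat_lit 2760,nat_lit 2763,nat_lit 2777,nat_lit 2785,nat_lit 2793,nat_lit 2818,nat_lit 2821,nat_lit 2886,nat_lit 2892,nat_lit 2907,nat_lit 2927,nat_lit 2935,nat_lit 2964,nat_lit 2968,nat_lit 2971,nat_lit 3001,nat_lit 3007,nat_lit 3019,nat_lit 3031,nat_lit 3034,nat_lit 3060,nat_lit 3135,nat_lit 3213,nat_lit 3226,nat_lit 3233,nat_lit 3251,nat_lit 3304,nat_lit 3318,nat_lit 3334,nat_lit 3336,nat_lit 3342,nat_lit 3367,nat_lit 3370,nat_lit 3508,nat_lit 3516,nat_lit 3534,nat_lit 3555,nat_lit 3559,nat_lit 3562,nat_lit 3607,nat_lit 3611,nat_lit 3618,nat_lit 3660,nat_lit 3667,nat_lit 3681,nat_lit 3729,nat_lit 3794,nat_lit 3826,nat_lit 3828,nat_lit 3864,nat_lit 3878,nat_lit 3899,nat_lit 3902,nat_lit 3922,nat_lit 3982,nat_lit 3988,nat_lit 4001,nat_lit 4016,nat_lit 4020,nat_lit 4022,nat_lit 4068,nat_lit 4121,nat_lit 4133,nat_lit 4232,nat_lit 4235,nat_lit 4265,nat_lit 4268,nat_lit 4291,nat_lit 4293,nat_lit 4300,nat_lit 4363,nat_lit 4436,nat_lit 4534,nat_lit 4595,nat_lit 4600,nat_lit 4618,nat_lit 4648,nat_lit 4721,nat_lit 4723,nat_lit 4745,nat_lit 4773,nat_lit 4828,nat_lit 4886,nat_lit 4987,nat_lit 5028,nat_lit 5061,nat_lit 5161,nat_lit 5329,nat_lit 5373,nat_lit 5387,nat_lit 5506,nat_lit 5534,nat_lit 5538,nat_lit 5566,nat_lit 5569,nat_lit 5812,nat_lit 5859,nat_lit 5863,nat_lit 5905,nat_lit 6168,nat_lit 6210,nat_lit 6224,nat_lit 6373,nat_lit 6656,nat_lit 7082,nat_lit 10107,nat_lit 11123,nat_lit 11184,nat_lit 11196,nat_lit 12157,nat_lit 12164,nat_lit 12184,nat_lit 12979,nat_lit 13004,nat_lit 13042,nat_lit 13157,nat_lit 13338,nat_lit 13735,nat_lit 13761,nat_lit 13864,nat_lit 13892,nat_lit 14039,nat_lit 14092,nat_lit 14126,nat_lit 14264,nat_lit 14349,nat_lit 14375,nat_lit 14450,nat_lit 14520,nat_lit 14522,nat_lit 14618,nat_lit 14635,nat_lit 14719,nat_lit 14736,nat_lit 14920,nat_lit 14950,nat_lit 14952,nat_lit 15011,nat_lit 15157,nat_lit 15315,nat_lit 15406,nat_lit 15525,nat_lit 15760,nat_lit 15920],[nat_lit 25,nat_lit 119,nat_lit 407,nat_lit 497,nat_lit 528,nat_lit 604,nat_lit 634,nat_lit 653,nat_lit 783,nat_lit 818,nat_lit 1604,nat_lit 1838,nat_lit 1848,nat_lit 2017,nat_lit 2073,nat_lit 2156,nat_lit 2173,nat_lit 2276,nat_lit 2457,nat_lit 2769,nat_lit 2799,nat_lit 2826,nat_lit 2843,nat_lit 3010,nat_lit 3014,nat_lit 3025,nat_lit 3065,nat_lit 3278,nat_lit 3340,nat_lit 3380,nat_lit 3446,nat_lit 3520,nat_lit 3687,nat_lit 3701,nat_lit 3704,nat_lit 4026,nat_lit 4077,nat_lit 4439,nat_lit 4679,nat_lit 4771,nat_lit 4835,nat_lit 4995,nat_lit 5038,nat_lit 5659,nat_lit 5987,nat_lit 6057,nat_lit 6479,nat_lit 6499,nat_lit 6636,nat_lit 6731,nat_lit 6848,nat_lit 6887,nat_lit 6941,nat_lit 6957,nat_lit 7014,nat_lit 7022,nat_lit 7108,nat_lit 7401,nat_lit 7497,nat_lit 7606,nat_lit 7627,nat_lit 7691,nat_lit 7783,nat_lit 7804,nat_lit 7828,nat_lit 8013,nat_lit 8359,nat_lit 8384,nat_lit 8410,nat_lit 8518,nat_lit 8634,nat_lit 8639,nat_lit 8669,nat_lit 8685,nat_lit 8746,nat_lit 8756,nat_lit 8786,nat_lit 8812,nat_lit 8844,nat_lit 8850,nat_lit 9149,nat_lit 9163,nat_lit 9306,nat_lit 9389,nat_lit 9420,nat_lit 9600,nat_lit 9719,nat_lit 9731,nat_lit 9925,nat_lit 9963,nat_lit 9975,nat_lit 10244,nat_lit 10248,nat_lit 10316,nat_lit 10374,nat_lit 10447,nat_lit 11039,nat_lit 11191,nat_lit 11504,nat_lit 12124,nat_lit 12186,nat_lit 13792,nat_lit 14379,nat_lit 14772,nat_lit 14918,nat_lit 14977,nat_lit 15325,nat_lit 15327,nat_lit 15679,nat_lit 15934,nat_lit 15962],[nat_lit 26,nat_lit 172,nat_lit 220,nat_lit 707,nat_lit 852,nat_lit 1012,nat_lit 1050,nat_lit 2022,nat_lit 2296,nat_lit 2306,nat_lit 2513,nat_lit 2570,nat_lit 2694,nat_lit 2834,nat_lit 3425,nat_lit 3451,nat_lit 3696,nat_lit 3739,nat_lit 4036,nat_lit 4097,nat_lit 4256,nat_lit 4448,nat_lit 4466,nat_lit 4844,nat_lit 5247,nat_lit 5584,nat_lit 5667,nat_lit 5826,nat_lit 6524,nat_lit 6905,nat_lit 6985,nat_lit 7456,nat_lit 7588,nat_lit 7694,nat_lit 7872,nat_lit 7964,nat_lit 8415,nat_lit 8523,nat_lit 8645,nat_lit 8825,nat_lit 9620,nat_lit 9735,nat_lit 9769,nat_lit 9905,nat_lit 9932,nat_lit 10698,nat_lit 13076,nat_lit 14873,nat_lit 15612],[nat_lit 27,nat_lit 296,nat_lit 2858,nat_lit 3097,nat_lit 4159,nat_lit 4801,nat_lit 5679,nat_lit 6435,nat_lit 8475,nat_lit 9512,nat_lit 13820],[nat_lit 28,nat_lit 120,nat_lit 173,nat_lit 248,nat_lit 297,nat_lit 402,nat_lit 5757,nat_lit 6899,nat_lit 7457,nat_lit 7511,nat_lit 7525,nat_lit 7589,nat_lit 7692,nat_lit 7956,nat_lit 7961,nat_lit 7965,nat_lit 8019,nat_lit 8216,nat_lit 8503,nat_lit 8646,nat_lit 8686,nat_lit 9081,nat_lit 9274,nat_lit 9626,nat_lit 9725,nat_lit 9732,nat_lit 9736,nat_lit 9906,nat_lit 10245,nat_lit 10448,nat_lit 10488,nat_lit 10794,nat_lit 10810,nat_lit 10845],[nat_lit 156,nat_lit 10078,nat_lit 10654,nat_lit 10665,nat_lit 10733,nat_lit 10961,nat_lit 11113,nat_lit 11312,nat_lit 11617,nat_lit 11652,nat_lit 11683,nat_lit 11725,nat_lit 12104,nat_lit 12382,nat_lit 12498,nat_lit 12585,nat_lit 13194,nat_lit 14336],[nat_lit 29,nat_lit 151,nat_lit 189,nat_lit 210,nat_lit 234,nat_lit 258,nat_lit 269,nat_lit 288,nat_lit 303,nat_lit 326,nat_lit 357,nat_lit 368,nat_lit 379,nat_lit 391,nat_lit 408,nat_lit 456,nat_lit 477,nat_lit 483,nat_lit 490,nat_lit 498,nat_lit 529,nat_lit 556,nat_lit 589,nat_lit 605,nat_lit 635,nat_lit 654,nat_lit 668,nat_lit 708,nat_lit 714,nat_lit 828,nat_lit 853,nat_lit 921,nat_lit 1013,nat_lit 1051,nat_lit 1098,nat_lit 1332,nat_lit 6519,nat_lit 7475,nat_lit 7917,nat_lit 8929,nat_lit 8981,nat_lit 10044,nat_lit 10058,nat_lit 10499,nat_lit 11083,nat_lit 11342,nat_lit 11374,nat_lit 11792,nat_lit 11901,nat_lit 11952,nat_lit 12053,nat_lit 12125,nat_lit 12166,nat_lit 12193,nat_lit 12447,nat_lit 12563,nat_lit 12672,nat_lit 12804,nat_lit 13016,nat_lit 13048,nat_lit 13393,nat_lit 13879,nat_lit 14021,nat_lit 14405,nat_lit 14462,nat_lit 14552,nat_lit 14577,nat_lit 14644,nat_lit 14692,nat_lit 14860,nat_lit 14978,nat_lit 15352,nat_lit 16003,nat_lit 16042],[nat_lit 30,nat_lit 3101],[nat_lit 158,nat_lit 1],[nat_lit 159,nat_lit 1],[nat_lit 32,nat_lit 375,nat_lit 404,nat_lit 494,nat_lit 524,nat_lit 601,nat_lit 650,nat_lit 780,nat_lit 1611,nat_lit 1733,nat_lit 1929,nat_lit 2014,nat_lit 2167,nat_lit 2232,nat_lit 2300,nat_lit 2372,nat_lit 2502,nat_lit 2681,nat_lit 2689,nat_lit 2740,nat_lit 2796,nat_lit 2802,nat_lit 2829,nat_lit 2930,nat_lit 2937,nat_lit 2973,nat_lit 2978,nat_lit 3012,nat_lit 3088,nat_lit 3157,nat_lit 3170,nat_lit 3239,nat_lit 3276,nat_lit 3280,nat_lit 3338,nat_lit 3344,nat_lit 3395,nat_lit 3511,nat_lit 3518,nat_lit 3537,nat_lit 3564,nat_lit 3575,nat_lit 3615,nat_lit 3621,nat_lit 3625,nat_lit 3791,nat_lit 3799,nat_lit 3866,nat_lit 3905,nat_lit 3925,nat_lit 3984,nat_lit 4024,nat_lit 4028,nat_lit 4075,nat_lit 4080,nat_lit 4085,nat_lit 4123,nat_lit 4248,nat_lit 4272,nat_lit 4297,nat_lit 4303,nat_lit 4307,nat_lit 4368,nat_lit 4378,nat_lit 4419,nat_lit 4539,nat_lit 4544,nat_lit 4572,nat_lit 4621,nat_lit 4624,nat_lit 4642,nat_lit 4733,nat_lit 4749,nat_lit 4769,nat_lit 4775,nat_lit 4779,nat_lit 4833,nat_lit 4990,nat_lit 4993,nat_lit 5030,nat_lit 5035,nat_lit 5065,nat_lit 5078,nat_lit 5331,nat_lit 5334,nat_lit 5417,nat_lit 5424,nat_lit 5445,nat_lit 5510,nat_lit 5540,nat_lit 5545,nat_lit 5571,nat_lit 5575,nat_lit 5586,nat_lit 6106,nat_lit 6174,nat_lit 6212,nat_lit 6337,nat_lit 12191,nat_lit 13010,nat_lit 13054,nat_lit 13746,nat_lit 13791,nat_lit 13816,nat_lit 13878,nat_lit 14041,nat_lit 14357,nat_lit 14377,nat_lit 14461,nat_lit 14599,nat_lit 14643,nat_lit 14666,nat_lit 14865,nat_lit 14917,nat_lit 15049,nat_lit 15297],[nat_lit 33,nat_lit 109,nat_lit 547,nat_lit 701,nat_lit 847,nat_lit 1009,nat_lit 2687,nat_lit 3836,nat_lit 4254,nat_lit 5428,nat_lit 5824,nat_lit 7886,nat_lit 8028,nat_lit 8711,nat_lit 8932,nat_lit 9504,nat_lit 9576,nat_lit 9789,nat_lit 9868,nat_lit 9930,nat_lit 10242,nat_lit 10487,nat_lit 10697,nat_lit 10970,nat_lit 10998,nat_lit 11041,nat_lit 11055,nat_lit 11483,nat_lit 12030,nat_lit 12255,nat_lit 13770,nat_lit 14404,nat_lit 14870,nat_lit 15295],[nat_lit 34,nat_lit 148,nat_lit 910,nat_lit 1089,nat_lit 1278,nat_lit 5020,nat_lit 6699,nat_lit 11007,nat_lit 11719,nat_lit 11960,nat_lit 14387,nat_lit 15265],[nat_lit 35,nat_lit 206],[nat_lit 36,nat_lit 207,nat_lit 285,nat_lit 767,nat_lit 1233,nat_lit 5971,nat_lit 8712,nat_lit 9096,nat_lit 9873,nat_lit 10070,nat_lit 10862,nat_lit 11042,nat_lit 11484,nat_lit 11524,nat_lit 12256,nat_lit 12795,nat_lit 12853,nat_lit 13325,nat_lit 14592,nat_lit 14615],[nat_lit 164,nat_lit 12561],[nat_lit 37,nat_lit 161,nat_lit 230,nat_lit 273,nat_lit 300,nat_lit 376,nat_lit 405,nat_lit 436,nat_lit 495,nat_lit 525,nat_lit 537,nat_lit 662,nat_lit 702,nat_lit 768,nat_lit 911,nat_lit 1090,nat_lit 1175,nat_lit 1279,nat_lit 1384,nat_lit 6005,nat_lit 10888,nat_lit 11171,nat_lit 11675,nat_lit 12726,nat_lit 14471,nat_lit 14886,nat_lit 14926,nat_lit 15075,nat_lit 15110,nat_lit 15255,nat_lit 15863],[nat_lit 38,nat_lit 3],[nat_lit 39,nat_lit 55,nat_lit 217,nat_lit 418,nat_lit 543,nat_lit 698,nat_lit 1261,nat_lit 2685,nat_lit 2860,nat_lit 3263,nat_lit 3283,nat_lit 3427,nat_lit 3580,nat_lit 3628,nat_lit 3674,nat_lit 3912,nat_lit 3955,nat_lit 4031,nat_lit 4041,nat_lit 4087,nat_lit 4226,nat_lit 4243,nat_lit 4277,nat_lit 4310,nat_lit 4374,nat_lit 4381,nat_lit 4387,nat_lit 4424,nat_lit 4541,nat_lit 4550,nat_lit 4610,nat_lit 4656,nat_lit 4782,nat_lit 4840,nat_lit 4891,nat_lit 5009,nat_lit 5041,nat_lit 5073,nat_lit 5081,nat_lit 5167,nat_lit 5180,nat_lit 5224,nat_lit 5251,nat_lit 5345,nat_lit 5350,nat_lit 5550,nat_lit 5580,nat_lit 5589,nat_lit 5594,nat_lit 5663,nat_lit 5805,nat_lit 5873,nat_lit 5902,nat_lit 5911,nat_lit 5915,nat_lit 5928,nat_lit 6177,nat_lit 6181,nat_lit 6236,nat_lit 6343,nat_lit 6385,nat_lit 6390,nat_lit 6437,nat_lit 6661,nat_lit 6757,nat_lit 6789,nat_lit 7090,nat_lit 7126,nat_lit 7291,nat_lit 11910,nat_lit 12976,nat_lit 13040,nat_lit 13741,nat_lit 14714,nat_lit 15074,nat_lit 15129,nat_lit 15446],[nat_lit 167,nat_lit 0],[nat_lit 40,nat_lit 75,nat_lit 722,nat_lit 902,nat_lit 1977,nat_lit 2952,nat_lit 3288,nat_lit 3941,nat_lit 6778,nat_lit 12056,nat_lit 12927,nat_lit 14854,nat_lit 15248],[nat_lit 168,nat_lit 0],[nat_lit 41,nat_lit 100,nat_lit 1163,nat_lit 3972,nat_lit 10532,nat_lit 12948],[nat_lit 169,nat_lit 0],[nat_lit 42,nat_lit 4716],[nat_lit 170,nat_lit 0],[nat_lit 43,nat_lit 139,nat_lit 580,nat_lit 966,nat_lit 3655,nat_lit 5113,nat_lit 5267,nat_lit 11030,nat_lit 11911],[nat_lit 171,nat_lit 0],[nat_lit 44,nat_lit 107,nat_lit 157,nat_lit 283,nat_lit 311,nat_lit 397,nat_lit 419,nat_lit 544,nat_lit 567,nat_lit 581,nat_lit 723,nat_lit 937,nat_lit 1472,nat_lit 1957,nat_lit 4357,nat_lit 5152,nat_lit 5156,nat_lit 13505,nat_lit 14054,nat_lit 14056,nat_lit 14120,nat_lit 15423,nat_lit 15665,nat_lit 15710],[nat_lit 172,nat_lit 0],[nat_lit 45,nat_lit 3271,nat_lit 3457,nat_lit 4333,nat_lit 4391,nat_lit 5013,nat_lit 5047,nat_lit 5175,nat_lit 5430,nat_lit 5598,nat_lit 5828,nat_lit 5921,nat_lit 5932,nat_lit 5940,nat_lit 6031,nat_lit 6218,nat_lit 6295,nat_lit 6396,nat_lit 6442,nat_lit 6667,nat_lit 6753,nat_lit 6794,nat_lit 6818,nat_lit 7131,nat_lit 7254,nat_lit 7307,nat_lit 8124,nat_lit 15709],[nat_lit 173,nat_lit 1],[nat_lit 46,nat_lit 4190,nat_lit 6457],[nat_lit 174,nat_lit 1],[nat_lit 47,nat_lit 7399],[nat_lit 177,nat_lit 1],[nat_lit 50,nat_lit 15900],[nat_lit 52,nat_lit 459,nat_lit 916,nat_lit 1094,nat_lit 1170,nat_lit 1330,nat_lit 1379,nat_lit 1622,nat_lit 1744,nat_lit 2039,nat_lit 2099,nat_lit 2869,nat_lit 3103,nat_lit 3107,nat_lit 3718,nat_lit 3746,nat_lit 3772,nat_lit 4054,nat_lit 4183,nat_lit 4193,nat_lit 4322,nat_lit 4458,nat_lit 4469,nat_lit 4500,nat_lit 4510,nat_lit 4861,nat_lit 4898,nat_lit 4925,nat_lit 4956,nat_lit 5052,nat_lit 5101,nat_lit 5139,nat_lit 5257,nat_lit 5262,nat_lit 5605,nat_lit 5621,nat_lit 5631,nat_lit 5642,nat_lit 5686,nat_lit 5696,nat_lit 5731,nat_lit 5847,nat_lit 5938,nat_lit 5960,nat_lit 5981,nat_lit 6109,nat_lit 6245,nat_lit 6281,nat_lit 6434,nat_lit 6448,nat_lit 6482,nat_lit 6493,nat_lit 6503,nat_lit 6532,nat_lit 6598,nat_lit 6626,nat_lit 6715,nat_lit 6722,nat_lit 6751,nat_lit 6775,nat_lit 6804,nat_lit 6850,nat_lit 6905,nat_lit 6960,nat_lit 6994,nat_lit 7037,nat_lit 7048,nat_lit 7161,nat_lit 7196,nat_lit 7303,nat_lit 7357,nat_lit 7424,nat_lit 7456,nat_lit 7482,nat_lit 7489,nat_lit 7514,nat_lit 7554,nat_lit 7648,nat_lit 7678,nat_lit 7703,nat_lit 7787,nat_lit 7807,nat_lit 7893,nat_lit 7943,nat_lit 8035,nat_lit 8135,nat_lit 8249,nat_lit 8253,nat_lit 8264,nat_lit 8280,nat_lit 8288,nat_lit 8352,nat_lit 8388,nat_lit 8412,nat_lit 8505,nat_lit 8573,nat_lit 8673,nat_lit 8788,nat_lit 8990,nat_lit 9159,nat_lit 9165,nat_lit 9172,nat_lit 9176,nat_lit 9196,nat_lit 9217,nat_lit 9228,nat_lit 9247,nat_lit 9251,nat_lit 9253,nat_lit 9310,nat_lit 9343,nat_lit 9413,nat_lit 9464,nat_lit 9472,nat_lit 9594,nat_lit 9620,nat_lit 9905,nat_lit 9932,nat_lit 10014,nat_lit 10309,nat_lit 10314,nat_lit 10334,nat_lit 10450,nat_lit 10715,nat_lit 10799,nat_lit 10813,nat_lit 10865,nat_lit 10973,nat_lit 11000,nat_lit 11007,nat_lit 11296,nat_lit 11368,nat_lit 11398,nat_lit 11476,nat_lit 11824,nat_lit 11835,nat_lit 11960,nat_lit 11996,nat_lit 12032,nat_lit 12305,nat_lit 12346,nat_lit 12843,nat_lit 12845,nat_lit 12921,nat_lit 12948,nat_lit 13269],[nat_lit 53,nat_lit 3769,nat_lit 4482,nat_lit 4504,nat_lit 4951,nat_lit 4958,nat_lit 5117,nat_lit 5701,nat_lit 5762,nat_lit 5898,nat_lit 6485,nat_lit 6496,nat_lit 6560,nat_lit 6575,nat_lit 7369,nat_lit 7491,nat_lit 7584,nat_lit 7744,nat_lit 7775,nat_lit 8052,nat_lit 8302,nat_lit 8499,nat_lit 8541,nat_lit 9349,nat_lit 9479,nat_lit 10556,nat_lit 10954,nat_lit 11142,nat_lit 11535,nat_lit 11931,nat_lit 11988,nat_lit 12940,nat_lit 13614],[nat_lit 54,nat_lit 38,nat_lit 49,nat_lit 60,nat_lit 64,nat_lit 735,nat_lit 871,nat_lit 917,nat_lit 945,nat_lit 1062,nat_lit 1095,nat_lit 1113,nat_lit 1171,nat_lit 1183,nat_lit 1309,nat_lit 1339,nat_lit 1380,nat_lit 1392,nat_lit 1751,nat_lit 2468,nat_lit 2813,nat_lit 3053,nat_lit 3355,nat_lit 3435,nat_lit 3593,nat_lit 3719,nat_lit 3747,nat_lit 4055,nat_lit 4157,nat_lit 4323,nat_lit 4343,nat_lit 4347,nat_lit 4637,nat_lit 4670,nat_lit 4800,nat_lit 4815,nat_lit 4862,nat_lit 5053,nat_lit 5102,nat_lit 5215,nat_lit 5437,nat_lit 5457,nat_lit 5480,nat_lit 5559,nat_lit 5606,nat_lit 5613,nat_lit 5632,nat_lit 5697,nat_lit 5707,nat_lit 5781,nat_lit 5848,nat_lit 5926,nat_lit 5945,nat_lit 5952,nat_lit 5961,nat_lit 5964,nat_lit 5982,nat_lit 5992,nat_lit 6041,nat_lit 6069,nat_lit 6251,nat_lit 6366,nat_lit 6406,nat_lit 6449,nat_lit 6472,nat_lit 6571,nat_lit 6592,nat_lit 6607,nat_lit 6671,nat_lit 6701,nat_lit 6723,nat_lit 6776,nat_lit 6833,nat_lit 6851,nat_lit 6863,nat_lit 6906,nat_lit 6945,nat_lit 6975,nat_lit 7019,nat_lit 7039,nat_lit 7105,nat_lit 7162,nat_lit 7180,nat_lit 7205,nat_lit 7229,nat_lit 7304,nat_lit 7323,nat_lit 7375,nat_lit 7435,nat_lit 7492,nat_lit 7515,nat_lit 7522,nat_lit 7527,nat_lit 7560,nat_lit 7564,nat_lit 7570,nat_lit 7572,nat_lit 7614,nat_lit 7641,nat_lit 7659,nat_lit 7669,nat_lit 7718,nat_lit 7756,nat_lit 7808,nat_lit 7835,nat_lit 7967,nat_lit 8022,nat_lit 8033,nat_lit 8045,nat_lit 8265,nat_lit 8281,nat_lit 8289,nat_lit 8339,nat_lit 8356,nat_lit 8364,nat_lit 8372,nat_lit 8398,nat_lit 8441,nat_lit 8443,nat_lit 8508,nat_lit 8512,nat_lit 8571,nat_lit 8604,nat_lit 8608,nat_lit 8674,nat_lit 8728,nat_lit 8734,nat_lit 8752,nat_lit 8774,nat_lit 8789,nat_lit 8816,nat_lit 9004,nat_lit 9016,nat_lit 9102,nat_lit 9120,nat_lit 9205,nat_lit 9229,nat_lit 9311,nat_lit 9322,nat_lit 9334,nat_lit 9344,nat_lit 9375,nat_lit 9423,nat_lit 9428,nat_lit 9430,nat_lit 9480,nat_lit 9606,nat_lit 9643,nat_lit 9674,nat_lit 9776,nat_lit 9824,nat_lit 9833,nat_lit 10163,nat_lit 10268,nat_lit 10311,nat_lit 10342,nat_lit 10347,nat_lit 10355,nat_lit 10436,nat_lit 10557,nat_lit 10574,nat_lit 10693,nat_lit 10806,nat_lit 10810,nat_lit 11009,nat_lit 11060,nat_lit 11403,nat_lit 11794,nat_lit 11808,nat_lit 11932,nat_lit 11938,nat_lit 11943,nat_lit 12058,nat_lit 12092,nat_lit 12141,nat_lit 12251,nat_lit 12317,nat_lit 12322,nat_lit 12395,nat_lit 12426,nat_lit 12454,nat_lit 12481,nat_lit 12718,nat_lit 12818,nat_lit 12836,nat_lit 13184,nat_lit 13216,nat_lit 13683,nat_lit 13708,nat_lit 13984,nat_lit 14195,nat_lit 14340,nat_lit 14732,nat_lit 14833,nat_lit 15168],[nat_lit 182,nat_lit 10706,nat_lit 11068,nat_lit 11161,nat_lit 11454,nat_lit 11974,nat_lit 11977,nat_lit 12216,nat_lit 12273,nat_lit 12867,nat_lit 12957,nat_lit 13214,nat_lit 13221],[nat_lit 55,nat_lit 142,nat_lit 187,nat_lit 199],[nat_lit 143,nat_lit 142],[nat_lit 55,nat_lit 256,nat_lit 278],[nat_lit 143,nat_lit 199],[nat_lit 152,nat_lit 210],[nat_lit 55,nat_lit 334,nat_lit 337],[nat_lit 143,nat_lit 256],[nat_lit 55,nat_lit 368],[nat_lit 143,nat_lit 278],[nat_lit 55,nat_lit 419,nat_lit 467,nat_lit 469,nat_lit 477,nat_lit 490,nat_lit 544,nat_lit 602],[nat_lit 143,nat_lit 467],[nat_lit 55,nat_lit 736,nat_lit 872,nat_lit 918,nat_lit 946,nat_lit 961,nat_lit 1063,nat_lit 1096,nat_lit 1114,nat_lit 1126,nat_lit 1184,nat_lit 1185,nat_lit 1203,nat_lit 1211,nat_lit 1215,nat_lit 1284,nat_lit 1310,nat_lit 1331,nat_lit 1340,nat_lit 1349,nat_lit 1393,nat_lit 1394,nat_lit 1412,nat_lit 1416,nat_lit 1479,nat_lit 1509,nat_lit 1661,nat_lit 1687,nat_lit 1694,nat_lit 1698,nat_lit 1745,nat_lit 1752,nat_lit 1753,nat_lit 1768,nat_lit 2044,nat_lit 2190,nat_lit 2200,nat_lit 2599,nat_lit 3522,nat_lit 4060,nat_lit 5118,nat_lit 5147,nat_lit 5714,nat_lit 5899,nat_lit 6159,nat_lit 6468,nat_lit 6576,nat_lit 6585,nat_lit 6648,nat_lit 6845,nat_lit 6856,nat_lit 6867,nat_lit 7066,nat_lit 7069,nat_lit 7534,nat_lit 7541,nat_lit 7567,nat_lit 7697,nat_lit 7849,nat_lit 7970,nat_lit 7996,nat_lit 8026,nat_lit 8030,nat_lit 8516,nat_lit 8680,nat_lit 8695,nat_lit 8742,nat_lit 8782,nat_lit 8835,nat_lit 9033,nat_lit 9042,nat_lit 9056,nat_lit 9093,nat_lit 9457,nat_lit 9671,nat_lit 9778,nat_lit 9780,nat_lit 9811,nat_lit 9916,nat_lit 9991,nat_lit 10033,nat_lit 10702,nat_lit 10708,nat_lit 10737,nat_lit 10854,nat_lit 11077,nat_lit 11772,nat_lit 11800,nat_lit 11812,nat_lit 11885,nat_lit 12123,nat_lit 12336,nat_lit 12528,nat_lit 12634,nat_lit 12700,nat_lit 12905,nat_lit 12915,nat_lit 12985,nat_lit 13046,nat_lit 13155,nat_lit 13406,nat_lit 13409,nat_lit 13437,nat_lit 13874,nat_lit 14089,nat_lit 14187,nat_lit 14403,nat_lit 14975,nat_lit 15015,nat_lit 15025,nat_lit 15255,nat_lit 15447,nat_lit 15457,nat_lit 15594,nat_lit 15694],[nat_lit 57,nat_lit 4519,nat_lit 7824,nat_lit 8370,nat_lit 8514,nat_lit 8770,nat_lit 8914,nat_lit 9597,nat_lit 10053,nat_lit 10060,nat_lit 10434,nat_lit 11470,nat_lit 11526,nat_lit 11599,nat_lit 11992,nat_lit 12899],[nat_lit 58,nat_lit 52,nat_lit 66,nat_lit 83,nat_lit 87,nat_lit 120,nat_lit 553,nat_lit 666,nat_lit 728,nat_lit 826,nat_lit 851,nat_lit 864,nat_lit 908,nat_lit 1035,nat_lit 1056,nat_lit 1503,nat_lit 1880,nat_lit 1975,nat_lit 2195,nat_lit 2464,nat_lit 2498,nat_lit 2603,nat_lit 2744,nat_lit 2946,nat_lit 3045,nat_lit 3050,nat_lit 3071,nat_lit 3424,nat_lit 3647,nat_lit 3735,nat_lit 4090,nat_lit 4129,nat_lit 4172,nat_lit 4197,nat_lit 4395,nat_lit 4406,nat_lit 4498,nat_lit 4632,nat_lit 4668,nat_lit 4755,nat_lit 4786,nat_lit 4791,nat_lit 4867,nat_lit 4947,nat_lit 5076,nat_lit 5091,nat_lit 5098,nat_lit 5105,nat_lit 5126,nat_lit 5187,nat_lit 5194],[nat_lit 144,nat_lit 4406],[nat_lit 58,nat_lit 5246,nat_lit 5292,nat_lit 5297,nat_lit 5432,nat_lit 5525,nat_lit 5611,nat_lit 5653,nat_lit 5690,nat_lit 5733,nat_lit 5743,nat_lit 5807,nat_lit 5936,nat_lit 5950,nat_lit 5958,nat_lit 6028,nat_lit 6038,nat_lit 6045,nat_lit 6047,nat_lit 6087,nat_lit 6097,nat_lit 6124,nat_lit 6187,nat_lit 6255,nat_lit 6258,nat_lit 6313,nat_lit 6348,nat_lit 6400,nat_lit 6404,nat_lit 6440,nat_lit 6488,nat_lit 6541,nat_lit 6556,nat_lit 6579,nat_lit 6604,nat_lit 6612,nat_lit 6616,nat_lit 6663,nat_lit 6686,nat_lit 6698,nat_lit 6830,nat_lit 6899,nat_lit 6914,nat_lit 6933,nat_lit 6998,nat_lit 7015,nat_lit 7100,nat_lit 7169,nat_lit 7190,nat_lit 7248,nat_lit 7275,nat_lit 7339,nat_lit 7363,nat_lit 7390,nat_lit 7412,nat_lit 7426,nat_lit 7453,nat_lit 7487,nat_lit 7495,nat_lit 7521,nat_lit 7628,nat_lit 7676,nat_lit 7708,nat_lit 7762,nat_lit 7779,nat_lit 7879,nat_lit 7904,nat_lit 7931,nat_lit 7963,nat_lit 8014,nat_lit 8047,nat_lit 8174,nat_lit 8247,nat_lit 8350,nat_lit 8377,nat_lit 8503,nat_lit 8578,nat_lit 8585,nat_lit 8635,nat_lit 8640,nat_lit 8724,nat_lit 8732,nat_lit 8798,nat_lit 8867,nat_lit 8895,nat_lit 8933,nat_lit 8941,nat_lit 8968,nat_lit 9023,nat_lit 9035,nat_lit 9078,nat_lit 9095,nat_lit 9104,nat_lit 9226,nat_lit 9232,nat_lit 9262,nat_lit 9267,nat_lit 9432,nat_lit 9455,nat_lit 9562,nat_lit 9681,nat_lit 9698,nat_lit 9720,nat_lit 9729,nat_lit 9816],[nat_lit 144,nat_lit 8724],[nat_lit 58,nat_lit 9884,nat_lit 9886,nat_lit 9889,nat_lit 10006,nat_lit 10021,nat_lit 10068,nat_lit 10211,nat_lit 10216,nat_lit 10222,nat_lit 10289,nat_lit 10303,nat_lit 10332,nat_lit 10375,nat_lit 10407,nat_lit 10439,nat_lit 10520,nat_lit 10572,nat_lit 10584,nat_lit 10588,nat_lit 10606,nat_lit 10650,nat_lit 10760,nat_lit 10791,nat_lit 10808,nat_lit 10911,nat_lit 10945,nat_lit 11018,nat_lit 11067,nat_lit 11103,nat_lit 11109,nat_lit 11146,nat_lit 11288,nat_lit 11314,nat_lit 11357,nat_lit 11363,nat_lit 11448,nat_lit 11472,nat_lit 11505,nat_lit 11519,nat_lit 11542,nat_lit 11600,nat_lit 11856,nat_lit 11928,nat_lit 11993,nat_lit 12034,nat_lit 12102,nat_lit 12263,nat_lit 12377,nat_lit 12419,nat_lit 12432,nat_lit 12474,nat_lit 12884,nat_lit 12953,nat_lit 13164,nat_lit 13190,nat_lit 13653,nat_lit 13712,nat_lit 13717,nat_lit 13902,nat_lit 14079,nat_lit 14219,nat_lit 14252,nat_lit 14310,nat_lit 14331,nat_lit 14550,nat_lit 14559,nat_lit 14756,nat_lit 14760,nat_lit 14909,nat_lit 15330],[nat_lit 186,nat_lit 11726,nat_lit 12071,nat_lit 12868,nat_lit 13933],[nat_lit 59,nat_lit 116,nat_lit 371,nat_lit 408,nat_lit 479],[nat_lit 144,nat_lit 371],[nat_lit 59,nat_lit 529],[nat_lit 134,nat_lit 408],[nat_lit 59,nat_lit 622,nat_lit 654],[nat_lit 134,nat_lit 498,nat_lit 529],[nat_lit 59,nat_lit 723,nat_lit 738,nat_lit 827,nat_lit 873],[nat_lit 134,nat_lit 723],[nat_lit 59,nat_lit 948,nat_lit 1036,nat_lit 1064,nat_lit 1088,nat_lit 1097,nat_lit 1105,nat_lit 1160,nat_lit 1311,nat_lit 1341,nat_lit 1674,nat_lit 1764,nat_lit 1881,nat_lit 1906,nat_lit 2115,nat_lit 2196,nat_lit 2332,nat_lit 2345,nat_lit 2536,nat_lit 2697,nat_lit 2720,nat_lit 2896,nat_lit 3111,nat_lit 3182,nat_lit 3188,nat_lit 3309,nat_lit 3356,nat_lit 3594,nat_lit 3842,nat_lit 5607,nat_lit 5708,nat_lit 5946,nat_lit 5954,nat_lit 6473,nat_lit 6566,nat_lit 6590,nat_lit 6864,nat_lit 6972,nat_lit 7074,nat_lit 7080,nat_lit 7182,nat_lit 7545,nat_lit 7599,nat_lit 7661,nat_lit 8007,nat_lit 8067,nat_lit 8069,nat_lit 8074,nat_lit 8194,nat_lit 8481,nat_lit 8976,nat_lit 9045,nat_lit 9058,nat_lit 9065,nat_lit 9604,nat_lit 9800,nat_lit 10037,nat_lit 10159,nat_lit 10205,nat_lit 10547,nat_lit 10884,nat_lit 10995,nat_lit 11126,nat_lit 11728,nat_lit 11784,nat_lit 11814,nat_lit 11872,nat_lit 12403,nat_lit 12677,nat_lit 12709,nat_lit 12806,nat_lit 13048,nat_lit 13175,nat_lit 13238,nat_lit 13309,nat_lit 13358,nat_lit 13575,nat_lit 13674,nat_lit 14107,nat_lit 14884,nat_lit 15137,nat_lit 15239,nat_lit 15349,nat_lit 15373,nat_lit 15415,nat_lit 15936,nat_lit 16092,nat_lit 16180],[nat_lit 61,nat_lit 69,nat_lit 89,nat_lit 114,nat_lit 122,nat_lit 173,nat_lit 341,nat_lit 917,nat_lit 1095,nat_lit 1171,nat_lit 1181,nat_lit 1283,nat_lit 1380,nat_lit 1483,nat_lit 1623,nat_lit 1677,nat_lit 1684,nat_lit 2041,nat_lit 2103,nat_lit 4823,nat_lit 5270,nat_lit 5439,nat_lit 5626,nat_lit 5678,nat_lit 5700,nat_lit 5994,nat_lit 6282,nat_lit 6565,nat_lit 6599,nat_lit 6851,nat_lit 6855,nat_lit 6892,nat_lit 6911,nat_lit 6965,nat_lit 6971,nat_lit 7031,nat_lit 7049,nat_lit 7140,nat_lit 7304,nat_lit 7408,nat_lit 7448,nat_lit 7555,nat_lit 7685,nat_lit 7811],[nat_lit 180,nat_lit 6851],[nat_lit 61,nat_lit 7875,nat_lit 7899,nat_lit 8001,nat_lit 8033,nat_lit 8044,nat_lit 8136,nat_lit 8184,nat_lit 8193,nat_lit 8224,nat_lit 8281,nat_lit 8391,nat_lit 8403,nat_lit 8433,nat_lit 8470,nat_lit 8520,nat_lit 8540,nat_lit 8674,nat_lit 8727,nat_lit 8762,nat_lit 8768,nat_lit 8828,nat_lit 8860,nat_lit 8879,nat_lit 9000,nat_lit 9004,nat_lit 9014,nat_lit 9138,nat_lit 9218,nat_lit 9248,nat_lit 9254,nat_lit 9320,nat_lit 9333,nat_lit 9465,nat_lit 9478,nat_lit 9547,nat_lit 9603,nat_lit 9609,nat_lit 9669,nat_lit 9715,nat_lit 9741,nat_lit 9758,nat_lit 9842,nat_lit 9864,nat_lit 9876,nat_lit 9938,nat_lit 9983,nat_lit 10019,nat_lit 10070,nat_lit 10127,nat_lit 10163,nat_lit 10321,nat_lit 10341,nat_lit 10382,nat_lit 10397,nat_lit 10482,nat_lit 10516,nat_lit 10704,nat_lit 10800,nat_lit 10802,nat_lit 10898,nat_lit 10983,nat_lit 11001,nat_lit 11106,nat_lit 11345,nat_lit 11369,nat_lit 11429,nat_lit 11477,nat_lit 11498,nat_lit 11552,nat_lit 11807,nat_lit 11825,nat_lit 11898,nat_lit 11943,nat_lit 12291,nat_lit 12352,nat_lit 12371,nat_lit 12421,nat_lit 12520,nat_lit 12746,nat_lit 12827,nat_lit 12922,nat_lit 12956,nat_lit 13183,nat_lit 13254,nat_lit 13270,nat_lit 13581,nat_lit 13588,nat_lit 13994,nat_lit 14244,nat_lit 15059],[nat_lit 189,nat_lit 12653,nat_lit 12966],[nat_lit 62,nat_lit 167,nat_lit 533,nat_lit 657,nat_lit 820,nat_lit 918,nat_lit 1033,nat_lit 1096,nat_lit 1185,nat_lit 1279,nat_lit 1331,nat_lit 1394,nat_lit 1465,nat_lit 1489,nat_lit 1632,nat_lit 1654,nat_lit 1753],[nat_lit 180,nat_lit 1394],[nat_lit 135,nat_lit 1465],[nat_lit 62,nat_lit 1884,nat_lit 2042,nat_lit 2045,nat_lit 2100,nat_lit 2107,nat_lit 2117],[nat_lit 180,nat_lit 1753],[nat_lit 62,nat_lit 2330,nat_lit 2605,nat_lit 2706,nat_lit 6549,nat_lit 7549,nat_lit 8561,nat_lit 9270,nat_lit 10182,nat_lit 10191,nat_lit 10426,nat_lit 10700,nat_lit 10727,nat_lit 11223,nat_lit 11236,nat_lit 11739,nat_lit 12406,nat_lit 13231,nat_lit 13522,nat_lit 13896,nat_lit 13974,nat_lit 14170,nat_lit 14533,nat_lit 14583,nat_lit 15352],[nat_lit 63,nat_lit 94,nat_lit 125,nat_lit 165,nat_lit 177,nat_lit 248,nat_lit 4952,nat_lit 6288,nat_lit 6548,nat_lit 7205,nat_lit 7461,nat_lit 7879,nat_lit 8053,nat_lit 8303,nat_lit 8331,nat_lit 8421,nat_lit 8428,nat_lit 8612,nat_lit 8771,nat_lit 8872,nat_lit 9069,nat_lit 9119,nat_lit 9350,nat_lit 9454,nat_lit 9641,nat_lit 9878,nat_lit 9952,nat_lit 10465,nat_lit 10523,nat_lit 10572,nat_lit 10693,nat_lit 10945,nat_lit 10955,nat_lit 11018,nat_lit 11228,nat_lit 11335,nat_lit 11932,nat_lit 13294,nat_lit 14008,nat_lit 14627,nat_lit 14806],[nat_lit 64,nat_lit 8566,nat_lit 9663,nat_lit 12293,nat_lit 13245,nat_lit 16218],[nat_lit 193,nat_lit 427,nat_lit 514,nat_lit 554,nat_lit 572,nat_lit 611,nat_lit 643,nat_lit 680,nat_lit 706,nat_lit 729,nat_lit 736,nat_lit 812,nat_lit 827,nat_lit 835,nat_lit 865,nat_lit 872,nat_lit 909,nat_lit 918,nat_lit 946,nat_lit 960,nat_lit 1019,nat_lit 1057,nat_lit 1063,nat_lit 1088,nat_lit 1096,nat_lit 1114,nat_lit 1124,nat_lit 1172,nat_lit 1182,nat_lit 1184,nat_lit 1284,nat_lit 1310,nat_lit 1340,nat_lit 1381,nat_lit 1391,nat_lit 1393,nat_lit 1415,nat_lit 1484,nat_lit 1487,nat_lit 1504,nat_lit 1624,nat_lit 1631,nat_lit 1660,nat_lit 1678,nat_lit 1685,nat_lit 1687,nat_lit 1697,nat_lit 1750,nat_lit 1752,nat_lit 1764,nat_lit 1881,nat_lit 2042,nat_lit 2104,nat_lit 2106,nat_lit 2115,nat_lit 2196,nat_lit 2342,nat_lit 2717,nat_lit 3117,nat_lit 3187,nat_lit 9063,nat_lit 10033,nat_lit 11098,nat_lit 15851,nat_lit 15949,nat_lit 15970,nat_lit 16150],[nat_lit 324,nat_lit 0],[nat_lit 325,nat_lit 0],[nat_lit 198,nat_lit 16],[nat_lit 326,nat_lit 0],[nat_lit 199,nat_lit 4],[nat_lit 327,nat_lit 0],[nat_lit 200,nat_lit 1,nat_lit 3],[nat_lit 38,nat_lit 6],[nat_lit 329,nat_lit 0,nat_lit 3],[nat_lit 330,nat_lit 0,nat_lit 3],[nat_lit 331,nat_lit 0],[nat_lit 169,nat_lit 2],[nat_lit 175,nat_lit 7],[nat_lit 332,nat_lit 0],[nat_lit 170,nat_lit 2],[nat_lit 176,nat_lit 7],[nat_lit 333,nat_lit 0,nat_lit 3],[nat_lit 334,nat_lit 0],[nat_lit 172,nat_lit 2],[nat_lit 178,nat_lit 7],[nat_lit 0,nat_lit 12613,nat_lit 12994,nat_lit 13411],[nat_lit 1,nat_lit 13431,nat_lit 14110],[nat_lit 129,nat_lit 120,nat_lit 173,nat_lit 209,nat_lit 248,nat_lit 268,nat_lit 287,nat_lit 303],[nat_lit 29,nat_lit 467],[nat_lit 129,nat_lit 356,nat_lit 367,nat_lit 379,nat_lit 390,nat_lit 408,nat_lit 456,nat_lit 476,nat_lit 483,nat_lit 489],[nat_lit 25,nat_lit 665],[nat_lit 129,nat_lit 498],[nat_lit 25,nat_lit 704],[nat_lit 129,nat_lit 529,nat_lit 556,nat_lit 598,nat_lit 629,nat_lit 635],[nat_lit 25,nat_lit 850],[nat_lit 129,nat_lit 668],[nat_lit 26,nat_lit 916],[nat_lit 129,nat_lit 708],[nat_lit 25,nat_lit 1011,nat_lit 1049],[nat_lit 129,nat_lit 828],[nat_lit 26,nat_lit 1094],[nat_lit 129,nat_lit 853,nat_lit 921],[nat_lit 26,nat_lit 1282],[nat_lit 129,nat_lit 1013],[nat_lit 26,nat_lit 1330],[nat_lit 129,nat_lit 1051,nat_lit 1098,nat_lit 1267],[nat_lit 29,nat_lit 1631],[nat_lit 129,nat_lit 1332,nat_lit 1441,nat_lit 1447,nat_lit 1455,nat_lit 1561,nat_lit 1578,nat_lit 1581,nat_lit 1599],[nat_lit 25,nat_lit 2031],[nat_lit 129,nat_lit 1802,nat_lit 1821,nat_lit 1832],[nat_lit 25,nat_lit 2305],[nat_lit 129,nat_lit 1899,nat_lit 1919,nat_lit 1964,nat_lit 1988],[nat_lit 25,nat_lit 2492,nat_lit 2497],[nat_lit 26,nat_lit 2527],[nat_lit 129,nat_lit 2127,nat_lit 2140,nat_lit 2150,nat_lit 2152,nat_lit 2209,nat_lit 2227,nat_lit 2254],[nat_lit 25,nat_lit 2808],[nat_lit 129,nat_lit 2270,nat_lit 2276],[nat_lit 25,nat_lit 2836],[nat_lit 129,nat_lit 2287],[nat_lit 25,nat_lit 2851],[nat_lit 26,nat_lit 2869],[nat_lit 129,nat_lit 2363,nat_lit 2368],[nat_lit 25,nat_lit 2945],[nat_lit 129,nat_lit 2394],[nat_lit 25,nat_lit 2980],[nat_lit 129,nat_lit 2435],[nat_lit 25,nat_lit 3044],[nat_lit 129,nat_lit 2477,nat_lit 2479],[nat_lit 25,nat_lit 3070],[nat_lit 26,nat_lit 3082],[nat_lit 129,nat_lit 2579,nat_lit 2627,nat_lit 2645,nat_lit 2662],[nat_lit 25,nat_lit 3266],[nat_lit 129,nat_lit 2679,nat_lit 2733,nat_lit 2737],[nat_lit 25,nat_lit 3351],[nat_lit 129,nat_lit 2760,nat_lit 2763],[nat_lit 25,nat_lit 3385],[nat_lit 129,nat_lit 2777,nat_lit 2785,nat_lit 2793,nat_lit 2799],[nat_lit 25,nat_lit 3429],[nat_lit 129,nat_lit 2818,nat_lit 2821],[nat_lit 25,nat_lit 3450],[nat_lit 129,nat_lit 2834],[nat_lit 26,nat_lit 3467],[nat_lit 129,nat_lit 2843,nat_lit 2892,nat_lit 2907,nat_lit 2927],[nat_lit 25,nat_lit 3572],[nat_lit 129,nat_lit 2935],[nat_lit 25,nat_lit 3584],[nat_lit 129,nat_lit 2964,nat_lit 2968,nat_lit 2971],[nat_lit 25,nat_lit 3631],[nat_lit 129,nat_lit 3001,nat_lit 3007,nat_lit 3010,nat_lit 3014,nat_lit 3019,nat_lit 3034,nat_lit 3060],[nat_lit 25,nat_lit 3738],[nat_lit 26,nat_lit 3746],[nat_lit 129,nat_lit 3135,nat_lit 3213],[nat_lit 25,nat_lit 3886],[nat_lit 129,nat_lit 3233],[nat_lit 25,nat_lit 3914],[nat_lit 129,nat_lit 3251],[nat_lit 25,nat_lit 3936],[nat_lit 129,nat_lit 3278,nat_lit 3304,nat_lit 3318,nat_lit 3336],[nat_lit 25,nat_lit 4035],[nat_lit 129,nat_lit 3342],[nat_lit 25,nat_lit 4045],[nat_lit 129,nat_lit 3367,nat_lit 3370],[nat_lit 25,nat_lit 4089,nat_lit 4095],[nat_lit 26,nat_lit 4105],[nat_lit 25,nat_lit 4115,nat_lit 4128,nat_lit 4143],[nat_lit 26,nat_lit 4165],[nat_lit 25,nat_lit 4171],[nat_lit 26,nat_lit 4183],[nat_lit 27,nat_lit 4199],[nat_lit 129,nat_lit 3508,nat_lit 3516],[nat_lit 25,nat_lit 4255],[nat_lit 129,nat_lit 3534],[nat_lit 25,nat_lit 4279],[nat_lit 129,nat_lit 3555,nat_lit 3559,nat_lit 3562],[nat_lit 25,nat_lit 4312,nat_lit 4329],[nat_lit 26,nat_lit 4342],[nat_lit 129,nat_lit 3607,nat_lit 3611,nat_lit 3618],[nat_lit 25,nat_lit 4383,nat_lit 4389],[nat_lit 26,nat_lit 4397],[nat_lit 129,nat_lit 3667,nat_lit 3681,nat_lit 3701],[nat_lit 25,nat_lit 4465,nat_lit 4486],[nat_lit 26,nat_lit 4495],[nat_lit 129,nat_lit 3794,nat_lit 3826,nat_lit 3828,nat_lit 3864,nat_lit 3878],[nat_lit 25,nat_lit 4630],[nat_lit 26,nat_lit 4633],[nat_lit 129,nat_lit 3899,nat_lit 3902],[nat_lit 25,nat_lit 4658],[nat_lit 129,nat_lit 3982,nat_lit 3988,nat_lit 4001],[nat_lit 25,nat_lit 4754],[nat_lit 129,nat_lit 4016,nat_lit 4020,nat_lit 4022,nat_lit 4026],[nat_lit 25,nat_lit 4790,nat_lit 4803],[nat_lit 26,nat_lit 4814],[nat_lit 129,nat_lit 4068],[nat_lit 25,nat_lit 4843,nat_lit 4849],[nat_lit 26,nat_lit 4861],[nat_lit 27,nat_lit 4874],[nat_lit 129,nat_lit 4121],[nat_lit 26,nat_lit 4898],[nat_lit 129,nat_lit 4133],[nat_lit 27,nat_lit 4951],[nat_lit 129,nat_lit 4232,nat_lit 4235],[nat_lit 25,nat_lit 5011],[nat_lit 26,nat_lit 5021],[nat_lit 129,nat_lit 4265,nat_lit 4268],[nat_lit 25,nat_lit 5045],[nat_lit 26,nat_lit 5052],[nat_lit 129,nat_lit 4293],[nat_lit 25,nat_lit 5075],[nat_lit 129,nat_lit 4300],[nat_lit 25,nat_lit 5084,nat_lit 5090],[nat_lit 26,nat_lit 5129],[nat_lit 129,nat_lit 4363],[nat_lit 25,nat_lit 5172],[nat_lit 26,nat_lit 5188,nat_lit 5196],[nat_lit 129,nat_lit 4436],[nat_lit 25,nat_lit 5245],[nat_lit 129,nat_lit 4448],[nat_lit 27,nat_lit 5304],[nat_lit 129,nat_lit 4534,nat_lit 4595,nat_lit 4600],[nat_lit 25,nat_lit 5407],[nat_lit 129,nat_lit 4618],[nat_lit 27,nat_lit 5440],[nat_lit 129,nat_lit 4648,nat_lit 4721,nat_lit 4723],[nat_lit 25,nat_lit 5524],[nat_lit 129,nat_lit 4745],[nat_lit 25,nat_lit 5553,nat_lit 5583],[nat_lit 129,nat_lit 4773],[nat_lit 25,nat_lit 5591,nat_lit 5596],[nat_lit 26,nat_lit 5605,nat_lit 5631],[nat_lit 25,nat_lit 5666],[nat_lit 26,nat_lit 5677],[nat_lit 27,nat_lit 5701],[nat_lit 129,nat_lit 4886],[nat_lit 25,nat_lit 5722,nat_lit 5742],[nat_lit 129,nat_lit 4987],[nat_lit 25,nat_lit 5819],[nat_lit 129,nat_lit 4995],[nat_lit 26,nat_lit 5847],[nat_lit 129,nat_lit 5028],[nat_lit 25,nat_lit 5870],[nat_lit 27,nat_lit 5898],[nat_lit 129,nat_lit 5061],[nat_lit 25,nat_lit 5918,nat_lit 5930],[nat_lit 27,nat_lit 6053],[nat_lit 25,nat_lit 6096],[nat_lit 129,nat_lit 5329,nat_lit 5373,nat_lit 5387],[nat_lit 25,nat_lit 6232],[nat_lit 129,nat_lit 5506],[nat_lit 25,nat_lit 6347],[nat_lit 129,nat_lit 5534,nat_lit 5538],[nat_lit 25,nat_lit 6388],[nat_lit 129,nat_lit 5566,nat_lit 5569],[nat_lit 25,nat_lit 6439],[nat_lit 26,nat_lit 6532],[nat_lit 25,nat_lit 6594],[nat_lit 129,nat_lit 5812],[nat_lit 25,nat_lit 6685],[nat_lit 26,nat_lit 6692],[nat_lit 129,nat_lit 5859,nat_lit 5863],[nat_lit 25,nat_lit 6745],[nat_lit 129,nat_lit 5905],[nat_lit 26,nat_lit 6804],[nat_lit 129,nat_lit 6168,nat_lit 6210],[nat_lit 25,nat_lit 7129],[nat_lit 129,nat_lit 6224,nat_lit 6373],[nat_lit 25,nat_lit 7287,nat_lit 7293,nat_lit 7338,nat_lit 7344],[nat_lit 129,nat_lit 6524],[nat_lit 27,nat_lit 7491],[nat_lit 129,nat_lit 6656],[nat_lit 25,nat_lit 7633,nat_lit 7705],[nat_lit 27,nat_lit 7775],[nat_lit 129,nat_lit 6899,nat_lit 7082],[nat_lit 25,nat_lit 8147,nat_lit 8274],[nat_lit 129,nat_lit 7457],[nat_lit 27,nat_lit 8499],[nat_lit 129,nat_lit 7511],[nat_lit 25,nat_lit 8622],[nat_lit 129,nat_lit 7692,nat_lit 7956,nat_lit 7961,nat_lit 7965,nat_lit 8019],[nat_lit 25,nat_lit 9143],[nat_lit 129,nat_lit 8646,nat_lit 8686,nat_lit 9081,nat_lit 9725,nat_lit 9732,nat_lit 9736,nat_lit 9906,nat_lit 10448,nat_lit 10794,nat_lit 10810],[nat_lit 29,nat_lit 11805,nat_lit 11812],[nat_lit 129,nat_lit 10845,nat_lit 11196],[nat_lit 29,nat_lit 12688],[nat_lit 129,nat_lit 12164,nat_lit 13735,nat_lit 13761,nat_lit 14349,nat_lit 14375,nat_lit 14618,nat_lit 14635,nat_lit 14719,nat_lit 14736],[nat_lit 25,nat_lit 15260],[nat_lit 129,nat_lit 15011],[nat_lit 25,nat_lit 15414,nat_lit 15468,nat_lit 15480],[nat_lit 129,nat_lit 15157],[nat_lit 26,nat_lit 15567],[nat_lit 129,nat_lit 15315],[nat_lit 25,nat_lit 15643],[nat_lit 26,nat_lit 15728,nat_lit 15739],[nat_lit 25,nat_lit 15820],[nat_lit 129,nat_lit 15920],[nat_lit 2,nat_lit 4,nat_lit 8],[nat_lit 130,nat_lit 34,nat_lit 375,nat_lit 547,nat_lit 650,nat_lit 662,nat_lit 701,nat_lit 702,nat_lit 780],[nat_lit 33,nat_lit 1086],[nat_lit 37,nat_lit 1088],[nat_lit 130,nat_lit 911],[nat_lit 33,nat_lit 1277],[nat_lit 130,nat_lit 1090,nat_lit 1175],[nat_lit 34,nat_lit 1622],[nat_lit 130,nat_lit 1384,nat_lit 1611],[nat_lit 37,nat_lit 2044],[nat_lit 130,nat_lit 2014,nat_lit 2167,nat_lit 2372],[nat_lit 33,nat_lit 3094],[nat_lit 130,nat_lit 2681,nat_lit 2740,nat_lit 2796,nat_lit 2802,nat_lit 2829,nat_lit 2930,nat_lit 2937],[nat_lit 33,nat_lit 3587],[nat_lit 130,nat_lit 2973,nat_lit 2978,nat_lit 3012],[nat_lit 34,nat_lit 3763],[nat_lit 130,nat_lit 3157,nat_lit 3239,nat_lit 3276,nat_lit 3280,nat_lit 3338,nat_lit 3344],[nat_lit 33,nat_lit 4049],[nat_lit 130,nat_lit 3395],[nat_lit 33,nat_lit 4152,nat_lit 4163,nat_lit 4188],[nat_lit 130,nat_lit 3511,nat_lit 3518,nat_lit 3537,nat_lit 3564,nat_lit 3575,nat_lit 3615,nat_lit 3621,nat_lit 3625],[nat_lit 33,nat_lit 4394,nat_lit 4434],[nat_lit 130,nat_lit 3799,nat_lit 3866,nat_lit 3905],[nat_lit 33,nat_lit 4667],[nat_lit 130,nat_lit 3925],[nat_lit 33,nat_lit 4703],[nat_lit 130,nat_lit 3984,nat_lit 4024,nat_lit 4028],[nat_lit 33,nat_lit 4796],[nat_lit 130,nat_lit 4075,nat_lit 4080,nat_lit 4085,nat_lit 4123],[nat_lit 34,nat_lit 4925,nat_lit 4933],[nat_lit 33,nat_lit 5005],[nat_lit 130,nat_lit 4248,nat_lit 4272,nat_lit 4297,nat_lit 4303,nat_lit 4307,nat_lit 4368],[nat_lit 33,nat_lit 5178],[nat_lit 130,nat_lit 4378],[nat_lit 33,nat_lit 5186,nat_lit 5193],[nat_lit 34,nat_lit 5204],[nat_lit 130,nat_lit 4419,nat_lit 4544,nat_lit 4572,nat_lit 4621,nat_lit 4624,nat_lit 4642],[nat_lit 33,nat_lit 5468],[nat_lit 130,nat_lit 4733,nat_lit 4749,nat_lit 4769,nat_lit 4775,nat_lit 4779],[nat_lit 33,nat_lit 5610],[nat_lit 34,nat_lit 5621],[nat_lit 130,nat_lit 4833],[nat_lit 33,nat_lit 5673,nat_lit 5683],[nat_lit 35,nat_lit 5762],[nat_lit 130,nat_lit 4990,nat_lit 4993,nat_lit 5030,nat_lit 5035,nat_lit 5065],[nat_lit 33,nat_lit 5924],[nat_lit 130,nat_lit 5078],[nat_lit 33,nat_lit 5935,nat_lit 6019],[nat_lit 34,nat_lit 6040,nat_lit 6049],[nat_lit 33,nat_lit 6079],[nat_lit 130,nat_lit 5331,nat_lit 5334,nat_lit 5417,nat_lit 5424,nat_lit 5445,nat_lit 5510,nat_lit 5540,nat_lit 5545,nat_lit 5571,nat_lit 5575],[nat_lit 33,nat_lit 6431],[nat_lit 130,nat_lit 5586],[nat_lit 33,nat_lit 6446,nat_lit 6453],[nat_lit 35,nat_lit 6485],[nat_lit 33,nat_lit 6529],[nat_lit 34,nat_lit 6543],[nat_lit 33,nat_lit 6690],[nat_lit 130,nat_lit 6174,nat_lit 6212,nat_lit 6337],[nat_lit 33,nat_lit 7299,nat_lit 7355,nat_lit 7373],[nat_lit 34,nat_lit 7489],[nat_lit 33,nat_lit 8127],[nat_lit 130,nat_lit 8712,nat_lit 10862,nat_lit 11042,nat_lit 13054,nat_lit 13816,nat_lit 14357],[nat_lit 33,nat_lit 14899],[nat_lit 130,nat_lit 14865],[nat_lit 34,nat_lit 15282],[nat_lit 130,nat_lit 15049],[nat_lit 33,nat_lit 15566],[nat_lit 35,nat_lit 15579],[nat_lit 131,nat_lit 418,nat_lit 543,nat_lit 567,nat_lit 698],[nat_lit 40,nat_lit 935],[nat_lit 131,nat_lit 723],[nat_lit 40,nat_lit 1161],[nat_lit 131,nat_lit 937,nat_lit 1472,nat_lit 3283,nat_lit 3427,nat_lit 3580,nat_lit 3628,nat_lit 3674,nat_lit 3912,nat_lit 3955,nat_lit 4031,nat_lit 4041,nat_lit 4087],[nat_lit 40,nat_lit 4930],[nat_lit 131,nat_lit 4243,nat_lit 4277,nat_lit 4310,nat_lit 4374,nat_lit 4381,nat_lit 4387,nat_lit 4424],[nat_lit 40,nat_lit 5238],[nat_lit 131,nat_lit 4541,nat_lit 4550,nat_lit 4610,nat_lit 4656,nat_lit 4782],[nat_lit 40,nat_lit 5618],[nat_lit 131,nat_lit 4840,nat_lit 4891],[nat_lit 41,nat_lit 5766],[nat_lit 40,nat_lit 5838],[nat_lit 131,nat_lit 5009,nat_lit 5041,nat_lit 5073,nat_lit 5081,nat_lit 5167],[nat_lit 40,nat_lit 6025],[nat_lit 131,nat_lit 5180],[nat_lit 40,nat_lit 6044],[nat_lit 131,nat_lit 5224,nat_lit 5345,nat_lit 5350,nat_lit 5550,nat_lit 5580,nat_lit 5589,nat_lit 5594],[nat_lit 40,nat_lit 6459],[nat_lit 41,nat_lit 6480],[nat_lit 131,nat_lit 5663,nat_lit 5805],[nat_lit 41,nat_lit 6713],[nat_lit 131,nat_lit 5873,nat_lit 5911,nat_lit 5915],[nat_lit 40,nat_lit 6810],[nat_lit 131,nat_lit 5928],[nat_lit 40,nat_lit 6931,nat_lit 6953],[nat_lit 41,nat_lit 6970],[nat_lit 131,nat_lit 6177,nat_lit 6181,nat_lit 6236,nat_lit 6343,nat_lit 6385,nat_lit 6390,nat_lit 6437],[nat_lit 40,nat_lit 7379],[nat_lit 41,nat_lit 7402],[nat_lit 131,nat_lit 6661,nat_lit 6789],[nat_lit 40,nat_lit 7767],[nat_lit 41,nat_lit 7957],[nat_lit 131,nat_lit 7090,nat_lit 7126,nat_lit 7291],[nat_lit 40,nat_lit 8293],[nat_lit 41,nat_lit 8386],[nat_lit 40,nat_lit 9193],[nat_lit 324,nat_lit 3],[nat_lit 132,nat_lit 4333,nat_lit 4391,nat_lit 5013,nat_lit 5047,nat_lit 5175,nat_lit 5598,nat_lit 5828,nat_lit 5921,nat_lit 5932,nat_lit 5940,nat_lit 6031,nat_lit 6295,nat_lit 6396,nat_lit 6442,nat_lit 6667,nat_lit 6753,nat_lit 6794],[nat_lit 46,nat_lit 7778],[nat_lit 132,nat_lit 6818],[nat_lit 46,nat_lit 7954],[nat_lit 132,nat_lit 7131,nat_lit 7254,nat_lit 7307],[nat_lit 46,nat_lit 8313],[nat_lit 47,nat_lit 9029],[nat_lit 132,nat_lit 8124],[nat_lit 46,nat_lit 9378],[nat_lit 5,nat_lit 7597,nat_lit 7906,nat_lit 8901,nat_lit 8970,nat_lit 9055,nat_lit 9264,nat_lit 9646,nat_lit 9655,nat_lit 9689,nat_lit 9798,nat_lit 9990,nat_lit 10035],[nat_lit 10,nat_lit 10037],[nat_lit 5,nat_lit 10203,nat_lit 10219,nat_lit 10421,nat_lit 10539,nat_lit 10590,nat_lit 10707,nat_lit 10780,nat_lit 10935,nat_lit 10991],[nat_lit 10,nat_lit 11079,nat_lit 11129],[nat_lit 5,nat_lit 11218,nat_lit 11268,nat_lit 11434,nat_lit 11445,nat_lit 11456],[nat_lit 10,nat_lit 11458],[nat_lit 5,nat_lit 11620,nat_lit 11748,nat_lit 11764,nat_lit 11849,nat_lit 12219,nat_lit 12276,nat_lit 12330,nat_lit 12543,nat_lit 12564,nat_lit 12702,nat_lit 12889,nat_lit 13187],[nat_lit 10,nat_lit 13396],[nat_lit 5,nat_lit 13481,nat_lit 13490,nat_lit 13592,nat_lit 13598,nat_lit 13603,nat_lit 13834,nat_lit 14155,nat_lit 14231],[nat_lit 10,nat_lit 14234],[nat_lit 5,nat_lit 14490,nat_lit 14811,nat_lit 15120,nat_lit 15230],[nat_lit 10,nat_lit 15458],[nat_lit 5,nat_lit 15478,nat_lit 15540,nat_lit 15755],[nat_lit 6,nat_lit 2331,nat_lit 2898,nat_lit 3843,nat_lit 6162],[nat_lit 8,nat_lit 7078],[nat_lit 6,nat_lit 8615,nat_lit 8769,nat_lit 8975,nat_lit 9109,nat_lit 9117,nat_lit 9883],[nat_lit 8,nat_lit 9888],[nat_lit 6,nat_lit 10005,nat_lit 10020,nat_lit 10054,nat_lit 10103],[nat_lit 10,nat_lit 10109],[nat_lit 6,nat_lit 10406,nat_lit 10491,nat_lit 10649,nat_lit 10738,nat_lit 10774,nat_lit 10874,nat_lit 10910,nat_lit 10941,nat_lit 11050,nat_lit 11430,nat_lit 11457,nat_lit 11518,nat_lit 11583,nat_lit 11636,nat_lit 11727],[nat_lit 10,nat_lit 11774],[nat_lit 6,nat_lit 11776],[nat_lit 10,nat_lit 11865],[nat_lit 6,nat_lit 11922,nat_lit 12353,nat_lit 12384,nat_lit 12392,nat_lit 12404],[nat_lit 10,nat_lit 12530],[nat_lit 6,nat_lit 12547,nat_lit 12551,nat_lit 12741],[nat_lit 10,nat_lit 12808],[nat_lit 6,nat_lit 13126,nat_lit 13163,nat_lit 13178],[nat_lit 10,nat_lit 13225],[nat_lit 6,nat_lit 13372],[nat_lit 8,nat_lit 13379],[nat_lit 6,nat_lit 13509],[nat_lit 10,nat_lit 13522],[nat_lit 6,nat_lit 13901,nat_lit 13907,nat_lit 13996,nat_lit 14438,nat_lit 15542],[nat_lit 134,nat_lit 52,nat_lit 66,nat_lit 83,nat_lit 87],[nat_lit 59,nat_lit 129],[nat_lit 134,nat_lit 120],[nat_lit 153,nat_lit 174],[nat_lit 59,nat_lit 251],[nat_lit 134,nat_lit 2720,nat_lit 4197,nat_lit 4498,nat_lit 4947,nat_lit 5213,nat_lit 5297,nat_lit 5653,nat_lit 5950,nat_lit 6028,nat_lit 6038,nat_lit 6047,nat_lit 6541,nat_lit 6556,nat_lit 6616,nat_lit 6830,nat_lit 6899,nat_lit 6914,nat_lit 6933,nat_lit 7015,nat_lit 7275,nat_lit 7363,nat_lit 7390,nat_lit 7412,nat_lit 7453,nat_lit 7487],[nat_lit 59,nat_lit 8529],[nat_lit 134,nat_lit 7521,nat_lit 7628,nat_lit 7762],[nat_lit 59,nat_lit 8865],[nat_lit 134,nat_lit 7879,nat_lit 7904,nat_lit 7963,nat_lit 8014,nat_lit 8247],[nat_lit 59,nat_lit 9449],[nat_lit 134,nat_lit 8377],[nat_lit 59,nat_lit 9613],[nat_lit 134,nat_lit 8578,nat_lit 8635,nat_lit 8640,nat_lit 8732,nat_lit 8867,nat_lit 8895,nat_lit 8933,nat_lit 8941,nat_lit 8968,nat_lit 9035,nat_lit 9104,nat_lit 9232,nat_lit 9262,nat_lit 9432,nat_lit 9562,nat_lit 9681,nat_lit 9720,nat_lit 9884,nat_lit 9886,nat_lit 10006,nat_lit 10021,nat_lit 10211,nat_lit 10216,nat_lit 10222,nat_lit 10303,nat_lit 10375,nat_lit 10407,nat_lit 10520,nat_lit 10572,nat_lit 10584,nat_lit 10588,nat_lit 10606,nat_lit 10650,nat_lit 10760,nat_lit 10808,nat_lit 10911,nat_lit 10945,nat_lit 11018,nat_lit 11067,nat_lit 11109,nat_lit 11288,nat_lit 11314,nat_lit 11357,nat_lit 11472,nat_lit 11519,nat_lit 11542,nat_lit 11600],[nat_lit 59,nat_lit 12581],[nat_lit 134,nat_lit 11856,nat_lit 11928,nat_lit 12034,nat_lit 12102,nat_lit 12263,nat_lit 12377,nat_lit 12419,nat_lit 12884,nat_lit 12953,nat_lit 13164,nat_lit 13190,nat_lit 13653,nat_lit 13712,nat_lit 13717,nat_lit 13902,nat_lit 14079,nat_lit 14219,nat_lit 14310,nat_lit 14331,nat_lit 14559,nat_lit 14756,nat_lit 14909,nat_lit 15330],[nat_lit 7,nat_lit 10958,nat_lit 11186,nat_lit 12405,nat_lit 12654,nat_lit 12680,nat_lit 13232,nat_lit 13243],[nat_lit 10,nat_lit 13245,nat_lit 13471,nat_lit 13951,nat_lit 13963],[nat_lit 7,nat_lit 14081,nat_lit 14171],[nat_lit 135,nat_lit 69,nat_lit 89],[nat_lit 62,nat_lit 142],[nat_lit 135,nat_lit 114,nat_lit 122,nat_lit 173,nat_lit 1181],[nat_lit 62,nat_lit 1908],[nat_lit 135,nat_lit 1766,nat_lit 1884,nat_lit 2117,nat_lit 2198,nat_lit 4823,nat_lit 5626,nat_lit 5994,nat_lit 6851,nat_lit 6855,nat_lit 6892,nat_lit 6911,nat_lit 6965,nat_lit 7140,nat_lit 7408,nat_lit 7448,nat_lit 7685,nat_lit 7811,nat_lit 7833,nat_lit 7875,nat_lit 7899,nat_lit 8044,nat_lit 8184,nat_lit 8391,nat_lit 8403,nat_lit 8433,nat_lit 8470,nat_lit 8540,nat_lit 8674,nat_lit 8727,nat_lit 8762,nat_lit 8768,nat_lit 8860,nat_lit 8879,nat_lit 9014,nat_lit 9248,nat_lit 9320,nat_lit 9333,nat_lit 9465,nat_lit 9478,nat_lit 9547,nat_lit 9609,nat_lit 9715,nat_lit 9741,nat_lit 9842,nat_lit 9864,nat_lit 9876,nat_lit 9938,nat_lit 9983,nat_lit 10019,nat_lit 10070,nat_lit 10163,nat_lit 10341,nat_lit 10382,nat_lit 10397,nat_lit 10482,nat_lit 10704,nat_lit 10800,nat_lit 10802,nat_lit 10983,nat_lit 11106,nat_lit 11345,nat_lit 11429,nat_lit 11498,nat_lit 11552,nat_lit 11807,nat_lit 11825,nat_lit 11898,nat_lit 12291],[nat_lit 62,nat_lit 13146],[nat_lit 135,nat_lit 12352,nat_lit 12371,nat_lit 12421,nat_lit 12746,nat_lit 12922,nat_lit 12956],[nat_lit 62,nat_lit 13862],[nat_lit 135,nat_lit 13183,nat_lit 13581,nat_lit 13588,nat_lit 13994,nat_lit 14244,nat_lit 15059],[nat_lit 8,nat_lit 12188,nat_lit 13244],[nat_lit 10,nat_lit 13964],[nat_lit 136,nat_lit 94,nat_lit 125],[nat_lit 64,nat_lit 199],[nat_lit 136,nat_lit 165,nat_lit 177,nat_lit 248,nat_lit 7461,nat_lit 7879,nat_lit 8421,nat_lit 8771,nat_lit 9119,nat_lit 9454,nat_lit 9641,nat_lit 9878,nat_lit 10465,nat_lit 10523,nat_lit 10572,nat_lit 10693,nat_lit 10945,nat_lit 10955,nat_lit 11018,nat_lit 11228,nat_lit 11932,nat_lit 14008,nat_lit 14627,nat_lit 14806],[nat_lit 137,nat_lit 429,nat_lit 515,nat_lit 558,nat_lit 573,nat_lit 612,nat_lit 644,nat_lit 669,nat_lit 681,nat_lit 709,nat_lit 731,nat_lit 743,nat_lit 751,nat_lit 796,nat_lit 813,nat_lit 829,nat_lit 836,nat_lit 867,nat_lit 875,nat_lit 913,nat_lit 923,nat_lit 938,nat_lit 951,nat_lit 975,nat_lit 1021,nat_lit 1038,nat_lit 1059,nat_lit 1066,nat_lit 1091,nat_lit 1099,nat_lit 1107,nat_lit 1117,nat_lit 1165,nat_lit 1176,nat_lit 1189,nat_lit 1198,nat_lit 1205,nat_lit 1285,nat_lit 1294,nat_lit 1313,nat_lit 1328,nat_lit 1333,nat_lit 1343,nat_lit 1385,nat_lit 1397,nat_lit 1407,nat_lit 1474,nat_lit 1494,nat_lit 1528,nat_lit 1568,nat_lit 1626,nat_lit 1681,nat_lit 1689,nat_lit 1742,nat_lit 1757,nat_lit 1811,nat_lit 1857,nat_lit 1865,nat_lit 1949,nat_lit 2047,nat_lit 2078,nat_lit 2110,nat_lit 2184,nat_lit 2216,nat_lit 2240,nat_lit 2244,nat_lit 2312,nat_lit 2334,nat_lit 2381,nat_lit 2581,nat_lit 2620,nat_lit 2710,nat_lit 2723,nat_lit 2747,nat_lit 2899,nat_lit 2915,nat_lit 3150,nat_lit 3203,nat_lit 3312,nat_lit 3324,nat_lit 3525,nat_lit 3844,nat_lit 4581,nat_lit 10951,nat_lit 11111,nat_lit 11131,nat_lit 11681,nat_lit 11894,nat_lit 11929,nat_lit 12050,nat_lit 12129,nat_lit 12379,nat_lit 12407,nat_lit 12753,nat_lit 13192,nat_lit 13884,nat_lit 13965,nat_lit 14172,nat_lit 14486,nat_lit 14562,nat_lit 14630,nat_lit 14748,nat_lit 15163,nat_lit 15401,nat_lit 15489,nat_lit 15550,nat_lit 15846,nat_lit 15852,nat_lit 15971,nat_lit 16105],[nat_lit 138,nat_lit 578,nat_lit 687,nat_lit 740,nat_lit 757,nat_lit 798,nat_lit 839,nat_lit 884,nat_lit 920,nat_lit 949,nat_lit 963,nat_lit 1043,nat_lit 1065,nat_lit 1073,nat_lit 1116,nat_lit 1128,nat_lit 1174,nat_lit 1186,nat_lit 1216,nat_lit 1229,nat_lit 1293,nat_lit 1342,nat_lit 1350,nat_lit 1383,nat_lit 1395,nat_lit 1417,nat_lit 1429,nat_lit 1491,nat_lit 1508,nat_lit 1510,nat_lit 1633,nat_lit 1662,nat_lit 1699,nat_lit 1754,nat_lit 1767,nat_lit 1769,nat_lit 1794,nat_lit 1886,nat_lit 1890,nat_lit 1907,nat_lit 2046,nat_lit 2053,nat_lit 2084,nat_lit 2108,nat_lit 2118,nat_lit 2120,nat_lit 2132,nat_lit 2199,nat_lit 2201,nat_lit 2214,nat_lit 2347,nat_lit 2606,nat_lit 2608,nat_lit 2618,nat_lit 2721,nat_lit 3322,nat_lit 3850,nat_lit 15997,nat_lit 16094,nat_lit 16220],[nat_lit 12,nat_lit 4,nat_lit 8],[nat_lit 140,nat_lit 2029],[nat_lit 33,nat_lit 3105],[nat_lit 34,nat_lit 3772],[nat_lit 140,nat_lit 3569,nat_lit 3582,nat_lit 3630,nat_lit 3635,nat_lit 4032,nat_lit 4043,nat_lit 4253,nat_lit 4278,nat_lit 4311],[nat_lit 33,nat_lit 5107],[nat_lit 140,nat_lit 4328],[nat_lit 33,nat_lit 5137],[nat_lit 140,nat_lit 4375,nat_lit 4382],[nat_lit 33,nat_lit 5209],[nat_lit 140,nat_lit 4551,nat_lit 4611,nat_lit 4728,nat_lit 4783],[nat_lit 33,nat_lit 5619,nat_lit 5638],[nat_lit 140,nat_lit 4847,nat_lit 4853,nat_lit 5010],[nat_lit 33,nat_lit 5853],[nat_lit 140,nat_lit 5042],[nat_lit 33,nat_lit 5890],[nat_lit 140,nat_lit 5074,nat_lit 5082,nat_lit 5089],[nat_lit 33,nat_lit 5949,nat_lit 5979],[nat_lit 34,nat_lit 5991],[nat_lit 140,nat_lit 5178,nat_lit 5181],[nat_lit 33,nat_lit 6037],[nat_lit 140,nat_lit 5204,nat_lit 5225,nat_lit 5346],[nat_lit 33,nat_lit 6256],[nat_lit 140,nat_lit 5427,nat_lit 5449],[nat_lit 33,nat_lit 6357],[nat_lit 140,nat_lit 5522,nat_lit 5552,nat_lit 5581,nat_lit 5595],[nat_lit 33,nat_lit 6461],[nat_lit 34,nat_lit 6503],[nat_lit 140,nat_lit 5664],[nat_lit 33,nat_lit 6562],[nat_lit 140,nat_lit 5818,nat_lit 5823],[nat_lit 33,nat_lit 6720],[nat_lit 34,nat_lit 6732],[nat_lit 140,nat_lit 5875],[nat_lit 33,nat_lit 6768],[nat_lit 140,nat_lit 5913,nat_lit 5924,nat_lit 5929,nat_lit 5935],[nat_lit 33,nat_lit 6840],[nat_lit 34,nat_lit 6889,nat_lit 6960],[nat_lit 140,nat_lit 6178,nat_lit 6182],[nat_lit 33,nat_lit 7111],[nat_lit 140,nat_lit 6264,nat_lit 6273,nat_lit 6292,nat_lit 6344],[nat_lit 33,nat_lit 7274],[nat_lit 140,nat_lit 6386,nat_lit 6391,nat_lit 6420,nat_lit 6446],[nat_lit 35,nat_lit 7460],[nat_lit 33,nat_lit 7654],[nat_lit 34,nat_lit 7684],[nat_lit 33,nat_lit 7725,nat_lit 7761],[nat_lit 34,nat_lit 7787],[nat_lit 33,nat_lit 7797],[nat_lit 140,nat_lit 7091],[nat_lit 33,nat_lit 8094,nat_lit 8099],[nat_lit 140,nat_lit 7245],[nat_lit 33,nat_lit 8246,nat_lit 8309,nat_lit 8349],[nat_lit 140,nat_lit 7373],[nat_lit 34,nat_lit 8673,nat_lit 8788],[nat_lit 33,nat_lit 9153,nat_lit 9296],[nat_lit 140,nat_lit 13801,nat_lit 14850,nat_lit 15396],[nat_lit 141,nat_lit 16,nat_lit 4334,nat_lit 4392,nat_lit 4806,nat_lit 4856,nat_lit 5048,nat_lit 5095],[nat_lit 40,nat_lit 5987],[nat_lit 141,nat_lit 5176,nat_lit 5184,nat_lit 5231,nat_lit 5343,nat_lit 5352,nat_lit 5409,nat_lit 5466],[nat_lit 40,nat_lit 6499],[nat_lit 141,nat_lit 5671,nat_lit 5843,nat_lit 5881],[nat_lit 40,nat_lit 6773],[nat_lit 141,nat_lit 5922,nat_lit 5933],[nat_lit 40,nat_lit 6848,nat_lit 6941],[nat_lit 141,nat_lit 6032,nat_lit 6077],[nat_lit 40,nat_lit 7014],[nat_lit 141,nat_lit 6191,nat_lit 6195],[nat_lit 40,nat_lit 7177,nat_lit 7231],[nat_lit 141,nat_lit 6397,nat_lit 6429,nat_lit 6451,nat_lit 6527],[nat_lit 40,nat_lit 7497],[nat_lit 141,nat_lit 6668],[nat_lit 40,nat_lit 7683],[nat_lit 141,nat_lit 6754],[nat_lit 40,nat_lit 7730],[nat_lit 141,nat_lit 6795,nat_lit 6798,nat_lit 6810,nat_lit 6819],[nat_lit 40,nat_lit 7804],[nat_lit 41,nat_lit 7943],[nat_lit 40,nat_lit 8013],[nat_lit 141,nat_lit 7093,nat_lit 7097,nat_lit 7158,nat_lit 7255,nat_lit 7296,nat_lit 7309],[nat_lit 40,nat_lit 8359],[nat_lit 141,nat_lit 7371],[nat_lit 40,nat_lit 8502],[nat_lit 41,nat_lit 8523],[nat_lit 141,nat_lit 7612],[nat_lit 40,nat_lit 8639],[nat_lit 141,nat_lit 7753],[nat_lit 41,nat_lit 8825],[nat_lit 40,nat_lit 8844],[nat_lit 141,nat_lit 8090],[nat_lit 40,nat_lit 9157],[nat_lit 141,nat_lit 8125,nat_lit 8284],[nat_lit 41,nat_lit 9436],[nat_lit 40,nat_lit 9460],[nat_lit 41,nat_lit 9602],[nat_lit 325,nat_lit 3],[nat_lit 142,nat_lit 5131,nat_lit 5198,nat_lit 5850,nat_lit 6023,nat_lit 6456,nat_lit 6703,nat_lit 6807,nat_lit 6824,nat_lit 6837],[nat_lit 46,nat_lit 7933],[nat_lit 142,nat_lit 6950,nat_lit 7315,nat_lit 7377],[nat_lit 46,nat_lit 8410],[nat_lit 142,nat_lit 7619,nat_lit 7720,nat_lit 7758,nat_lit 7778,nat_lit 7795],[nat_lit 46,nat_lit 8850],[nat_lit 47,nat_lit 9003],[nat_lit 142,nat_lit 8243,nat_lit 8306],[nat_lit 46,nat_lit 9470,nat_lit 9731,nat_lit 9850],[nat_lit 47,nat_lit 9932],[nat_lit 48,nat_lit 10132],[nat_lit 15,nat_lit 1169,nat_lit 1214,nat_lit 1378,nat_lit 1415],[nat_lit 17,nat_lit 1482],[nat_lit 20,nat_lit 1484],[nat_lit 15,nat_lit 1675,nat_lit 1697],[nat_lit 20,nat_lit 1750,nat_lit 1881],[nat_lit 15,nat_lit 2040],[nat_lit 17,nat_lit 2102],[nat_lit 15,nat_lit 2196],[nat_lit 20,nat_lit 2604],[nat_lit 15,nat_lit 3754,nat_lit 3773,nat_lit 4402,nat_lit 4499],[nat_lit 17,nat_lit 4511],[nat_lit 15,nat_lit 4924,nat_lit 4957,nat_lit 5108,nat_lit 5138,nat_lit 5203,nat_lit 5236,nat_lit 5282],[nat_lit 17,nat_lit 5310],[nat_lit 15,nat_lit 5620,nat_lit 5772,nat_lit 5892,nat_lit 5951,nat_lit 5959],[nat_lit 19,nat_lit 5966],[nat_lit 15,nat_lit 5980],[nat_lit 17,nat_lit 5993],[nat_lit 19,nat_lit 5994],[nat_lit 15,nat_lit 6029,nat_lit 6039,nat_lit 6048],[nat_lit 19,nat_lit 6062],[nat_lit 15,nat_lit 6071,nat_lit 6089,nat_lit 6125,nat_lit 6130],[nat_lit 17,nat_lit 6136],[nat_lit 18,nat_lit 6160],[nat_lit 15,nat_lit 6358,nat_lit 6405,nat_lit 6463],[nat_lit 19,nat_lit 6484],[nat_lit 15,nat_lit 6492,nat_lit 6505,nat_lit 6542,nat_lit 6557,nat_lit 6605,nat_lit 6617,nat_lit 6620,nat_lit 6769],[nat_lit 17,nat_lit 6779],[nat_lit 15,nat_lit 6815,nat_lit 6832,nat_lit 6842],[nat_lit 17,nat_lit 6854],[nat_lit 19,nat_lit 6855],[nat_lit 17,nat_lit 6865],[nat_lit 20,nat_lit 6876],[nat_lit 17,nat_lit 6891],[nat_lit 19,nat_lit 6892,nat_lit 6914],[nat_lit 15,nat_lit 6943],[nat_lit 17,nat_lit 6948,nat_lit 6964],[nat_lit 19,nat_lit 6977],[nat_lit 20,nat_lit 7003],[nat_lit 15,nat_lit 7029,nat_lit 7038],[nat_lit 17,nat_lit 7050,nat_lit 7054],[nat_lit 19,nat_lit 7055],[nat_lit 18,nat_lit 7060],[nat_lit 15,nat_lit 7104,nat_lit 7221,nat_lit 7228,nat_lit 7232,nat_lit 7267,nat_lit 7276,nat_lit 7322,nat_lit 7365,nat_lit 7383,nat_lit 7392],[nat_lit 17,nat_lit 7407],[nat_lit 19,nat_lit 7408],[nat_lit 17,nat_lit 7447],[nat_lit 19,nat_lit 7448],[nat_lit 15,nat_lit 7488],[nat_lit 17,nat_lit 7504],[nat_lit 19,nat_lit 7518],[nat_lit 15,nat_lit 7538,nat_lit 7558],[nat_lit 17,nat_lit 7565],[nat_lit 19,nat_lit 7574],[nat_lit 17,nat_lit 7578],[nat_lit 15,nat_lit 7657,nat_lit 7785],[nat_lit 19,nat_lit 7792],[nat_lit 15,nat_lit 7798,nat_lit 7805],[nat_lit 17,nat_lit 7810],[nat_lit 19,nat_lit 7811],[nat_lit 17,nat_lit 7821],[nat_lit 19,nat_lit 7839],[nat_lit 18,nat_lit 7851],[nat_lit 15,nat_lit 7853],[nat_lit 18,nat_lit 7878],[nat_lit 17,nat_lit 7944],[nat_lit 19,nat_lit 7951,nat_lit 7971],[nat_lit 15,nat_lit 8015],[nat_lit 17,nat_lit 8037],[nat_lit 18,nat_lit 8058],[nat_lit 15,nat_lit 8100],[nat_lit 17,nat_lit 8218],[nat_lit 19,nat_lit 8224,nat_lit 8227],[nat_lit 17,nat_lit 8267],[nat_lit 19,nat_lit 8268],[nat_lit 15,nat_lit 8298,nat_lit 8310],[nat_lit 17,nat_lit 8319],[nat_lit 15,nat_lit 8360],[nat_lit 19,nat_lit 8368],[nat_lit 15,nat_lit 8378,nat_lit 8385],[nat_lit 17,nat_lit 8390],[nat_lit 19,nat_lit 8391],[nat_lit 17,nat_lit 8402],[nat_lit 19,nat_lit 8403],[nat_lit 15,nat_lit 8411],[nat_lit 19,nat_lit 8465],[nat_lit 17,nat_lit 8510,nat_lit 8575],[nat_lit 19,nat_lit 8576,nat_lit 8585],[nat_lit 18,nat_lit 8598],[nat_lit 19,nat_lit 8599],[nat_lit 15,nat_lit 8658],[nat_lit 17,nat_lit 8678],[nat_lit 19,nat_lit 8679],[nat_lit 15,nat_lit 8815],[nat_lit 19,nat_lit 8846],[nat_lit 17,nat_lit 8857],[nat_lit 19,nat_lit 8946],[nat_lit 18,nat_lit 9018],[nat_lit 19,nat_lit 9019,nat_lit 9083,nat_lit 9104,nat_lit 9166],[nat_lit 15,nat_lit 9195,nat_lit 9227,nat_lit 9250,nat_lit 9299,nat_lit 9315],[nat_lit 17,nat_lit 9368],[nat_lit 19,nat_lit 9369,nat_lit 9385],[nat_lit 18,nat_lit 9397],[nat_lit 17,nat_lit 9438,nat_lit 9467],[nat_lit 15,nat_lit 9471],[nat_lit 17,nat_lit 9475],[nat_lit 19,nat_lit 9483],[nat_lit 18,nat_lit 9496],[nat_lit 19,nat_lit 9497],[nat_lit 17,nat_lit 9506],[nat_lit 19,nat_lit 9614,nat_lit 9754],[nat_lit 15,nat_lit 9927],[nat_lit 17,nat_lit 9937],[nat_lit 15,nat_lit 9964,nat_lit 10283],[nat_lit 17,nat_lit 10292],[nat_lit 15,nat_lit 10317],[nat_lit 17,nat_lit 10322],[nat_lit 15,nat_lit 10333],[nat_lit 17,nat_lit 10345],[nat_lit 15,nat_lit 10370,nat_lit 10449],[nat_lit 18,nat_lit 10461],[nat_lit 15,nat_lit 10474],[nat_lit 19,nat_lit 10493],[nat_lit 17,nat_lit 10565],[nat_lit 15,nat_lit 10805],[nat_lit 17,nat_lit 11002,nat_lit 11045],[nat_lit 15,nat_lit 11323],[nat_lit 17,nat_lit 11352],[nat_lit 19,nat_lit 11357],[nat_lit 17,nat_lit 11370,nat_lit 11487],[nat_lit 19,nat_lit 11494],[nat_lit 15,nat_lit 11506],[nat_lit 17,nat_lit 11511],[nat_lit 19,nat_lit 11799],[nat_lit 18,nat_lit 11992],[nat_lit 17,nat_lit 12455],[nat_lit 20,nat_lit 12696],[nat_lit 19,nat_lit 12884],[nat_lit 16,nat_lit 1879,nat_lit 2534,nat_lit 2602],[nat_lit 20,nat_lit 3187],[nat_lit 16,nat_lit 5316,nat_lit 7463,nat_lit 8046,nat_lit 8054,nat_lit 8423,nat_lit 8463],[nat_lit 19,nat_lit 8482],[nat_lit 16,nat_lit 8530,nat_lit 8866,nat_lit 8882],[nat_lit 19,nat_lit 9113],[nat_lit 16,nat_lit 9283,nat_lit 9482,nat_lit 9495],[nat_lit 18,nat_lit 9525,nat_lit 9634],[nat_lit 16,nat_lit 9675,nat_lit 9683,nat_lit 9782,nat_lit 9984],[nat_lit 19,nat_lit 9993,nat_lit 10363],[nat_lit 16,nat_lit 10403,nat_lit 10533,nat_lit 10560,nat_lit 10568,nat_lit 10605],[nat_lit 19,nat_lit 10627,nat_lit 10763,nat_lit 10856],[nat_lit 16,nat_lit 11016],[nat_lit 19,nat_lit 11069],[nat_lit 16,nat_lit 11381],[nat_lit 19,nat_lit 11437],[nat_lit 18,nat_lit 11573,nat_lit 11602],[nat_lit 16,nat_lit 11607],[nat_lit 18,nat_lit 11611],[nat_lit 19,nat_lit 11612],[nat_lit 16,nat_lit 11679],[nat_lit 20,nat_lit 11852],[nat_lit 16,nat_lit 11991],[nat_lit 19,nat_lit 12006],[nat_lit 16,nat_lit 12043,nat_lit 12323,nat_lit 12436,nat_lit 12460],[nat_lit 19,nat_lit 12548,nat_lit 12612,nat_lit 12883],[nat_lit 18,nat_lit 12933],[nat_lit 19,nat_lit 13165],[nat_lit 16,nat_lit 13288],[nat_lit 18,nat_lit 13293],[nat_lit 16,nat_lit 13378,nat_lit 13716],[nat_lit 19,nat_lit 13998,nat_lit 14002],[nat_lit 18,nat_lit 14080],[nat_lit 16,nat_lit 14162],[nat_lit 18,nat_lit 14339],[nat_lit 16,nat_lit 14801],[nat_lit 144,nat_lit 71,nat_lit 91],[nat_lit 59,nat_lit 151],[nat_lit 144,nat_lit 115,nat_lit 123,nat_lit 129,nat_lit 174],[nat_lit 59,nat_lit 258,nat_lit 350],[nat_lit 144,nat_lit 6516,nat_lit 7908,nat_lit 8972,nat_lit 10029,nat_lit 10077,nat_lit 10100,nat_lit 10214,nat_lit 10326,nat_lit 10664,nat_lit 10956,nat_lit 11112,nat_lit 11267,nat_lit 11616,nat_lit 11630,nat_lit 11633,nat_lit 11682,nat_lit 11895,nat_lit 11934,nat_lit 12070,nat_lit 12107,nat_lit 12468],[nat_lit 59,nat_lit 13393,nat_lit 13551],[nat_lit 144,nat_lit 12814,nat_lit 12993,nat_lit 13217,nat_lit 13651,nat_lit 13714,nat_lit 13910,nat_lit 14334,nat_lit 14628,nat_lit 14733,nat_lit 14808,nat_lit 14824,nat_lit 15289],[nat_lit 17,nat_lit 12519,nat_lit 12554],[nat_lit 19,nat_lit 13350,nat_lit 13384],[nat_lit 17,nat_lit 14629],[nat_lit 19,nat_lit 15063],[nat_lit 145,nat_lit 96,nat_lit 126,nat_lit 166,nat_lit 178],[nat_lit 62,nat_lit 269],[nat_lit 145,nat_lit 249],[nat_lit 62,nat_lit 357,nat_lit 469],[nat_lit 145,nat_lit 7880,nat_lit 7905,nat_lit 7972,nat_lit 8141,nat_lit 8425,nat_lit 8466,nat_lit 8896,nat_lit 8942,nat_lit 8969],[nat_lit 62,nat_lit 10305],[nat_lit 145,nat_lit 9540,nat_lit 9830,nat_lit 9887,nat_lit 9988,nat_lit 10573,nat_lit 10651,nat_lit 10706,nat_lit 10821,nat_lit 10912,nat_lit 10934,nat_lit 10946,nat_lit 11110,nat_lit 11378,nat_lit 11433,nat_lit 11520,nat_lit 11795],[nat_lit 62,nat_lit 12779],[nat_lit 145,nat_lit 11972,nat_lit 12103,nat_lit 12378,nat_lit 12720,nat_lit 12781,nat_lit 13191,nat_lit 13211,nat_lit 14220,nat_lit 14227,nat_lit 15403],[nat_lit 146,nat_lit 134,nat_lit 183,nat_lit 236],[nat_lit 64,nat_lit 368],[nat_lit 146,nat_lit 8947,nat_lit 9890,nat_lit 11616,nat_lit 11934,nat_lit 11944,nat_lit 12819,nat_lit 14573,nat_lit 15060,nat_lit 15207],[nat_lit 19,nat_lit 153,nat_lit 191,nat_lit 214,nat_lit 271,nat_lit 292,nat_lit 308,nat_lit 351,nat_lit 359,nat_lit 382,nat_lit 394,nat_lit 411,nat_lit 485,nat_lit 503,nat_lit 534,nat_lit 606,nat_lit 623,nat_lit 627,nat_lit 638,nat_lit 673,nat_lit 711,nat_lit 757,nat_lit 810,nat_lit 831,nat_lit 857,nat_lit 884,nat_lit 926,nat_lit 949,nat_lit 1014,nat_lit 1040,nat_lit 1053,nat_lit 1073,nat_lit 1102,nat_lit 1116,nat_lit 1174,nat_lit 1216,nat_lit 1293,nat_lit 1307,nat_lit 1334,nat_lit 1342,nat_lit 1383,nat_lit 1417,nat_lit 1491,nat_lit 1550,nat_lit 1640,nat_lit 1657,nat_lit 1699,nat_lit 1754,nat_lit 1794,nat_lit 1886,nat_lit 1890,nat_lit 2132,nat_lit 2199,nat_lit 2201,nat_lit 2347,nat_lit 2540,nat_lit 2608,nat_lit 2721,nat_lit 2956,nat_lit 3189,nat_lit 3850,nat_lit 6520,nat_lit 7918,nat_lit 8459,nat_lit 8485,nat_lit 8982,nat_lit 9538,nat_lit 9543,nat_lit 10046,nat_lit 11085,nat_lit 11375,nat_lit 11902,nat_lit 11953,nat_lit 12054,nat_lit 12128,nat_lit 12167,nat_lit 12319,nat_lit 12430,nat_lit 12807,nat_lit 13012,nat_lit 13019,nat_lit 13256,nat_lit 13317,nat_lit 13880,nat_lit 14463,nat_lit 14535,nat_lit 14539,nat_lit 14579,nat_lit 14641,nat_lit 14693,nat_lit 14699,nat_lit 14748,nat_lit 14861,nat_lit 15026,nat_lit 15057,nat_lit 15160,nat_lit 15364,nat_lit 15473,nat_lit 15652,nat_lit 16223],[nat_lit 147,nat_lit 582,nat_lit 688,nat_lit 799,nat_lit 840,nat_lit 876,nat_lit 885,nat_lit 978,nat_lit 1044,nat_lit 1067,nat_lit 1074,nat_lit 1118,nat_lit 1131,nat_lit 1177,nat_lit 1190,nat_lit 1219,nat_lit 1245,nat_lit 1295,nat_lit 1344,nat_lit 1353,nat_lit 1386,nat_lit 1398,nat_lit 1408,nat_lit 1420,nat_lit 1475,nat_lit 1516,nat_lit 1529,nat_lit 1536,nat_lit 1634,nat_lit 1643,nat_lit 1665,nat_lit 1682,nat_lit 1690,nat_lit 1702,nat_lit 1758,nat_lit 1773,nat_lit 1783,nat_lit 1867,nat_lit 1895,nat_lit 1934,nat_lit 1980,nat_lit 2048,nat_lit 2111,nat_lit 2122,nat_lit 2186,nat_lit 2206,nat_lit 2264,nat_lit 2313,nat_lit 2323,nat_lit 2431,nat_lit 2543,nat_lit 2575,nat_lit 2612,nat_lit 2703,nat_lit 2782,nat_lit 2787,nat_lit 2875,nat_lit 2900,nat_lit 2957,nat_lit 3314,nat_lit 3327,nat_lit 3359,nat_lit 3527,nat_lit 3995,nat_lit 4010,nat_lit 4261,nat_lit 4582,nat_lit 5370,nat_lit 12109,nat_lit 12131,nat_lit 12614,nat_lit 12815,nat_lit 13021,nat_lit 13219,nat_lit 13247,nat_lit 13532,nat_lit 14476,nat_lit 14689,nat_lit 15064,nat_lit 15164,nat_lit 15493,nat_lit 15746],[nat_lit 148,nat_lit 765,nat_lit 891,nat_lit 969,nat_lit 984,nat_lit 1027,nat_lit 1078,nat_lit 1139,nat_lit 1188,nat_lit 1218,nat_lit 1231,nat_lit 1319,nat_lit 1352,nat_lit 1361,nat_lit 1419,nat_lit 1431,nat_lit 1493,nat_lit 1512,nat_lit 1552,nat_lit 1571,nat_lit 1642,nat_lit 1701,nat_lit 1711,nat_lit 1756,nat_lit 1771,nat_lit 1796,nat_lit 1812,nat_lit 1892,nat_lit 1911,nat_lit 1913,nat_lit 2055,nat_lit 2086,nat_lit 2134,nat_lit 2203,nat_lit 2217,nat_lit 2219,nat_lit 2245,nat_lit 2354,nat_lit 2357,nat_lit 2382,nat_lit 2542,nat_lit 2550,nat_lit 2610,nat_lit 2621,nat_lit 2623,nat_lit 2725,nat_lit 2727,nat_lit 2748,nat_lit 2916,nat_lit 3191,nat_lit 3193,nat_lit 3204,nat_lit 3325,nat_lit 4008,nat_lit 4589],[nat_lit 149,nat_lit 4,nat_lit 8],[nat_lit 150,nat_lit 4,nat_lit 5133,nat_lit 5200,nat_lit 5692,nat_lit 6035],[nat_lit 40,nat_lit 6983],[nat_lit 150,nat_lit 6189,nat_lit 6197,nat_lit 6809,nat_lit 6826,nat_lit 6952],[nat_lit 40,nat_lit 7962],[nat_lit 41,nat_lit 7989],[nat_lit 150,nat_lit 7110,nat_lit 7114,nat_lit 7317,nat_lit 7759,nat_lit 7766],[nat_lit 41,nat_lit 9037],[nat_lit 150,nat_lit 8093,nat_lit 8098,nat_lit 8244,nat_lit 8292,nat_lit 8308,nat_lit 8780],[nat_lit 40,nat_lit 9902],[nat_lit 150,nat_lit 8825,nat_lit 8844,nat_lit 9152],[nat_lit 40,nat_lit 10388],[nat_lit 150,nat_lit 9353],[nat_lit 40,nat_lit 10476,nat_lit 10965],[nat_lit 41,nat_lit 10973],[nat_lit 40,nat_lit 11293,nat_lit 11478],[nat_lit 41,nat_lit 12427],[nat_lit 42,nat_lit 13265],[nat_lit 326,nat_lit 3],[nat_lit 151,nat_lit 4],[nat_lit 166,nat_lit 16],[nat_lit 151,nat_lit 5985,nat_lit 6055,nat_lit 6727],[nat_lit 46,nat_lit 7886],[nat_lit 151,nat_lit 7665],[nat_lit 46,nat_lit 8711],[nat_lit 151,nat_lit 7777,nat_lit 7801,nat_lit 7816,nat_lit 7953,nat_lit 8784,nat_lit 8841,nat_lit 8850,nat_lit 9304,nat_lit 9377],[nat_lit 46,nat_lit 10970,nat_lit 11041,nat_lit 11418,nat_lit 11507],[nat_lit 24,nat_lit 348,nat_lit 466,nat_lit 915,nat_lit 960,nat_lit 1093,nat_lit 1124,nat_lit 1180],[nat_lit 29,nat_lit 1182],[nat_lit 24,nat_lit 1281,nat_lit 1329,nat_lit 1348],[nat_lit 26,nat_lit 1389],[nat_lit 29,nat_lit 1391,nat_lit 1504,nat_lit 1629],[nat_lit 26,nat_lit 1683],[nat_lit 29,nat_lit 1685],[nat_lit 24,nat_lit 1764],[nat_lit 29,nat_lit 2115],[nat_lit 24,nat_lit 3462,nat_lit 3592,nat_lit 3638,nat_lit 3717,nat_lit 4053],[nat_lit 26,nat_lit 4195],[nat_lit 24,nat_lit 4321,nat_lit 4341,nat_lit 4396],[nat_lit 26,nat_lit 4480],[nat_lit 24,nat_lit 4494,nat_lit 4502,nat_lit 4669,nat_lit 4705,nat_lit 4799,nat_lit 4813],[nat_lit 26,nat_lit 4822],[nat_lit 24,nat_lit 4883,nat_lit 4940],[nat_lit 27,nat_lit 4959],[nat_lit 24,nat_lit 5051,nat_lit 5100],[nat_lit 26,nat_lit 5115],[nat_lit 24,nat_lit 5128,nat_lit 5195,nat_lit 5274,nat_lit 5278],[nat_lit 27,nat_lit 5289],[nat_lit 24,nat_lit 5293],[nat_lit 27,nat_lit 5311],[nat_lit 24,nat_lit 5469,nat_lit 5558,nat_lit 5604,nat_lit 5612,nat_lit 5630,nat_lit 5676,nat_lit 5685,nat_lit 5886],[nat_lit 26,nat_lit 5895],[nat_lit 24,nat_lit 5925,nat_lit 5937,nat_lit 5944],[nat_lit 26,nat_lit 5955],[nat_lit 27,nat_lit 5972],[nat_lit 24,nat_lit 6021,nat_lit 6110],[nat_lit 26,nat_lit 6126,nat_lit 6133],[nat_lit 24,nat_lit 6365,nat_lit 6401,nat_lit 6433,nat_lit 6447,nat_lit 6454],[nat_lit 26,nat_lit 6465,nat_lit 6494,nat_lit 6545,nat_lit 6559],[nat_lit 24,nat_lit 6578,nat_lit 6597,nat_lit 6700,nat_lit 6724,nat_lit 6803,nat_lit 6822],[nat_lit 27,nat_lit 7056],[nat_lit 24,nat_lit 7152,nat_lit 7262,nat_lit 7302],[nat_lit 26,nat_lit 7324,nat_lit 7367],[nat_lit 24,nat_lit 7374],[nat_lit 26,nat_lit 7384,nat_lit 7393],[nat_lit 24,nat_lit 7427],[nat_lit 27,nat_lit 7449],[nat_lit 24,nat_lit 7455],[nat_lit 27,nat_lit 7520],[nat_lit 24,nat_lit 7553],[nat_lit 26,nat_lit 7559],[nat_lit 24,nat_lit 7640],[nat_lit 26,nat_lit 7662],[nat_lit 24,nat_lit 7709,nat_lit 7830,nat_lit 7898,nat_lit 7942,nat_lit 8129],[nat_lit 26,nat_lit 8157,nat_lit 8251],[nat_lit 24,nat_lit 8279,nat_lit 8287],[nat_lit 26,nat_lit 8300],[nat_lit 27,nat_lit 8322],[nat_lit 24,nat_lit 8338,nat_lit 8345,nat_lit 8414],[nat_lit 26,nat_lit 8445],[nat_lit 28,nat_lit 8446],[nat_lit 26,nat_lit 8474,nat_lit 8570],[nat_lit 24,nat_lit 8651,nat_lit 8855,nat_lit 8887],[nat_lit 28,nat_lit 8891],[nat_lit 26,nat_lit 9013,nat_lit 9197],[nat_lit 24,nat_lit 9216,nat_lit 9342],[nat_lit 26,nat_lit 9347,nat_lit 9355],[nat_lit 27,nat_lit 9372],[nat_lit 24,nat_lit 9435,nat_lit 9474,nat_lit 9505],[nat_lit 26,nat_lit 9510],[nat_lit 28,nat_lit 9511],[nat_lit 24,nat_lit 9579,nat_lit 9637,nat_lit 9712,nat_lit 9724,nat_lit 9734,nat_lit 9791,nat_lit 9855,nat_lit 9869,nat_lit 9931,nat_lit 9967,nat_lit 9978],[nat_lit 26,nat_lit 9982,nat_lit 10015],[nat_lit 27,nat_lit 10143],[nat_lit 24,nat_lit 10167,nat_lit 10237],[nat_lit 26,nat_lit 10310],[nat_lit 24,nat_lit 10390],[nat_lit 26,nat_lit 10429],[nat_lit 27,nat_lit 10434],[nat_lit 26,nat_lit 10528,nat_lit 10567],[nat_lit 24,nat_lit 10716],[nat_lit 26,nat_lit 10801],[nat_lit 28,nat_lit 10815],[nat_lit 26,nat_lit 10867],[nat_lit 24,nat_lit 10868],[nat_lit 26,nat_lit 10928],[nat_lit 24,nat_lit 10978,nat_lit 10999],[nat_lit 26,nat_lit 11008],[nat_lit 24,nat_lit 11044,nat_lit 11056,nat_lit 11295,nat_lit 11351,nat_lit 11402,nat_lit 11485],[nat_lit 28,nat_lit 11796,nat_lit 11969],[nat_lit 26,nat_lit 11987],[nat_lit 28,nat_lit 12000],[nat_lit 24,nat_lit 12031],[nat_lit 26,nat_lit 12042,nat_lit 12060,nat_lit 12258,nat_lit 12306],[nat_lit 28,nat_lit 12348],[nat_lit 26,nat_lit 12435],[nat_lit 24,nat_lit 12453,nat_lit 12702],[nat_lit 27,nat_lit 12880],[nat_lit 26,nat_lit 12919],[nat_lit 28,nat_lit 13110,nat_lit 13287,nat_lit 13647],[nat_lit 25,nat_lit 1502,nat_lit 2113,nat_lit 2211],[nat_lit 29,nat_lit 2615],[nat_lit 25,nat_lit 5652,nat_lit 7040,nat_lit 7051,nat_lit 7411,nat_lit 7506,nat_lit 8369,nat_lit 8392,nat_lit 8404],[nat_lit 27,nat_lit 8427,nat_lit 8533],[nat_lit 25,nat_lit 8681,nat_lit 8967,nat_lit 9231,nat_lit 9317,nat_lit 9371],[nat_lit 27,nat_lit 9453,nat_lit 9499],[nat_lit 25,nat_lit 9549,nat_lit 9577,nat_lit 10293,nat_lit 10433,nat_lit 10443],[nat_lit 27,nat_lit 10464],[nat_lit 25,nat_lit 10612],[nat_lit 28,nat_lit 10653,nat_lit 10676],[nat_lit 25,nat_lit 11066,nat_lit 11232],[nat_lit 27,nat_lit 11334],[nat_lit 25,nat_lit 11466,nat_lit 11566,nat_lit 11610],[nat_lit 27,nat_lit 11650],[nat_lit 29,nat_lit 11705],[nat_lit 25,nat_lit 11915],[nat_lit 28,nat_lit 12068],[nat_lit 27,nat_lit 12415,nat_lit 12510,nat_lit 12552],[nat_lit 28,nat_lit 12553,nat_lit 12587,nat_lit 12799],[nat_lit 25,nat_lit 12932,nat_lit 12952,nat_lit 13272,nat_lit 13680],[nat_lit 27,nat_lit 13692],[nat_lit 28,nat_lit 13713,nat_lit 14308],[nat_lit 153,nat_lit 101,nat_lit 168,nat_lit 179,nat_lit 8978,nat_lit 10105,nat_lit 11160,nat_lit 11182,nat_lit 11361,nat_lit 12111,nat_lit 12571,nat_lit 12821,nat_lit 12998,nat_lit 13304,nat_lit 13756,nat_lit 13936],[nat_lit 59,nat_lit 14580],[nat_lit 153,nat_lit 14282,nat_lit 14336],[nat_lit 59,nat_lit 14975],[nat_lit 153,nat_lit 14828,nat_lit 15061,nat_lit 15209,nat_lit 15222,nat_lit 15586],[nat_lit 26,nat_lit 11497,nat_lit 12290,nat_lit 13342,nat_lit 13381],[nat_lit 28,nat_lit 14045,nat_lit 14083],[nat_lit 154,nat_lit 140,nat_lit 357,nat_lit 8948,nat_lit 8973,nat_lit 9048,nat_lit 9566,nat_lit 10031,nat_lit 10078],[nat_lit 62,nat_lit 11171],[nat_lit 154,nat_lit 10101],[nat_lit 62,nat_lit 11696],[nat_lit 154,nat_lit 10903],[nat_lit 62,nat_lit 12160],[nat_lit 154,nat_lit 11617,nat_lit 11725],[nat_lit 62,nat_lit 12771],[nat_lit 154,nat_lit 11919,nat_lit 12108],[nat_lit 62,nat_lit 13576],[nat_lit 154,nat_lit 12994,nat_lit 13218,nat_lit 13911],[nat_lit 155,nat_lit 197],[nat_lit 64,nat_lit 405],[nat_lit 155,nat_lit 332],[nat_lit 64,nat_lit 602],[nat_lit 155,nat_lit 10084],[nat_lit 64,nat_lit 12168],[nat_lit 155,nat_lit 12559,nat_lit 15404,nat_lit 15522],[nat_lit 28,nat_lit 274,nat_lit 305,nat_lit 361,nat_lit 381,nat_lit 410,nat_lit 426,nat_lit 429,nat_lit 484,nat_lit 499,nat_lit 513,nat_lit 515,nat_lit 531,nat_lit 553,nat_lit 558,nat_lit 578,nat_lit 623,nat_lit 636,nat_lit 642,nat_lit 644,nat_lit 655,nat_lit 666,nat_lit 669,nat_lit 687,nat_lit 705,nat_lit 709,nat_lit 740,nat_lit 743,nat_lit 792,nat_lit 798,nat_lit 826,nat_lit 829,nat_lit 839,nat_lit 851,nat_lit 854],[nat_lit 25,nat_lit 871],[nat_lit 28,nat_lit 874,nat_lit 875,nat_lit 917,nat_lit 920,nat_lit 923,nat_lit 963,nat_lit 1065,nat_lit 1066,nat_lit 1095,nat_lit 1099],[nat_lit 24,nat_lit 1123],[nat_lit 28,nat_lit 1128,nat_lit 1181,nat_lit 1186,nat_lit 1189,nat_lit 1229,nat_lit 1283,nat_lit 1285,nat_lit 1333,nat_lit 1350,nat_lit 1395,nat_lit 1397,nat_lit 1429,nat_lit 1503,nat_lit 1508,nat_lit 1510,nat_lit 1628,nat_lit 1633,nat_lit 1684,nat_lit 1688,nat_lit 1689,nat_lit 1709,nat_lit 1767,nat_lit 1769,nat_lit 1907,nat_lit 2051,nat_lit 2053,nat_lit 2118,nat_lit 2120,nat_lit 2214,nat_lit 2464,nat_lit 2618,nat_lit 2745,nat_lit 2852],[nat_lit 25,nat_lit 3053],[nat_lit 28,nat_lit 3071,nat_lit 3201,nat_lit 3222,nat_lit 3435,nat_lit 3477,nat_lit 3593,nat_lit 3695,nat_lit 4144,nat_lit 4157,nat_lit 4172,nat_lit 4175,nat_lit 4323,nat_lit 4330,nat_lit 4343,nat_lit 4351,nat_lit 4384,nat_lit 4481,nat_lit 4670,nat_lit 4683,nat_lit 4823,nat_lit 4862,nat_lit 4964,nat_lit 5053,nat_lit 5085,nat_lit 5102,nat_lit 5116,nat_lit 5142,nat_lit 5206,nat_lit 5295,nat_lit 5365,nat_lit 5437,nat_lit 5626,nat_lit 5645],[nat_lit 24,nat_lit 5700],[nat_lit 28,nat_lit 5786,nat_lit 5848,nat_lit 5919,nat_lit 5956,nat_lit 5983,nat_lit 6012,nat_lit 6052,nat_lit 6101,nat_lit 6251,nat_lit 6289,nat_lit 6467,nat_lit 6495,nat_lit 6515,nat_lit 6548,nat_lit 6614,nat_lit 6701],[nat_lit 24,nat_lit 6725],[nat_lit 28,nat_lit 6816,nat_lit 6844,nat_lit 6859,nat_lit 7026,nat_lit 7041,nat_lit 7057,nat_lit 7278,nat_lit 7294,nat_lit 7325,nat_lit 7368,nat_lit 7385,nat_lit 7412,nat_lit 7477,nat_lit 7492,nat_lit 7663,nat_lit 7701,nat_lit 7751,nat_lit 8301,nat_lit 8493],[nat_lit 24,nat_lit 8515],[nat_lit 28,nat_lit 8548,nat_lit 8660,nat_lit 8730,nat_lit 8735,nat_lit 8987,nat_lit 9400,nat_lit 9417,nat_lit 9500,nat_lit 9532,nat_lit 9598,nat_lit 9670,nat_lit 9746,nat_lit 9785,nat_lit 10066,nat_lit 10116,nat_lit 10325,nat_lit 10404,nat_lit 10466,nat_lit 10545,nat_lit 10787,nat_lit 11138,nat_lit 11284,nat_lit 11335,nat_lit 11472,nat_lit 12088,nat_lit 12296,nat_lit 12327,nat_lit 12448,nat_lit 12690,nat_lit 12710,nat_lit 12784,nat_lit 12839,nat_lit 12945,nat_lit 13017,nat_lit 13057,nat_lit 13136,nat_lit 13254,nat_lit 13280,nat_lit 13476,nat_lit 13577,nat_lit 13776,nat_lit 13797,nat_lit 14097,nat_lit 14472,nat_lit 14887,nat_lit 14927,nat_lit 15018,nat_lit 15111,nat_lit 15256,nat_lit 15913],[nat_lit 156,nat_lit 769,nat_lit 892,nat_lit 1079,nat_lit 1140,nat_lit 1249,nat_lit 1320,nat_lit 1354,nat_lit 1362,nat_lit 1421,nat_lit 1517,nat_lit 1557,nat_lit 1587,nat_lit 1644,nat_lit 1703,nat_lit 1714,nat_lit 1784,nat_lit 1800,nat_lit 1868,nat_lit 1921,nat_lit 1942,nat_lit 2056,nat_lit 2066,nat_lit 2090,nat_lit 2112,nat_lit 2123,nat_lit 2137,nat_lit 2224,nat_lit 2236,nat_lit 2324,nat_lit 2364,nat_lit 2417,nat_lit 2473,nat_lit 2544,nat_lit 2613,nat_lit 2625,nat_lit 2704,nat_lit 2876,nat_lit 3016,nat_lit 3125,nat_lit 3153,nat_lit 3198,nat_lit 3305,nat_lit 3496,nat_lit 3996,nat_lit 4263,nat_lit 5371,nat_lit 6208,nat_lit 13000,nat_lit 13432,nat_lit 13780,nat_lit 13938],[nat_lit 29,nat_lit 685,nat_lit 738,nat_lit 838,nat_lit 873],[nat_lit 28,nat_lit 890],[nat_lit 29,nat_lit 919],[nat_lit 25,nat_lit 961],[nat_lit 28,nat_lit 967],[nat_lit 29,nat_lit 1064,nat_lit 1097,nat_lit 1126],[nat_lit 28,nat_lit 1129],[nat_lit 29,nat_lit 1185],[nat_lit 28,nat_lit 1187],[nat_lit 24,nat_lit 1227],[nat_lit 28,nat_lit 1230],[nat_lit 25,nat_lit 1349],[nat_lit 28,nat_lit 1351],[nat_lit 29,nat_lit 1394],[nat_lit 28,nat_lit 1396,nat_lit 1430],[nat_lit 29,nat_lit 1506],[nat_lit 26,nat_lit 1509],[nat_lit 28,nat_lit 1511,nat_lit 1568],[nat_lit 29,nat_lit 1632],[nat_lit 24,nat_lit 1708],[nat_lit 28,nat_lit 1710],[nat_lit 24,nat_lit 1766],[nat_lit 26,nat_lit 1768],[nat_lit 28,nat_lit 1770],[nat_lit 29,nat_lit 1906],[nat_lit 28,nat_lit 1909,nat_lit 1912],[nat_lit 26,nat_lit 2052],[nat_lit 28,nat_lit 2054],[nat_lit 29,nat_lit 2117],[nat_lit 28,nat_lit 2143],[nat_lit 24,nat_lit 2213],[nat_lit 28,nat_lit 2216,nat_lit 2218],[nat_lit 25,nat_lit 2378],[nat_lit 28,nat_lit 2381,nat_lit 2549],[nat_lit 26,nat_lit 2617],[nat_lit 28,nat_lit 2747,nat_lit 2954],[nat_lit 29,nat_lit 3054],[nat_lit 28,nat_lit 3203],[nat_lit 29,nat_lit 4352,nat_lit 4945,nat_lit 5118,nat_lit 5702,nat_lit 5793,nat_lit 6805,nat_lit 7508,nat_lit 8725,nat_lit 8778,nat_lit 9617,nat_lit 10496,nat_lit 10758,nat_lit 10859,nat_lit 16047],[nat_lit 28,nat_lit 16153],[nat_lit 157,nat_lit 996,nat_lit 1148,nat_lit 1236,nat_lit 1300,nat_lit 1367,nat_lit 1444,nat_lit 1514,nat_lit 1671,nat_lit 1713,nat_lit 1723,nat_lit 1798,nat_lit 1814,nat_lit 1894,nat_lit 1915,nat_lit 1983,nat_lit 2136,nat_lit 2205,nat_lit 2221,nat_lit 2247,nat_lit 2359,nat_lit 2387,nat_lit 2390,nat_lit 2552,nat_lit 2584,nat_lit 2640,nat_lit 2729,nat_lit 2752,nat_lit 2755,nat_lit 2788,nat_lit 2920,nat_lit 2923,nat_lit 3124,nat_lit 3132,nat_lit 3195,nat_lit 3207,nat_lit 3209,nat_lit 3360,nat_lit 3548,nat_lit 3854,nat_lit 3857,nat_lit 3871,nat_lit 4011],[nat_lit 30,nat_lit 15],[nat_lit 158,nat_lit 7],[nat_lit 31,nat_lit 11],[nat_lit 159,nat_lit 5,nat_lit 24,nat_lit 8811,nat_lit 9901,nat_lit 9962],[nat_lit 46,nat_lit 11956],[nat_lit 159,nat_lit 11041],[nat_lit 47,nat_lit 12845,nat_lit 12921],[nat_lit 32,nat_lit 63,nat_lit 1169,nat_lit 1378],[nat_lit 34,nat_lit 1482],[nat_lit 37,nat_lit 1484],[nat_lit 32,nat_lit 1621],[nat_lit 34,nat_lit 1748],[nat_lit 37,nat_lit 1750,nat_lit 1881],[nat_lit 34,nat_lit 2040],[nat_lit 37,nat_lit 2196,nat_lit 2536],[nat_lit 32,nat_lit 4345,nat_lit 4818],[nat_lit 34,nat_lit 5144],[nat_lit 32,nat_lit 5479],[nat_lit 34,nat_lit 5647],[nat_lit 32,nat_lit 5963,nat_lit 5990,nat_lit 6029,nat_lit 6065,nat_lit 6317,nat_lit 6471,nat_lit 6481,nat_lit 6502,nat_lit 6542,nat_lit 6557,nat_lit 6774,nat_lit 6815,nat_lit 6832,nat_lit 6849],[nat_lit 34,nat_lit 6870],[nat_lit 32,nat_lit 6888],[nat_lit 34,nat_lit 6910],[nat_lit 32,nat_lit 6934,nat_lit 6944],[nat_lit 34,nat_lit 6948,nat_lit 6996],[nat_lit 32,nat_lit 7010,nat_lit 7272,nat_lit 7365,nat_lit 7383,nat_lit 7392,nat_lit 7404],[nat_lit 34,nat_lit 7459],[nat_lit 32,nat_lit 7488],[nat_lit 34,nat_lit 7504,nat_lit 7517],[nat_lit 32,nat_lit 7647,nat_lit 7735],[nat_lit 34,nat_lit 7741],[nat_lit 140,nat_lit 6815],[nat_lit 32,nat_lit 7806,nat_lit 7818],[nat_lit 34,nat_lit 7832,nat_lit 7874,nat_lit 7928,nat_lit 7946,nat_lit 8261],[nat_lit 32,nat_lit 8263,nat_lit 8298],[nat_lit 34,nat_lit 8367],[nat_lit 32,nat_lit 8378],[nat_lit 34,nat_lit 8390,nat_lit 8402,nat_lit 8418,nat_lit 8510],[nat_lit 35,nat_lit 8545],[nat_lit 34,nat_lit 8666],[nat_lit 32,nat_lit 8751,nat_lit 8845],[nat_lit 34,nat_lit 8859],[nat_lit 35,nat_lit 9022],[nat_lit 32,nat_lit 9158,nat_lit 9195,nat_lit 9309,nat_lit 9384,nat_lit 9422,nat_lit 9463],[nat_lit 34,nat_lit 9467,nat_lit 9863],[nat_lit 32,nat_lit 9909,nat_lit 10249],[nat_lit 34,nat_lit 10292],[nat_lit 32,nat_lit 10376],[nat_lit 34,nat_lit 10481,nat_lit 10515],[nat_lit 32,nat_lit 10603,nat_lit 10864,nat_lit 10893,nat_lit 10938],[nat_lit 34,nat_lit 11297],[nat_lit 32,nat_lit 11986,nat_lit 11998,nat_lit 12036,nat_lit 12057,nat_lit 12433,nat_lit 12852],[nat_lit 34,nat_lit 12878],[nat_lit 36,nat_lit 12886],[nat_lit 32,nat_lit 12917],[nat_lit 34,nat_lit 12929,nat_lit 12949,nat_lit 13271],[nat_lit 35,nat_lit 13645],[nat_lit 34,nat_lit 13678],[nat_lit 36,nat_lit 14276],[nat_lit 160,nat_lit 1,nat_lit 3,nat_lit 12],[nat_lit 33,nat_lit 86,nat_lit 1879,nat_lit 2194],[nat_lit 37,nat_lit 2342],[nat_lit 33,nat_lit 3117,nat_lit 6509,nat_lit 7903,nat_lit 8477,nat_lit 8894,nat_lit 9451,nat_lit 9482,nat_lit 9495,nat_lit 9516,nat_lit 9986],[nat_lit 35,nat_lit 10543],[nat_lit 33,nat_lit 10560],[nat_lit 140,nat_lit 9482],[nat_lit 35,nat_lit 10577,nat_lit 10617],[nat_lit 33,nat_lit 10932,nat_lit 11333,nat_lit 11518,nat_lit 13688,nat_lit 13709,nat_lit 13985,nat_lit 14305],[nat_lit 35,nat_lit 14316],[nat_lit 36,nat_lit 14317,nat_lit 14332,nat_lit 14802],[nat_lit 161,nat_lit 1,nat_lit 3,nat_lit 12,nat_lit 150],[nat_lit 59,nat_lit 316],[nat_lit 161,nat_lit 11188,nat_lit 12156,nat_lit 12315],[nat_lit 59,nat_lit 13793],[nat_lit 161,nat_lit 14372,nat_lit 15405],[nat_lit 34,nat_lit 121,nat_lit 11622],[nat_lit 162,nat_lit 1],[nat_lit 175,nat_lit 4],[nat_lit 162,nat_lit 12,nat_lit 208,nat_lit 11161],[nat_lit 62,nat_lit 13049],[nat_lit 162,nat_lit 12561,nat_lit 13757],[nat_lit 35,nat_lit 176],[nat_lit 163,nat_lit 1],[nat_lit 176,nat_lit 4],[nat_lit 163,nat_lit 12,nat_lit 286,nat_lit 13391,nat_lit 15676],[nat_lit 36,nat_lit 87],[nat_lit 33,nat_lit 122],[nat_lit 36,nat_lit 177,nat_lit 252,nat_lit 386,nat_lit 423,nat_lit 510,nat_lit 550,nat_lit 663,nat_lit 703,nat_lit 867,nat_lit 913,nat_lit 1116,nat_lit 1174,nat_lit 1176,nat_lit 1383,nat_lit 1385,nat_lit 1491,nat_lit 1494,nat_lit 1626,nat_lit 1754,nat_lit 1757,nat_lit 1886,nat_lit 1890,nat_lit 2199,nat_lit 2201,nat_lit 2347,nat_lit 2540,nat_lit 2721,nat_lit 2912,nat_lit 3118,nat_lit 3781,nat_lit 3968,nat_lit 4668,nat_lit 5194,nat_lit 5492,nat_lit 5674,nat_lit 5684,nat_lit 5998,nat_lit 6270,nat_lit 6322,nat_lit 6563,nat_lit 6954,nat_lit 6961,nat_lit 6979,nat_lit 7009,nat_lit 7180,nat_lit 7390,nat_lit 7417,nat_lit 7469,nat_lit 7527,nat_lit 7858,nat_lit 7904,nat_lit 8207,nat_lit 8247,nat_lit 8354,nat_lit 8512,nat_lit 8704,nat_lit 8771,nat_lit 8789,nat_lit 8895,nat_lit 8941,nat_lit 8971,nat_lit 9297,nat_lit 9333,nat_lit 9580,nat_lit 9614,nat_lit 9649,nat_lit 9776,nat_lit 9987,nat_lit 10027,nat_lit 10594,nat_lit 10618,nat_lit 10985,nat_lit 11071,nat_lit 11553,nat_lit 11586,nat_lit 11614,nat_lit 11656,nat_lit 11877,nat_lit 11917,nat_lit 12170,nat_lit 12259,nat_lit 12289,nat_lit 12467,nat_lit 12566,nat_lit 13506,nat_lit 14933,nat_lit 15273,nat_lit 15302,nat_lit 15448,nat_lit 15555,nat_lit 15562,nat_lit 15865],[nat_lit 164,nat_lit 1,nat_lit 3,nat_lit 12,nat_lit 1001,nat_lit 1151,nat_lit 1369,nat_lit 1446,nat_lit 1672,nat_lit 1716,nat_lit 1725,nat_lit 1801,nat_lit 1923,nat_lit 2139,nat_lit 2151,nat_lit 2554,nat_lit 2589,nat_lit 2614,nat_lit 2626,nat_lit 2646,nat_lit 2891,nat_lit 2934,nat_lit 3002,nat_lit 3199,nat_lit 3212,nat_lit 3497,nat_lit 3789,nat_lit 3815,nat_lit 3863,nat_lit 4222,nat_lit 6209,nat_lit 7121,nat_lit 13760,nat_lit 14125],[nat_lit 37,nat_lit 6051,nat_lit 10679,nat_lit 10712],[nat_lit 165,nat_lit 1],[nat_lit 178,nat_lit 4],[nat_lit 165,nat_lit 12,nat_lit 1454,nat_lit 1729,nat_lit 1831,nat_lit 2095,nat_lit 2149,nat_lit 2250,nat_lit 2393,nat_lit 2644,nat_lit 2926,nat_lit 2963,nat_lit 2967,nat_lit 3134,nat_lit 3232,nat_lit 3333,nat_lit 3554,nat_lit 3558,nat_lit 3788,nat_lit 3796,nat_lit 3860,nat_lit 4290,nat_lit 4597],[nat_lit 166,nat_lit 11],[nat_lit 39,nat_lit 1202,nat_lit 1467],[nat_lit 44,nat_lit 1533],[nat_lit 41,nat_lit 1859],[nat_lit 44,nat_lit 1860,nat_lit 2316],[nat_lit 39,nat_lit 6943,nat_lit 7739,nat_lit 7785,nat_lit 7830,nat_lit 7924,nat_lit 7942],[nat_lit 41,nat_lit 7944],[nat_lit 39,nat_lit 8226,nat_lit 8385,nat_lit 8702,nat_lit 8757,nat_lit 8824],[nat_lit 41,nat_lit 8827],[nat_lit 39,nat_lit 8855],[nat_lit 41,nat_lit 8890,nat_lit 8992],[nat_lit 39,nat_lit 9362],[nat_lit 41,nat_lit 9475],[nat_lit 39,nat_lit 9734],[nat_lit 41,nat_lit 9946],[nat_lit 42,nat_lit 9951],[nat_lit 39,nat_lit 9967],[nat_lit 41,nat_lit 9982],[nat_lit 39,nat_lit 10290,nat_lit 10551,nat_lit 10972,nat_lit 11046],[nat_lit 41,nat_lit 11330],[nat_lit 39,nat_lit 11419,nat_lit 11512,nat_lit 11950],[nat_lit 41,nat_lit 11965,nat_lit 12045,nat_lit 12461],[nat_lit 167,nat_lit 11],[nat_lit 40,nat_lit 2315],[nat_lit 44,nat_lit 2878],[nat_lit 40,nat_lit 9950,nat_lit 10020,nat_lit 10568,nat_lit 11026,nat_lit 11066,nat_lit 12286,nat_lit 12935],[nat_lit 168,nat_lit 8,nat_lit 11,nat_lit 221],[nat_lit 169,nat_lit 8,nat_lit 11,nat_lit 13394],[nat_lit 170,nat_lit 8,nat_lit 11,nat_lit 403,nat_lit 14094],[nat_lit 43,nat_lit 568,nat_lit 724,nat_lit 751,nat_lit 938,nat_lit 977,nat_lit 1204,nat_lit 1205,nat_lit 1534,nat_lit 1865,nat_lit 1938,nat_lit 2318,nat_lit 2319,nat_lit 2879,nat_lit 3499,nat_lit 4713,nat_lit 5476,nat_lit 6026,nat_lit 6539,nat_lit 6602,nat_lit 6906,nat_lit 7318,nat_lit 7429,nat_lit 7457,nat_lit 7976,nat_lit 8019,nat_lit 8182,nat_lit 8395,nat_lit 8640,nat_lit 8747,nat_lit 8801,nat_lit 8828,nat_lit 9014,nat_lit 9016,nat_lit 9030,nat_lit 9081,nat_lit 9179,nat_lit 9240,nat_lit 9289,nat_lit 9382,nat_lit 9720,nat_lit 9807,nat_lit 9948,nat_lit 10289,nat_lit 10529,nat_lit 10815,nat_lit 11031,nat_lit 11294,nat_lit 11595,nat_lit 11612,nat_lit 11967,nat_lit 12016,nat_lit 12462,nat_lit 12857,nat_lit 12936,nat_lit 13133,nat_lit 13694,nat_lit 15901],[nat_lit 171,nat_lit 8,nat_lit 11,nat_lit 1270,nat_lit 1457,nat_lit 1732,nat_lit 1835,nat_lit 2154,nat_lit 2255,nat_lit 2403,nat_lit 2649,nat_lit 2667,nat_lit 3136,nat_lit 3171,nat_lit 3200,nat_lit 3214,nat_lit 3242,nat_lit 3517,nat_lit 3574,nat_lit 3881,nat_lit 4538,nat_lit 4561,nat_lit 4605,nat_lit 4978],[nat_lit 172,nat_lit 8,nat_lit 11,nat_lit 1844,nat_lit 2170,nat_lit 2288,nat_lit 3238,nat_lit 3563,nat_lit 3614,nat_lit 3620,nat_lit 3904,nat_lit 4023,nat_lit 4302,nat_lit 4536,nat_lit 4547,nat_lit 4601,nat_lit 5064],[nat_lit 45,nat_lit 8815,nat_lit 9392,nat_lit 9505],[nat_lit 47,nat_lit 9937],[nat_lit 45,nat_lit 9978,nat_lit 10474],[nat_lit 47,nat_lit 10489],[nat_lit 45,nat_lit 10564],[nat_lit 47,nat_lit 10604],[nat_lit 45,nat_lit 10809,nat_lit 10920],[nat_lit 48,nat_lit 11017],[nat_lit 47,nat_lit 11062,nat_lit 11511,nat_lit 11606],[nat_lit 45,nat_lit 11959,nat_lit 12036,nat_lit 12363,nat_lit 12456,nat_lit 12844],[nat_lit 47,nat_lit 12852],[nat_lit 45,nat_lit 12920],[nat_lit 47,nat_lit 12929,nat_lit 13289,nat_lit 13615,nat_lit 13681],[nat_lit 46,nat_lit 11525,nat_lit 11642,nat_lit 12065,nat_lit 12460,nat_lit 12547,nat_lit 13688,nat_lit 14309],[nat_lit 175,nat_lit 14098],[nat_lit 49,nat_lit 6938,nat_lit 7779,nat_lit 7934,nat_lit 8211,nat_lit 8813,nat_lit 8816,nat_lit 9004,nat_lit 9202,nat_lit 9390,nat_lit 9790,nat_lit 9851,nat_lit 9933,nat_lit 9938,nat_lit 10001],[nat_lit 47,nat_lit 10133],[nat_lit 49,nat_lit 11009,nat_lit 11018,nat_lit 11060,nat_lit 11803,nat_lit 11957],[nat_lit 46,nat_lit 12006],[nat_lit 49,nat_lit 12008],[nat_lit 45,nat_lit 12062],[nat_lit 142,nat_lit 12006],[nat_lit 49,nat_lit 12959,nat_lit 13290,nat_lit 13294,nat_lit 13617,nat_lit 13625,nat_lit 13689,nat_lit 14252,nat_lit 14310,nat_lit 14317],[nat_lit 46,nat_lit 14762],[nat_lit 159,nat_lit 14317],[nat_lit 49,nat_lit 16036],[nat_lit 177,nat_lit 1615,nat_lit 1849,nat_lit 2293,nat_lit 2670,nat_lit 3246,nat_lit 3267,nat_lit 3915,nat_lit 4628,nat_lit 5405,nat_lit 5804],[nat_lit 178,nat_lit 2301,nat_lit 2847,nat_lit 5080],[nat_lit 51,nat_lit 6652,nat_lit 7073,nat_lit 7598,nat_lit 8006,nat_lit 8066],[nat_lit 55,nat_lit 8075],[nat_lit 51,nat_lit 8902,nat_lit 9044,nat_lit 9057],[nat_lit 55,nat_lit 9072,nat_lit 9129],[nat_lit 51,nat_lit 9632,nat_lit 9647,nat_lit 9690],[nat_lit 55,nat_lit 10038,nat_lit 10171],[nat_lit 51,nat_lit 10422,nat_lit 10541,nat_lit 10591,nat_lit 10709],[nat_lit 55,nat_lit 10727,nat_lit 10740,nat_lit 10775],[nat_lit 51,nat_lit 11231,nat_lit 11435],[nat_lit 55,nat_lit 11585],[nat_lit 51,nat_lit 11813,nat_lit 11890,nat_lit 12337],[nat_lit 55,nat_lit 12711,nat_lit 12774],[nat_lit 51,nat_lit 12988,nat_lit 13188,nat_lit 13730,nat_lit 13818,nat_lit 13822,nat_lit 13835,nat_lit 13853,nat_lit 14015,nat_lit 14072,nat_lit 14106,nat_lit 14353,nat_lit 14383,nat_lit 14581],[nat_lit 55,nat_lit 14620,nat_lit 14654],[nat_lit 51,nat_lit 14737],[nat_lit 55,nat_lit 14847],[nat_lit 51,nat_lit 15192,nat_lit 15231,nat_lit 15316,nat_lit 15325,nat_lit 15980,nat_lit 16091],[nat_lit 52,nat_lit 10181,nat_lit 11459,nat_lit 11730,nat_lit 11740,nat_lit 12221],[nat_lit 55,nat_lit 12409],[nat_lit 52,nat_lit 13176,nat_lit 13752,nat_lit 14354,nat_lit 14432,nat_lit 14582,nat_lit 14874],[nat_lit 55,nat_lit 15021],[nat_lit 52,nat_lit 15151,nat_lit 15601],[nat_lit 180,nat_lit 96,nat_lit 126],[nat_lit 145,nat_lit 141],[nat_lit 180,nat_lit 178],[nat_lit 145,nat_lit 186],[nat_lit 62,nat_lit 270],[nat_lit 180,nat_lit 238,nat_lit 249],[nat_lit 145,nat_lit 255],[nat_lit 154,nat_lit 268],[nat_lit 180,nat_lit 298],[nat_lit 145,nat_lit 348],[nat_lit 154,nat_lit 356],[nat_lit 180,nat_lit 7836,nat_lit 8705,nat_lit 8896],[nat_lit 62,nat_lit 10037],[nat_lit 180,nat_lit 9263,nat_lit 9573,nat_lit 9642],[nat_lit 62,nat_lit 10884],[nat_lit 180,nat_lit 10007],[nat_lit 62,nat_lit 11126],[nat_lit 180,nat_lit 10078,nat_lit 10106,nat_lit 10408,nat_lit 10419,nat_lit 10934,nat_lit 11068,nat_lit 11075,nat_lit 11122,nat_lit 11154,nat_lit 11183,nat_lit 11416],[nat_lit 145,nat_lit 11455],[nat_lit 62,nat_lit 12403],[nat_lit 180,nat_lit 11723],[nat_lit 62,nat_lit 12806],[nat_lit 180,nat_lit 12382,nat_lit 12469,nat_lit 12496,nat_lit 12704,nat_lit 13554,nat_lit 13718,nat_lit 13903,nat_lit 13930,nat_lit 14741],[nat_lit 53,nat_lit 12408,nat_lit 13090,nat_lit 14903,nat_lit 15267],[nat_lit 181,nat_lit 134,nat_lit 183],[nat_lit 146,nat_lit 198],[nat_lit 181,nat_lit 253],[nat_lit 146,nat_lit 263],[nat_lit 155,nat_lit 287],[nat_lit 181,nat_lit 345],[nat_lit 146,nat_lit 354],[nat_lit 155,nat_lit 367],[nat_lit 181,nat_lit 368],[nat_lit 163,nat_lit 404],[nat_lit 146,nat_lit 466],[nat_lit 155,nat_lit 476],[nat_lit 163,nat_lit 494],[nat_lit 181,nat_lit 542],[nat_lit 64,nat_lit 932],[nat_lit 181,nat_lit 10732,nat_lit 11934,nat_lit 15013],[nat_lit 54,nat_lit 214,nat_lit 271,nat_lit 292],[nat_lit 143,nat_lit 214],[nat_lit 54,nat_lit 359],[nat_lit 143,nat_lit 271],[nat_lit 54,nat_lit 394],[nat_lit 143,nat_lit 292],[nat_lit 152,nat_lit 305],[nat_lit 143,nat_lit 359],[nat_lit 54,nat_lit 499],[nat_lit 152,nat_lit 381],[nat_lit 143,nat_lit 394],[nat_lit 152,nat_lit 410],[nat_lit 54,nat_lit 568,nat_lit 623,nat_lit 626,nat_lit 636],[nat_lit 152,nat_lit 484],[nat_lit 54,nat_lit 655],[nat_lit 152,nat_lit 499,nat_lit 531],[nat_lit 54,nat_lit 724],[nat_lit 167,nat_lit 568],[nat_lit 54,nat_lit 789],[nat_lit 143,nat_lit 623],[nat_lit 152,nat_lit 636,nat_lit 655],[nat_lit 160,nat_lit 663,nat_lit 703],[nat_lit 167,nat_lit 724],[nat_lit 54,nat_lit 963,nat_lit 1128,nat_lit 1186],[nat_lit 152,nat_lit 963],[nat_lit 54,nat_lit 1230,nat_lit 1350,nat_lit 1395],[nat_lit 152,nat_lit 1128],[nat_lit 54,nat_lit 1430],[nat_lit 152,nat_lit 1186],[nat_lit 54,nat_lit 1510,nat_lit 1511,nat_lit 1534],[nat_lit 143,nat_lit 1216],[nat_lit 54,nat_lit 1633,nat_lit 1662,nat_lit 1688],[nat_lit 152,nat_lit 1350],[nat_lit 54,nat_lit 1710],[nat_lit 152,nat_lit 1395],[nat_lit 54,nat_lit 1769,nat_lit 1770,nat_lit 1795],[nat_lit 160,nat_lit 1491],[nat_lit 143,nat_lit 1491],[nat_lit 152,nat_lit 1510],[nat_lit 54,nat_lit 1912],[nat_lit 167,nat_lit 1534],[nat_lit 54,nat_lit 2085],[nat_lit 152,nat_lit 1688],[nat_lit 54,nat_lit 2120],[nat_lit 152,nat_lit 1710],[nat_lit 160,nat_lit 1754],[nat_lit 152,nat_lit 1769,nat_lit 1770],[nat_lit 160,nat_lit 1890],[nat_lit 152,nat_lit 1912],[nat_lit 54,nat_lit 2540],[nat_lit 152,nat_lit 2120],[nat_lit 160,nat_lit 2201],[nat_lit 143,nat_lit 2201],[nat_lit 54,nat_lit 2726,nat_lit 7075,nat_lit 8070,nat_lit 8720,nat_lit 9046,nat_lit 9066,nat_lit 9098,nat_lit 9135,nat_lit 9802,nat_lit 10160,nat_lit 10180,nat_lit 10192,nat_lit 10206,nat_lit 10885,nat_lit 11127,nat_lit 11132,nat_lit 11237,nat_lit 11729,nat_lit 11752,nat_lit 11851,nat_lit 12082,nat_lit 12710,nat_lit 13015,nat_lit 13248,nat_lit 13795,nat_lit 13876,nat_lit 14468,nat_lit 14640,nat_lit 14698,nat_lit 14885,nat_lit 15242,nat_lit 15374,nat_lit 15379,nat_lit 15383,nat_lit 15562,nat_lit 15711,nat_lit 15814,nat_lit 15885],[nat_lit 182,nat_lit 582,nat_lit 744,nat_lit 758],[nat_lit 147,nat_lit 770],[nat_lit 182,nat_lit 885,nat_lit 892,nat_lit 925,nat_lit 953,nat_lit 970,nat_lit 978],[nat_lit 147,nat_lit 986],[nat_lit 182,nat_lit 1074,nat_lit 1079,nat_lit 1118,nat_lit 1132],[nat_lit 147,nat_lit 1141],[nat_lit 182,nat_lit 1151],[nat_lit 147,nat_lit 1192],[nat_lit 182,nat_lit 1206,nat_lit 1219],[nat_lit 147,nat_lit 1221,nat_lit 1239],[nat_lit 182,nat_lit 1245,nat_lit 1314,nat_lit 1353,nat_lit 1408],[nat_lit 147,nat_lit 1422],[nat_lit 182,nat_lit 1435],[nat_lit 156,nat_lit 1447],[nat_lit 182,nat_lit 1475,nat_lit 1496,nat_lit 1498,nat_lit 1516],[nat_lit 156,nat_lit 1561,nat_lit 1581],[nat_lit 182,nat_lit 1644,nat_lit 1702,nat_lit 1703,nat_lit 1714,nat_lit 1716,nat_lit 1725,nat_lit 1732,nat_lit 1759,nat_lit 1773,nat_lit 1774],[nat_lit 147,nat_lit 1785],[nat_lit 182,nat_lit 1800],[nat_lit 156,nat_lit 1802,nat_lit 1821],[nat_lit 182,nat_lit 1867,nat_lit 1895],[nat_lit 147,nat_lit 1897],[nat_lit 156,nat_lit 1899],[nat_lit 182,nat_lit 1923,nat_lit 1980,nat_lit 2005,nat_lit 2067,nat_lit 2090],[nat_lit 147,nat_lit 2138],[nat_lit 182,nat_lit 2139,nat_lit 2166,nat_lit 2207],[nat_lit 147,nat_lit 2225],[nat_lit 156,nat_lit 2227,nat_lit 2238],[nat_lit 182,nat_lit 2253,nat_lit 2264],[nat_lit 147,nat_lit 2325],[nat_lit 182,nat_lit 2326],[nat_lit 147,nat_lit 2365],[nat_lit 156,nat_lit 2368],[nat_lit 182,nat_lit 2401,nat_lit 2427],[nat_lit 164,nat_lit 2502],[nat_lit 182,nat_lit 2625,nat_lit 2626,nat_lit 2670,nat_lit 2734],[nat_lit 156,nat_lit 2737],[nat_lit 182,nat_lit 2750,nat_lit 2762,nat_lit 2779,nat_lit 2787,nat_lit 2889,nat_lit 2891,nat_lit 2934,nat_lit 3016,nat_lit 3059,nat_lit 3126,nat_lit 3160,nat_lit 3198,nat_lit 3305,nat_lit 3307],[nat_lit 164,nat_lit 3344],[nat_lit 182,nat_lit 3359,nat_lit 3399,nat_lit 3405,nat_lit 3496,nat_lit 3528,nat_lit 3546],[nat_lit 164,nat_lit 3575],[nat_lit 182,nat_lit 3605,nat_lit 3664,nat_lit 3680,nat_lit 3789,nat_lit 3865,nat_lit 3867,nat_lit 3945,nat_lit 3987,nat_lit 3996,nat_lit 4013,nat_lit 4224,nat_lit 4251,nat_lit 4263],[nat_lit 147,nat_lit 4287],[nat_lit 182,nat_lit 4326],[nat_lit 156,nat_lit 4363],[nat_lit 164,nat_lit 4539],[nat_lit 182,nat_lit 4561,nat_lit 4742,nat_lit 4744,nat_lit 4762,nat_lit 4978,nat_lit 5025,nat_lit 5027],[nat_lit 156,nat_lit 5061],[nat_lit 182,nat_lit 5433,nat_lit 6247,nat_lit 6666,nat_lit 7122,nat_lit 8118,nat_lit 11939,nat_lit 12777,nat_lit 12942,nat_lit 13000,nat_lit 13219,nat_lit 13586],[nat_lit 186,nat_lit 13703,nat_lit 13761],[nat_lit 182,nat_lit 13912],[nat_lit 186,nat_lit 13939,nat_lit 14225],[nat_lit 189,nat_lit 14328],[nat_lit 182,nat_lit 14376],[nat_lit 189,nat_lit 14379],[nat_lit 186,nat_lit 14499],[nat_lit 189,nat_lit 14523],[nat_lit 182,nat_lit 14665],[nat_lit 189,nat_lit 14739],[nat_lit 186,nat_lit 14868],[nat_lit 182,nat_lit 14935,nat_lit 14941],[nat_lit 189,nat_lit 14953],[nat_lit 182,nat_lit 15000],[nat_lit 186,nat_lit 15313],[nat_lit 189,nat_lit 15598],[nat_lit 182,nat_lit 15792,nat_lit 15991,nat_lit 15998,nat_lit 16095],[nat_lit 183,nat_lit 996,nat_lit 1236,nat_lit 1253,nat_lit 1266,nat_lit 1554,nat_lit 1571,nat_lit 1573,nat_lit 1577,nat_lit 1649,nat_lit 1671,nat_lit 1723,nat_lit 1831,nat_lit 1913,nat_lit 1915,nat_lit 1918,nat_lit 1960],[nat_lit 157,nat_lit 1964],[nat_lit 148,nat_lit 1984],[nat_lit 157,nat_lit 1988],[nat_lit 183,nat_lit 2065],[nat_lit 157,nat_lit 2096],[nat_lit 183,nat_lit 2136,nat_lit 2146,nat_lit 2149,nat_lit 2163,nat_lit 2170,nat_lit 2205,nat_lit 2247,nat_lit 2250,nat_lit 2269,nat_lit 2357,nat_lit 2359,nat_lit 2362,nat_lit 2387],[nat_lit 148,nat_lit 2391],[nat_lit 157,nat_lit 2394],[nat_lit 183,nat_lit 2476,nat_lit 2582,nat_lit 2638,nat_lit 2640,nat_lit 2644,nat_lit 2663,nat_lit 2729,nat_lit 2748,nat_lit 2759,nat_lit 2788,nat_lit 2792,nat_lit 2916,nat_lit 2920],[nat_lit 148,nat_lit 2924],[nat_lit 183,nat_lit 2926,nat_lit 2958,nat_lit 2963,nat_lit 3165,nat_lit 3195],[nat_lit 148,nat_lit 3229],[nat_lit 183,nat_lit 3328,nat_lit 3331,nat_lit 3366,nat_lit 3369,nat_lit 3407],[nat_lit 148,nat_lit 3549],[nat_lit 183,nat_lit 3554,nat_lit 3558,nat_lit 3620,nat_lit 3854,nat_lit 3857,nat_lit 3875,nat_lit 3877],[nat_lit 157,nat_lit 4291],[nat_lit 183,nat_lit 4296],[nat_lit 165,nat_lit 4303],[nat_lit 183,nat_lit 4373,nat_lit 4594,nat_lit 4617,nat_lit 4759,nat_lit 4764,nat_lit 5064,nat_lit 5080,nat_lit 5381,nat_lit 5393,nat_lit 5910,nat_lit 5931,nat_lit 16116,nat_lit 16185],[nat_lit 56,nat_lit 12338,nat_lit 12989,nat_lit 13230,nat_lit 13731,nat_lit 13819,nat_lit 13916],[nat_lit 59,nat_lit 13949],[nat_lit 56,nat_lit 13958,nat_lit 14142],[nat_lit 59,nat_lit 14537],[nat_lit 56,nat_lit 14597,nat_lit 15317,nat_lit 15344],[nat_lit 59,nat_lit 15630],[nat_lit 57,nat_lit 14429],[nat_lit 185,nat_lit 198,nat_lit 263,nat_lit 354],[nat_lit 64,nat_lit 502],[nat_lit 185,nat_lit 466],[nat_lit 64,nat_lit 637],[nat_lit 185,nat_lit 498],[nat_lit 64,nat_lit 809],[nat_lit 58,nat_lit 191,nat_lit 224],[nat_lit 144,nat_lit 191],[nat_lit 58,nat_lit 351,nat_lit 361,nat_lit 438,nat_lit 472],[nat_lit 153,nat_lit 361],[nat_lit 58,nat_lit 503,nat_lit 558,nat_lit 638],[nat_lit 144,nat_lit 503],[nat_lit 58,nat_lit 709],[nat_lit 153,nat_lit 558],[nat_lit 58,nat_lit 740,nat_lit 810],[nat_lit 144,nat_lit 638],[nat_lit 58,nat_lit 854],[nat_lit 153,nat_lit 669],[nat_lit 58,nat_lit 874],[nat_lit 153,nat_lit 709],[nat_lit 58,nat_lit 920,nat_lit 938],[nat_lit 153,nat_lit 740],[nat_lit 58,nat_lit 967],[nat_lit 144,nat_lit 810],[nat_lit 58,nat_lit 1065],[nat_lit 153,nat_lit 854],[nat_lit 58,nat_lit 1129],[nat_lit 161,nat_lit 913],[nat_lit 153,nat_lit 920],[nat_lit 168,nat_lit 938],[nat_lit 58,nat_lit 1204],[nat_lit 144,nat_lit 949],[nat_lit 58,nat_lit 1312,nat_lit 1351,nat_lit 1383,nat_lit 1396,nat_lit 1406,nat_lit 1466],[nat_lit 144,nat_lit 1174],[nat_lit 168,nat_lit 1204],[nat_lit 58,nat_lit 1663],[nat_lit 161,nat_lit 1383],[nat_lit 58,nat_lit 2101,nat_lit 2214,nat_lit 2347,nat_lit 2381,nat_lit 2618],[nat_lit 161,nat_lit 2347],[nat_lit 58,nat_lit 2899],[nat_lit 153,nat_lit 2381],[nat_lit 58,nat_lit 3118,nat_lit 3297,nat_lit 3324,nat_lit 3523],[nat_lit 161,nat_lit 3118],[nat_lit 58,nat_lit 3844,nat_lit 3851,nat_lit 3991,nat_lit 4009,nat_lit 4580,nat_lit 7550,nat_lit 8076,nat_lit 8080,nat_lit 8562,nat_lit 9073,nat_lit 9131,nat_lit 9134,nat_lit 9583,nat_lit 9633,nat_lit 10110,nat_lit 10172,nat_lit 10183,nat_lit 10188,nat_lit 10542,nat_lit 10710,nat_lit 10876,nat_lit 11131,nat_lit 11224,nat_lit 11263,nat_lit 11874,nat_lit 12128,nat_lit 12656,nat_lit 12712,nat_lit 12760],[nat_lit 144,nat_lit 12128],[nat_lit 58,nat_lit 13242,nat_lit 13579,nat_lit 13797,nat_lit 13957,nat_lit 14097,nat_lit 14189,nat_lit 14213,nat_lit 14406,nat_lit 14529,nat_lit 14989,nat_lit 15020,nat_lit 15272,nat_lit 15470,nat_lit 15549,nat_lit 15648,nat_lit 15686],[nat_lit 186,nat_lit 770,nat_lit 972,nat_lit 1141,nat_lit 1152,nat_lit 1192,nat_lit 1256,nat_lit 1363,nat_lit 1370,nat_lit 1422,nat_lit 1437,nat_lit 1520,nat_lit 1538,nat_lit 1558,nat_lit 1561],[nat_lit 156,nat_lit 1604],[nat_lit 186,nat_lit 1715,nat_lit 1802,nat_lit 1821,nat_lit 1836,nat_lit 1899,nat_lit 1922,nat_lit 1997,nat_lit 2138,nat_lit 2155,nat_lit 2167,nat_lit 2209,nat_lit 2225,nat_lit 2227,nat_lit 2325,nat_lit 2368,nat_lit 2372,nat_lit 2685,nat_lit 2737,nat_lit 2892,nat_lit 2935,nat_lit 3012,nat_lit 3271,nat_lit 3342,nat_lit 3344,nat_lit 3378,nat_lit 3397,nat_lit 3406,nat_lit 3516,nat_lit 3518,nat_lit 3864,nat_lit 3989,nat_lit 4041,nat_lit 4121,nat_lit 4265,nat_lit 4745,nat_lit 4767,nat_lit 5538,nat_lit 5863,nat_lit 15953],[nat_lit 187,nat_lit 1578,nat_lit 2072,nat_lit 2096,nat_lit 2289,nat_lit 2391,nat_lit 2446,nat_lit 2681,nat_lit 3229],[nat_lit 193,nat_lit 14188,nat_lit 15308],[nat_lit 61,nat_lit 214],[nat_lit 145,nat_lit 214],[nat_lit 61,nat_lit 381,nat_lit 382],[nat_lit 154,nat_lit 305,nat_lit 381],[nat_lit 145,nat_lit 382],[nat_lit 162,nat_lit 423],[nat_lit 61,nat_lit 626,nat_lit 641],[nat_lit 162,nat_lit 510],[nat_lit 61,nat_lit 711],[nat_lit 169,nat_lit 568],[nat_lit 180,nat_lit 568,nat_lit 641],[nat_lit 61,nat_lit 857],[nat_lit 145,nat_lit 711],[nat_lit 180,nat_lit 749],[nat_lit 61,nat_lit 1053],[nat_lit 145,nat_lit 857],[nat_lit 61,nat_lit 1186,nat_lit 1307],[nat_lit 154,nat_lit 1099],[nat_lit 61,nat_lit 1395],[nat_lit 154,nat_lit 1186],[nat_lit 180,nat_lit 1186],[nat_lit 61,nat_lit 1511,nat_lit 1626,nat_lit 1688],[nat_lit 162,nat_lit 1385],[nat_lit 154,nat_lit 1395],[nat_lit 180,nat_lit 1395],[nat_lit 61,nat_lit 1770,nat_lit 1857],[nat_lit 145,nat_lit 1491],[nat_lit 154,nat_lit 1508],[nat_lit 61,nat_lit 2054,nat_lit 2077],[nat_lit 180,nat_lit 1688],[nat_lit 162,nat_lit 1754],[nat_lit 145,nat_lit 1754],[nat_lit 154,nat_lit 1767,nat_lit 1770],[nat_lit 61,nat_lit 2311],[nat_lit 62,nat_lit 2351],[nat_lit 61,nat_lit 2383,nat_lit 2538,nat_lit 2600,nat_lit 2609],[nat_lit 145,nat_lit 2199],[nat_lit 180,nat_lit 2202],[nat_lit 61,nat_lit 2749,nat_lit 2897,nat_lit 3190,nat_lit 3205,nat_lit 3310,nat_lit 3326,nat_lit 8567,nat_lit 11131,nat_lit 11246,nat_lit 11253,nat_lit 11343,nat_lit 11463,nat_lit 11874,nat_lit 12128,nat_lit 12170,nat_lit 12213,nat_lit 12224,nat_lit 12628],[nat_lit 145,nat_lit 12128],[nat_lit 61,nat_lit 13051,nat_lit 13242,nat_lit 13246,nat_lit 13546,nat_lit 13552,nat_lit 13579,nat_lit 13798,nat_lit 13869,nat_lit 13950,nat_lit 14214,nat_lit 14459,nat_lit 14688,nat_lit 14986,nat_lit 15022],[nat_lit 189,nat_lit 1004,nat_lit 1242,nat_lit 1448,nat_lit 1459,nat_lit 1521],[nat_lit 147,nat_lit 1584],[nat_lit 189,nat_lit 1726,nat_lit 1804,nat_lit 1824,nat_lit 1972,nat_lit 2020,nat_lit 2258,nat_lit 2279,nat_lit 2295,nat_lit 2374,nat_lit 2742,nat_lit 2764,nat_lit 2769,nat_lit 2943,nat_lit 3346,nat_lit 3520,nat_lit 4736,nat_lit 4807,nat_lit 5032,nat_lit 5578],[nat_lit 190,nat_lit 1995,nat_lit 2569,nat_lit 2850,nat_lit 3037],[nat_lit 63,nat_lit 292],[nat_lit 181,nat_lit 292],[nat_lit 63,nat_lit 499,nat_lit 550],[nat_lit 146,nat_lit 411],[nat_lit 63,nat_lit 673],[nat_lit 163,nat_lit 550],[nat_lit 185,nat_lit 558],[nat_lit 63,nat_lit 789,nat_lit 831],[nat_lit 146,nat_lit 673],[nat_lit 181,nat_lit 724],[nat_lit 63,nat_lit 1040],[nat_lit 146,nat_lit 831],[nat_lit 155,nat_lit 875],[nat_lit 63,nat_lit 1198],[nat_lit 146,nat_lit 1040],[nat_lit 155,nat_lit 1066],[nat_lit 185,nat_lit 1198],[nat_lit 63,nat_lit 9666,nat_lit 10753,nat_lit 13058,nat_lit 13965],[nat_lit 191,nat_lit 1272,nat_lit 1584,nat_lit 1926,nat_lit 2465,nat_lit 2811,nat_lit 2837,nat_lit 2857,nat_lit 2948,nat_lit 3353,nat_lit 3386,nat_lit 5636],[nat_lit 192,nat_lit 3481],[nat_lit 197,nat_lit 18],[nat_lit 327,nat_lit 16],[nat_lit 72,nat_lit 15],[nat_lit 70,nat_lit 31],[nat_lit 200,nat_lit 24],[nat_lit 0,nat_lit 586,nat_lit 690,nat_lit 746,nat_lit 842,nat_lit 880,nat_lit 1070,nat_lit 1135,nat_lit 1194,nat_lit 1253,nat_lit 1317,nat_lit 1357,nat_lit 1402,nat_lit 1444,nat_lit 1522,nat_lit 1554,nat_lit 1635,nat_lit 1668,nat_lit 1692,nat_lit 1723,nat_lit 1778,nat_lit 1798,nat_lit 1894,nat_lit 1960,nat_lit 2065,nat_lit 2081,nat_lit 2124,nat_lit 2136,nat_lit 2205,nat_lit 2247,nat_lit 2359,nat_lit 2442,nat_lit 2559,nat_lit 2577,nat_lit 2640,nat_lit 2729,nat_lit 2788,nat_lit 2920,nat_lit 2923,nat_lit 3228,nat_lit 3328,nat_lit 3331,nat_lit 3548,nat_lit 3785,nat_lit 3857,nat_lit 4011,nat_lit 4360,nat_lit 4591,nat_lit 5381,nat_lit 7863,nat_lit 7910,nat_lit 8455,nat_lit 8906],[nat_lit 10,nat_lit 8929],[nat_lit 0,nat_lit 8948,nat_lit 8978,nat_lit 9531,nat_lit 9566,nat_lit 9650,nat_lit 9691,nat_lit 9959,nat_lit 9995,nat_lit 10041],[nat_lit 10,nat_lit 10044],[nat_lit 0,nat_lit 10173,nat_lit 10365,nat_lit 10368,nat_lit 10423,nat_lit 10544,nat_lit 10579,nat_lit 10597,nat_lit 10667],[nat_lit 10,nat_lit 10743],[nat_lit 0,nat_lit 10764,nat_lit 10770],[nat_lit 10,nat_lit 10776],[nat_lit 0,nat_lit 10857,nat_lit 11052,nat_lit 11167],[nat_lit 10,nat_lit 11240],[nat_lit 0,nat_lit 11270,nat_lit 11496,nat_lit 11521],[nat_lit 10,nat_lit 11588],[nat_lit 0,nat_lit 11623,nat_lit 11638,nat_lit 11731,nat_lit 11830],[nat_lit 10,nat_lit 12053],[nat_lit 0,nat_lit 12085],[nat_lit 10,nat_lit 12166],[nat_lit 6,nat_lit 12241],[nat_lit 10,nat_lit 12447],[nat_lit 0,nat_lit 12477],[nat_lit 10,nat_lit 12578],[nat_lit 0,nat_lit 12673,nat_lit 12967,nat_lit 13153,nat_lit 13226,nat_lit 13277],[nat_lit 10,nat_lit 13313],[nat_lit 0,nat_lit 13385,nat_lit 13779,nat_lit 14076,nat_lit 14124,nat_lit 14282,nat_lit 14389,nat_lit 14477,nat_lit 15002,nat_lit 15357],[nat_lit 10,nat_lit 15363],[nat_lit 0,nat_lit 15420,nat_lit 15453,nat_lit 15494,nat_lit 15680,nat_lit 15747,nat_lit 15918,nat_lit 15999],[nat_lit 128,nat_lit 14678,nat_lit 14745,nat_lit 14945],[nat_lit 16,nat_lit 15434,nat_lit 15602],[nat_lit 128,nat_lit 15737],[nat_lit 1,nat_lit 10,nat_lit 16,nat_lit 895,nat_lit 1081,nat_lit 1358,nat_lit 1440,nat_lit 1669,nat_lit 1719,nat_lit 1779,nat_lit 1831,nat_lit 1927,nat_lit 1963,nat_lit 2092,nat_lit 2126,nat_lit 2163,nat_lit 2230,nat_lit 2250,nat_lit 2362,nat_lit 2445,nat_lit 2561,nat_lit 2578,nat_lit 2628,nat_lit 2644,nat_lit 2732,nat_lit 2792,nat_lit 2926,nat_lit 3030,nat_lit 3141,nat_lit 3155,nat_lit 3232,nat_lit 3333,nat_lit 3407,nat_lit 3554,nat_lit 3558,nat_lit 3898,nat_lit 4015,nat_lit 4019,nat_lit 4290,nat_lit 4533,nat_lit 4597,nat_lit 4764,nat_lit 5384,nat_lit 6223,nat_lit 10043,nat_lit 10085,nat_lit 10633,nat_lit 10668,nat_lit 11037],[nat_lit 10,nat_lit 11137,nat_lit 11171],[nat_lit 1,nat_lit 11587,nat_lit 11624,nat_lit 11766],[nat_lit 10,nat_lit 12028],[nat_lit 1,nat_lit 12567],[nat_lit 10,nat_lit 12568],[nat_lit 1,nat_lit 12657],[nat_lit 10,nat_lit 12674],[nat_lit 1,nat_lit 12723,nat_lit 12978],[nat_lit 10,nat_lit 13398],[nat_lit 1,nat_lit 13945,nat_lit 14664,nat_lit 14877],[nat_lit 129,nat_lit 274,nat_lit 305,nat_lit 361,nat_lit 381,nat_lit 429,nat_lit 499,nat_lit 515,nat_lit 558,nat_lit 578,nat_lit 636,nat_lit 644,nat_lit 655,nat_lit 669,nat_lit 687,nat_lit 709,nat_lit 740,nat_lit 798,nat_lit 829,nat_lit 839,nat_lit 874,nat_lit 875,nat_lit 890,nat_lit 920,nat_lit 923,nat_lit 963,nat_lit 967,nat_lit 1065,nat_lit 1066,nat_lit 1099,nat_lit 1123,nat_lit 1128,nat_lit 1129,nat_lit 1186,nat_lit 1187,nat_lit 1189,nat_lit 1229,nat_lit 1230,nat_lit 1285,nat_lit 1350,nat_lit 1351,nat_lit 1395,nat_lit 1396,nat_lit 1397],[nat_lit 29,nat_lit 1809],[nat_lit 129,nat_lit 1429,nat_lit 1430,nat_lit 1503,nat_lit 1508,nat_lit 1510,nat_lit 1511,nat_lit 1568,nat_lit 1633,nat_lit 1688,nat_lit 1689,nat_lit 1710,nat_lit 1767,nat_lit 1769,nat_lit 1770],[nat_lit 29,nat_lit 2380],[nat_lit 129,nat_lit 1907,nat_lit 1909,nat_lit 1912,nat_lit 2051,nat_lit 2053,nat_lit 2054,nat_lit 2118,nat_lit 2120,nat_lit 2143,nat_lit 2214,nat_lit 2218,nat_lit 2381,nat_lit 2549,nat_lit 2618,nat_lit 2745,nat_lit 2747,nat_lit 3201,nat_lit 3203,nat_lit 4351,nat_lit 4823,nat_lit 5116,nat_lit 5142],[nat_lit 29,nat_lit 6007],[nat_lit 129,nat_lit 5626,nat_lit 5956,nat_lit 5983,nat_lit 6495,nat_lit 6725,nat_lit 6816,nat_lit 6844,nat_lit 6859],[nat_lit 29,nat_lit 7845],[nat_lit 129,nat_lit 7041,nat_lit 7325,nat_lit 7368,nat_lit 7385,nat_lit 7412,nat_lit 7477,nat_lit 7663],[nat_lit 29,nat_lit 8885],[nat_lit 129,nat_lit 7830,nat_lit 8301],[nat_lit 29,nat_lit 9403,nat_lit 9535],[nat_lit 129,nat_lit 8446,nat_lit 8493,nat_lit 8515,nat_lit 8660],[nat_lit 26,nat_lit 10018],[nat_lit 129,nat_lit 8891,nat_lit 8987,nat_lit 9417,nat_lit 9500,nat_lit 9511,nat_lit 9869,nat_lit 9967,nat_lit 9978],[nat_lit 25,nat_lit 11108],[nat_lit 129,nat_lit 10066,nat_lit 10116,nat_lit 10325,nat_lit 10390,nat_lit 10404,nat_lit 10466,nat_lit 10545,nat_lit 10653,nat_lit 10787,nat_lit 10815],[nat_lit 26,nat_lit 11925,nat_lit 12047,nat_lit 12064],[nat_lit 27,nat_lit 12105],[nat_lit 129,nat_lit 11335],[nat_lit 26,nat_lit 12370],[nat_lit 129,nat_lit 11472,nat_lit 11796],[nat_lit 24,nat_lit 12707],[nat_lit 25,nat_lit 12812],[nat_lit 129,nat_lit 11969,nat_lit 12000,nat_lit 12031],[nat_lit 25,nat_lit 12937,nat_lit 12958],[nat_lit 129,nat_lit 12088,nat_lit 12296,nat_lit 12327,nat_lit 12348],[nat_lit 25,nat_lit 13209],[nat_lit 129,nat_lit 12448,nat_lit 12690,nat_lit 12799],[nat_lit 24,nat_lit 13657],[nat_lit 26,nat_lit 13679],[nat_lit 129,nat_lit 12945],[nat_lit 27,nat_lit 13721],[nat_lit 129,nat_lit 13017,nat_lit 13057,nat_lit 13110,nat_lit 13136],[nat_lit 24,nat_lit 13906],[nat_lit 129,nat_lit 13280,nat_lit 13287,nat_lit 13577,nat_lit 13647],[nat_lit 25,nat_lit 14307],[nat_lit 129,nat_lit 13713,nat_lit 13776,nat_lit 13797],[nat_lit 29,nat_lit 14458],[nat_lit 25,nat_lit 14493],[nat_lit 129,nat_lit 14083,nat_lit 14097,nat_lit 14887,nat_lit 15111],[nat_lit 2,nat_lit 11,nat_lit 1720,nat_lit 2157,nat_lit 2231,nat_lit 2408,nat_lit 2591,nat_lit 2631,nat_lit 2929,nat_lit 3035,nat_lit 3217,nat_lit 3238,nat_lit 3412,nat_lit 3563,nat_lit 3805,nat_lit 3817,nat_lit 3904,nat_lit 4023,nat_lit 4296,nat_lit 4302,nat_lit 4768,nat_lit 4774,nat_lit 5333,nat_lit 5393,nat_lit 5570,nat_lit 6227,nat_lit 7143,nat_lit 11170],[nat_lit 10,nat_lit 12169],[nat_lit 2,nat_lit 13745,nat_lit 15087],[nat_lit 130,nat_lit 87,nat_lit 122,nat_lit 177],[nat_lit 37,nat_lit 256],[nat_lit 130,nat_lit 252,nat_lit 386,nat_lit 550,nat_lit 1116,nat_lit 1174,nat_lit 1176,nat_lit 1383,nat_lit 1491,nat_lit 1494,nat_lit 1626,nat_lit 1757,nat_lit 1886,nat_lit 1890,nat_lit 2201,nat_lit 2347,nat_lit 2540,nat_lit 2721,nat_lit 3118,nat_lit 5963,nat_lit 5998,nat_lit 6322,nat_lit 6481,nat_lit 6774,nat_lit 6849,nat_lit 6954,nat_lit 6961,nat_lit 7009,nat_lit 7390,nat_lit 7404,nat_lit 7417,nat_lit 7527,nat_lit 7735],[nat_lit 34,nat_lit 8767],[nat_lit 130,nat_lit 7786,nat_lit 7806,nat_lit 7818,nat_lit 7904,nat_lit 8207,nat_lit 8261,nat_lit 8704],[nat_lit 34,nat_lit 9875],[nat_lit 33,nat_lit 9885],[nat_lit 130,nat_lit 8771,nat_lit 8789],[nat_lit 34,nat_lit 9953],[nat_lit 130,nat_lit 8845],[nat_lit 34,nat_lit 10003],[nat_lit 130,nat_lit 8895,nat_lit 8941,nat_lit 8971,nat_lit 9158,nat_lit 9297,nat_lit 9309],[nat_lit 33,nat_lit 10414],[nat_lit 130,nat_lit 9333,nat_lit 9463,nat_lit 9776],[nat_lit 35,nat_lit 11032],[nat_lit 34,nat_lit 11049],[nat_lit 130,nat_lit 9987],[nat_lit 33,nat_lit 11092],[nat_lit 130,nat_lit 10027],[nat_lit 34,nat_lit 11302],[nat_lit 130,nat_lit 10376],[nat_lit 34,nat_lit 11428,nat_lit 11597],[nat_lit 130,nat_lit 10594,nat_lit 10938,nat_lit 10985],[nat_lit 33,nat_lit 12049],[nat_lit 130,nat_lit 11071],[nat_lit 35,nat_lit 12265],[nat_lit 34,nat_lit 12351],[nat_lit 33,nat_lit 12376],[nat_lit 130,nat_lit 11586],[nat_lit 33,nat_lit 12539],[nat_lit 130,nat_lit 11614,nat_lit 11917],[nat_lit 34,nat_lit 12810],[nat_lit 35,nat_lit 12940],[nat_lit 130,nat_lit 12170,nat_lit 12259,nat_lit 12289],[nat_lit 33,nat_lit 13189],[nat_lit 130,nat_lit 12467],[nat_lit 35,nat_lit 13368],[nat_lit 33,nat_lit 13582],[nat_lit 130,nat_lit 12886],[nat_lit 32,nat_lit 14285],[nat_lit 130,nat_lit 14276,nat_lit 14332,nat_lit 14802,nat_lit 15273,nat_lit 15448,nat_lit 15562,nat_lit 15865],[nat_lit 3,nat_lit 20,nat_lit 2159,nat_lit 2672,nat_lit 3174,nat_lit 3220,nat_lit 3887,nat_lit 3911,nat_lit 4140,nat_lit 4563,nat_lit 4655,nat_lit 4781,nat_lit 5080,nat_lit 5579,nat_lit 5588,nat_lit 6235,nat_lit 6418],[nat_lit 131,nat_lit 25,nat_lit 568,nat_lit 751,nat_lit 977,nat_lit 1204,nat_lit 1205,nat_lit 1865,nat_lit 1938,nat_lit 2318,nat_lit 2319,nat_lit 2879,nat_lit 3499,nat_lit 6906,nat_lit 7739,nat_lit 8019,nat_lit 8395,nat_lit 8640,nat_lit 8747,nat_lit 8757,nat_lit 9014,nat_lit 9016,nat_lit 9030,nat_lit 9081,nat_lit 9289,nat_lit 9382,nat_lit 9720,nat_lit 9807,nat_lit 9948,nat_lit 9967,nat_lit 10529,nat_lit 10815],[nat_lit 41,nat_lit 12047],[nat_lit 131,nat_lit 11419,nat_lit 11595,nat_lit 11612,nat_lit 11950,nat_lit 12016],[nat_lit 40,nat_lit 12937],[nat_lit 41,nat_lit 13607],[nat_lit 131,nat_lit 12857,nat_lit 12936],[nat_lit 42,nat_lit 13699],[nat_lit 131,nat_lit 13133],[nat_lit 40,nat_lit 14246],[nat_lit 131,nat_lit 13694,nat_lit 15901],[nat_lit 4,nat_lit 2674,nat_lit 3273,nat_lit 4634,nat_lit 4662,nat_lit 5463,nat_lit 5931,nat_lit 6441],[nat_lit 132,nat_lit 7934,nat_lit 9004,nat_lit 9790,nat_lit 9851,nat_lit 9933,nat_lit 9938,nat_lit 10001,nat_lit 10133,nat_lit 10920,nat_lit 11009,nat_lit 11803],[nat_lit 47,nat_lit 12786],[nat_lit 132,nat_lit 11957,nat_lit 12006,nat_lit 12008,nat_lit 12062,nat_lit 12363,nat_lit 12547],[nat_lit 50,nat_lit 13487],[nat_lit 46,nat_lit 13557],[nat_lit 132,nat_lit 12887,nat_lit 12959,nat_lit 13625,nat_lit 13689,nat_lit 14252,nat_lit 14317,nat_lit 14762,nat_lit 14806,nat_lit 16036],[nat_lit 5,nat_lit 585,nat_lit 689,nat_lit 745,nat_lit 761,nat_lit 878,nat_lit 888,nat_lit 956,nat_lit 979,nat_lit 1045,nat_lit 1068,nat_lit 1076,nat_lit 1121,nat_lit 1179,nat_lit 1208,nat_lit 1246,nat_lit 1297,nat_lit 1315,nat_lit 1346,nat_lit 1388,nat_lit 1409,nat_lit 1476,nat_lit 1530,nat_lit 1574,nat_lit 1815,nat_lit 1916,nat_lit 1961,nat_lit 1986,nat_lit 2147,nat_lit 2222,nat_lit 2248,nat_lit 2268,nat_lit 2360,nat_lit 2391,nat_lit 2422,nat_lit 2433,nat_lit 2553,nat_lit 2585,nat_lit 2641,nat_lit 2657,nat_lit 2730,nat_lit 2756,nat_lit 2758,nat_lit 2791,nat_lit 2884,nat_lit 2905,nat_lit 2924,nat_lit 2999,nat_lit 3164,nat_lit 3196,nat_lit 3210,nat_lit 3231,nat_lit 3302,nat_lit 3506,nat_lit 3557,nat_lit 3786,nat_lit 3858,nat_lit 3979,nat_lit 3998,nat_lit 4018,nat_lit 13024,nat_lit 14392,nat_lit 14889,nat_lit 15419,nat_lit 15452,nat_lit 15793,nat_lit 15849,nat_lit 15855,nat_lit 15857,nat_lit 15959,nat_lit 16096],[nat_lit 133,nat_lit 1599,nat_lit 1826,nat_lit 1832,nat_lit 1964,nat_lit 2158,nat_lit 2232,nat_lit 2251,nat_lit 2289,nat_lit 2363,nat_lit 2446,nat_lit 2452,nat_lit 2629,nat_lit 2632,nat_lit 2645,nat_lit 2681,nat_lit 2733,nat_lit 2770,nat_lit 2771,nat_lit 2793,nat_lit 2796,nat_lit 2927,nat_lit 2930,nat_lit 2989,nat_lit 3031,nat_lit 3143,nat_lit 3157,nat_lit 3239,nat_lit 3334,nat_lit 3408,nat_lit 3413,nat_lit 3555,nat_lit 3559,nat_lit 3568,nat_lit 3699,nat_lit 3905,nat_lit 3912,nat_lit 4016,nat_lit 4024,nat_lit 4135,nat_lit 4291,nat_lit 4303,nat_lit 4310,nat_lit 4564,nat_lit 4598,nat_lit 4650,nat_lit 4656,nat_lit 4769,nat_lit 4775,nat_lit 5065,nat_lit 5073,nat_lit 5081,nat_lit 5385,nat_lit 5571,nat_lit 5598,nat_lit 5932,nat_lit 6181,nat_lit 6236,nat_lit 6442,nat_lit 7144,nat_lit 7147,nat_lit 7157,nat_lit 7346,nat_lit 7376,nat_lit 8144,nat_lit 13732,nat_lit 14086],[nat_lit 55,nat_lit 14848],[nat_lit 133,nat_lit 14364,nat_lit 14624],[nat_lit 55,nat_lit 15068],[nat_lit 133,nat_lit 14937],[nat_lit 55,nat_lit 15400],[nat_lit 133,nat_lit 15430],[nat_lit 6,nat_lit 772,nat_lit 894,nat_lit 973,nat_lit 991,nat_lit 1134,nat_lit 1145,nat_lit 1356,nat_lit 1365,nat_lit 1425,nat_lit 1541,nat_lit 1706,nat_lit 2271,nat_lit 2447,nat_lit 2660,nat_lit 3021,nat_lit 3234,nat_lit 3255,nat_lit 3371,nat_lit 3411,nat_lit 3509,nat_lit 3535,nat_lit 3903,nat_lit 4301,nat_lit 15276,nat_lit 15690,nat_lit 15717,nat_lit 15954,nat_lit 15995],[nat_lit 134,nat_lit 224,nat_lit 274,nat_lit 361],[nat_lit 153,nat_lit 388],[nat_lit 134,nat_lit 438,nat_lit 486,nat_lit 503,nat_lit 558,nat_lit 638,nat_lit 731,nat_lit 740,nat_lit 829,nat_lit 854,nat_lit 867,nat_lit 874,nat_lit 913,nat_lit 920,nat_lit 938],[nat_lit 153,nat_lit 969],[nat_lit 134,nat_lit 967,nat_lit 1038,nat_lit 1065,nat_lit 1091],[nat_lit 153,nat_lit 1130],[nat_lit 134,nat_lit 1129,nat_lit 1165],[nat_lit 153,nat_lit 1188],[nat_lit 134,nat_lit 1204,nat_lit 1212,nat_lit 1312],[nat_lit 153,nat_lit 1352],[nat_lit 134,nat_lit 1351,nat_lit 1383,nat_lit 1396,nat_lit 1406,nat_lit 1466],[nat_lit 161,nat_lit 1493],[nat_lit 134,nat_lit 1481,nat_lit 1527,nat_lit 1663],[nat_lit 153,nat_lit 1712],[nat_lit 134,nat_lit 1739,nat_lit 2101,nat_lit 2214,nat_lit 2381,nat_lit 2618,nat_lit 2879],[nat_lit 153,nat_lit 3204],[nat_lit 134,nat_lit 3297,nat_lit 3523,nat_lit 3775,nat_lit 3844,nat_lit 3851,nat_lit 3991,nat_lit 4009,nat_lit 4580,nat_lit 7550,nat_lit 8076,nat_lit 8080,nat_lit 8562,nat_lit 9131,nat_lit 9134,nat_lit 9583,nat_lit 10110,nat_lit 10172,nat_lit 10183,nat_lit 10188,nat_lit 10876,nat_lit 11131,nat_lit 11224,nat_lit 11263,nat_lit 11874,nat_lit 12712,nat_lit 12760,nat_lit 13017,nat_lit 13242,nat_lit 13579,nat_lit 13797,nat_lit 13957,nat_lit 14097,nat_lit 14189,nat_lit 14213,nat_lit 14529,nat_lit 15020,nat_lit 15272,nat_lit 15470,nat_lit 15549,nat_lit 15648,nat_lit 15686],[nat_lit 7,nat_lit 1005,nat_lit 1154,nat_lit 1243,nat_lit 1262,nat_lit 1439,nat_lit 1451,nat_lit 1727,nat_lit 1808,nat_lit 2827,nat_lit 3689,nat_lit 4083,nat_lit 4275,nat_lit 16081],[nat_lit 135,nat_lit 209,nat_lit 268],[nat_lit 154,nat_lit 302],[nat_lit 62,nat_lit 427],[nat_lit 135,nat_lit 305,nat_lit 336,nat_lit 356,nat_lit 375],[nat_lit 62,nat_lit 514],[nat_lit 135,nat_lit 418,nat_lit 423,nat_lit 468,nat_lit 480],[nat_lit 62,nat_lit 643],[nat_lit 135,nat_lit 510,nat_lit 515],[nat_lit 169,nat_lit 566],[nat_lit 62,nat_lit 750],[nat_lit 135,nat_lit 568],[nat_lit 62,nat_lit 812],[nat_lit 135,nat_lit 641],[nat_lit 62,nat_lit 974],[nat_lit 135,nat_lit 749,nat_lit 751,nat_lit 836,nat_lit 857,nat_lit 923,nat_lit 975,nat_lit 1053],[nat_lit 154,nat_lit 1190],[nat_lit 135,nat_lit 1186,nat_lit 1307,nat_lit 1385,nat_lit 1395],[nat_lit 162,nat_lit 1496],[nat_lit 154,nat_lit 1512],[nat_lit 135,nat_lit 1508,nat_lit 1511,nat_lit 1626,nat_lit 1688,nat_lit 1742],[nat_lit 154,nat_lit 1771],[nat_lit 135,nat_lit 1767,nat_lit 1857],[nat_lit 162,nat_lit 1892],[nat_lit 135,nat_lit 1876,nat_lit 1886,nat_lit 2054,nat_lit 2077],[nat_lit 154,nat_lit 2121],[nat_lit 135,nat_lit 2118,nat_lit 2181,nat_lit 2191,nat_lit 2202,nat_lit 2311,nat_lit 2351,nat_lit 2383,nat_lit 2600,nat_lit 2609,nat_lit 2710,nat_lit 2749,nat_lit 2897,nat_lit 3190,nat_lit 3205,nat_lit 3310,nat_lit 3326,nat_lit 8567,nat_lit 11131,nat_lit 11246,nat_lit 11343,nat_lit 11463,nat_lit 11874,nat_lit 12170,nat_lit 12213,nat_lit 12628,nat_lit 13017,nat_lit 13051,nat_lit 13242,nat_lit 13246,nat_lit 13552,nat_lit 13579,nat_lit 13950,nat_lit 14192,nat_lit 14214,nat_lit 14688,nat_lit 15022],[nat_lit 8,nat_lit 1273,nat_lit 1461,nat_lit 1585,nat_lit 1841],[nat_lit 136,nat_lit 287,nat_lit 367,nat_lit 404],[nat_lit 185,nat_lit 406],[nat_lit 64,nat_lit 554],[nat_lit 136,nat_lit 476,nat_lit 494,nat_lit 499,nat_lit 543,nat_lit 550,nat_lit 558,nat_lit 619,nat_lit 631],[nat_lit 185,nat_lit 633],[nat_lit 136,nat_lit 658],[nat_lit 64,nat_lit 865],[nat_lit 155,nat_lit 671],[nat_lit 136,nat_lit 668,nat_lit 673],[nat_lit 170,nat_lit 721],[nat_lit 185,nat_lit 721],[nat_lit 64,nat_lit 936],[nat_lit 136,nat_lit 724,nat_lit 743,nat_lit 789],[nat_lit 185,nat_lit 805,nat_lit 821],[nat_lit 64,nat_lit 1057,nat_lit 1063],[nat_lit 136,nat_lit 831],[nat_lit 64,nat_lit 1105],[nat_lit 185,nat_lit 930],[nat_lit 64,nat_lit 1203],[nat_lit 136,nat_lit 938],[nat_lit 64,nat_lit 1310],[nat_lit 136,nat_lit 1040,nat_lit 1066,nat_lit 1117],[nat_lit 64,nat_lit 1526],[nat_lit 136,nat_lit 1198],[nat_lit 185,nat_lit 1206],[nat_lit 136,nat_lit 1313,nat_lit 1343,nat_lit 1528,nat_lit 13058,nat_lit 13965,nat_lit 15371],[nat_lit 64,nat_lit 15845],[nat_lit 9,nat_lit 2021,nat_lit 2464,nat_lit 2498,nat_lit 2809,nat_lit 2856,nat_lit 3050],[nat_lit 6,nat_lit 3053,nat_lit 3085],[nat_lit 9,nat_lit 3269,nat_lit 3289,nat_lit 3435,nat_lit 3466,nat_lit 3593,nat_lit 3647,nat_lit 3757,nat_lit 3839,nat_lit 3920,nat_lit 3971,nat_lit 4046,nat_lit 4055,nat_lit 4096,nat_lit 4102,nat_lit 4164],[nat_lit 1,nat_lit 4167],[nat_lit 9,nat_lit 4330,nat_lit 4339,nat_lit 4343,nat_lit 4406],[nat_lit 6,nat_lit 4412],[nat_lit 9,nat_lit 4632,nat_lit 4812,nat_lit 4815,nat_lit 4867,nat_lit 4964,nat_lit 5019],[nat_lit 1,nat_lit 5126,nat_lit 5140],[nat_lit 6,nat_lit 5215],[nat_lit 9,nat_lit 5240,nat_lit 5246],[nat_lit 6,nat_lit 5439],[nat_lit 9,nat_lit 5525,nat_lit 5528,nat_lit 5632,nat_lit 5645,nat_lit 5717,nat_lit 5743],[nat_lit 1,nat_lit 5792],[nat_lit 9,nat_lit 5807,nat_lit 5848],[nat_lit 6,nat_lit 5982],[nat_lit 9,nat_lit 6012,nat_lit 6084],[nat_lit 6,nat_lit 6101],[nat_lit 9,nat_lit 6187,nat_lit 6251,nat_lit 6255,nat_lit 6258],[nat_lit 7,nat_lit 6288],[nat_lit 9,nat_lit 6363],[nat_lit 6,nat_lit 6366],[nat_lit 1,nat_lit 6506],[nat_lit 9,nat_lit 6599],[nat_lit 6,nat_lit 6614,nat_lit 6671],[nat_lit 9,nat_lit 6675],[nat_lit 1,nat_lit 6723],[nat_lit 9,nat_lit 6728,nat_lit 6746,nat_lit 6792,nat_lit 6885],[nat_lit 1,nat_lit 7031],[nat_lit 6,nat_lit 7105,nat_lit 7178],[nat_lit 8,nat_lit 7208],[nat_lit 9,nat_lit 7281,nat_lit 7300,nat_lit 7304,nat_lit 7345],[nat_lit 7,nat_lit 7560],[nat_lit 9,nat_lit 7622,nat_lit 7708,nat_lit 7718],[nat_lit 7,nat_lit 8038],[nat_lit 9,nat_lit 8289],[nat_lit 7,nat_lit 8303],[nat_lit 9,nat_lit 8356,nat_lit 8730],[nat_lit 6,nat_lit 8734],[nat_lit 9,nat_lit 9257],[nat_lit 8,nat_lit 9375],[nat_lit 9,nat_lit 9729],[nat_lit 6,nat_lit 10806],[nat_lit 9,nat_lit 15815,nat_lit 15927],[nat_lit 137,nat_lit 10066,nat_lit 11138,nat_lit 12136,nat_lit 12170,nat_lit 13280,nat_lit 14100,nat_lit 15640],[nat_lit 10,nat_lit 3054,nat_lit 3724,nat_lit 4352,nat_lit 4677],[nat_lit 1,nat_lit 5147],[nat_lit 10,nat_lit 8579,nat_lit 10350,nat_lit 11800],[nat_lit 138,nat_lit 1267,nat_lit 1599,nat_lit 1611],[nat_lit 187,nat_lit 1612],[nat_lit 138,nat_lit 1964,nat_lit 1988,nat_lit 1993],[nat_lit 187,nat_lit 2029],[nat_lit 190,nat_lit 2031],[nat_lit 138,nat_lit 2072,nat_lit 2164,nat_lit 2394,nat_lit 2397,nat_lit 2446,nat_lit 2452],[nat_lit 187,nat_lit 2453],[nat_lit 138,nat_lit 2477,nat_lit 2481],[nat_lit 187,nat_lit 2482,nat_lit 2490],[nat_lit 190,nat_lit 2524],[nat_lit 192,nat_lit 2527],[nat_lit 138,nat_lit 2659,nat_lit 2664,nat_lit 2733,nat_lit 2793,nat_lit 2796,nat_lit 2824,nat_lit 2927,nat_lit 2930,nat_lit 2964,nat_lit 2968,nat_lit 2973],[nat_lit 187,nat_lit 2974,nat_lit 3036,nat_lit 3042],[nat_lit 138,nat_lit 3061],[nat_lit 187,nat_lit 3062,nat_lit 3068],[nat_lit 190,nat_lit 3070,nat_lit 3081],[nat_lit 138,nat_lit 3233,nat_lit 3239],[nat_lit 187,nat_lit 3264],[nat_lit 138,nat_lit 3285,nat_lit 3334],[nat_lit 187,nat_lit 3339],[nat_lit 138,nat_lit 3374,nat_lit 3408,nat_lit 3413],[nat_lit 187,nat_lit 3420],[nat_lit 138,nat_lit 3555,nat_lit 3559,nat_lit 3564],[nat_lit 187,nat_lit 3565,nat_lit 3569],[nat_lit 138,nat_lit 3607,nat_lit 3615],[nat_lit 157,nat_lit 3622],[nat_lit 187,nat_lit 3630],[nat_lit 190,nat_lit 3631,nat_lit 3734],[nat_lit 192,nat_lit 3746],[nat_lit 138,nat_lit 3830,nat_lit 3861,nat_lit 3899],[nat_lit 157,nat_lit 3906],[nat_lit 187,nat_lit 3913],[nat_lit 138,nat_lit 4016,nat_lit 4020],[nat_lit 187,nat_lit 4025],[nat_lit 138,nat_lit 4075,nat_lit 4080,nat_lit 4135],[nat_lit 187,nat_lit 4141],[nat_lit 138,nat_lit 4212,nat_lit 4297],[nat_lit 187,nat_lit 4298],[nat_lit 138,nat_lit 4303],[nat_lit 187,nat_lit 4304],[nat_lit 190,nat_lit 4317],[nat_lit 187,nat_lit 4375],[nat_lit 138,nat_lit 4381],[nat_lit 190,nat_lit 4394],[nat_lit 192,nat_lit 4397],[nat_lit 138,nat_lit 4595,nat_lit 4598,nat_lit 4621,nat_lit 4624],[nat_lit 157,nat_lit 4651],[nat_lit 187,nat_lit 4657,nat_lit 4770,nat_lit 4776,nat_lit 4847,nat_lit 4904],[nat_lit 138,nat_lit 5073,nat_lit 5081,nat_lit 5175],[nat_lit 187,nat_lit 5184],[nat_lit 165,nat_lit 5204],[nat_lit 138,nat_lit 5389],[nat_lit 187,nat_lit 5395],[nat_lit 138,nat_lit 5417,nat_lit 5566,nat_lit 5571,nat_lit 5911,nat_lit 5932],[nat_lit 187,nat_lit 6023],[nat_lit 190,nat_lit 6036],[nat_lit 138,nat_lit 6224],[nat_lit 187,nat_lit 6231],[nat_lit 138,nat_lit 6236],[nat_lit 187,nat_lit 6414],[nat_lit 138,nat_lit 6794,nat_lit 6823],[nat_lit 190,nat_lit 6937],[nat_lit 187,nat_lit 7145],[nat_lit 192,nat_lit 7937],[nat_lit 138,nat_lit 14699,nat_lit 15596],[nat_lit 11,nat_lit 1001,nat_lit 1151,nat_lit 1266,nat_lit 1369,nat_lit 1436,nat_lit 1454,nat_lit 1577,nat_lit 1716,nat_lit 1729,nat_lit 1817,nat_lit 1820,nat_lit 1843,nat_lit 1918,nat_lit 1923,nat_lit 1990,nat_lit 2149,nat_lit 2151],[nat_lit 20,nat_lit 2169],[nat_lit 11,nat_lit 2226,nat_lit 2269,nat_lit 2272,nat_lit 2393,nat_lit 2396,nat_lit 2401,nat_lit 2476,nat_lit 2478,nat_lit 2554,nat_lit 2658,nat_lit 2661,nat_lit 2759,nat_lit 2761,nat_lit 2817,nat_lit 2820,nat_lit 2963,nat_lit 2967,nat_lit 2970,nat_lit 3059,nat_lit 3134,nat_lit 3211,nat_lit 3212,nat_lit 3253,nat_lit 3366,nat_lit 3369,nat_lit 3372,nat_lit 3606,nat_lit 3610,nat_lit 3617,nat_lit 3793,nat_lit 3796,nat_lit 3797,nat_lit 3875,nat_lit 3877,nat_lit 3921,nat_lit 4067,nat_lit 4078,nat_lit 4362,nat_lit 4546,nat_lit 4617,nat_lit 4827,nat_lit 4831,nat_lit 5412,nat_lit 5413,nat_lit 6925,nat_lit 7474,nat_lit 7866,nat_lit 7912],[nat_lit 20,nat_lit 7920,nat_lit 8492],[nat_lit 11,nat_lit 8910],[nat_lit 20,nat_lit 8930],[nat_lit 11,nat_lit 8951],[nat_lit 20,nat_lit 10051],[nat_lit 11,nat_lit 10548,nat_lit 10860,nat_lit 11502,nat_lit 11686,nat_lit 11732,nat_lit 11831,nat_lit 12112,nat_lit 12489,nat_lit 12589,nat_lit 13863,nat_lit 14263,nat_lit 14718],[nat_lit 15,nat_lit 14770],[nat_lit 11,nat_lit 14911],[nat_lit 16,nat_lit 15183],[nat_lit 11,nat_lit 15226],[nat_lit 15,nat_lit 15291],[nat_lit 139,nat_lit 10,nat_lit 16],[nat_lit 12,nat_lit 11,nat_lit 1610,nat_lit 1844,nat_lit 2154,nat_lit 2170,nat_lit 2273,nat_lit 2403,nat_lit 2663,nat_lit 2667,nat_lit 2688,nat_lit 2765,nat_lit 2823,nat_lit 2828,nat_lit 2972,nat_lit 2982,nat_lit 3136,nat_lit 3256,nat_lit 3259,nat_lit 3373,nat_lit 3614,nat_lit 3620,nat_lit 3624,nat_lit 3798,nat_lit 3879,nat_lit 3881,nat_lit 4074,nat_lit 4367,nat_lit 4377,nat_lit 4543,nat_lit 4547,nat_lit 4548,nat_lit 4620,nat_lit 4623,nat_lit 4832,nat_lit 5347,nat_lit 5416,nat_lit 10088],[nat_lit 20,nat_lit 11172],[nat_lit 12,nat_lit 11854,nat_lit 14460],[nat_lit 140,nat_lit 10,nat_lit 16,nat_lit 123],[nat_lit 37,nat_lit 258],[nat_lit 140,nat_lit 253,nat_lit 1419,nat_lit 1493,nat_lit 1496,nat_lit 1756,nat_lit 1892,nat_lit 1895,nat_lit 2048,nat_lit 2206,nat_lit 2354,nat_lit 2357,nat_lit 2727,nat_lit 2916,nat_lit 3122,nat_lit 3325,nat_lit 3782,nat_lit 6919,nat_lit 8435,nat_lit 8972,nat_lit 10029,nat_lit 10077,nat_lit 10104,nat_lit 11073,nat_lit 11117,nat_lit 11637,nat_lit 11974,nat_lit 12074,nat_lit 12557,nat_lit 12800,nat_lit 13111,nat_lit 13135,nat_lit 13302,nat_lit 14825],[nat_lit 13,nat_lit 20,nat_lit 2301,nat_lit 2670,nat_lit 2690,nat_lit 2830,nat_lit 3267,nat_lit 3447,nat_lit 3452,nat_lit 3627,nat_lit 3929,nat_lit 3933,nat_lit 4086,nat_lit 4373,nat_lit 4380,nat_lit 4386,nat_lit 4549,nat_lit 4626,nat_lit 4628,nat_lit 5166,nat_lit 5179,nat_lit 5344,nat_lit 5348,nat_lit 5349,nat_lit 5425,nat_lit 5662,nat_lit 6193,nat_lit 12744],[nat_lit 141,nat_lit 10,nat_lit 978,nat_lit 1535,nat_lit 1536,nat_lit 2323,nat_lit 2420,nat_lit 2880,nat_lit 2881,nat_lit 3501,nat_lit 4227,nat_lit 10367,nat_lit 12364,nat_lit 12537,nat_lit 12555,nat_lit 12901],[nat_lit 41,nat_lit 13919],[nat_lit 141,nat_lit 14322],[nat_lit 14,nat_lit 2862,nat_lit 3270,nat_lit 3456],[nat_lit 19,nat_lit 3937],[nat_lit 14,nat_lit 3945,nat_lit 4390,nat_lit 4854,nat_lit 5174,nat_lit 5433,nat_lit 6030,nat_lit 6274,nat_lit 13525],[nat_lit 20,nat_lit 14175],[nat_lit 142,nat_lit 10],[nat_lit 166,nat_lit 25],[nat_lit 142,nat_lit 33,nat_lit 12892,nat_lit 13200,nat_lit 13655,nat_lit 13722],[nat_lit 47,nat_lit 14503],[nat_lit 142,nat_lit 14763,nat_lit 14812,nat_lit 15173,nat_lit 15207],[nat_lit 15,nat_lit 1271,nat_lit 1458,nat_lit 1611,nat_lit 1733,nat_lit 1823,nat_lit 1845,nat_lit 2028,nat_lit 2155,nat_lit 2171],[nat_lit 12,nat_lit 2176],[nat_lit 15,nat_lit 2274,nat_lit 2277,nat_lit 2300,nat_lit 2397,nat_lit 2404,nat_lit 2486],[nat_lit 19,nat_lit 2664],[nat_lit 15,nat_lit 2689,nat_lit 2766,nat_lit 2824,nat_lit 2829,nat_lit 2973,nat_lit 2978,nat_lit 3061,nat_lit 3063,nat_lit 3263,nat_lit 3271,nat_lit 3291,nat_lit 3374,nat_lit 3377,nat_lit 3440,nat_lit 3444,nat_lit 3615,nat_lit 3621,nat_lit 3625,nat_lit 3628,nat_lit 3639,nat_lit 3730,nat_lit 3799,nat_lit 3882,nat_lit 3930,nat_lit 3934,nat_lit 3946,nat_lit 3947,nat_lit 4075,nat_lit 4080,nat_lit 4085,nat_lit 4185,nat_lit 4189,nat_lit 4364,nat_lit 4368,nat_lit 4391,nat_lit 4544,nat_lit 4678,nat_lit 4696,nat_lit 4833,nat_lit 4840,nat_lit 4845],[nat_lit 12,nat_lit 4846],[nat_lit 15,nat_lit 5162,nat_lit 5182,nat_lit 5189,nat_lit 5426,nat_lit 5657,nat_lit 5661,nat_lit 5663,nat_lit 6014,nat_lit 6022,nat_lit 6031,nat_lit 6190,nat_lit 6194,nat_lit 6259,nat_lit 6260,nat_lit 6263,nat_lit 6283,nat_lit 6526,nat_lit 6949,nat_lit 7112,nat_lit 7199,nat_lit 14925,nat_lit 15134],[nat_lit 143,nat_lit 2772,nat_lit 3387,nat_lit 3420,nat_lit 3569,nat_lit 3649,nat_lit 4141,nat_lit 4315,nat_lit 4460,nat_lit 4657,nat_lit 4783,nat_lit 4904,nat_lit 5082,nat_lit 5095,nat_lit 5460,nat_lit 5466,nat_lit 5581,nat_lit 5913,nat_lit 5933,nat_lit 6456,nat_lit 6824,nat_lit 7097,nat_lit 7158,nat_lit 8145,nat_lit 8150,nat_lit 8346,nat_lit 8380,nat_lit 14857,nat_lit 15697],[nat_lit 16,nat_lit 1850,nat_lit 2177,nat_lit 2303,nat_lit 2692,nat_lit 2695,nat_lit 2832,nat_lit 3384,nat_lit 3737,nat_lit 4697,nat_lit 4698,nat_lit 4842,nat_lit 4954,nat_lit 6522,nat_lit 6525,nat_lit 6930,nat_lit 7184],[nat_lit 144,nat_lit 520,nat_lit 674,nat_lit 744,nat_lit 832,nat_lit 953,nat_lit 969,nat_lit 1118,nat_lit 1130,nat_lit 1188,nat_lit 1206,nat_lit 1218,nat_lit 1234,nat_lit 1314,nat_lit 1352,nat_lit 1386,nat_lit 1419,nat_lit 1432,nat_lit 1475,nat_lit 1493,nat_lit 1535,nat_lit 1546,nat_lit 1664,nat_lit 1701,nat_lit 1712,nat_lit 1756,nat_lit 1772,nat_lit 1782,nat_lit 1858,nat_lit 1878,nat_lit 1933,nat_lit 2087,nat_lit 2183,nat_lit 2601,nat_lit 2748,nat_lit 2957,nat_lit 3204,nat_lit 3501,nat_lit 3852,nat_lit 3975],[nat_lit 168,nat_lit 4229],[nat_lit 144,nat_lit 4259,nat_lit 4523,nat_lit 4582,nat_lit 4738,nat_lit 4761,nat_lit 5369,nat_lit 10682,nat_lit 11194,nat_lit 11867,nat_lit 12131,nat_lit 12236,nat_lit 13539,nat_lit 14536,nat_lit 14726,nat_lit 14983,nat_lit 15730,nat_lit 15848],[nat_lit 17,nat_lit 2867,nat_lit 3294,nat_lit 3461,nat_lit 4493,nat_lit 5497,nat_lit 5675,nat_lit 7923,nat_lit 8188],[nat_lit 145,nat_lit 420,nat_lit 508],[nat_lit 62,nat_lit 755],[nat_lit 145,nat_lit 575,nat_lit 639],[nat_lit 62,nat_lit 882],[nat_lit 145,nat_lit 683,nat_lit 688,nat_lit 978,nat_lit 1074,nat_lit 1103,nat_lit 1190,nat_lit 1245,nat_lit 1335],[nat_lit 135,nat_lit 1402],[nat_lit 145,nat_lit 1496,nat_lit 1512,nat_lit 1658,nat_lit 1758,nat_lit 1771,nat_lit 1911,nat_lit 1914,nat_lit 2048,nat_lit 2121,nat_lit 2186,nat_lit 2203,nat_lit 2217,nat_lit 2313,nat_lit 2320,nat_lit 2338,nat_lit 2354,nat_lit 2551,nat_lit 2574,nat_lit 2610,nat_lit 2621,nat_lit 2701,nat_lit 2713,nat_lit 2728,nat_lit 2874],[nat_lit 162,nat_lit 2920],[nat_lit 145,nat_lit 2917,nat_lit 2960,nat_lit 3184,nat_lit 3194,nat_lit 3314,nat_lit 3362,nat_lit 3524,nat_lit 3853,nat_lit 3992,nat_lit 4012,nat_lit 12131,nat_lit 12412,nat_lit 12762,nat_lit 13777,nat_lit 13962,nat_lit 14217,nat_lit 14530],[nat_lit 18,nat_lit 4194,nat_lit 6544,nat_lit 8991],[nat_lit 146,nat_lit 546,nat_lit 660],[nat_lit 185,nat_lit 726],[nat_lit 64,nat_lit 943],[nat_lit 146,nat_lit 732,nat_lit 744,nat_lit 821],[nat_lit 185,nat_lit 862],[nat_lit 64,nat_lit 1111],[nat_lit 146,nat_lit 879,nat_lit 970,nat_lit 1022,nat_lit 1055],[nat_lit 64,nat_lit 1337],[nat_lit 146,nat_lit 1069],[nat_lit 64,nat_lit 1412],[nat_lit 136,nat_lit 1135],[nat_lit 146,nat_lit 1206,nat_lit 1316],[nat_lit 64,nat_lit 1694],[nat_lit 146,nat_lit 1353,nat_lit 1420,nat_lit 1529,nat_lit 1536,nat_lit 1665,nat_lit 1702,nat_lit 1934],[nat_lit 19,nat_lit 6009,nat_lit 9589,nat_lit 11140,nat_lit 12171,nat_lit 12617,nat_lit 12999,nat_lit 13415],[nat_lit 17,nat_lit 13759],[nat_lit 16,nat_lit 14374],[nat_lit 12,nat_lit 14864],[nat_lit 15,nat_lit 15258],[nat_lit 148,nat_lit 2490,nat_lit 2568,nat_lit 2979,nat_lit 3068],[nat_lit 187,nat_lit 3146],[nat_lit 148,nat_lit 3448,nat_lit 3630],[nat_lit 187,nat_lit 3636],[nat_lit 148,nat_lit 3733,nat_lit 3755,nat_lit 4088],[nat_lit 187,nat_lit 4178],[nat_lit 148,nat_lit 4311,nat_lit 4375,nat_lit 4382],[nat_lit 187,nat_lit 4393],[nat_lit 148,nat_lit 4841,nat_lit 4847,nat_lit 5074,nat_lit 5082],[nat_lit 187,nat_lit 5096],[nat_lit 148,nat_lit 5427,nat_lit 5460],[nat_lit 187,nat_lit 5682],[nat_lit 148,nat_lit 5922,nat_lit 5933],[nat_lit 187,nat_lit 5934],[nat_lit 148,nat_lit 6264],[nat_lit 165,nat_lit 6277],[nat_lit 190,nat_lit 6555],[nat_lit 148,nat_lit 6795,nat_lit 6824,nat_lit 7158],[nat_lit 192,nat_lit 7514],[nat_lit 148,nat_lit 7758,nat_lit 7800],[nat_lit 187,nat_lit 7801,nat_lit 8848],[nat_lit 148,nat_lit 15115],[nat_lit 21,nat_lit 13,nat_lit 33,nat_lit 2795,nat_lit 2936,nat_lit 3563,nat_lit 3790,nat_lit 4296,nat_lit 4302,nat_lit 4774,nat_lit 5064,nat_lit 5333,nat_lit 5570,nat_lit 6173,nat_lit 10118,nat_lit 11674,nat_lit 13078,nat_lit 14922],[nat_lit 22,nat_lit 22,nat_lit 3579,nat_lit 4309,nat_lit 4540,nat_lit 5080],[nat_lit 150,nat_lit 1249,nat_lit 1940,nat_lit 1942,nat_lit 2889,nat_lit 3004,nat_lit 3503,nat_lit 4229,nat_lit 13667,nat_lit 14816],[nat_lit 151,nat_lit 13,nat_lit 13661,nat_lit 14286,nat_lit 14344,nat_lit 15175,nat_lit 15212,nat_lit 15502],[nat_lit 24,nat_lit 522,nat_lit 585,nat_lit 648,nat_lit 689,nat_lit 878,nat_lit 972,nat_lit 997,nat_lit 1068,nat_lit 1101],[nat_lit 139,nat_lit 1455],[nat_lit 24,nat_lit 1192,nat_lit 1237,nat_lit 1301,nat_lit 1368,nat_lit 1434,nat_lit 1518,nat_lit 1574,nat_lit 1715,nat_lit 1815,nat_lit 2225],[nat_lit 129,nat_lit 1815],[nat_lit 24,nat_lit 2268,nat_lit 2391],[nat_lit 129,nat_lit 2391],[nat_lit 24,nat_lit 2966,nat_lit 3249,nat_lit 3419,nat_lit 3580,nat_lit 4333,nat_lit 4616,nat_lit 5073,nat_lit 5081,nat_lit 5093,nat_lit 5342,nat_lit 5589,nat_lit 5911,nat_lit 5932,nat_lit 6181,nat_lit 6419,nat_lit 7090,nat_lit 9592,nat_lit 10688,nat_lit 12145,nat_lit 12314,nat_lit 12618,nat_lit 13140],[nat_lit 29,nat_lit 13158],[nat_lit 24,nat_lit 13698,nat_lit 13821],[nat_lit 29,nat_lit 13865],[nat_lit 24,nat_lit 13890,nat_lit 14728,nat_lit 14891,nat_lit 15078,nat_lit 15299,nat_lit 15713],[nat_lit 152,nat_lit 4,nat_lit 8,nat_lit 22,nat_lit 4413,nat_lit 6826,nat_lit 7397,nat_lit 8098,nat_lit 9222,nat_lit 15887],[nat_lit 25,nat_lit 696,nat_lit 772,nat_lit 844,nat_lit 894],[nat_lit 129,nat_lit 772],[nat_lit 25,nat_lit 1134,nat_lit 1269,nat_lit 1356,nat_lit 1521,nat_lit 1651],[nat_lit 129,nat_lit 1356],[nat_lit 25,nat_lit 1731,nat_lit 1819,nat_lit 1989,nat_lit 2153,nat_lit 2822,nat_lit 3619,nat_lit 4335,nat_lit 5415,nat_lit 15278,nat_lit 15425],[nat_lit 153,nat_lit 4,nat_lit 8,nat_lit 15,nat_lit 22,nat_lit 1070,nat_lit 1220,nat_lit 1236],[nat_lit 134,nat_lit 1358],[nat_lit 153,nat_lit 1433,nat_lit 1576,nat_lit 1666],[nat_lit 144,nat_lit 1716],[nat_lit 153,nat_lit 1713,nat_lit 1798,nat_lit 1816,nat_lit 1868,nat_lit 1940,nat_lit 1951],[nat_lit 144,nat_lit 1990],[nat_lit 153,nat_lit 2088,nat_lit 2148,nat_lit 2205,nat_lit 2223,nat_lit 2234,nat_lit 2314],[nat_lit 58,nat_lit 2885],[nat_lit 153,nat_lit 2339,nat_lit 2416,nat_lit 2586,nat_lit 2702,nat_lit 3185,nat_lit 3360,nat_lit 3871],[nat_lit 144,nat_lit 4067],[nat_lit 153,nat_lit 4229,nat_lit 4591,nat_lit 4718,nat_lit 4973,nat_lit 5322,nat_lit 5371,nat_lit 6207],[nat_lit 26,nat_lit 1005,nat_lit 1154],[nat_lit 129,nat_lit 1005],[nat_lit 26,nat_lit 1439,nat_lit 1614,nat_lit 2074,nat_lit 2174,nat_lit 2484,nat_lit 5135],[nat_lit 154,nat_lit 4,nat_lit 15,nat_lit 22,nat_lit 1362,nat_lit 1402,nat_lit 1517,nat_lit 1587,nat_lit 1692,nat_lit 1774,nat_lit 1896,nat_lit 1915,nat_lit 2081,nat_lit 2221,nat_lit 2387,nat_lit 2392,nat_lit 2544,nat_lit 2624,nat_lit 2704,nat_lit 2729,nat_lit 2752,nat_lit 2876,nat_lit 2883,nat_lit 2904,nat_lit 2920,nat_lit 3133,nat_lit 3152,nat_lit 3195,nat_lit 3207,nat_lit 3301,nat_lit 3316,nat_lit 3332,nat_lit 3495,nat_lit 3503,nat_lit 3551,nat_lit 3608,nat_lit 3846,nat_lit 3859,nat_lit 3996,nat_lit 4593,nat_lit 13023,nat_lit 14394],[nat_lit 27,nat_lit 1461],[nat_lit 129,nat_lit 1461],[nat_lit 27,nat_lit 2033],[nat_lit 155,nat_lit 4,nat_lit 15,nat_lit 22,nat_lit 1135,nat_lit 1238,nat_lit 1357,nat_lit 1668,nat_lit 1800,nat_lit 1935,nat_lit 1942,nat_lit 2090,nat_lit 2137,nat_lit 2417],[nat_lit 28,nat_lit 2263],[nat_lit 129,nat_lit 2263],[nat_lit 28,nat_lit 2956],[nat_lit 24,nat_lit 3439],[nat_lit 129,nat_lit 2956],[nat_lit 24,nat_lit 4361],[nat_lit 28,nat_lit 8911,nat_lit 10012,nat_lit 11926,nat_lit 12996,nat_lit 13210,nat_lit 13880,nat_lit 13928,nat_lit 14324,nat_lit 14463],[nat_lit 129,nat_lit 13928],[nat_lit 28,nat_lit 14924],[nat_lit 24,nat_lit 14967],[nat_lit 25,nat_lit 15342],[nat_lit 26,nat_lit 15627],[nat_lit 156,nat_lit 4,nat_lit 8],[nat_lit 333,nat_lit 10],[nat_lit 156,nat_lit 15,nat_lit 22],[nat_lit 157,nat_lit 4,nat_lit 15,nat_lit 22,nat_lit 6809,nat_lit 6826,nat_lit 7759,nat_lit 8784],[nat_lit 187,nat_lit 9901],[nat_lit 30,nat_lit 3673,nat_lit 5008],[nat_lit 158,nat_lit 29],[nat_lit 159,nat_lit 29,nat_lit 14290],[nat_lit 32,nat_lit 255,nat_lit 354],[nat_lit 140,nat_lit 255],[nat_lit 37,nat_lit 358],[nat_lit 32,nat_lit 474,nat_lit 476],[nat_lit 140,nat_lit 474],[nat_lit 32,nat_lit 1799],[nat_lit 140,nat_lit 1799],[nat_lit 32,nat_lit 2360,nat_lit 2363,nat_lit 2368,nat_lit 2733,nat_lit 2735,nat_lit 2924],[nat_lit 140,nat_lit 2360],[nat_lit 32,nat_lit 2935,nat_lit 3342],[nat_lit 140,nat_lit 2924],[nat_lit 32,nat_lit 4020,nat_lit 4431,nat_lit 5842,nat_lit 9043,nat_lit 9084,nat_lit 9493,nat_lit 9655,nat_lit 10953,nat_lit 11189,nat_lit 11410,nat_lit 11449,nat_lit 11455,nat_lit 12091,nat_lit 12119,nat_lit 12157,nat_lit 12972,nat_lit 13007,nat_lit 13638,nat_lit 13735,nat_lit 14088,nat_lit 14209,nat_lit 14443,nat_lit 14576,nat_lit 15903,nat_lit 15959,nat_lit 16122],[nat_lit 37,nat_lit 16203],[nat_lit 160,nat_lit 29,nat_lit 8409],[nat_lit 33,nat_lit 478,nat_lit 630],[nat_lit 37,nat_lit 637,nat_lit 820],[nat_lit 33,nat_lit 2252,nat_lit 2933,nat_lit 3566,nat_lit 4305,nat_lit 10170,nat_lit 10591,nat_lit 10746,nat_lit 12402,nat_lit 13047],[nat_lit 37,nat_lit 13241,nat_lit 13796],[nat_lit 33,nat_lit 14272],[nat_lit 161,nat_lit 29,nat_lit 1358,nat_lit 1577,nat_lit 1817,nat_lit 2139,nat_lit 2149,nat_lit 2587,nat_lit 2732,nat_lit 2877,nat_lit 2885,nat_lit 3167,nat_lit 3847,nat_lit 5384,nat_lit 7120],[nat_lit 34,nat_lit 819],[nat_lit 37,nat_lit 1052],[nat_lit 162,nat_lit 29,nat_lit 2005,nat_lit 2126,nat_lit 2367,nat_lit 2393,nat_lit 2578,nat_lit 2970,nat_lit 3126,nat_lit 3211,nat_lit 3333,nat_lit 3366,nat_lit 3497,nat_lit 3554,nat_lit 3797,nat_lit 3814,nat_lit 3860,nat_lit 4000,nat_lit 4021,nat_lit 4221,nat_lit 4292,nat_lit 4584,nat_lit 4599,nat_lit 4744],[nat_lit 163,nat_lit 29,nat_lit 1719,nat_lit 2092,nat_lit 2253,nat_lit 2418,nat_lit 2427,nat_lit 2646,nat_lit 3002],[nat_lit 36,nat_lit 361],[nat_lit 33,nat_lit 484],[nat_lit 36,nat_lit 485],[nat_lit 140,nat_lit 485],[nat_lit 36,nat_lit 831,nat_lit 1053,nat_lit 1334,nat_lit 8448,nat_lit 9514],[nat_lit 130,nat_lit 8448],[nat_lit 36,nat_lit 9985],[nat_lit 130,nat_lit 9514],[nat_lit 140,nat_lit 9553],[nat_lit 36,nat_lit 10945],[nat_lit 130,nat_lit 9985],[nat_lit 140,nat_lit 10615],[nat_lit 130,nat_lit 10945],[nat_lit 36,nat_lit 11941,nat_lit 12023],[nat_lit 32,nat_lit 12073],[nat_lit 36,nat_lit 12377,nat_lit 12811],[nat_lit 140,nat_lit 11934],[nat_lit 33,nat_lit 12968],[nat_lit 36,nat_lit 12984,nat_lit 13116,nat_lit 13216],[nat_lit 130,nat_lit 12377,nat_lit 12811],[nat_lit 32,nat_lit 13596],[nat_lit 34,nat_lit 13733],[nat_lit 36,nat_lit 13909],[nat_lit 130,nat_lit 13216],[nat_lit 140,nat_lit 13217],[nat_lit 36,nat_lit 13961],[nat_lit 140,nat_lit 13583],[nat_lit 33,nat_lit 14235],[nat_lit 36,nat_lit 14409],[nat_lit 130,nat_lit 13909],[nat_lit 32,nat_lit 14518,nat_lit 14520],[nat_lit 34,nat_lit 14749],[nat_lit 140,nat_lit 14495],[nat_lit 32,nat_lit 14948],[nat_lit 33,nat_lit 14973,nat_lit 14977],[nat_lit 32,nat_lit 15322],[nat_lit 33,nat_lit 15323],[nat_lit 34,nat_lit 15347,nat_lit 15351],[nat_lit 33,nat_lit 15607],[nat_lit 34,nat_lit 15608],[nat_lit 140,nat_lit 15347],[nat_lit 164,nat_lit 29],[nat_lit 37,nat_lit 12910,nat_lit 13846,nat_lit 15633],[nat_lit 165,nat_lit 29],[nat_lit 39,nat_lit 48,nat_lit 979,nat_lit 1592,nat_lit 2009,nat_lit 3516,nat_lit 4235,nat_lit 4425,nat_lit 4990,nat_lit 5812,nat_lit 5815,nat_lit 10582,nat_lit 11218,nat_lit 11870,nat_lit 12020,nat_lit 12707,nat_lit 14086,nat_lit 14758],[nat_lit 40,nat_lit 65,nat_lit 11628,nat_lit 12757],[nat_lit 168,nat_lit 1720,nat_lit 1992],[nat_lit 134,nat_lit 2159],[nat_lit 168,nat_lit 2273,nat_lit 2649,nat_lit 2663,nat_lit 3169,nat_lit 3337,nat_lit 3498,nat_lit 3510,nat_lit 4585],[nat_lit 41,nat_lit 88],[nat_lit 169,nat_lit 2631,nat_lit 2936,nat_lit 2972,nat_lit 3156],[nat_lit 145,nat_lit 3627],[nat_lit 169,nat_lit 3790,nat_lit 4023,nat_lit 4074,nat_lit 4224,nat_lit 4296,nat_lit 4548,nat_lit 4560,nat_lit 4601,nat_lit 4748,nat_lit 4778,nat_lit 4977,nat_lit 5068,nat_lit 5374,nat_lit 5397,nat_lit 5539],[nat_lit 42,nat_lit 124],[nat_lit 170,nat_lit 2157,nat_lit 2591,nat_lit 2801,nat_lit 3011,nat_lit 3242],[nat_lit 43,nat_lit 66],[nat_lit 40,nat_lit 89],[nat_lit 43,nat_lit 125,nat_lit 181,nat_lit 14504,nat_lit 15170],[nat_lit 45,nat_lit 12889],[nat_lit 50,nat_lit 13658],[nat_lit 45,nat_lit 14291,nat_lit 15195,nat_lit 15763,nat_lit 15933],[nat_lit 46,nat_lit 15935,nat_lit 16062],[nat_lit 50,nat_lit 16064],[nat_lit 174,nat_lit 2159,nat_lit 2488,nat_lit 2830,nat_lit 3246,nat_lit 3262],[nat_lit 58,nat_lit 4662],[nat_lit 174,nat_lit 4030,nat_lit 5376],[nat_lit 175,nat_lit 3220,nat_lit 4309,nat_lit 4781,nat_lit 5072,nat_lit 5802],[nat_lit 176,nat_lit 2672,nat_lit 14645],[nat_lit 49,nat_lit 14195],[nat_lit 132,nat_lit 14195],[nat_lit 49,nat_lit 14956],[nat_lit 45,nat_lit 15120],[nat_lit 50,nat_lit 15458],[nat_lit 51,nat_lit 596,nat_lit 696,nat_lit 844],[nat_lit 152,nat_lit 696],[nat_lit 51,nat_lit 1082,nat_lit 1579,nat_lit 1583,nat_lit 1718,nat_lit 1777,nat_lit 1819,nat_lit 1900,nat_lit 1920],[nat_lit 152,nat_lit 1718],[nat_lit 143,nat_lit 1777],[nat_lit 51,nat_lit 2258,nat_lit 2276,nat_lit 2328],[nat_lit 143,nat_lit 1900],[nat_lit 51,nat_lit 2399,nat_lit 2429,nat_lit 2454,nat_lit 2460,nat_lit 2487,nat_lit 2491],[nat_lit 143,nat_lit 2141],[nat_lit 51,nat_lit 2666,nat_lit 2742,nat_lit 2778,nat_lit 2799,nat_lit 2888,nat_lit 2909,nat_lit 2933,nat_lit 3025,nat_lit 3076,nat_lit 3237,nat_lit 3241,nat_lit 3340,nat_lit 3421,nat_lit 3455],[nat_lit 160,nat_lit 2933],[nat_lit 51,nat_lit 3671,nat_lit 3709,nat_lit 3948,nat_lit 4114,nat_lit 4422,nat_lit 4675,nat_lit 4729,nat_lit 4835,nat_lit 5378,nat_lit 5487,nat_lit 5616,nat_lit 5665,nat_lit 5837,nat_lit 6226,nat_lit 6265,nat_lit 6476,nat_lit 6684,nat_lit 6738,nat_lit 7137,nat_lit 7246,nat_lit 7285,nat_lit 7341,nat_lit 7608,nat_lit 8085,nat_lit 8122,nat_lit 8137,nat_lit 8151,nat_lit 10277,nat_lit 15278,nat_lit 15425,nat_lit 15454,nat_lit 15854,nat_lit 16079,nat_lit 16134,nat_lit 16155,nat_lit 16198],[nat_lit 179,nat_lit 3044,nat_lit 3423,nat_lit 3572,nat_lit 3706,nat_lit 3888,nat_lit 3914,nat_lit 4035,nat_lit 4143,nat_lit 4312,nat_lit 4785],[nat_lit 153,nat_lit 4799],[nat_lit 179,nat_lit 4923,nat_lit 5084],[nat_lit 153,nat_lit 5100],[nat_lit 179,nat_lit 5107,nat_lit 5583],[nat_lit 144,nat_lit 5951],[nat_lit 179,nat_lit 5962,nat_lit 6238,nat_lit 6446,nat_lit 6461,nat_lit 6810,nat_lit 6829,nat_lit 6848],[nat_lit 144,nat_lit 7383],[nat_lit 179,nat_lit 7398,nat_lit 7761,nat_lit 7804,nat_lit 8382,nat_lit 8850,nat_lit 8853,nat_lit 9238,nat_lit 10259,nat_lit 10563,nat_lit 10602],[nat_lit 52,nat_lit 778,nat_lit 899,nat_lit 1155,nat_lit 1371,nat_lit 1996,nat_lit 2400,nat_lit 2811,nat_lit 2834,nat_lit 3077],[nat_lit 152,nat_lit 2834],[nat_lit 52,nat_lit 3540,nat_lit 3696],[nat_lit 152,nat_lit 3696],[nat_lit 52,nat_lit 4699,nat_lit 6530,nat_lit 7191,nat_lit 7422,nat_lit 9206],[nat_lit 180,nat_lit 432,nat_lit 683,nat_lit 752,nat_lit 760],[nat_lit 145,nat_lit 888],[nat_lit 180,nat_lit 892,nat_lit 1249,nat_lit 1496,nat_lit 1725,nat_lit 1771,nat_lit 1779,nat_lit 1892],[nat_lit 145,nat_lit 1897],[nat_lit 180,nat_lit 1915,nat_lit 1923,nat_lit 2207],[nat_lit 145,nat_lit 2222],[nat_lit 180,nat_lit 2226,nat_lit 2320],[nat_lit 145,nat_lit 2360],[nat_lit 180,nat_lit 2501,nat_lit 2610,nat_lit 2729,nat_lit 2759],[nat_lit 145,nat_lit 2884],[nat_lit 180,nat_lit 2960,nat_lit 2963,nat_lit 2970,nat_lit 3156],[nat_lit 145,nat_lit 3196],[nat_lit 180,nat_lit 3307,nat_lit 3316],[nat_lit 145,nat_lit 3374],[nat_lit 180,nat_lit 3362,nat_lit 3507],[nat_lit 145,nat_lit 3615],[nat_lit 180,nat_lit 3579,nat_lit 3818,nat_lit 3875,nat_lit 3889,nat_lit 3981,nat_lit 4000],[nat_lit 162,nat_lit 4024],[nat_lit 180,nat_lit 4224,nat_lit 4231,nat_lit 4260,nat_lit 4584,nat_lit 4601,nat_lit 4739,nat_lit 4765,nat_lit 4839],[nat_lit 169,nat_lit 4990],[nat_lit 180,nat_lit 4980,nat_lit 5349,nat_lit 5386,nat_lit 5400,nat_lit 5914,nat_lit 5920,nat_lit 6214,nat_lit 6240,nat_lit 6384,nat_lit 6664],[nat_lit 175,nat_lit 7131],[nat_lit 180,nat_lit 13060,nat_lit 13085,nat_lit 13251,nat_lit 13441,nat_lit 13799,nat_lit 14190,nat_lit 14727],[nat_lit 53,nat_lit 1157,nat_lit 2494,nat_lit 2981],[nat_lit 181,nat_lit 552,nat_lit 732,nat_lit 744,nat_lit 825,nat_lit 868,nat_lit 879,nat_lit 935,nat_lit 940,nat_lit 942],[nat_lit 136,nat_lit 956],[nat_lit 181,nat_lit 971,nat_lit 1034,nat_lit 1110],[nat_lit 136,nat_lit 1121],[nat_lit 64,nat_lit 1533],[nat_lit 146,nat_lit 1221],[nat_lit 181,nat_lit 1296],[nat_lit 64,nat_lit 1789],[nat_lit 146,nat_lit 1422],[nat_lit 181,nat_lit 1435,nat_lit 1440,nat_lit 1537],[nat_lit 155,nat_lit 1561],[nat_lit 181,nat_lit 1580,nat_lit 1714],[nat_lit 155,nat_lit 1802,nat_lit 1821],[nat_lit 181,nat_lit 1942,nat_lit 2427,nat_lit 2589,nat_lit 3003,nat_lit 3174,nat_lit 3273,nat_lit 3426,nat_lit 3664,nat_lit 3673,nat_lit 3915,nat_lit 13804],[nat_lit 54,nat_lit 2840,nat_lit 2852,nat_lit 3045],[nat_lit 143,nat_lit 2840],[nat_lit 54,nat_lit 3480,nat_lit 3713,nat_lit 3890,nat_lit 3968,nat_lit 4109,nat_lit 4668,nat_lit 4875,nat_lit 4911,nat_lit 5476],[nat_lit 143,nat_lit 4668],[nat_lit 54,nat_lit 5936,nat_lit 6074,nat_lit 6124],[nat_lit 143,nat_lit 5936],[nat_lit 54,nat_lit 7350,nat_lit 7762,nat_lit 9240],[nat_lit 167,nat_lit 9240],[nat_lit 54,nat_lit 15243,nat_lit 15416,nat_lit 15558,nat_lit 15672],[nat_lit 182,nat_lit 12137,nat_lit 13060,nat_lit 13991,nat_lit 14649],[nat_lit 55,nat_lit 5481],[nat_lit 183,nat_lit 2031,nat_lit 3044,nat_lit 3070,nat_lit 3706,nat_lit 3712,nat_lit 4035,nat_lit 4152,nat_lit 4312,nat_lit 4317,nat_lit 4401],[nat_lit 190,nat_lit 4475],[nat_lit 183,nat_lit 4667,nat_lit 4785],[nat_lit 157,nat_lit 4799],[nat_lit 183,nat_lit 4910],[nat_lit 190,nat_lit 4924],[nat_lit 183,nat_lit 4946,nat_lit 5075,nat_lit 5084],[nat_lit 157,nat_lit 5100],[nat_lit 190,nat_lit 5100,nat_lit 5108],[nat_lit 183,nat_lit 5178,nat_lit 5202],[nat_lit 192,nat_lit 5285],[nat_lit 183,nat_lit 5468,nat_lit 5583,nat_lit 5591],[nat_lit 157,nat_lit 5604],[nat_lit 190,nat_lit 5620],[nat_lit 183,nat_lit 5745],[nat_lit 192,nat_lit 5761],[nat_lit 157,nat_lit 5925,nat_lit 5937],[nat_lit 190,nat_lit 5937],[nat_lit 183,nat_lit 5949],[nat_lit 192,nat_lit 5965],[nat_lit 190,nat_lit 6029],[nat_lit 183,nat_lit 6238],[nat_lit 157,nat_lit 6447],[nat_lit 190,nat_lit 6463],[nat_lit 192,nat_lit 6483],[nat_lit 183,nat_lit 6829],[nat_lit 190,nat_lit 6849],[nat_lit 165,nat_lit 6948],[nat_lit 183,nat_lit 7151,nat_lit 7338],[nat_lit 190,nat_lit 7383,nat_lit 7806],[nat_lit 172,nat_lit 7944],[nat_lit 183,nat_lit 8147],[nat_lit 190,nat_lit 8156],[nat_lit 183,nat_lit 8850],[nat_lit 190,nat_lit 9216],[nat_lit 183,nat_lit 9975,nat_lit 15816],[nat_lit 56,nat_lit 1005],[nat_lit 134,nat_lit 1005],[nat_lit 56,nat_lit 1451],[nat_lit 134,nat_lit 1451],[nat_lit 56,nat_lit 1851,nat_lit 3585,nat_lit 3632,nat_lit 4047,nat_lit 4091,nat_lit 4104,nat_lit 4313,nat_lit 4787,nat_lit 5001,nat_lit 5403,nat_lit 5529,nat_lit 5554,nat_lit 6271,nat_lit 6352,nat_lit 6460,nat_lit 6676,nat_lit 7134,nat_lit 7288,nat_lit 7352,nat_lit 8155,nat_lit 8172,nat_lit 9360],[nat_lit 184,nat_lit 5280,nat_lit 5625,nat_lit 7367,nat_lit 7855,nat_lit 8166,nat_lit 8418,nat_lit 8890,nat_lit 9477,nat_lit 9506,nat_lit 9982,nat_lit 10565],[nat_lit 162,nat_lit 10570],[nat_lit 184,nat_lit 11370],[nat_lit 57,nat_lit 1273],[nat_lit 185,nat_lit 972,nat_lit 1561,nat_lit 1802,nat_lit 1821],[nat_lit 181,nat_lit 2258],[nat_lit 185,nat_lit 2428],[nat_lit 58,nat_lit 1614],[nat_lit 144,nat_lit 1614],[nat_lit 58,nat_lit 2291,nat_lit 2306],[nat_lit 153,nat_lit 2306],[nat_lit 144,nat_lit 2867],[nat_lit 57,nat_lit 4212],[nat_lit 58,nat_lit 4481,nat_lit 5116,nat_lit 5443,nat_lit 5482,nat_lit 5626,nat_lit 6484,nat_lit 6871,nat_lit 7368,nat_lit 8391,nat_lit 8828,nat_lit 8860,nat_lit 9910],[nat_lit 186,nat_lit 15079],[nat_lit 59,nat_lit 5976,nat_lit 7439,nat_lit 7861],[nat_lit 187,nat_lit 5955,nat_lit 6835,nat_lit 7407],[nat_lit 192,nat_lit 7814],[nat_lit 187,nat_lit 7832,nat_lit 8390,nat_lit 8859,nat_lit 9230],[nat_lit 60,nat_lit 2002,nat_lit 3055,nat_lit 3436,nat_lit 3468,nat_lit 4166],[nat_lit 61,nat_lit 513,nat_lit 578,nat_lit 642],[nat_lit 154,nat_lit 513],[nat_lit 61,nat_lit 687],[nat_lit 135,nat_lit 578],[nat_lit 61,nat_lit 811,nat_lit 839],[nat_lit 154,nat_lit 687],[nat_lit 135,nat_lit 687],[nat_lit 61,nat_lit 977,nat_lit 982],[nat_lit 145,nat_lit 765],[nat_lit 61,nat_lit 1043],[nat_lit 154,nat_lit 839],[nat_lit 135,nat_lit 839],[nat_lit 61,nat_lit 1137],[nat_lit 135,nat_lit 884],[nat_lit 145,nat_lit 891],[nat_lit 61,nat_lit 1244],[nat_lit 135,nat_lit 977],[nat_lit 154,nat_lit 996],[nat_lit 135,nat_lit 1043,nat_lit 1073],[nat_lit 145,nat_lit 1078,nat_lit 1139],[nat_lit 154,nat_lit 1148],[nat_lit 135,nat_lit 1244],[nat_lit 145,nat_lit 1248],[nat_lit 162,nat_lit 1266],[nat_lit 145,nat_lit 1319,nat_lit 1361],[nat_lit 154,nat_lit 1367],[nat_lit 180,nat_lit 1444],[nat_lit 162,nat_lit 1454],[nat_lit 145,nat_lit 1586],[nat_lit 154,nat_lit 1591],[nat_lit 180,nat_lit 1591],[nat_lit 169,nat_lit 1610],[nat_lit 154,nat_lit 1671,nat_lit 1723],[nat_lit 162,nat_lit 1729],[nat_lit 169,nat_lit 1844],[nat_lit 61,nat_lit 2494],[nat_lit 154,nat_lit 2003],[nat_lit 175,nat_lit 2027],[nat_lit 162,nat_lit 2095],[nat_lit 180,nat_lit 2095],[nat_lit 162,nat_lit 2163],[nat_lit 169,nat_lit 2170],[nat_lit 175,nat_lit 2301],[nat_lit 180,nat_lit 2494,nat_lit 2500],[nat_lit 169,nat_lit 2594,nat_lit 2680],[nat_lit 180,nat_lit 2680,nat_lit 2690],[nat_lit 61,nat_lit 3721],[nat_lit 145,nat_lit 3073],[nat_lit 175,nat_lit 3282],[nat_lit 61,nat_lit 4159,nat_lit 4184],[nat_lit 154,nat_lit 4159],[nat_lit 61,nat_lit 7440,nat_lit 9454,nat_lit 10061,nat_lit 10336,nat_lit 11111,nat_lit 12068,nat_lit 12553,nat_lit 13165],[nat_lit 62,nat_lit 685,nat_lit 838,nat_lit 883],[nat_lit 61,nat_lit 890],[nat_lit 62,nat_lit 1042],[nat_lit 61,nat_lit 1077,nat_lit 1138],[nat_lit 135,nat_lit 890],[nat_lit 61,nat_lit 1318],[nat_lit 135,nat_lit 1077,nat_lit 1138],[nat_lit 145,nat_lit 1147],[nat_lit 135,nat_lit 1318],[nat_lit 145,nat_lit 1366,nat_lit 1443],[nat_lit 154,nat_lit 1453],[nat_lit 145,nat_lit 1670],[nat_lit 154,nat_lit 1728],[nat_lit 162,nat_lit 1843],[nat_lit 180,nat_lit 1843],[nat_lit 154,nat_lit 2093],[nat_lit 180,nat_lit 2093],[nat_lit 162,nat_lit 2169],[nat_lit 180,nat_lit 2169],[nat_lit 145,nat_lit 2300],[nat_lit 169,nat_lit 2299],[nat_lit 162,nat_lit 2592],[nat_lit 169,nat_lit 2688],[nat_lit 180,nat_lit 2688,nat_lit 2859],[nat_lit 63,nat_lit 553,nat_lit 666,nat_lit 728,nat_lit 735,nat_lit 740],[nat_lit 155,nat_lit 666],[nat_lit 185,nat_lit 666],[nat_lit 155,nat_lit 740],[nat_lit 63,nat_lit 959],[nat_lit 185,nat_lit 740],[nat_lit 136,nat_lit 740],[nat_lit 63,nat_lit 1056],[nat_lit 155,nat_lit 871],[nat_lit 63,nat_lit 1116],[nat_lit 181,nat_lit 871],[nat_lit 63,nat_lit 1128,nat_lit 1204,nat_lit 1212],[nat_lit 155,nat_lit 963],[nat_lit 136,nat_lit 949],[nat_lit 181,nat_lit 963],[nat_lit 136,nat_lit 963],[nat_lit 146,nat_lit 969],[nat_lit 63,nat_lit 1339,nat_lit 1342,nat_lit 1347,nat_lit 1350,nat_lit 1406,nat_lit 1413],[nat_lit 181,nat_lit 1113],[nat_lit 136,nat_lit 1116,nat_lit 1128],[nat_lit 63,nat_lit 1534],[nat_lit 136,nat_lit 1204],[nat_lit 181,nat_lit 1216],[nat_lit 146,nat_lit 1218,nat_lit 1231],[nat_lit 181,nat_lit 1231],[nat_lit 63,nat_lit 1659,nat_lit 1662,nat_lit 1695],[nat_lit 136,nat_lit 1342],[nat_lit 181,nat_lit 1350],[nat_lit 136,nat_lit 1350,nat_lit 1406],[nat_lit 63,nat_lit 1790],[nat_lit 146,nat_lit 1419,nat_lit 1431],[nat_lit 63,nat_lit 1932,nat_lit 1938],[nat_lit 136,nat_lit 1534],[nat_lit 146,nat_lit 1535],[nat_lit 181,nat_lit 1554],[nat_lit 155,nat_lit 1573],[nat_lit 146,nat_lit 1574],[nat_lit 136,nat_lit 1662],[nat_lit 63,nat_lit 2129],[nat_lit 146,nat_lit 1701,nat_lit 1711,nat_lit 1782],[nat_lit 63,nat_lit 2240],[nat_lit 155,nat_lit 1798],[nat_lit 181,nat_lit 1798],[nat_lit 155,nat_lit 1814],[nat_lit 136,nat_lit 1932],[nat_lit 146,nat_lit 1939],[nat_lit 155,nat_lit 1940,nat_lit 1964],[nat_lit 163,nat_lit 1987],[nat_lit 146,nat_lit 2086],[nat_lit 155,nat_lit 2136,nat_lit 2146,nat_lit 2234],[nat_lit 163,nat_lit 2250,nat_lit 2269],[nat_lit 146,nat_lit 2415],[nat_lit 155,nat_lit 2421],[nat_lit 181,nat_lit 2423],[nat_lit 170,nat_lit 2480],[nat_lit 155,nat_lit 2584],[nat_lit 163,nat_lit 2644,nat_lit 2658],[nat_lit 170,nat_lit 2795],[nat_lit 181,nat_lit 2795],[nat_lit 170,nat_lit 2823],[nat_lit 155,nat_lit 2998],[nat_lit 181,nat_lit 3006],[nat_lit 176,nat_lit 3066],[nat_lit 163,nat_lit 3165],[nat_lit 170,nat_lit 3238,nat_lit 3256],[nat_lit 176,nat_lit 3418,nat_lit 3447],[nat_lit 163,nat_lit 3659],[nat_lit 170,nat_lit 3829],[nat_lit 146,nat_lit 3929],[nat_lit 181,nat_lit 3911],[nat_lit 176,nat_lit 3929],[nat_lit 181,nat_lit 4148,nat_lit 4418,nat_lit 4655,nat_lit 4685],[nat_lit 185,nat_lit 4919],[nat_lit 63,nat_lit 15990],[nat_lit 136,nat_lit 15990],[nat_lit 181,nat_lit 16110],[nat_lit 64,nat_lit 738,nat_lit 873,nat_lit 961],[nat_lit 63,nat_lit 967],[nat_lit 64,nat_lit 1115,nat_lit 1126],[nat_lit 63,nat_lit 1129,nat_lit 1230],[nat_lit 136,nat_lit 967],[nat_lit 63,nat_lit 1418,nat_lit 1430],[nat_lit 136,nat_lit 1129],[nat_lit 181,nat_lit 1230],[nat_lit 136,nat_lit 1230],[nat_lit 146,nat_lit 1234],[nat_lit 64,nat_lit 1698,nat_lit 1793],[nat_lit 136,nat_lit 1418,nat_lit 1430],[nat_lit 146,nat_lit 1432,nat_lit 1572],[nat_lit 155,nat_lit 1576],[nat_lit 63,nat_lit 2133,nat_lit 2244],[nat_lit 146,nat_lit 1797,nat_lit 1813],[nat_lit 155,nat_lit 1816],[nat_lit 181,nat_lit 1985],[nat_lit 163,nat_lit 1990],[nat_lit 181,nat_lit 1990],[nat_lit 136,nat_lit 2133],[nat_lit 155,nat_lit 2267],[nat_lit 181,nat_lit 2272],[nat_lit 146,nat_lit 2486],[nat_lit 155,nat_lit 2479],[nat_lit 181,nat_lit 2485],[nat_lit 146,nat_lit 2639],[nat_lit 181,nat_lit 2820],[nat_lit 155,nat_lit 3230],[nat_lit 163,nat_lit 3901],[nat_lit 181,nat_lit 3901],[nat_lit 170,nat_lit 4652],[nat_lit 181,nat_lit 5461],[nat_lit 65,nat_lit 4689,nat_lit 5309,nat_lit 5698,nat_lit 5969,nat_lit 6490,nat_lit 6861],[nat_lit 147,nat_lit 5969],[nat_lit 65,nat_lit 6876,nat_lit 6963,nat_lit 6991,nat_lit 7414,nat_lit 7439,nat_lit 7789],[nat_lit 147,nat_lit 6876],[nat_lit 65,nat_lit 8594,nat_lit 8869,nat_lit 8897,nat_lit 9244,nat_lit 9529,nat_lit 10506,nat_lit 12302,nat_lit 12312],[nat_lit 196,nat_lit 35],[nat_lit 1,nat_lit 29],[nat_lit 69,nat_lit 32,nat_lit 43],[nat_lit 142,nat_lit 19],[nat_lit 71,nat_lit 42],[nat_lit 327,nat_lit 25],[nat_lit 200,nat_lit 34],[nat_lit 328,nat_lit 18],[nat_lit 0,nat_lit 2523,nat_lit 3104,nat_lit 3459,nat_lit 3464,nat_lit 3636,nat_lit 3645,nat_lit 3750],[nat_lit 6,nat_lit 3770],[nat_lit 0,nat_lit 3942,nat_lit 4100,nat_lit 4178,nat_lit 4187],[nat_lit 6,nat_lit 4191,nat_lit 4196],[nat_lit 0,nat_lit 4393,nat_lit 4400],[nat_lit 6,nat_lit 4401,nat_lit 4410],[nat_lit 0,nat_lit 4487,nat_lit 4491],[nat_lit 7,nat_lit 4520],[nat_lit 6,nat_lit 4695],[nat_lit 0,nat_lit 4857,nat_lit 4864],[nat_lit 6,nat_lit 4871],[nat_lit 0,nat_lit 4937,nat_lit 4943],[nat_lit 6,nat_lit 4946],[nat_lit 7,nat_lit 4956,nat_lit 4960],[nat_lit 0,nat_lit 5177,nat_lit 5185,nat_lit 5192,nat_lit 5200],[nat_lit 6,nat_lit 5202,nat_lit 5209],[nat_lit 0,nat_lit 5211,nat_lit 5290],[nat_lit 6,nat_lit 5296],[nat_lit 0,nat_lit 5353,nat_lit 5434,nat_lit 5496,nat_lit 5672,nat_lit 5682,nat_lit 5688],[nat_lit 6,nat_lit 5693],[nat_lit 7,nat_lit 5709,nat_lit 5780],[nat_lit 8,nat_lit 5789],[nat_lit 0,nat_lit 6013,nat_lit 6018],[nat_lit 2,nat_lit 6024],[nat_lit 6,nat_lit 6027,nat_lit 6037,nat_lit 6046],[nat_lit 0,nat_lit 6055],[nat_lit 7,nat_lit 6060,nat_lit 6147],[nat_lit 0,nat_lit 6192],[nat_lit 6,nat_lit 6284],[nat_lit 0,nat_lit 6330,nat_lit 6528,nat_lit 6537,nat_lit 6550,nat_lit 6552],[nat_lit 6,nat_lit 6555],[nat_lit 7,nat_lit 6570],[nat_lit 8,nat_lit 6586,nat_lit 6645],[nat_lit 0,nat_lit 6927],[nat_lit 6,nat_lit 6932,nat_lit 6941],[nat_lit 0,nat_lit 6955],[nat_lit 7,nat_lit 6960],[nat_lit 0,nat_lit 6966],[nat_lit 6,nat_lit 7111],[nat_lit 0,nat_lit 7200,nat_lit 7484],[nat_lit 6,nat_lit 7486,nat_lit 7497,nat_lit 7509],[nat_lit 7,nat_lit 7514],[nat_lit 8,nat_lit 7532],[nat_lit 7,nat_lit 7925],[nat_lit 0,nat_lit 7929],[nat_lit 7,nat_lit 7943],[nat_lit 0,nat_lit 7953,nat_lit 8107],[nat_lit 2,nat_lit 8110],[nat_lit 0,nat_lit 8112,nat_lit 8187,nat_lit 8189,nat_lit 8190],[nat_lit 10,nat_lit 8199],[nat_lit 0,nat_lit 8500],[nat_lit 7,nat_lit 8523,nat_lit 8534],[nat_lit 8,nat_lit 8541,nat_lit 8993],[nat_lit 6,nat_lit 8997],[nat_lit 0,nat_lit 9025,nat_lit 9177],[nat_lit 3,nat_lit 9620],[nat_lit 8,nat_lit 9635],[nat_lit 7,nat_lit 10126],[nat_lit 6,nat_lit 10152],[nat_lit 8,nat_lit 11202],[nat_lit 7,nat_lit 11219],[nat_lit 0,nat_lit 15725,nat_lit 15801],[nat_lit 6,nat_lit 15910],[nat_lit 7,nat_lit 16044],[nat_lit 8,nat_lit 16148],[nat_lit 10,nat_lit 16150],[nat_lit 128,nat_lit 18,nat_lit 25,nat_lit 1143,nat_lit 1223,nat_lit 1424,nat_lit 1500,nat_lit 1646,nat_lit 1705,nat_lit 1761],[nat_lit 16,nat_lit 2261,nat_lit 2375],[nat_lit 128,nat_lit 1988],[nat_lit 16,nat_lit 2743],[nat_lit 128,nat_lit 2270,nat_lit 2394,nat_lit 2446,nat_lit 2479,nat_lit 2760,nat_lit 2793],[nat_lit 16,nat_lit 3450],[nat_lit 128,nat_lit 2927,nat_lit 2968],[nat_lit 20,nat_lit 3626],[nat_lit 128,nat_lit 3007],[nat_lit 15,nat_lit 3686],[nat_lit 128,nat_lit 3037],[nat_lit 16,nat_lit 3738],[nat_lit 128,nat_lit 3135,nat_lit 3166,nat_lit 3233,nat_lit 3258,nat_lit 3334,nat_lit 3370],[nat_lit 16,nat_lit 4089],[nat_lit 15,nat_lit 4125],[nat_lit 20,nat_lit 4139],[nat_lit 16,nat_lit 4143],[nat_lit 17,nat_lit 4183],[nat_lit 128,nat_lit 3508],[nat_lit 15,nat_lit 4274],[nat_lit 128,nat_lit 3559],[nat_lit 20,nat_lit 4308],[nat_lit 16,nat_lit 4312],[nat_lit 20,nat_lit 4379],[nat_lit 16,nat_lit 4389],[nat_lit 17,nat_lit 4495],[nat_lit 128,nat_lit 3828,nat_lit 3861,nat_lit 3878],[nat_lit 20,nat_lit 4654],[nat_lit 128,nat_lit 3982],[nat_lit 15,nat_lit 4750],[nat_lit 20,nat_lit 4780],[nat_lit 16,nat_lit 4785,nat_lit 4849],[nat_lit 17,nat_lit 4861],[nat_lit 16,nat_lit 4893],[nat_lit 128,nat_lit 4197,nat_lit 4235],[nat_lit 16,nat_lit 5000],[nat_lit 15,nat_lit 5037],[nat_lit 16,nat_lit 5045],[nat_lit 128,nat_lit 4300],[nat_lit 16,nat_lit 5090],[nat_lit 128,nat_lit 4512,nat_lit 4534,nat_lit 4598],[nat_lit 20,nat_lit 5399],[nat_lit 16,nat_lit 5402],[nat_lit 128,nat_lit 4723,nat_lit 4747],[nat_lit 16,nat_lit 5553],[nat_lit 128,nat_lit 4773],[nat_lit 16,nat_lit 5596],[nat_lit 17,nat_lit 5686],[nat_lit 128,nat_lit 4872],[nat_lit 17,nat_lit 5731],[nat_lit 128,nat_lit 4932],[nat_lit 16,nat_lit 5825],[nat_lit 17,nat_lit 5835],[nat_lit 16,nat_lit 5879],[nat_lit 128,nat_lit 5213,nat_lit 5220],[nat_lit 15,nat_lit 6213],[nat_lit 16,nat_lit 6238,nat_lit 6347,nat_lit 6392],[nat_lit 17,nat_lit 6402],[nat_lit 16,nat_lit 6439],[nat_lit 128,nat_lit 5639,nat_lit 5704,nat_lit 5854,nat_lit 5992,nat_lit 6094,nat_lit 6368],[nat_lit 17,nat_lit 7313],[nat_lit 128,nat_lit 6650],[nat_lit 20,nat_lit 7697],[nat_lit 128,nat_lit 7015],[nat_lit 20,nat_lit 8030],[nat_lit 128,nat_lit 7275,nat_lit 7461,nat_lit 7628,nat_lit 7685,nat_lit 7692,nat_lit 7868],[nat_lit 16,nat_lit 9087,nat_lit 9335],[nat_lit 128,nat_lit 8269,nat_lit 8297],[nat_lit 18,nat_lit 9581],[nat_lit 128,nat_lit 8640],[nat_lit 16,nat_lit 9742],[nat_lit 17,nat_lit 9809],[nat_lit 20,nat_lit 9811],[nat_lit 128,nat_lit 8732],[nat_lit 13,nat_lit 10199,nat_lit 10811],[nat_lit 16,nat_lit 10816],[nat_lit 12,nat_lit 10881],[nat_lit 20,nat_lit 11805,nat_lit 11812],[nat_lit 1,nat_lit 6056,nat_lit 6067,nat_lit 6940,nat_lit 6981],[nat_lit 6,nat_lit 6997],[nat_lit 1,nat_lit 7496,nat_lit 7510],[nat_lit 6,nat_lit 7941],[nat_lit 1,nat_lit 7960,nat_lit 7973],[nat_lit 6,nat_lit 7987],[nat_lit 7,nat_lit 8000],[nat_lit 1,nat_lit 8501],[nat_lit 6,nat_lit 8521],[nat_lit 1,nat_lit 9027],[nat_lit 6,nat_lit 9034],[nat_lit 7,nat_lit 9060],[nat_lit 8,nat_lit 9068],[nat_lit 1,nat_lit 9178,nat_lit 9268],[nat_lit 7,nat_lit 9623,nat_lit 10162],[nat_lit 1,nat_lit 10273],[nat_lit 6,nat_lit 10356],[nat_lit 8,nat_lit 10719],[nat_lit 7,nat_lit 11391],[nat_lit 1,nat_lit 15961],[nat_lit 6,nat_lit 16088],[nat_lit 129,nat_lit 18,nat_lit 25,nat_lit 3419,nat_lit 3580,nat_lit 4333,nat_lit 5073,nat_lit 5081,nat_lit 5093,nat_lit 5342,nat_lit 5589,nat_lit 5911],[nat_lit 25,nat_lit 6810],[nat_lit 129,nat_lit 5932,nat_lit 6181,nat_lit 6419,nat_lit 7090,nat_lit 13821,nat_lit 13880,nat_lit 14324],[nat_lit 25,nat_lit 14901],[nat_lit 24,nat_lit 15217],[nat_lit 26,nat_lit 15283],[nat_lit 27,nat_lit 15580],[nat_lit 2,nat_lit 42],[nat_lit 130,nat_lit 18,nat_lit 25,nat_lit 356,nat_lit 476],[nat_lit 37,nat_lit 643],[nat_lit 130,nat_lit 484,nat_lit 485,nat_lit 629],[nat_lit 33,nat_lit 825],[nat_lit 37,nat_lit 827],[nat_lit 130,nat_lit 644],[nat_lit 33,nat_lit 1049],[nat_lit 130,nat_lit 831,nat_lit 1053,nat_lit 1334,nat_lit 2251,nat_lit 2368,nat_lit 2733],[nat_lit 33,nat_lit 3423],[nat_lit 130,nat_lit 2933,nat_lit 2935],[nat_lit 33,nat_lit 3584,nat_lit 4035],[nat_lit 130,nat_lit 3342],[nat_lit 33,nat_lit 4329],[nat_lit 34,nat_lit 4342],[nat_lit 130,nat_lit 4020],[nat_lit 33,nat_lit 4803],[nat_lit 130,nat_lit 4305],[nat_lit 34,nat_lit 5129],[nat_lit 130,nat_lit 4431],[nat_lit 33,nat_lit 5591,nat_lit 6093],[nat_lit 130,nat_lit 5842,nat_lit 11941,nat_lit 12984,nat_lit 13007,nat_lit 13735,nat_lit 14088,nat_lit 14209,nat_lit 14409,nat_lit 14576],[nat_lit 33,nat_lit 15069,nat_lit 15138,nat_lit 15375],[nat_lit 34,nat_lit 15471],[nat_lit 131,nat_lit 18,nat_lit 66,nat_lit 89],[nat_lit 44,nat_lit 129],[nat_lit 131,nat_lit 125],[nat_lit 44,nat_lit 187],[nat_lit 131,nat_lit 181,nat_lit 3516,nat_lit 4235],[nat_lit 40,nat_lit 5011],[nat_lit 131,nat_lit 4425,nat_lit 4990],[nat_lit 40,nat_lit 5825],[nat_lit 131,nat_lit 5812],[nat_lit 40,nat_lit 6690,nat_lit 7633],[nat_lit 131,nat_lit 14086,nat_lit 14504],[nat_lit 44,nat_lit 15068],[nat_lit 131,nat_lit 15170],[nat_lit 39,nat_lit 15756],[nat_lit 4,nat_lit 36],[nat_lit 132,nat_lit 18],[nat_lit 166,nat_lit 35],[nat_lit 132,nat_lit 46,nat_lit 14956],[nat_lit 5,nat_lit 3462,nat_lit 3592,nat_lit 3638,nat_lit 3717,nat_lit 3754,nat_lit 3944,nat_lit 4053,nat_lit 4156],[nat_lit 7,nat_lit 4195],[nat_lit 5,nat_lit 4321],[nat_lit 1,nat_lit 4345,nat_lit 4402],[nat_lit 10,nat_lit 4473],[nat_lit 7,nat_lit 4511],[nat_lit 5,nat_lit 4669,nat_lit 4799],[nat_lit 1,nat_lit 4818],[nat_lit 6,nat_lit 4897],[nat_lit 5,nat_lit 4924],[nat_lit 8,nat_lit 4959],[nat_lit 5,nat_lit 4965,nat_lit 5006],[nat_lit 6,nat_lit 5051],[nat_lit 1,nat_lit 5108],[nat_lit 7,nat_lit 5115,nat_lit 5144],[nat_lit 5,nat_lit 5236,nat_lit 5269,nat_lit 5282],[nat_lit 7,nat_lit 5283],[nat_lit 1,nat_lit 5479],[nat_lit 6,nat_lit 5558],[nat_lit 10,nat_lit 5612],[nat_lit 1,nat_lit 5620],[nat_lit 7,nat_lit 5625,nat_lit 5647],[nat_lit 5,nat_lit 5713],[nat_lit 7,nat_lit 5738],[nat_lit 10,nat_lit 5753],[nat_lit 7,nat_lit 5840],[nat_lit 10,nat_lit 5959],[nat_lit 5,nat_lit 6081,nat_lit 6115],[nat_lit 8,nat_lit 6139],[nat_lit 10,nat_lit 6318],[nat_lit 2,nat_lit 6320],[nat_lit 5,nat_lit 6329,nat_lit 6358],[nat_lit 1,nat_lit 6405],[nat_lit 7,nat_lit 6408],[nat_lit 10,nat_lit 6471],[nat_lit 7,nat_lit 6474],[nat_lit 5,nat_lit 6531,nat_lit 6588],[nat_lit 7,nat_lit 6628,nat_lit 6865],[nat_lit 5,nat_lit 7138],[nat_lit 2,nat_lit 7415],[nat_lit 7,nat_lit 7416],[nat_lit 5,nat_lit 7423],[nat_lit 7,nat_lit 7490],[nat_lit 10,nat_lit 7547],[nat_lit 8,nat_lit 7586],[nat_lit 5,nat_lit 7677],[nat_lit 7,nat_lit 8139,nat_lit 8432],[nat_lit 8,nat_lit 8434],[nat_lit 7,nat_lit 8440],[nat_lit 8,nat_lit 8514],[nat_lit 5,nat_lit 8658],[nat_lit 7,nat_lit 8698],[nat_lit 5,nat_lit 8864,nat_lit 9299,nat_lit 9342,nat_lit 9412,nat_lit 9915],[nat_lit 10,nat_lit 9992],[nat_lit 5,nat_lit 10239,nat_lit 10283,nat_lit 10317],[nat_lit 7,nat_lit 10507,nat_lit 11352],[nat_lit 5,nat_lit 15794,nat_lit 15881,nat_lit 16009],[nat_lit 133,nat_lit 4168,nat_lit 4351,nat_lit 4823,nat_lit 5142],[nat_lit 152,nat_lit 5153],[nat_lit 55,nat_lit 6007],[nat_lit 133,nat_lit 5643],[nat_lit 152,nat_lit 5654],[nat_lit 52,nat_lit 6516],[nat_lit 133,nat_lit 5779],[nat_lit 152,nat_lit 5996],[nat_lit 133,nat_lit 6059,nat_lit 6065,nat_lit 6071,nat_lit 6146,nat_lit 6495],[nat_lit 55,nat_lit 7467],[nat_lit 52,nat_lit 7594],[nat_lit 133,nat_lit 6725,nat_lit 6892],[nat_lit 52,nat_lit 7908],[nat_lit 55,nat_lit 7911],[nat_lit 133,nat_lit 6973],[nat_lit 52,nat_lit 7998,nat_lit 8064],[nat_lit 133,nat_lit 7175],[nat_lit 152,nat_lit 7450],[nat_lit 133,nat_lit 7624],[nat_lit 152,nat_lit 7688],[nat_lit 52,nat_lit 8947],[nat_lit 133,nat_lit 7942],[nat_lit 52,nat_lit 9053],[nat_lit 53,nat_lit 9067],[nat_lit 133,nat_lit 8301],[nat_lit 52,nat_lit 9565],[nat_lit 133,nat_lit 8506,nat_lit 8578,nat_lit 8741,nat_lit 9011],[nat_lit 52,nat_lit 10142],[nat_lit 133,nat_lit 9175,nat_lit 9356,nat_lit 9432],[nat_lit 52,nat_lit 11212],[nat_lit 53,nat_lit 11214],[nat_lit 133,nat_lit 10161],[nat_lit 52,nat_lit 11316],[nat_lit 55,nat_lit 11481],[nat_lit 133,nat_lit 10466],[nat_lit 53,nat_lit 12206,nat_lit 12277],[nat_lit 152,nat_lit 11500],[nat_lit 6,nat_lit 5794,nat_lit 6120,nat_lit 6486,nat_lit 6509,nat_lit 6589],[nat_lit 10,nat_lit 6654],[nat_lit 6,nat_lit 7331,nat_lit 7419],[nat_lit 10,nat_lit 7549],[nat_lit 6,nat_lit 7850],[nat_lit 8,nat_lit 8330,nat_lit 8437],[nat_lit 6,nat_lit 9207,nat_lit 9615,nat_lit 10994],[nat_lit 10,nat_lit 11983],[nat_lit 6,nat_lit 15955,nat_lit 16019,nat_lit 16126],[nat_lit 134,nat_lit 2032,nat_lit 2306],[nat_lit 153,nat_lit 2527,nat_lit 2869],[nat_lit 59,nat_lit 3766],[nat_lit 134,nat_lit 3585,nat_lit 3632,nat_lit 4047,nat_lit 4091,nat_lit 4104,nat_lit 4212],[nat_lit 161,nat_lit 4342],[nat_lit 134,nat_lit 4313],[nat_lit 153,nat_lit 4342,nat_lit 4397],[nat_lit 134,nat_lit 4787],[nat_lit 153,nat_lit 4814],[nat_lit 57,nat_lit 5644],[nat_lit 144,nat_lit 4861],[nat_lit 57,nat_lit 5701],[nat_lit 153,nat_lit 5021],[nat_lit 134,nat_lit 5116],[nat_lit 161,nat_lit 5204],[nat_lit 134,nat_lit 5403,nat_lit 5443,nat_lit 5482,nat_lit 5529,nat_lit 5554,nat_lit 5626],[nat_lit 153,nat_lit 5677],[nat_lit 134,nat_lit 5963],[nat_lit 59,nat_lit 6970],[nat_lit 134,nat_lit 6271,nat_lit 6352],[nat_lit 144,nat_lit 6402],[nat_lit 134,nat_lit 6460],[nat_lit 161,nat_lit 6543],[nat_lit 134,nat_lit 6676,nat_lit 6849,nat_lit 6871],[nat_lit 168,nat_lit 6970],[nat_lit 134,nat_lit 7134,nat_lit 7288,nat_lit 7352,nat_lit 7368],[nat_lit 168,nat_lit 7402],[nat_lit 134,nat_lit 8155,nat_lit 8172,nat_lit 8387,nat_lit 8391,nat_lit 8860,nat_lit 9360,nat_lit 9910,nat_lit 9978],[nat_lit 59,nat_lit 11077],[nat_lit 134,nat_lit 11604],[nat_lit 7,nat_lit 8566,nat_lit 16082],[nat_lit 135,nat_lit 982,nat_lit 989,nat_lit 1137],[nat_lit 145,nat_lit 1442],[nat_lit 135,nat_lit 1723],[nat_lit 154,nat_lit 1828],[nat_lit 135,nat_lit 1832,nat_lit 2008],[nat_lit 154,nat_lit 2160],[nat_lit 135,nat_lit 2167,nat_lit 2232,nat_lit 2404,nat_lit 2593],[nat_lit 162,nat_lit 2676],[nat_lit 135,nat_lit 2689],[nat_lit 184,nat_lit 4089],[nat_lit 135,nat_lit 2845,nat_lit 3088],[nat_lit 169,nat_lit 3275],[nat_lit 154,nat_lit 3375],[nat_lit 135,nat_lit 3468,nat_lit 3625,nat_lit 3721,nat_lit 3748,nat_lit 3819,nat_lit 4024,nat_lit 4166,nat_lit 4184],[nat_lit 154,nat_lit 4199],[nat_lit 135,nat_lit 4238,nat_lit 4297,nat_lit 4333],[nat_lit 62,nat_lit 5304],[nat_lit 135,nat_lit 4749,nat_lit 4927],[nat_lit 154,nat_lit 4951],[nat_lit 135,nat_lit 4990,nat_lit 5024],[nat_lit 184,nat_lit 6967],[nat_lit 154,nat_lit 5304],[nat_lit 135,nat_lit 5401],[nat_lit 184,nat_lit 7287],[nat_lit 135,nat_lit 5670],[nat_lit 162,nat_lit 5762],[nat_lit 135,nat_lit 5799,nat_lit 5808,nat_lit 6194],[nat_lit 184,nat_lit 8154],[nat_lit 135,nat_lit 6797,nat_lit 6806,nat_lit 7163],[nat_lit 184,nat_lit 9358],[nat_lit 135,nat_lit 7615,nat_lit 9454,nat_lit 10061,nat_lit 10336,nat_lit 11111],[nat_lit 184,nat_lit 12064],[nat_lit 135,nat_lit 12068,nat_lit 12553],[nat_lit 184,nat_lit 13371],[nat_lit 136,nat_lit 959,nat_lit 1123,nat_lit 1210,nat_lit 1212],[nat_lit 64,nat_lit 1566],[nat_lit 136,nat_lit 1229,nat_lit 1411,nat_lit 1413],[nat_lit 64,nat_lit 1809,nat_lit 1948],[nat_lit 146,nat_lit 1546],[nat_lit 136,nat_lit 1550,nat_lit 1561,nat_lit 1568,nat_lit 1659,nat_lit 1695,nat_lit 1709],[nat_lit 64,nat_lit 2239],[nat_lit 136,nat_lit 1790],[nat_lit 146,nat_lit 1791],[nat_lit 136,nat_lit 1793,nat_lit 1826,nat_lit 1938],[nat_lit 155,nat_lit 1951],[nat_lit 136,nat_lit 1964,nat_lit 1969],[nat_lit 185,nat_lit 1971],[nat_lit 136,nat_lit 1988,nat_lit 1997],[nat_lit 64,nat_lit 2580],[nat_lit 136,nat_lit 2129],[nat_lit 146,nat_lit 2130],[nat_lit 136,nat_lit 2152,nat_lit 2240],[nat_lit 146,nat_lit 2241],[nat_lit 155,nat_lit 2242],[nat_lit 136,nat_lit 2244,nat_lit 2251,nat_lit 2258,nat_lit 2277],[nat_lit 185,nat_lit 2434],[nat_lit 163,nat_lit 2434],[nat_lit 136,nat_lit 2479],[nat_lit 155,nat_lit 2482],[nat_lit 185,nat_lit 2482],[nat_lit 136,nat_lit 2486],[nat_lit 146,nat_lit 2635],[nat_lit 155,nat_lit 2636,nat_lit 2783],[nat_lit 185,nat_lit 2798],[nat_lit 188,nat_lit 4183],[nat_lit 136,nat_lit 2829,nat_lit 3008,nat_lit 3012,nat_lit 3014],[nat_lit 170,nat_lit 3022],[nat_lit 136,nat_lit 3039,nat_lit 3063],[nat_lit 185,nat_lit 3064],[nat_lit 136,nat_lit 3074,nat_lit 3172],[nat_lit 155,nat_lit 3224],[nat_lit 163,nat_lit 3225,nat_lit 3400],[nat_lit 136,nat_lit 3419,nat_lit 3444,nat_lit 3668],[nat_lit 176,nat_lit 3690],[nat_lit 185,nat_lit 3708],[nat_lit 163,nat_lit 3892],[nat_lit 170,nat_lit 3893,nat_lit 4122],[nat_lit 136,nat_lit 4160,nat_lit 4424,nat_lit 4431],[nat_lit 170,nat_lit 4641],[nat_lit 136,nat_lit 4653,nat_lit 4663,nat_lit 4672,nat_lit 5224,nat_lit 5464,nat_lit 6310],[nat_lit 9,nat_lit 7075,nat_lit 8459,nat_lit 8911,nat_lit 9046,nat_lit 9066,nat_lit 9538],[nat_lit 1,nat_lit 10046],[nat_lit 9,nat_lit 11085,nat_lit 11127,nat_lit 11375,nat_lit 12485,nat_lit 13870,nat_lit 13876],[nat_lit 137,nat_lit 4197,nat_lit 4351,nat_lit 4823,nat_lit 4872,nat_lit 5145,nat_lit 5220,nat_lit 5626,nat_lit 5777,nat_lit 5966,nat_lit 5973,nat_lit 5998,nat_lit 6028,nat_lit 6038,nat_lit 6047,nat_lit 6121,nat_lit 6409,nat_lit 6484,nat_lit 6488,nat_lit 6541,nat_lit 6556,nat_lit 6998,nat_lit 7206,nat_lit 7233,nat_lit 7417,nat_lit 7469,nat_lit 7596,nat_lit 7961,nat_lit 8542,nat_lit 8564,nat_lit 8567,nat_lit 9016,nat_lit 9049,nat_lit 9406,nat_lit 9539,nat_lit 9544,nat_lit 9643,nat_lit 9666,nat_lit 9754,nat_lit 10154,nat_lit 10163,nat_lit 10189,nat_lit 10274,nat_lit 10430,nat_lit 10718,nat_lit 11286,nat_lit 11542],[nat_lit 10,nat_lit 12114],[nat_lit 138,nat_lit 5210,nat_lit 5779,nat_lit 6059,nat_lit 9978,nat_lit 11056],[nat_lit 190,nat_lit 11061,nat_lit 12059],[nat_lit 187,nat_lit 12064,nat_lit 12951],[nat_lit 192,nat_lit 12958],[nat_lit 11,nat_lit 61,nat_lit 5986,nat_lit 6897],[nat_lit 16,nat_lit 6901],[nat_lit 11,nat_lit 7782,nat_lit 7803,nat_lit 7827],[nat_lit 17,nat_lit 7893],[nat_lit 11,nat_lit 8105,nat_lit 8383,nat_lit 8785,nat_lit 8849],[nat_lit 16,nat_lit 8853,nat_lit 8886],[nat_lit 11,nat_lit 9162,nat_lit 9419],[nat_lit 16,nat_lit 9473,nat_lit 9902,nat_lit 9977],[nat_lit 17,nat_lit 10014],[nat_lit 11,nat_lit 10247],[nat_lit 16,nat_lit 10259,nat_lit 10510],[nat_lit 17,nat_lit 11059],[nat_lit 16,nat_lit 11293],[nat_lit 139,nat_lit 3068,nat_lit 3448,nat_lit 3630],[nat_lit 29,nat_lit 4491],[nat_lit 25,nat_lit 4497],[nat_lit 139,nat_lit 4088],[nat_lit 129,nat_lit 4178],[nat_lit 25,nat_lit 4946],[nat_lit 139,nat_lit 4382],[nat_lit 29,nat_lit 5192],[nat_lit 25,nat_lit 5202],[nat_lit 139,nat_lit 4427,nat_lit 4443],[nat_lit 129,nat_lit 4491],[nat_lit 26,nat_lit 5306],[nat_lit 139,nat_lit 4551,nat_lit 4657],[nat_lit 129,nat_lit 4857],[nat_lit 139,nat_lit 4847],[nat_lit 29,nat_lit 5688],[nat_lit 25,nat_lit 5693],[nat_lit 24,nat_lit 5726],[nat_lit 25,nat_lit 5749],[nat_lit 139,nat_lit 4997,nat_lit 5042],[nat_lit 129,nat_lit 5185,nat_lit 5192,nat_lit 5202],[nat_lit 139,nat_lit 5181],[nat_lit 25,nat_lit 6046,nat_lit 6088,nat_lit 6107,nat_lit 6127],[nat_lit 129,nat_lit 5353],[nat_lit 139,nat_lit 5427],[nat_lit 24,nat_lit 6298],[nat_lit 139,nat_lit 5513],[nat_lit 24,nat_lit 6398],[nat_lit 129,nat_lit 5682],[nat_lit 25,nat_lit 6461,nat_lit 6555,nat_lit 6603],[nat_lit 139,nat_lit 5823],[nat_lit 25,nat_lit 6705],[nat_lit 139,nat_lit 5875],[nat_lit 25,nat_lit 6768,nat_lit 6829,nat_lit 6840],[nat_lit 26,nat_lit 6850,nat_lit 6974,nat_lit 7037],[nat_lit 139,nat_lit 6182],[nat_lit 25,nat_lit 7102],[nat_lit 139,nat_lit 6241],[nat_lit 29,nat_lit 7198],[nat_lit 139,nat_lit 6344],[nat_lit 25,nat_lit 7264,nat_lit 7320],[nat_lit 139,nat_lit 6438],[nat_lit 25,nat_lit 7381],[nat_lit 26,nat_lit 7514],[nat_lit 25,nat_lit 7654,nat_lit 7725],[nat_lit 26,nat_lit 7807],[nat_lit 27,nat_lit 7981],[nat_lit 25,nat_lit 8099],[nat_lit 139,nat_lit 7127],[nat_lit 25,nat_lit 8169,nat_lit 8246],[nat_lit 27,nat_lit 8541],[nat_lit 25,nat_lit 9194],[nat_lit 26,nat_lit 9247],[nat_lit 139,nat_lit 9817,nat_lit 10200,nat_lit 10821],[nat_lit 26,nat_lit 12714],[nat_lit 140,nat_lit 840,nat_lit 1069,nat_lit 1335,nat_lit 1691,nat_lit 6718],[nat_lit 33,nat_lit 8701],[nat_lit 140,nat_lit 12828],[nat_lit 32,nat_lit 14241],[nat_lit 140,nat_lit 13749],[nat_lit 130,nat_lit 14241],[nat_lit 37,nat_lit 15166],[nat_lit 14,nat_lit 31],[nat_lit 141,nat_lit 91,nat_lit 126],[nat_lit 44,nat_lit 189],[nat_lit 141,nat_lit 183],[nat_lit 44,nat_lit 368],[nat_lit 15,nat_lit 37,nat_lit 48],[nat_lit 13,nat_lit 63],[nat_lit 12,nat_lit 85],[nat_lit 15,nat_lit 4182,nat_lit 4468,nat_lit 4494,nat_lit 4688,nat_lit 4860,nat_lit 5100,nat_lit 5195],[nat_lit 17,nat_lit 5280],[nat_lit 15,nat_lit 5604,nat_lit 5685],[nat_lit 17,nat_lit 5699],[nat_lit 15,nat_lit 5730,nat_lit 5791,nat_lit 5886,nat_lit 5944,nat_lit 6163,nat_lit 6244,nat_lit 6401,nat_lit 6454],[nat_lit 17,nat_lit 6465,nat_lit 6559],[nat_lit 15,nat_lit 6587],[nat_lit 17,nat_lit 6606],[nat_lit 15,nat_lit 6639,nat_lit 6700,nat_lit 6762],[nat_lit 17,nat_lit 6843],[nat_lit 15,nat_lit 7001,nat_lit 7004],[nat_lit 20,nat_lit 7080],[nat_lit 15,nat_lit 7160],[nat_lit 17,nat_lit 7170,nat_lit 7324],[nat_lit 15,nat_lit 7374],[nat_lit 17,nat_lit 7393],[nat_lit 15,nat_lit 7462],[nat_lit 18,nat_lit 7520],[nat_lit 15,nat_lit 7540,nat_lit 7696],[nat_lit 18,nat_lit 7824],[nat_lit 15,nat_lit 7906],[nat_lit 20,nat_lit 8010],[nat_lit 15,nat_lit 8270],[nat_lit 18,nat_lit 8322],[nat_lit 20,nat_lit 8481,nat_lit 8558],[nat_lit 15,nat_lit 8617],[nat_lit 20,nat_lit 8976],[nat_lit 15,nat_lit 9088,nat_lit 9336,nat_lit 10421,nat_lit 10424,nat_lit 10459,nat_lit 10566,nat_lit 10680,nat_lit 10882,nat_lit 10906,nat_lit 10972,nat_lit 11058,nat_lit 11101,nat_lit 11545],[nat_lit 20,nat_lit 11891],[nat_lit 17,nat_lit 11965],[nat_lit 15,nat_lit 12257],[nat_lit 17,nat_lit 12490,nat_lit 13109],[nat_lit 143,nat_lit 10,nat_lit 16,nat_lit 4935,nat_lit 5153,nat_lit 5654,nat_lit 5996,nat_lit 6000,nat_lit 6511,nat_lit 6516],[nat_lit 55,nat_lit 7475],[nat_lit 143,nat_lit 6915,nat_lit 7002,nat_lit 7880,nat_lit 7908,nat_lit 8180,nat_lit 8466,nat_lit 8642,nat_lit 8707,nat_lit 9374,nat_lit 9565,nat_lit 9847],[nat_lit 16,nat_lit 51,nat_lit 65,nat_lit 86,nat_lit 119,nat_lit 6134,nat_lit 6577,nat_lit 6652,nat_lit 7079,nat_lit 7411,nat_lit 7519,nat_lit 7544,nat_lit 7590],[nat_lit 20,nat_lit 7603],[nat_lit 16,nat_lit 8006],[nat_lit 20,nat_lit 8079],[nat_lit 16,nat_lit 8321,nat_lit 8404],[nat_lit 18,nat_lit 8427],[nat_lit 16,nat_lit 8480],[nat_lit 20,nat_lit 8561,nat_lit 8609],[nat_lit 16,nat_lit 8718],[nat_lit 20,nat_lit 9072],[nat_lit 16,nat_lit 9339],[nat_lit 18,nat_lit 9399,nat_lit 9499],[nat_lit 20,nat_lit 9582],[nat_lit 16,nat_lit 9708],[nat_lit 20,nat_lit 9821],[nat_lit 16,nat_lit 11457,nat_lit 11460,nat_lit 11708,nat_lit 11871],[nat_lit 20,nat_lit 12406,nat_lit 12759],[nat_lit 144,nat_lit 10,nat_lit 16,nat_lit 24,nat_lit 3107,nat_lit 3488,nat_lit 4873,nat_lit 5139,nat_lit 5204,nat_lit 5855],[nat_lit 134,nat_lit 6060],[nat_lit 161,nat_lit 5991,nat_lit 6060],[nat_lit 144,nat_lit 6290,nat_lit 6323,nat_lit 6369,nat_lit 6489],[nat_lit 161,nat_lit 6732],[nat_lit 153,nat_lit 6850],[nat_lit 144,nat_lit 7268],[nat_lit 59,nat_lit 8458],[nat_lit 144,nat_lit 7500,nat_lit 7629],[nat_lit 161,nat_lit 7787],[nat_lit 144,nat_lit 7860,nat_lit 8371],[nat_lit 168,nat_lit 8523],[nat_lit 59,nat_lit 10064],[nat_lit 144,nat_lit 10987],[nat_lit 17,nat_lit 68,nat_lit 88,nat_lit 121,nat_lit 172,nat_lit 8560],[nat_lit 20,nat_lit 9659],[nat_lit 17,nat_lit 10425,nat_lit 12410,nat_lit 12640,nat_lit 12758],[nat_lit 20,nat_lit 13249,nat_lit 13454,nat_lit 13537],[nat_lit 145,nat_lit 10,nat_lit 24],[nat_lit 184,nat_lit 3105],[nat_lit 145,nat_lit 2772,nat_lit 2987,nat_lit 3475,nat_lit 4088],[nat_lit 184,nat_lit 5853,nat_lit 5987],[nat_lit 145,nat_lit 4388],[nat_lit 184,nat_lit 6367],[nat_lit 145,nat_lit 4783,nat_lit 4963,nat_lit 5074,nat_lit 5131],[nat_lit 184,nat_lit 7264],[nat_lit 145,nat_lit 5762],[nat_lit 135,nat_lit 5789],[nat_lit 145,nat_lit 5784],[nat_lit 184,nat_lit 7627],[nat_lit 145,nat_lit 5818,nat_lit 6042,nat_lit 6154,nat_lit 6243],[nat_lit 135,nat_lit 6645],[nat_lit 145,nat_lit 6672,nat_lit 7113,nat_lit 7149,nat_lit 7764,nat_lit 7776,nat_lit 8168,nat_lit 8290,nat_lit 12109,nat_lit 12962,nat_lit 13382],[nat_lit 18,nat_lit 93,nat_lit 124,nat_lit 11461],[nat_lit 146,nat_lit 10,nat_lit 24,nat_lit 1571,nat_lit 1958,nat_lit 1980,nat_lit 2144,nat_lit 2282,nat_lit 2420],[nat_lit 181,nat_lit 2442],[nat_lit 146,nat_lit 2495,nat_lit 2782,nat_lit 2787,nat_lit 2835],[nat_lit 136,nat_lit 3031],[nat_lit 146,nat_lit 3068,nat_lit 3075],[nat_lit 185,nat_lit 3083],[nat_lit 146,nat_lit 3450,nat_lit 3454],[nat_lit 185,nat_lit 3464],[nat_lit 146,nat_lit 3670,nat_lit 3675],[nat_lit 185,nat_lit 3700],[nat_lit 146,nat_lit 3736],[nat_lit 185,nat_lit 3742],[nat_lit 146,nat_lit 3749],[nat_lit 136,nat_lit 4187],[nat_lit 146,nat_lit 4150,nat_lit 4173,nat_lit 4427],[nat_lit 185,nat_lit 4429,nat_lit 4433],[nat_lit 136,nat_lit 4491],[nat_lit 185,nat_lit 4505],[nat_lit 136,nat_lit 4943],[nat_lit 146,nat_lit 4929,nat_lit 5231],[nat_lit 185,nat_lit 5233],[nat_lit 146,nat_lit 5237],[nat_lit 185,nat_lit 5275],[nat_lit 146,nat_lit 5462,nat_lit 5484],[nat_lit 185,nat_lit 5764],[nat_lit 146,nat_lit 6077],[nat_lit 185,nat_lit 6311],[nat_lit 146,nat_lit 6314],[nat_lit 185,nat_lit 6325,nat_lit 7006],[nat_lit 146,nat_lit 7225],[nat_lit 185,nat_lit 7230],[nat_lit 19,nat_lit 38,nat_lit 49],[nat_lit 15,nat_lit 52,nat_lit 66],[nat_lit 19,nat_lit 69,nat_lit 89,nat_lit 94],[nat_lit 13,nat_lit 122],[nat_lit 19,nat_lit 125,nat_lit 132,nat_lit 173,nat_lit 177,nat_lit 181,nat_lit 248,nat_lit 1975,nat_lit 2813,nat_lit 2949,nat_lit 3355],[nat_lit 15,nat_lit 3437,nat_lit 4059],[nat_lit 19,nat_lit 4144,nat_lit 4384,nat_lit 4576,nat_lit 4862,nat_lit 4950,nat_lit 4952,nat_lit 5091,nat_lit 5516,nat_lit 5956,nat_lit 6393,nat_lit 6466,nat_lit 6607,nat_lit 7263,nat_lit 7325,nat_lit 7521,nat_lit 7663,nat_lit 7728,nat_lit 7887,nat_lit 8080,nat_lit 8167,nat_lit 8177,nat_lit 8379,nat_lit 8720,nat_lit 9076,nat_lit 9098,nat_lit 9139,nat_lit 9532,nat_lit 9583],[nat_lit 15,nat_lit 9822],[nat_lit 19,nat_lit 10110,nat_lit 10192],[nat_lit 15,nat_lit 10209],[nat_lit 19,nat_lit 10495,nat_lit 10598,nat_lit 10749,nat_lit 10885,nat_lit 10895,nat_lit 10974],[nat_lit 15,nat_lit 11253,nat_lit 11874],[nat_lit 17,nat_lit 12231],[nat_lit 19,nat_lit 12710,nat_lit 12857,nat_lit 13246,nat_lit 13321,nat_lit 13538,nat_lit 13840],[nat_lit 147,nat_lit 10,nat_lit 16,nat_lit 23,nat_lit 24,nat_lit 5153,nat_lit 5654],[nat_lit 182,nat_lit 6006],[nat_lit 147,nat_lit 6489,nat_lit 6875,nat_lit 6919,nat_lit 7438,nat_lit 7442,nat_lit 10641,nat_lit 10832,nat_lit 12249],[nat_lit 20,nat_lit 97,nat_lit 127,nat_lit 2469,nat_lit 5702,nat_lit 5946,nat_lit 6355,nat_lit 7567,nat_lit 10634],[nat_lit 148,nat_lit 10],[nat_lit 178,nat_lit 18],[nat_lit 148,nat_lit 24],[nat_lit 21,nat_lit 1732,nat_lit 2157,nat_lit 2631,nat_lit 3217,nat_lit 15253],[nat_lit 29,nat_lit 15560],[nat_lit 149,nat_lit 5200],[nat_lit 130,nat_lit 6056],[nat_lit 149,nat_lit 6197,nat_lit 6458,nat_lit 6552,nat_lit 6826],[nat_lit 33,nat_lit 7829],[nat_lit 149,nat_lit 7218,nat_lit 7317],[nat_lit 130,nat_lit 7510],[nat_lit 33,nat_lit 8413],[nat_lit 140,nat_lit 7803],[nat_lit 37,nat_lit 8843],[nat_lit 149,nat_lit 8098],[nat_lit 140,nat_lit 8383],[nat_lit 34,nat_lit 9508],[nat_lit 33,nat_lit 9765,nat_lit 9965],[nat_lit 140,nat_lit 9162],[nat_lit 33,nat_lit 10388],[nat_lit 35,nat_lit 10610],[nat_lit 34,nat_lit 10841],[nat_lit 33,nat_lit 11287],[nat_lit 139,nat_lit 31],[nat_lit 22,nat_lit 2672,nat_lit 3220,nat_lit 3887],[nat_lit 150,nat_lit 185,nat_lit 262],[nat_lit 44,nat_lit 376],[nat_lit 24,nat_lit 37,nat_lit 48],[nat_lit 22,nat_lit 63],[nat_lit 139,nat_lit 118],[nat_lit 24,nat_lit 4635,nat_lit 5305,nat_lit 5779,nat_lit 6059,nat_lit 6625,nat_lit 6849,nat_lit 7036,nat_lit 7052,nat_lit 7404,nat_lit 7513,nat_lit 7563,nat_lit 7735,nat_lit 7785,nat_lit 7806,nat_lit 7818],[nat_lit 26,nat_lit 8043],[nat_lit 24,nat_lit 8252,nat_lit 8317,nat_lit 8387],[nat_lit 26,nat_lit 8418,nat_lit 8582,nat_lit 8859],[nat_lit 24,nat_lit 9164,nat_lit 9246,nat_lit 9309],[nat_lit 26,nat_lit 9319,nat_lit 9395,nat_lit 10260],[nat_lit 24,nat_lit 10291],[nat_lit 26,nat_lit 10340,nat_lit 10396],[nat_lit 27,nat_lit 10492],[nat_lit 152,nat_lit 6006,nat_lit 6917],[nat_lit 55,nat_lit 7920],[nat_lit 152,nat_lit 7471,nat_lit 7473],[nat_lit 143,nat_lit 7920],[nat_lit 152,nat_lit 8008],[nat_lit 55,nat_lit 9588],[nat_lit 152,nat_lit 8948,nat_lit 9566,nat_lit 9738,nat_lit 9812],[nat_lit 55,nat_lit 11171],[nat_lit 152,nat_lit 10468,nat_lit 10667],[nat_lit 55,nat_lit 11696,nat_lit 11815],[nat_lit 152,nat_lit 10916],[nat_lit 55,nat_lit 12451,nat_lit 12627,nat_lit 12783],[nat_lit 25,nat_lit 51,nat_lit 65,nat_lit 86,nat_lit 242,nat_lit 9109,nat_lit 9516,nat_lit 9986,nat_lit 10406,nat_lit 11430],[nat_lit 153,nat_lit 6905,nat_lit 6985],[nat_lit 57,nat_lit 8959],[nat_lit 168,nat_lit 7989],[nat_lit 153,nat_lit 8645,nat_lit 8825],[nat_lit 134,nat_lit 9060],[nat_lit 153,nat_lit 9456,nat_lit 9620],[nat_lit 144,nat_lit 10014],[nat_lit 168,nat_lit 9944],[nat_lit 144,nat_lit 10548],[nat_lit 26,nat_lit 68,nat_lit 88,nat_lit 121,nat_lit 340],[nat_lit 154,nat_lit 5133,nat_lit 5985,nat_lit 6966,nat_lit 7625],[nat_lit 135,nat_lit 7973],[nat_lit 154,nat_lit 8112,nat_lit 8796,nat_lit 8808],[nat_lit 135,nat_lit 9178],[nat_lit 154,nat_lit 9357,nat_lit 13000,nat_lit 13726,nat_lit 14084],[nat_lit 27,nat_lit 93,nat_lit 124],[nat_lit 155,nat_lit 1983,nat_lit 2473],[nat_lit 181,nat_lit 2476],[nat_lit 155,nat_lit 2654,nat_lit 3004],[nat_lit 181,nat_lit 3059],[nat_lit 136,nat_lit 3061],[nat_lit 181,nat_lit 3250],[nat_lit 155,nat_lit 3399,nat_lit 3405],[nat_lit 181,nat_lit 3666],[nat_lit 136,nat_lit 3730],[nat_lit 146,nat_lit 3733],[nat_lit 136,nat_lit 3925],[nat_lit 181,nat_lit 4132],[nat_lit 136,nat_lit 4425,nat_lit 4902],[nat_lit 155,nat_lit 4920],[nat_lit 185,nat_lit 5741],[nat_lit 155,nat_lit 6083,nat_lit 6088,nat_lit 6092],[nat_lit 185,nat_lit 7013],[nat_lit 28,nat_lit 38,nat_lit 49],[nat_lit 24,nat_lit 52],[nat_lit 28,nat_lit 69,nat_lit 87,nat_lit 89,nat_lit 94,nat_lit 125,nat_lit 132,nat_lit 177,nat_lit 181,nat_lit 243,nat_lit 341,nat_lit 2170],[nat_lit 26,nat_lit 2663],[nat_lit 25,nat_lit 3256],[nat_lit 24,nat_lit 3263],[nat_lit 27,nat_lit 3879],[nat_lit 25,nat_lit 3941],[nat_lit 28,nat_lit 4498],[nat_lit 26,nat_lit 4623],[nat_lit 28,nat_lit 4947,nat_lit 5301,nat_lit 5307],[nat_lit 24,nat_lit 5426],[nat_lit 28,nat_lit 5694,nat_lit 5750,nat_lit 6047,nat_lit 6061],[nat_lit 25,nat_lit 6276],[nat_lit 28,nat_lit 6462,nat_lit 6556,nat_lit 6571,nat_lit 6830,nat_lit 6954,nat_lit 6975,nat_lit 6988,nat_lit 7019,nat_lit 7321,nat_lit 7382,nat_lit 7515,nat_lit 7655,nat_lit 7726,nat_lit 7833,nat_lit 8045,nat_lit 8056,nat_lit 8377,nat_lit 8419,nat_lit 8540,nat_lit 8583,nat_lit 8752,nat_lit 8828,nat_lit 8879,nat_lit 9478],[nat_lit 26,nat_lit 9952],[nat_lit 28,nat_lit 9987,nat_lit 10217,nat_lit 10342,nat_lit 10397,nat_lit 10407],[nat_lit 26,nat_lit 10572],[nat_lit 28,nat_lit 10618,nat_lit 11071,nat_lit 11308,nat_lit 11377,nat_lit 11440,nat_lit 11528,nat_lit 12379,nat_lit 15797],[nat_lit 156,nat_lit 6006,nat_lit 6882],[nat_lit 147,nat_lit 6925],[nat_lit 156,nat_lit 7914,nat_lit 8455,nat_lit 8456,nat_lit 11672,nat_lit 11830],[nat_lit 29,nat_lit 97,nat_lit 127,nat_lit 2688],[nat_lit 26,nat_lit 3259],[nat_lit 158,nat_lit 40,nat_lit 8114,nat_lit 8849,nat_lit 9388,nat_lit 10258],[nat_lit 40,nat_lit 11523],[nat_lit 159,nat_lit 40],[nat_lit 32,nat_lit 37,nat_lit 48],[nat_lit 149,nat_lit 85],[nat_lit 140,nat_lit 118],[nat_lit 32,nat_lit 841,nat_lit 1061,nat_lit 1329],[nat_lit 37,nat_lit 1348],[nat_lit 32,nat_lit 2127,nat_lit 4321],[nat_lit 34,nat_lit 5115],[nat_lit 32,nat_lit 5128,nat_lit 5630,nat_lit 5937],[nat_lit 130,nat_lit 5115],[nat_lit 32,nat_lit 6447],[nat_lit 34,nat_lit 6835,nat_lit 7384],[nat_lit 32,nat_lit 8888,nat_lit 9507,nat_lit 9806],[nat_lit 34,nat_lit 10608],[nat_lit 32,nat_lit 11046,nat_lit 11419,nat_lit 15277],[nat_lit 160,nat_lit 10886],[nat_lit 33,nat_lit 51,nat_lit 65,nat_lit 170,nat_lit 242,nat_lit 6858,nat_lit 7814,nat_lit 8392,nat_lit 11647],[nat_lit 35,nat_lit 12584],[nat_lit 33,nat_lit 15577],[nat_lit 161,nat_lit 11007],[nat_lit 34,nat_lit 68,nat_lit 88,nat_lit 13412],[nat_lit 162,nat_lit 6897],[nat_lit 35,nat_lit 93,nat_lit 124],[nat_lit 163,nat_lit 7021],[nat_lit 36,nat_lit 38],[nat_lit 32,nat_lit 52],[nat_lit 36,nat_lit 69,nat_lit 89,nat_lit 94,nat_lit 125,nat_lit 132,nat_lit 171,nat_lit 181],[nat_lit 140,nat_lit 171],[nat_lit 36,nat_lit 245],[nat_lit 140,nat_lit 245],[nat_lit 36,nat_lit 642,nat_lit 839,nat_lit 1062,nat_lit 1065],[nat_lit 130,nat_lit 839,nat_lit 1065],[nat_lit 140,nat_lit 1078],[nat_lit 36,nat_lit 1684,nat_lit 1709],[nat_lit 140,nat_lit 1352],[nat_lit 32,nat_lit 1730],[nat_lit 33,nat_lit 2173],[nat_lit 36,nat_lit 5983,nat_lit 8535,nat_lit 8872,nat_lit 9281,nat_lit 9485,nat_lit 10879,nat_lit 11839,nat_lit 15496,nat_lit 15731],[nat_lit 164,nat_lit 9558],[nat_lit 37,nat_lit 97],[nat_lit 149,nat_lit 2169],[nat_lit 37,nat_lit 2117],[nat_lit 149,nat_lit 2661],[nat_lit 36,nat_lit 2620],[nat_lit 32,nat_lit 2662],[nat_lit 37,nat_lit 15916],[nat_lit 36,nat_lit 16050],[nat_lit 39,nat_lit 37,nat_lit 186,nat_lit 263],[nat_lit 141,nat_lit 186],[nat_lit 39,nat_lit 363,nat_lit 367],[nat_lit 44,nat_lit 371],[nat_lit 150,nat_lit 268],[nat_lit 141,nat_lit 363],[nat_lit 39,nat_lit 494],[nat_lit 150,nat_lit 489],[nat_lit 39,nat_lit 5846,nat_lit 6700,nat_lit 7647],[nat_lit 41,nat_lit 7662],[nat_lit 39,nat_lit 8651],[nat_lit 41,nat_lit 8666],[nat_lit 39,nat_lit 15332],[nat_lit 167,nat_lit 11875],[nat_lit 40,nat_lit 51,nat_lit 370,nat_lit 491,nat_lit 497],[nat_lit 44,nat_lit 657],[nat_lit 40,nat_lit 661],[nat_lit 44,nat_lit 668],[nat_lit 40,nat_lit 847],[nat_lit 44,nat_lit 866,nat_lit 1090],[nat_lit 40,nat_lit 8681,nat_lit 15616],[nat_lit 41,nat_lit 68],[nat_lit 42,nat_lit 93],[nat_lit 43,nat_lit 38],[nat_lit 39,nat_lit 52],[nat_lit 43,nat_lit 94,nat_lit 132,nat_lit 271,nat_lit 274],[nat_lit 39,nat_lit 382],[nat_lit 150,nat_lit 274],[nat_lit 43,nat_lit 499,nat_lit 503,nat_lit 510],[nat_lit 141,nat_lit 503],[nat_lit 39,nat_lit 681],[nat_lit 43,nat_lit 857],[nat_lit 150,nat_lit 669],[nat_lit 43,nat_lit 875,nat_lit 1117,nat_lit 1385,nat_lit 6725,nat_lit 9746,nat_lit 9763,nat_lit 9785],[nat_lit 150,nat_lit 9746],[nat_lit 43,nat_lit 12472,nat_lit 15416],[nat_lit 131,nat_lit 15416],[nat_lit 39,nat_lit 15881],[nat_lit 40,nat_lit 16019],[nat_lit 131,nat_lit 16019],[nat_lit 45,nat_lit 37,nat_lit 63],[nat_lit 159,nat_lit 63],[nat_lit 151,nat_lit 85],[nat_lit 142,nat_lit 118],[nat_lit 45,nat_lit 15615],[nat_lit 173,nat_lit 12763],[nat_lit 55,nat_lit 14183],[nat_lit 46,nat_lit 51,nat_lit 86,nat_lit 119,nat_lit 242,nat_lit 15829],[nat_lit 47,nat_lit 68,nat_lit 121,nat_lit 172],[nat_lit 151,nat_lit 172],[nat_lit 142,nat_lit 244],[nat_lit 48,nat_lit 93],[nat_lit 49,nat_lit 52,nat_lit 69],[nat_lit 166,nat_lit 66],[nat_lit 49,nat_lit 94],[nat_lit 159,nat_lit 87],[nat_lit 49,nat_lit 132,nat_lit 177,nat_lit 460],[nat_lit 50,nat_lit 194],[nat_lit 51,nat_lit 5320],[nat_lit 53,nat_lit 6165],[nat_lit 51,nat_lit 6577,nat_lit 6858,nat_lit 6913,nat_lit 7411,nat_lit 7463],[nat_lit 143,nat_lit 6577],[nat_lit 160,nat_lit 6858],[nat_lit 55,nat_lit 7823],[nat_lit 51,nat_lit 8176],[nat_lit 152,nat_lit 7411],[nat_lit 143,nat_lit 7463],[nat_lit 53,nat_lit 8533,nat_lit 8884],[nat_lit 51,nat_lit 8894,nat_lit 9371],[nat_lit 55,nat_lit 9495],[nat_lit 143,nat_lit 8423],[nat_lit 53,nat_lit 9525],[nat_lit 55,nat_lit 10005],[nat_lit 160,nat_lit 8894],[nat_lit 51,nat_lit 10302,nat_lit 10406,nat_lit 10433],[nat_lit 152,nat_lit 9371],[nat_lit 52,nat_lit 10491],[nat_lit 51,nat_lit 10519],[nat_lit 160,nat_lit 9495],[nat_lit 143,nat_lit 9495],[nat_lit 53,nat_lit 10593],[nat_lit 51,nat_lit 10605],[nat_lit 160,nat_lit 9516],[nat_lit 167,nat_lit 10020],[nat_lit 51,nat_lit 11356,nat_lit 11381],[nat_lit 152,nat_lit 10433],[nat_lit 53,nat_lit 11471,nat_lit 11493],[nat_lit 52,nat_lit 11525],[nat_lit 143,nat_lit 10605],[nat_lit 152,nat_lit 10612],[nat_lit 143,nat_lit 11381],[nat_lit 53,nat_lit 12418],[nat_lit 51,nat_lit 12436],[nat_lit 173,nat_lit 11525],[nat_lit 53,nat_lit 12473],[nat_lit 173,nat_lit 11642],[nat_lit 53,nat_lit 12584],[nat_lit 51,nat_lit 12748,nat_lit 13652],[nat_lit 179,nat_lit 10081],[nat_lit 144,nat_lit 11166],[nat_lit 179,nat_lit 11561],[nat_lit 153,nat_lit 12164],[nat_lit 144,nat_lit 12506],[nat_lit 161,nat_lit 13054],[nat_lit 153,nat_lit 13338],[nat_lit 161,nat_lit 14041],[nat_lit 52,nat_lit 10626,nat_lit 12420,nat_lit 12442,nat_lit 13412],[nat_lit 180,nat_lit 1251,nat_lit 2283],[nat_lit 135,nat_lit 2841],[nat_lit 180,nat_lit 3954,nat_lit 4482],[nat_lit 135,nat_lit 4700],[nat_lit 180,nat_lit 4951],[nat_lit 154,nat_lit 5289],[nat_lit 180,nat_lit 5762],[nat_lit 62,nat_lit 7060,nat_lit 7586],[nat_lit 145,nat_lit 7060],[nat_lit 135,nat_lit 7586],[nat_lit 145,nat_lit 8598],[nat_lit 180,nat_lit 11372],[nat_lit 62,nat_lit 13167],[nat_lit 180,nat_lit 12958,nat_lit 13000,nat_lit 13760,nat_lit 14348,nat_lit 14634],[nat_lit 181,nat_lit 1951],[nat_lit 136,nat_lit 2435],[nat_lit 181,nat_lit 2463,nat_lit 2784,nat_lit 2808,nat_lit 3018,nat_lit 3070,nat_lit 3400],[nat_lit 136,nat_lit 3402],[nat_lit 181,nat_lit 3423],[nat_lit 188,nat_lit 4949],[nat_lit 136,nat_lit 3684],[nat_lit 181,nat_lit 3738,nat_lit 4120],[nat_lit 136,nat_lit 4123],[nat_lit 146,nat_lit 4126],[nat_lit 181,nat_lit 4171],[nat_lit 146,nat_lit 4443],[nat_lit 181,nat_lit 4449,nat_lit 4462,nat_lit 4471],[nat_lit 146,nat_lit 4494],[nat_lit 181,nat_lit 4643],[nat_lit 136,nat_lit 4887,nat_lit 5258],[nat_lit 155,nat_lit 5293],[nat_lit 136,nat_lit 5451],[nat_lit 181,nat_lit 6127,nat_lit 7016,nat_lit 7226,nat_lit 8013,nat_lit 8225],[nat_lit 54,nat_lit 7539,nat_lit 7907,nat_lit 7992,nat_lit 8428,nat_lit 8485,nat_lit 8493,nat_lit 8612,nat_lit 8697,nat_lit 8982,nat_lit 9127,nat_lit 9255,nat_lit 9580],[nat_lit 143,nat_lit 8485],[nat_lit 54,nat_lit 10027],[nat_lit 143,nat_lit 8982],[nat_lit 54,nat_lit 10119,nat_lit 10618,nat_lit 10704,nat_lit 11095],[nat_lit 160,nat_lit 10027],[nat_lit 152,nat_lit 10116],[nat_lit 54,nat_lit 11339,nat_lit 11440,nat_lit 11558,nat_lit 11629,nat_lit 11632,nat_lit 11643,nat_lit 12099,nat_lit 12170,nat_lit 12207,nat_lit 12215,nat_lit 12309,nat_lit 12332],[nat_lit 152,nat_lit 11440],[nat_lit 54,nat_lit 12430,nat_lit 12628,nat_lit 12713,nat_lit 13127,nat_lit 13257,nat_lit 13259],[nat_lit 143,nat_lit 12430],[nat_lit 54,nat_lit 13276,nat_lit 13283,nat_lit 13308,nat_lit 13440,nat_lit 13555,nat_lit 14283],[nat_lit 182,nat_lit 4962,nat_lit 5710,nat_lit 6073,nat_lit 6947,nat_lit 6962,nat_lit 6976,nat_lit 7516,nat_lit 8614,nat_lit 9644,nat_lit 10147,nat_lit 10735],[nat_lit 171,nat_lit 11218],[nat_lit 55,nat_lit 9062,nat_lit 9803,nat_lit 13978,nat_lit 14016],[nat_lit 56,nat_lit 14873,nat_lit 15265],[nat_lit 57,nat_lit 15571],[nat_lit 185,nat_lit 3024],[nat_lit 181,nat_lit 3694],[nat_lit 185,nat_lit 5252,nat_lit 5721],[nat_lit 181,nat_lit 6107,nat_lit 6596],[nat_lit 58,nat_lit 6548,nat_lit 6580,nat_lit 6989,nat_lit 7695,nat_lit 7857,nat_lit 8198,nat_lit 8269,nat_lit 8893],[nat_lit 134,nat_lit 7857],[nat_lit 58,nat_lit 9051,nat_lit 9559],[nat_lit 134,nat_lit 8893],[nat_lit 144,nat_lit 8924],[nat_lit 58,nat_lit 10569,nat_lit 10820],[nat_lit 144,nat_lit 10025],[nat_lit 58,nat_lit 11149],[nat_lit 134,nat_lit 10569],[nat_lit 58,nat_lit 11734,nat_lit 12082],[nat_lit 144,nat_lit 11613],[nat_lit 153,nat_lit 12556],[nat_lit 161,nat_lit 13386],[nat_lit 58,nat_lit 15261],[nat_lit 186,nat_lit 5791,nat_lit 7984,nat_lit 9707],[nat_lit 59,nat_lit 7508,nat_lit 7994,nat_lit 9272],[nat_lit 61,nat_lit 1606,nat_lit 2852,nat_lit 3289],[nat_lit 135,nat_lit 3289],[nat_lit 61,nat_lit 4090,nat_lit 4109,nat_lit 4203],[nat_lit 162,nat_lit 3968],[nat_lit 61,nat_lit 4859],[nat_lit 145,nat_lit 4203],[nat_lit 61,nat_lit 4968,nat_lit 5694,nat_lit 6047,nat_lit 6368,nat_lit 6462],[nat_lit 154,nat_lit 5694],[nat_lit 61,nat_lit 6813,nat_lit 6899,nat_lit 6902],[nat_lit 154,nat_lit 6047],[nat_lit 61,nat_lit 7265],[nat_lit 154,nat_lit 6462],[nat_lit 61,nat_lit 7628,nat_lit 7645,nat_lit 7887,nat_lit 8174,nat_lit 8604,nat_lit 8798,nat_lit 8810,nat_lit 9226,nat_lit 9359,nat_lit 9739,nat_lit 10001,nat_lit 10339,nat_lit 11310,nat_lit 13888,nat_lit 14343,nat_lit 14621],[nat_lit 135,nat_lit 14621],[nat_lit 145,nat_lit 15052],[nat_lit 180,nat_lit 15397],[nat_lit 189,nat_lit 9057,nat_lit 10784],[nat_lit 62,nat_lit 5698],[nat_lit 63,nat_lit 1978,nat_lit 2263,nat_lit 2430,nat_lit 2464],[nat_lit 136,nat_lit 1978],[nat_lit 63,nat_lit 2781,nat_lit 2786],[nat_lit 136,nat_lit 2263,nat_lit 2430],[nat_lit 146,nat_lit 2471],[nat_lit 181,nat_lit 2471],[nat_lit 63,nat_lit 3159],[nat_lit 136,nat_lit 2781,nat_lit 2786],[nat_lit 146,nat_lit 2814],[nat_lit 63,nat_lit 3469],[nat_lit 146,nat_lit 3015],[nat_lit 63,nat_lit 3726],[nat_lit 155,nat_lit 3057],[nat_lit 136,nat_lit 3159],[nat_lit 146,nat_lit 3398,nat_lit 3404],[nat_lit 181,nat_lit 3678],[nat_lit 63,nat_lit 4503,nat_lit 4512],[nat_lit 181,nat_lit 3822,nat_lit 4118],[nat_lit 63,nat_lit 4896],[nat_lit 181,nat_lit 4130],[nat_lit 63,nat_lit 4928,nat_lit 4942,nat_lit 4944,nat_lit 4950,nat_lit 5292,nat_lit 5297,nat_lit 5301,nat_lit 5307,nat_lit 5492],[nat_lit 185,nat_lit 4900],[nat_lit 63,nat_lit 5752,nat_lit 5773,nat_lit 6137],[nat_lit 155,nat_lit 5301],[nat_lit 63,nat_lit 6319],[nat_lit 163,nat_lit 5492],[nat_lit 63,nat_lit 6619,nat_lit 6630,nat_lit 7015,nat_lit 7019,nat_lit 7570,nat_lit 7589,nat_lit 8044,nat_lit 8056,nat_lit 8229,nat_lit 8576,nat_lit 9086,nat_lit 9089,nat_lit 9095],[nat_lit 155,nat_lit 8056],[nat_lit 63,nat_lit 9284,nat_lit 9285,nat_lit 10196],[nat_lit 185,nat_lit 9095],[nat_lit 191,nat_lit 10181],[nat_lit 64,nat_lit 3054,nat_lit 5736,nat_lit 5775,nat_lit 5778],[nat_lit 65,nat_lit 14827],[nat_lit 193,nat_lit 6922,nat_lit 7475,nat_lit 7545,nat_lit 7603],[nat_lit 148,nat_lit 7918],[nat_lit 193,nat_lit 8010,nat_lit 8529,nat_lit 8986,nat_lit 9045],[nat_lit 187,nat_lit 9633],[nat_lit 193,nat_lit 9648],[nat_lit 183,nat_lit 10119],[nat_lit 72,nat_lit 57],[nat_lit 196,nat_lit 27,nat_lit 71,nat_lit 134,nat_lit 259],[nat_lit 69,nat_lit 46],[nat_lit 13,nat_lit 44],[nat_lit 151,nat_lit 56],[nat_lit 149,nat_lit 56],[nat_lit 200,nat_lit 47],[nat_lit 131,nat_lit 32],[nat_lit 150,nat_lit 56],[nat_lit 73,nat_lit 59,nat_lit 78],[nat_lit 45,nat_lit 55],[nat_lit 329,nat_lit 35],[nat_lit 202,nat_lit 51,nat_lit 65],[nat_lit 174,nat_lit 59],[nat_lit 75,nat_lit 113],[nat_lit 47,nat_lit 100],[nat_lit 331,nat_lit 65],[nat_lit 204,nat_lit 93,nat_lit 124],[nat_lit 176,nat_lit 113],[nat_lit 77,nat_lit 114,nat_lit 235],[nat_lit 205,nat_lit 52,nat_lit 66,nat_lit 94,nat_lit 125,nat_lit 132],[nat_lit 177,nat_lit 59],[nat_lit 333,nat_lit 65],[nat_lit 177,nat_lit 113,nat_lit 182],[nat_lit 206,nat_lit 72],[nat_lit 50,nat_lit 107],[nat_lit 206,nat_lit 97,nat_lit 135],[nat_lit 50,nat_lit 204],[nat_lit 206,nat_lit 194,nat_lit 260],[nat_lit 178,nat_lit 92,nat_lit 184,nat_lit 195],[nat_lit 0,nat_lit 101,nat_lit 117,nat_lit 128,nat_lit 140],[nat_lit 10,nat_lit 151],[nat_lit 3,nat_lit 179],[nat_lit 0,nat_lit 185],[nat_lit 10,nat_lit 189],[nat_lit 0,nat_lit 197,nat_lit 210,nat_lit 254],[nat_lit 10,nat_lit 258],[nat_lit 0,nat_lit 262,nat_lit 276],[nat_lit 10,nat_lit 288],[nat_lit 0,nat_lit 347,nat_lit 353],[nat_lit 6,nat_lit 357],[nat_lit 0,nat_lit 362],[nat_lit 10,nat_lit 391],[nat_lit 0,nat_lit 465],[nat_lit 10,nat_lit 477,nat_lit 490,nat_lit 620],[nat_lit 0,nat_lit 4936,nat_lit 5655],[nat_lit 10,nat_lit 6519],[nat_lit 0,nat_lit 7844,nat_lit 8430,nat_lit 9402,nat_lit 9652,nat_lit 9786,nat_lit 10091],[nat_lit 5,nat_lit 10107],[nat_lit 0,nat_lit 10235,nat_lit 10337,nat_lit 10349,nat_lit 10561],[nat_lit 5,nat_lit 11162,nat_lit 11189],[nat_lit 0,nat_lit 11254],[nat_lit 10,nat_lit 11374],[nat_lit 0,nat_lit 11710,nat_lit 11882],[nat_lit 7,nat_lit 12157],[nat_lit 2,nat_lit 12184],[nat_lit 0,nat_lit 12195,nat_lit 12237,nat_lit 12401,nat_lit 12479,nat_lit 12549],[nat_lit 5,nat_lit 12625],[nat_lit 0,nat_lit 12767,nat_lit 12859,nat_lit 12954],[nat_lit 2,nat_lit 13035],[nat_lit 6,nat_lit 13081],[nat_lit 7,nat_lit 13236],[nat_lit 6,nat_lit 13239],[nat_lit 7,nat_lit 13377],[nat_lit 0,nat_lit 13541],[nat_lit 7,nat_lit 13715],[nat_lit 6,nat_lit 13785],[nat_lit 7,nat_lit 13958],[nat_lit 0,nat_lit 14260],[nat_lit 6,nat_lit 14337],[nat_lit 10,nat_lit 14398,nat_lit 14537],[nat_lit 0,nat_lit 14589,nat_lit 14695,nat_lit 14910],[nat_lit 128,nat_lit 4509,nat_lit 5210],[nat_lit 17,nat_lit 6161],[nat_lit 128,nat_lit 5963],[nat_lit 20,nat_lit 6995],[nat_lit 128,nat_lit 6091],[nat_lit 16,nat_lit 7740],[nat_lit 12,nat_lit 7854],[nat_lit 17,nat_lit 7856,nat_lit 7998],[nat_lit 128,nat_lit 7272,nat_lit 7327],[nat_lit 12,nat_lit 8765],[nat_lit 17,nat_lit 8767],[nat_lit 15,nat_lit 8912],[nat_lit 17,nat_lit 8919,nat_lit 9328],[nat_lit 13,nat_lit 9881],[nat_lit 16,nat_lit 9885],[nat_lit 18,nat_lit 10053],[nat_lit 16,nat_lit 10059,nat_lit 10414],[nat_lit 128,nat_lit 9559],[nat_lit 18,nat_lit 11145],[nat_lit 128,nat_lit 10376,nat_lit 11325],[nat_lit 17,nat_lit 12351],[nat_lit 128,nat_lit 12088],[nat_lit 17,nat_lit 13130],[nat_lit 128,nat_lit 12327],[nat_lit 16,nat_lit 13189],[nat_lit 1,nat_lit 150,nat_lit 257,nat_lit 267,nat_lit 286,nat_lit 300,nat_lit 366,nat_lit 389],[nat_lit 10,nat_lit 405,nat_lit 495],[nat_lit 1,nat_lit 525,nat_lit 8910,nat_lit 10498,nat_lit 10860,nat_lit 11190,nat_lit 11384],[nat_lit 10,nat_lit 11533],[nat_lit 1,nat_lit 11603],[nat_lit 7,nat_lit 12191],[nat_lit 6,nat_lit 12192],[nat_lit 1,nat_lit 12642,nat_lit 13074],[nat_lit 10,nat_lit 13080],[nat_lit 1,nat_lit 13082],[nat_lit 6,nat_lit 13818],[nat_lit 7,nat_lit 14428],[nat_lit 1,nat_lit 14767],[nat_lit 8,nat_lit 14900],[nat_lit 1,nat_lit 15028],[nat_lit 129,nat_lit 52,nat_lit 69,nat_lit 87,nat_lit 89,nat_lit 94,nat_lit 97],[nat_lit 22,nat_lit 178],[nat_lit 129,nat_lit 125,nat_lit 132,nat_lit 177],[nat_lit 29,nat_lit 256],[nat_lit 129,nat_lit 181],[nat_lit 29,nat_lit 278],[nat_lit 129,nat_lit 242],[nat_lit 22,nat_lit 352],[nat_lit 129,nat_lit 340,nat_lit 5301,nat_lit 5305,nat_lit 5307,nat_lit 5694,nat_lit 5750,nat_lit 5779,nat_lit 6059,nat_lit 6061],[nat_lit 29,nat_lit 7069],[nat_lit 26,nat_lit 7070],[nat_lit 129,nat_lit 6462,nat_lit 6571,nat_lit 6625,nat_lit 6849,nat_lit 6954,nat_lit 6975],[nat_lit 29,nat_lit 7996],[nat_lit 129,nat_lit 7321,nat_lit 7404,nat_lit 7515],[nat_lit 26,nat_lit 8602],[nat_lit 129,nat_lit 7655,nat_lit 7726,nat_lit 7735,nat_lit 7806],[nat_lit 26,nat_lit 8892],[nat_lit 129,nat_lit 7833,nat_lit 8045,nat_lit 8056],[nat_lit 26,nat_lit 9513],[nat_lit 129,nat_lit 8419,nat_lit 8540,nat_lit 8583],[nat_lit 25,nat_lit 9697],[nat_lit 129,nat_lit 8752],[nat_lit 26,nat_lit 9875],[nat_lit 129,nat_lit 8879,nat_lit 9309,nat_lit 9478],[nat_lit 29,nat_lit 10769],[nat_lit 25,nat_lit 10943],[nat_lit 129,nat_lit 10217,nat_lit 10291],[nat_lit 26,nat_lit 11428],[nat_lit 129,nat_lit 10397,nat_lit 10407],[nat_lit 29,nat_lit 11618],[nat_lit 129,nat_lit 11071],[nat_lit 26,nat_lit 12287],[nat_lit 129,nat_lit 11377],[nat_lit 25,nat_lit 12376],[nat_lit 129,nat_lit 11440,nat_lit 11528,nat_lit 12379,nat_lit 15797],[nat_lit 2,nat_lit 221],[nat_lit 10,nat_lit 316],[nat_lit 2,nat_lit 403],[nat_lit 6,nat_lit 419],[nat_lit 2,nat_lit 493,nat_lit 523],[nat_lit 10,nat_lit 544,nat_lit 699],[nat_lit 2,nat_lit 11854,nat_lit 13079],[nat_lit 6,nat_lit 13822],[nat_lit 7,nat_lit 14432],[nat_lit 130,nat_lit 52,nat_lit 89,nat_lit 94,nat_lit 97,nat_lit 125,nat_lit 132,nat_lit 181,nat_lit 242,nat_lit 245,nat_lit 1709,nat_lit 2127,nat_lit 2620,nat_lit 2662],[nat_lit 33,nat_lit 3936],[nat_lit 130,nat_lit 5983,nat_lit 8888,nat_lit 9485],[nat_lit 34,nat_lit 11105],[nat_lit 130,nat_lit 10879,nat_lit 11046],[nat_lit 33,nat_lit 12101],[nat_lit 130,nat_lit 11419,nat_lit 11839],[nat_lit 34,nat_lit 12934],[nat_lit 35,nat_lit 12991],[nat_lit 34,nat_lit 13202],[nat_lit 33,nat_lit 13693,nat_lit 13920],[nat_lit 130,nat_lit 15496],[nat_lit 3,nat_lit 315],[nat_lit 6,nat_lit 417],[nat_lit 3,nat_lit 12744],[nat_lit 131,nat_lit 52],[nat_lit 40,nat_lit 96],[nat_lit 131,nat_lit 94],[nat_lit 44,nat_lit 142],[nat_lit 131,nat_lit 132,nat_lit 268,nat_lit 274,nat_lit 367,nat_lit 375],[nat_lit 44,nat_lit 514],[nat_lit 131,nat_lit 382,nat_lit 386,nat_lit 489,nat_lit 494],[nat_lit 44,nat_lit 667],[nat_lit 131,nat_lit 499,nat_lit 503,nat_lit 510,nat_lit 650],[nat_lit 40,nat_lit 850,nat_lit 863],[nat_lit 44,nat_lit 865],[nat_lit 131,nat_lit 669,nat_lit 681],[nat_lit 40,nat_lit 1086],[nat_lit 41,nat_lit 1094],[nat_lit 44,nat_lit 1096],[nat_lit 131,nat_lit 857,nat_lit 867,nat_lit 875],[nat_lit 150,nat_lit 1094],[nat_lit 44,nat_lit 1393],[nat_lit 131,nat_lit 1117],[nat_lit 44,nat_lit 1752],[nat_lit 131,nat_lit 1385,nat_lit 6725],[nat_lit 4,nat_lit 76,nat_lit 139,nat_lit 261,nat_lit 13525],[nat_lit 132,nat_lit 52,nat_lit 69],[nat_lit 50,nat_lit 102],[nat_lit 132,nat_lit 73,nat_lit 87,nat_lit 94],[nat_lit 50,nat_lit 142],[nat_lit 132,nat_lit 120],[nat_lit 166,nat_lit 126],[nat_lit 50,nat_lit 180],[nat_lit 132,nat_lit 132],[nat_lit 50,nat_lit 199],[nat_lit 132,nat_lit 136,nat_lit 177,nat_lit 242],[nat_lit 166,nat_lit 259],[nat_lit 5,nat_lit 37],[nat_lit 4,nat_lit 48],[nat_lit 324,nat_lit 48],[nat_lit 3,nat_lit 63],[nat_lit 2,nat_lit 85],[nat_lit 1,nat_lit 118],[nat_lit 5,nat_lit 10112,nat_lit 10635,nat_lit 10688,nat_lit 11383,nat_lit 11711,nat_lit 12091,nat_lit 12116,nat_lit 12199,nat_lit 12200],[nat_lit 10,nat_lit 12334],[nat_lit 5,nat_lit 12386,nat_lit 12475,nat_lit 12650],[nat_lit 8,nat_lit 12983],[nat_lit 5,nat_lit 12987,nat_lit 13001,nat_lit 13141,nat_lit 13227],[nat_lit 8,nat_lit 13310],[nat_lit 5,nat_lit 13336,nat_lit 13404,nat_lit 13408,nat_lit 13806,nat_lit 13826],[nat_lit 10,nat_lit 13866],[nat_lit 5,nat_lit 13873,nat_lit 13893,nat_lit 13914],[nat_lit 10,nat_lit 14108],[nat_lit 5,nat_lit 14130],[nat_lit 10,nat_lit 14467],[nat_lit 5,nat_lit 14555,nat_lit 14668,nat_lit 15191],[nat_lit 133,nat_lit 169,nat_lit 209,nat_lit 268],[nat_lit 52,nat_lit 406],[nat_lit 55,nat_lit 427],[nat_lit 133,nat_lit 356],[nat_lit 52,nat_lit 496],[nat_lit 133,nat_lit 375],[nat_lit 55,nat_lit 514],[nat_lit 152,nat_lit 406],[nat_lit 133,nat_lit 408,nat_lit 421,nat_lit 468],[nat_lit 152,nat_lit 482],[nat_lit 133,nat_lit 483,nat_lit 489,nat_lit 494],[nat_lit 55,nat_lit 667,nat_lit 680],[nat_lit 133,nat_lit 524,nat_lit 529,nat_lit 543,nat_lit 564,nat_lit 567,nat_lit 619],[nat_lit 167,nat_lit 660],[nat_lit 133,nat_lit 658,nat_lit 723],[nat_lit 55,nat_lit 1036,nat_lit 1105],[nat_lit 133,nat_lit 8076,nat_lit 10172,nat_lit 10188,nat_lit 14427,nat_lit 14469],[nat_lit 52,nat_lit 15282],[nat_lit 133,nat_lit 15180],[nat_lit 53,nat_lit 15579],[nat_lit 133,nat_lit 15384],[nat_lit 6,nat_lit 51,nat_lit 70,nat_lit 86,nat_lit 119,nat_lit 170,nat_lit 13458,nat_lit 13751,nat_lit 13763,nat_lit 13946,nat_lit 14105,nat_lit 14500],[nat_lit 10,nat_lit 14653],[nat_lit 6,nat_lit 15089,nat_lit 15513],[nat_lit 134,nat_lit 18,nat_lit 25],[nat_lit 330,nat_lit 27],[nat_lit 134,nat_lit 34],[nat_lit 161,nat_lit 47],[nat_lit 153,nat_lit 62],[nat_lit 134,nat_lit 7695,nat_lit 8269,nat_lit 9559,nat_lit 10820,nat_lit 11149,nat_lit 13800,nat_lit 15261],[nat_lit 153,nat_lit 15567],[nat_lit 134,nat_lit 15571],[nat_lit 7,nat_lit 68,nat_lit 95,nat_lit 121,nat_lit 172],[nat_lit 1,nat_lit 244],[nat_lit 7,nat_lit 14142,nat_lit 14370,nat_lit 14382,nat_lit 14527],[nat_lit 6,nat_lit 14675],[nat_lit 7,nat_lit 14954],[nat_lit 135,nat_lit 18],[nat_lit 175,nat_lit 27],[nat_lit 331,nat_lit 35],[nat_lit 175,nat_lit 39],[nat_lit 135,nat_lit 34,nat_lit 4109,nat_lit 5694,nat_lit 6047,nat_lit 6368,nat_lit 6462,nat_lit 6541,nat_lit 6813,nat_lit 6899,nat_lit 6902,nat_lit 6933,nat_lit 7363],[nat_lit 62,nat_lit 8529],[nat_lit 135,nat_lit 7628,nat_lit 7645,nat_lit 7887],[nat_lit 62,nat_lit 8996],[nat_lit 135,nat_lit 8062,nat_lit 8604,nat_lit 9739,nat_lit 10001,nat_lit 11310,nat_lit 14343,nat_lit 14377],[nat_lit 62,nat_lit 15232],[nat_lit 135,nat_lit 14841,nat_lit 15669],[nat_lit 62,nat_lit 16006],[nat_lit 8,nat_lit 93],[nat_lit 324,nat_lit 93],[nat_lit 8,nat_lit 176],[nat_lit 136,nat_lit 18],[nat_lit 176,nat_lit 27],[nat_lit 332,nat_lit 35],[nat_lit 176,nat_lit 39],[nat_lit 136,nat_lit 34,nat_lit 3469,nat_lit 3726,nat_lit 4436,nat_lit 4512,nat_lit 4886,nat_lit 5297,nat_lit 5301,nat_lit 5307],[nat_lit 185,nat_lit 5719],[nat_lit 136,nat_lit 6142],[nat_lit 63,nat_lit 7555],[nat_lit 136,nat_lit 6619,nat_lit 7015,nat_lit 7019],[nat_lit 64,nat_lit 8063],[nat_lit 136,nat_lit 8044,nat_lit 8576,nat_lit 9086,nat_lit 9089,nat_lit 9095,nat_lit 9115,nat_lit 9285,nat_lit 10196],[nat_lit 9,nat_lit 38,nat_lit 49,nat_lit 60,nat_lit 64,nat_lit 10063,nat_lit 10657],[nat_lit 6,nat_lit 10957],[nat_lit 2,nat_lit 11684],[nat_lit 7,nat_lit 11945],[nat_lit 1,nat_lit 12617],[nat_lit 6,nat_lit 12831],[nat_lit 8,nat_lit 13602],[nat_lit 137,nat_lit 52,nat_lit 69,nat_lit 76,nat_lit 87,nat_lit 94,nat_lit 122,nat_lit 132,nat_lit 139],[nat_lit 177,nat_lit 203],[nat_lit 137,nat_lit 177,nat_lit 235,nat_lit 245,nat_lit 248,nat_lit 252,nat_lit 274,nat_lit 305,nat_lit 484,nat_lit 550,nat_lit 636,nat_lit 655,nat_lit 663],[nat_lit 156,nat_lit 830],[nat_lit 137,nat_lit 905,nat_lit 7477,nat_lit 13311,nat_lit 14017,nat_lit 14079,nat_lit 14833,nat_lit 14882],[nat_lit 10,nat_lit 104,nat_lit 365],[nat_lit 138,nat_lit 18,nat_lit 25],[nat_lit 334,nat_lit 35],[nat_lit 178,nat_lit 39],[nat_lit 138,nat_lit 34,nat_lit 8493,nat_lit 8562,nat_lit 8619,nat_lit 8987,nat_lit 9076],[nat_lit 157,nat_lit 10120],[nat_lit 138,nat_lit 10172,nat_lit 10741],[nat_lit 11,nat_lit 150],[nat_lit 20,nat_lit 222],[nat_lit 11,nat_lit 257,nat_lit 267,nat_lit 286,nat_lit 300],[nat_lit 16,nat_lit 355],[nat_lit 20,nat_lit 360],[nat_lit 11,nat_lit 366],[nat_lit 20,nat_lit 376],[nat_lit 11,nat_lit 389],[nat_lit 20,nat_lit 405],[nat_lit 11,nat_lit 475,nat_lit 488],[nat_lit 20,nat_lit 495],[nat_lit 11,nat_lit 525,nat_lit 628],[nat_lit 20,nat_lit 632,nat_lit 651],[nat_lit 11,nat_lit 11122,nat_lit 11660,nat_lit 11745,nat_lit 12561,nat_lit 13222,nat_lit 13734,nat_lit 13891,nat_lit 14020,nat_lit 14521],[nat_lit 20,nat_lit 14587],[nat_lit 139,nat_lit 13747],[nat_lit 12,nat_lit 221],[nat_lit 20,nat_lit 316],[nat_lit 12,nat_lit 403,nat_lit 523],[nat_lit 20,nat_lit 544],[nat_lit 140,nat_lit 71,nat_lit 134,nat_lit 183,nat_lit 193,nat_lit 259,nat_lit 2144],[nat_lit 32,nat_lit 3251],[nat_lit 140,nat_lit 3206],[nat_lit 130,nat_lit 3251],[nat_lit 140,nat_lit 6895],[nat_lit 13,nat_lit 315],[nat_lit 16,nat_lit 417],[nat_lit 13,nat_lit 542,nat_lit 697],[nat_lit 141,nat_lit 71,nat_lit 96,nat_lit 134,nat_lit 193,nat_lit 508,nat_lit 518,nat_lit 660],[nat_lit 44,nat_lit 882],[nat_lit 141,nat_lit 683,nat_lit 846,nat_lit 863],[nat_lit 44,nat_lit 1111],[nat_lit 141,nat_lit 876,nat_lit 885],[nat_lit 44,nat_lit 1377],[nat_lit 141,nat_lit 1103,nat_lit 1118,nat_lit 1131,nat_lit 1420,nat_lit 1758,nat_lit 7688],[nat_lit 142,nat_lit 71,nat_lit 96,nat_lit 123,nat_lit 134,nat_lit 174,nat_lit 178],[nat_lit 50,nat_lit 258],[nat_lit 142,nat_lit 193],[nat_lit 50,nat_lit 288],[nat_lit 142,nat_lit 253,nat_lit 352],[nat_lit 15,nat_lit 375,nat_lit 404,nat_lit 421,nat_lit 480,nat_lit 494,nat_lit 524,nat_lit 564,nat_lit 631],[nat_lit 20,nat_lit 640],[nat_lit 15,nat_lit 650],[nat_lit 12,nat_lit 698],[nat_lit 20,nat_lit 702],[nat_lit 15,nat_lit 719,nat_lit 723],[nat_lit 20,nat_lit 748],[nat_lit 15,nat_lit 816,nat_lit 900],[nat_lit 20,nat_lit 903,nat_lit 1160],[nat_lit 15,nat_lit 10953,nat_lit 11449,nat_lit 11689],[nat_lit 18,nat_lit 11940],[nat_lit 15,nat_lit 12122,nat_lit 13908,nat_lit 14357,nat_lit 14979],[nat_lit 143,nat_lit 546,nat_lit 572,nat_lit 680,nat_lit 700],[nat_lit 16,nat_lit 547,nat_lit 661,nat_lit 701,nat_lit 822,nat_lit 847],[nat_lit 20,nat_lit 866,nat_lit 911],[nat_lit 16,nat_lit 931,nat_lit 1047],[nat_lit 20,nat_lit 1058,nat_lit 1090],[nat_lit 16,nat_lit 1159],[nat_lit 20,nat_lit 1197],[nat_lit 16,nat_lit 13013],[nat_lit 20,nat_lit 13773],[nat_lit 144,nat_lit 84,nat_lit 14412],[nat_lit 17,nat_lit 910,nat_lit 1089],[nat_lit 12,nat_lit 1163],[nat_lit 20,nat_lit 1175],[nat_lit 17,nat_lit 1326],[nat_lit 12,nat_lit 1374],[nat_lit 20,nat_lit 1384],[nat_lit 17,nat_lit 1464],[nat_lit 20,nat_lit 1472,nat_lit 1680,nat_lit 1740,nat_lit 1856],[nat_lit 145,nat_lit 14869,nat_lit 15236],[nat_lit 146,nat_lit 9676,nat_lit 10200,nat_lit 10202,nat_lit 10364],[nat_lit 325,nat_lit 94],[nat_lit 19,nat_lit 423,nat_lit 486,nat_lit 510,nat_lit 550,nat_lit 663],[nat_lit 15,nat_lit 681,nat_lit 731],[nat_lit 19,nat_lit 824,nat_lit 836,nat_lit 849],[nat_lit 15,nat_lit 867],[nat_lit 19,nat_lit 975],[nat_lit 15,nat_lit 1059],[nat_lit 19,nat_lit 1117,nat_lit 1165,nat_lit 1176,nat_lit 1343,nat_lit 1385,nat_lit 1466,nat_lit 1494,nat_lit 1528,nat_lit 1757,nat_lit 2110,nat_lit 2184,nat_lit 2312,nat_lit 7077,nat_lit 11941,nat_lit 12142,nat_lit 12662,nat_lit 12827,nat_lit 13386],[nat_lit 17,nat_lit 13599],[nat_lit 19,nat_lit 13937,nat_lit 14494],[nat_lit 17,nat_lit 14519],[nat_lit 15,nat_lit 14974],[nat_lit 16,nat_lit 15348],[nat_lit 147,nat_lit 71,nat_lit 96,nat_lit 123,nat_lit 134],[nat_lit 164,nat_lit 179],[nat_lit 147,nat_lit 178],[nat_lit 177,nat_lit 197],[nat_lit 147,nat_lit 193,nat_lit 253,nat_lit 732,nat_lit 868,nat_lit 1060,nat_lit 14018,nat_lit 14584],[nat_lit 182,nat_lit 14585,nat_lit 15023],[nat_lit 148,nat_lit 9661,nat_lit 10193,nat_lit 11753],[nat_lit 21,nat_lit 221],[nat_lit 25,nat_lit 298],[nat_lit 29,nat_lit 316],[nat_lit 21,nat_lit 403],[nat_lit 25,nat_lit 419],[nat_lit 21,nat_lit 493,nat_lit 523],[nat_lit 29,nat_lit 544],[nat_lit 21,nat_lit 649],[nat_lit 29,nat_lit 699],[nat_lit 21,nat_lit 10088],[nat_lit 29,nat_lit 11172],[nat_lit 22,nat_lit 315,nat_lit 417,nat_lit 542,nat_lit 697],[nat_lit 150,nat_lit 101,nat_lit 140],[nat_lit 44,nat_lit 222],[nat_lit 150,nat_lit 197,nat_lit 276],[nat_lit 44,nat_lit 405],[nat_lit 150,nat_lit 690],[nat_lit 131,nat_lit 895],[nat_lit 150,nat_lit 1132,nat_lit 1140,nat_lit 1402,nat_lit 1421,nat_lit 1800,nat_lit 2207,nat_lit 8708],[nat_lit 44,nat_lit 10888],[nat_lit 151,nat_lit 101,nat_lit 140],[nat_lit 50,nat_lit 222],[nat_lit 151,nat_lit 197,nat_lit 254,nat_lit 276],[nat_lit 50,nat_lit 405],[nat_lit 151,nat_lit 353],[nat_lit 50,nat_lit 481,nat_lit 525],[nat_lit 151,nat_lit 473],[nat_lit 139,nat_lit 268],[nat_lit 24,nat_lit 263],[nat_lit 139,nat_lit 390],[nat_lit 24,nat_lit 363,nat_lit 418,nat_lit 474,nat_lit 564,nat_lit 567,nat_lit 614,nat_lit 658,nat_lit 698,nat_lit 719,nat_lit 723],[nat_lit 29,nat_lit 748],[nat_lit 24,nat_lit 845],[nat_lit 29,nat_lit 860],[nat_lit 24,nat_lit 900],[nat_lit 29,nat_lit 903,nat_lit 932,nat_lit 1160],[nat_lit 24,nat_lit 7072,nat_lit 7535,nat_lit 7585,nat_lit 8422,nat_lit 9055,nat_lit 9396,nat_lit 9646,nat_lit 9779,nat_lit 9866,nat_lit 10219,nat_lit 10226],[nat_lit 29,nat_lit 10855],[nat_lit 24,nat_lit 10935],[nat_lit 29,nat_lit 10936],[nat_lit 24,nat_lit 11097],[nat_lit 129,nat_lit 10219],[nat_lit 24,nat_lit 12243,nat_lit 13215,nat_lit 13227,nat_lit 16084],[nat_lit 25,nat_lit 370,nat_lit 392,nat_lit 491],[nat_lit 29,nat_lit 502,nat_lit 533],[nat_lit 25,nat_lit 630],[nat_lit 29,nat_lit 657],[nat_lit 25,nat_lit 801],[nat_lit 29,nat_lit 820],[nat_lit 25,nat_lit 859,nat_lit 902,nat_lit 931,nat_lit 1084],[nat_lit 29,nat_lit 1164,nat_lit 1197],[nat_lit 25,nat_lit 8073,nat_lit 8557,nat_lit 8605],[nat_lit 29,nat_lit 9133],[nat_lit 25,nat_lit 9523],[nat_lit 29,nat_lit 9657,nat_lit 9701,nat_lit 10624],[nat_lit 25,nat_lit 10738],[nat_lit 129,nat_lit 10738],[nat_lit 29,nat_lit 11750],[nat_lit 25,nat_lit 11922,nat_lit 12096],[nat_lit 29,nat_lit 12808],[nat_lit 25,nat_lit 13946],[nat_lit 26,nat_lit 819],[nat_lit 29,nat_lit 1052],[nat_lit 26,nat_lit 1163,nat_lit 1374],[nat_lit 29,nat_lit 1472,nat_lit 1740],[nat_lit 26,nat_lit 9656],[nat_lit 29,nat_lit 10747],[nat_lit 26,nat_lit 14527],[nat_lit 155,nat_lit 10764],[nat_lit 64,nat_lit 12674],[nat_lit 326,nat_lit 94],[nat_lit 139,nat_lit 305],[nat_lit 26,nat_lit 292],[nat_lit 28,nat_lit 359,nat_lit 394],[nat_lit 24,nat_lit 485,nat_lit 534],[nat_lit 28,nat_lit 568,nat_lit 673,nat_lit 751,nat_lit 857,nat_lit 905,nat_lit 1053,nat_lit 1107,nat_lit 1198,nat_lit 1334,nat_lit 1466,nat_lit 1474,nat_lit 1528,nat_lit 2184,nat_lit 7992,nat_lit 8070,nat_lit 8072,nat_lit 9066,nat_lit 9985,nat_lit 10778],[nat_lit 129,nat_lit 9985],[nat_lit 28,nat_lit 11755,nat_lit 11932],[nat_lit 24,nat_lit 12073],[nat_lit 28,nat_lit 12171,nat_lit 12664],[nat_lit 129,nat_lit 11932],[nat_lit 25,nat_lit 12968],[nat_lit 24,nat_lit 13592],[nat_lit 26,nat_lit 13733],[nat_lit 28,nat_lit 13934],[nat_lit 156,nat_lit 101,nat_lit 179,nat_lit 197,nat_lit 254,nat_lit 276],[nat_lit 29,nat_lit 237,nat_lit 9062,nat_lit 14234],[nat_lit 28,nat_lit 14748],[nat_lit 30,nat_lit 315,nat_lit 417,nat_lit 542],[nat_lit 37,nat_lit 565],[nat_lit 30,nat_lit 697,nat_lit 1849,nat_lit 2280,nat_lit 2805,nat_lit 3426],[nat_lit 159,nat_lit 54,nat_lit 150,nat_lit 208],[nat_lit 50,nat_lit 316],[nat_lit 159,nat_lit 286],[nat_lit 50,nat_lit 419,nat_lit 544],[nat_lit 32,nat_lit 186],[nat_lit 140,nat_lit 186],[nat_lit 32,nat_lit 363,nat_lit 463,nat_lit 564,nat_lit 719],[nat_lit 37,nat_lit 748],[nat_lit 32,nat_lit 900],[nat_lit 37,nat_lit 1160],[nat_lit 32,nat_lit 4160,nat_lit 12756,nat_lit 14321,nat_lit 15929],[nat_lit 33,nat_lit 491],[nat_lit 37,nat_lit 657],[nat_lit 33,nat_lit 931,nat_lit 1159],[nat_lit 37,nat_lit 1197,nat_lit 1465],[nat_lit 33,nat_lit 16059],[nat_lit 34,nat_lit 1464],[nat_lit 37,nat_lit 1856],[nat_lit 36,nat_lit 214],[nat_lit 34,nat_lit 292],[nat_lit 32,nat_lit 308,nat_lit 411],[nat_lit 36,nat_lit 749,nat_lit 857,nat_lit 975,nat_lit 1466,nat_lit 1528,nat_lit 1857,nat_lit 2301,nat_lit 2312],[nat_lit 34,nat_lit 2830],[nat_lit 140,nat_lit 2301],[nat_lit 36,nat_lit 3222,nat_lit 3418],[nat_lit 33,nat_lit 3447],[nat_lit 32,nat_lit 3457],[nat_lit 31,nat_lit 3478],[nat_lit 35,nat_lit 4086],[nat_lit 140,nat_lit 3447],[nat_lit 33,nat_lit 4190],[nat_lit 36,nat_lit 4683],[nat_lit 140,nat_lit 4086],[nat_lit 32,nat_lit 4855],[nat_lit 34,nat_lit 5588],[nat_lit 32,nat_lit 5598],[nat_lit 31,nat_lit 6441],[nat_lit 32,nat_lit 6442],[nat_lit 33,nat_lit 6457],[nat_lit 32,nat_lit 7376],[nat_lit 34,nat_lit 7399],[nat_lit 36,nat_lit 13754,nat_lit 14505,nat_lit 14815],[nat_lit 130,nat_lit 14505],[nat_lit 32,nat_lit 15333],[nat_lit 33,nat_lit 15617],[nat_lit 34,nat_lit 15830],[nat_lit 164,nat_lit 150],[nat_lit 186,nat_lit 221],[nat_lit 164,nat_lit 389],[nat_lit 37,nat_lit 2859,nat_lit 5593],[nat_lit 34,nat_lit 6436],[nat_lit 32,nat_lit 7370],[nat_lit 39,nat_lit 141],[nat_lit 141,nat_lit 141],[nat_lit 39,nat_lit 277,nat_lit 287],[nat_lit 141,nat_lit 277],[nat_lit 39,nat_lit 522],[nat_lit 150,nat_lit 390],[nat_lit 39,nat_lit 1093,nat_lit 1112,nat_lit 1143,nat_lit 1378,nat_lit 1411],[nat_lit 41,nat_lit 1748],[nat_lit 44,nat_lit 1789],[nat_lit 39,nat_lit 1821,nat_lit 1823,nat_lit 1836,nat_lit 2232,nat_lit 3344],[nat_lit 40,nat_lit 392,nat_lit 407],[nat_lit 44,nat_lit 533],[nat_lit 40,nat_lit 696],[nat_lit 141,nat_lit 533],[nat_lit 150,nat_lit 696],[nat_lit 40,nat_lit 2194,nat_lit 2295],[nat_lit 44,nat_lit 2717],[nat_lit 168,nat_lit 55],[nat_lit 41,nat_lit 532],[nat_lit 141,nat_lit 532],[nat_lit 169,nat_lit 75],[nat_lit 170,nat_lit 100],[nat_lit 43,nat_lit 60],[nat_lit 328,nat_lit 52,nat_lit 94],[nat_lit 43,nat_lit 214],[nat_lit 41,nat_lit 292],[nat_lit 43,nat_lit 318],[nat_lit 39,nat_lit 411],[nat_lit 43,nat_lit 513,nat_lit 666],[nat_lit 150,nat_lit 513],[nat_lit 43,nat_lit 687,nat_lit 711],[nat_lit 150,nat_lit 666],[nat_lit 40,nat_lit 871],[nat_lit 43,nat_lit 874],[nat_lit 150,nat_lit 687],[nat_lit 131,nat_lit 687],[nat_lit 43,nat_lit 923],[nat_lit 42,nat_lit 1087],[nat_lit 43,nat_lit 1116],[nat_lit 39,nat_lit 1123],[nat_lit 40,nat_lit 1128],[nat_lit 131,nat_lit 874],[nat_lit 43,nat_lit 1137],[nat_lit 131,nat_lit 884],[nat_lit 141,nat_lit 891],[nat_lit 150,nat_lit 923],[nat_lit 43,nat_lit 1380,nat_lit 1390,nat_lit 1395,nat_lit 1413,nat_lit 1414],[nat_lit 131,nat_lit 1116,nat_lit 1128],[nat_lit 141,nat_lit 1130,nat_lit 1139],[nat_lit 39,nat_lit 1455],[nat_lit 43,nat_lit 1747],[nat_lit 150,nat_lit 1395],[nat_lit 39,nat_lit 1767],[nat_lit 43,nat_lit 1769],[nat_lit 131,nat_lit 1395],[nat_lit 141,nat_lit 1419,nat_lit 1431],[nat_lit 39,nat_lit 1818],[nat_lit 150,nat_lit 1444],[nat_lit 39,nat_lit 1832,nat_lit 2199],[nat_lit 43,nat_lit 2201],[nat_lit 131,nat_lit 1754,nat_lit 1769],[nat_lit 141,nat_lit 1771],[nat_lit 43,nat_lit 2240],[nat_lit 150,nat_lit 1798],[nat_lit 39,nat_lit 2251],[nat_lit 131,nat_lit 2201],[nat_lit 141,nat_lit 2203,nat_lit 2219],[nat_lit 150,nat_lit 2221],[nat_lit 39,nat_lit 2796],[nat_lit 43,nat_lit 3322],[nat_lit 141,nat_lit 2727],[nat_lit 39,nat_lit 3334],[nat_lit 150,nat_lit 2755],[nat_lit 39,nat_lit 3374],[nat_lit 150,nat_lit 3331],[nat_lit 39,nat_lit 4080,nat_lit 4775],[nat_lit 40,nat_lit 4848],[nat_lit 43,nat_lit 11877],[nat_lit 171,nat_lit 55,nat_lit 75,nat_lit 100,nat_lit 221,nat_lit 298,nat_lit 523],[nat_lit 44,nat_lit 685,nat_lit 873],[nat_lit 43,nat_lit 890],[nat_lit 44,nat_lit 1115,nat_lit 1126],[nat_lit 43,nat_lit 1129],[nat_lit 131,nat_lit 890],[nat_lit 43,nat_lit 1418,nat_lit 1430],[nat_lit 131,nat_lit 1129],[nat_lit 141,nat_lit 1147],[nat_lit 44,nat_lit 1753,nat_lit 1766,nat_lit 1793],[nat_lit 131,nat_lit 1418,nat_lit 1430],[nat_lit 141,nat_lit 1432],[nat_lit 150,nat_lit 1453,nat_lit 1766],[nat_lit 43,nat_lit 2202,nat_lit 2216,nat_lit 2244],[nat_lit 141,nat_lit 1797,nat_lit 1813],[nat_lit 150,nat_lit 1816],[nat_lit 39,nat_lit 2300],[nat_lit 43,nat_lit 2723],[nat_lit 131,nat_lit 2202],[nat_lit 150,nat_lit 2267],[nat_lit 39,nat_lit 2821,nat_lit 2829],[nat_lit 141,nat_lit 2300],[nat_lit 41,nat_lit 3324],[nat_lit 141,nat_lit 2728,nat_lit 2820],[nat_lit 40,nat_lit 4006],[nat_lit 150,nat_lit 3332],[nat_lit 39,nat_lit 4138,nat_lit 4779],[nat_lit 200,nat_lit 63],[nat_lit 45,nat_lit 141,nat_lit 198],[nat_lit 142,nat_lit 141],[nat_lit 50,nat_lit 212],[nat_lit 45,nat_lit 255,nat_lit 277],[nat_lit 50,nat_lit 291],[nat_lit 151,nat_lit 209],[nat_lit 50,nat_lit 303],[nat_lit 142,nat_lit 255],[nat_lit 45,nat_lit 390,nat_lit 404,nat_lit 408,nat_lit 418],[nat_lit 50,nat_lit 421],[nat_lit 45,nat_lit 474],[nat_lit 151,nat_lit 356,nat_lit 390],[nat_lit 50,nat_lit 529],[nat_lit 159,nat_lit 404],[nat_lit 142,nat_lit 474],[nat_lit 45,nat_lit 631],[nat_lit 50,nat_lit 640],[nat_lit 159,nat_lit 524],[nat_lit 50,nat_lit 702,nat_lit 723],[nat_lit 45,nat_lit 816],[nat_lit 46,nat_lit 99,nat_lit 290,nat_lit 392],[nat_lit 142,nat_lit 392],[nat_lit 50,nat_lit 533],[nat_lit 46,nat_lit 547,nat_lit 556,nat_lit 630],[nat_lit 50,nat_lit 708,nat_lit 730],[nat_lit 46,nat_lit 818],[nat_lit 50,nat_lit 820],[nat_lit 46,nat_lit 902,nat_lit 1047],[nat_lit 50,nat_lit 1164,nat_lit 1327],[nat_lit 174,nat_lit 116],[nat_lit 47,nat_lit 137,nat_lit 707],[nat_lit 151,nat_lit 707],[nat_lit 50,nat_lit 921],[nat_lit 47,nat_lit 1050],[nat_lit 159,nat_lit 910],[nat_lit 50,nat_lit 1175,nat_lit 1472],[nat_lit 175,nat_lit 167],[nat_lit 49,nat_lit 105,nat_lit 145,nat_lit 153],[nat_lit 166,nat_lit 136],[nat_lit 49,nat_lit 214],[nat_lit 142,nat_lit 214],[nat_lit 49,nat_lit 318,nat_lit 361,nat_lit 410,nat_lit 411],[nat_lit 151,nat_lit 305],[nat_lit 49,nat_lit 429,nat_lit 438,nat_lit 550,nat_lit 568],[nat_lit 45,nat_lit 573],[nat_lit 49,nat_lit 641,nat_lit 703,nat_lit 709,nat_lit 711,nat_lit 724],[nat_lit 45,nat_lit 731],[nat_lit 49,nat_lit 743,nat_lit 836,nat_lit 913,nat_lit 923,nat_lit 938,nat_lit 951,nat_lit 1053],[nat_lit 151,nat_lit 923],[nat_lit 49,nat_lit 1189,nat_lit 1474,nat_lit 1494,nat_lit 1681,nat_lit 1865],[nat_lit 51,nat_lit 51,nat_lit 65,nat_lit 86,nat_lit 119,nat_lit 242,nat_lit 10894,nat_lit 11460],[nat_lit 179,nat_lit 552,nat_lit 665,nat_lit 727,nat_lit 850,nat_lit 863,nat_lit 918],[nat_lit 59,nat_lit 1214],[nat_lit 179,nat_lit 1055],[nat_lit 153,nat_lit 1093],[nat_lit 59,nat_lit 1415],[nat_lit 179,nat_lit 1167],[nat_lit 59,nat_lit 1697],[nat_lit 161,nat_lit 1378],[nat_lit 144,nat_lit 1378],[nat_lit 59,nat_lit 1750,nat_lit 1872,nat_lit 2179],[nat_lit 179,nat_lit 12225,nat_lit 15767],[nat_lit 52,nat_lit 68,nat_lit 88,nat_lit 121,nat_lit 172],[nat_lit 152,nat_lit 172],[nat_lit 143,nat_lit 244],[nat_lit 52,nat_lit 11880,nat_lit 12410],[nat_lit 55,nat_lit 12766,nat_lit 13249],[nat_lit 180,nat_lit 27,nat_lit 35,nat_lit 41,nat_lit 47],[nat_lit 162,nat_lit 63],[nat_lit 180,nat_lit 4877],[nat_lit 62,nat_lit 6590],[nat_lit 180,nat_lit 6572,nat_lit 6976,nat_lit 7280,nat_lit 7406,nat_lit 7503],[nat_lit 62,nat_lit 9524],[nat_lit 180,nat_lit 8647,nat_lit 9700],[nat_lit 62,nat_lit 10822],[nat_lit 180,nat_lit 10819],[nat_lit 53,nat_lit 93,nat_lit 124,nat_lit 176],[nat_lit 181,nat_lit 27,nat_lit 35,nat_lit 41,nat_lit 47],[nat_lit 163,nat_lit 63],[nat_lit 181,nat_lit 4200,nat_lit 5317,nat_lit 6152,nat_lit 6157],[nat_lit 64,nat_lit 7080,nat_lit 8069,nat_lit 8074],[nat_lit 181,nat_lit 8020,nat_lit 8025],[nat_lit 64,nat_lit 10201],[nat_lit 181,nat_lit 10208,nat_lit 10220,nat_lit 11260],[nat_lit 167,nat_lit 60],[nat_lit 54,nat_lit 69],[nat_lit 173,nat_lit 69],[nat_lit 54,nat_lit 94],[nat_lit 167,nat_lit 89],[nat_lit 173,nat_lit 94],[nat_lit 54,nat_lit 132],[nat_lit 329,nat_lit 94],[nat_lit 54,nat_lit 181,nat_lit 248,nat_lit 252,nat_lit 342,nat_lit 513,nat_lit 578,nat_lit 642,nat_lit 666,nat_lit 687,nat_lit 728,nat_lit 740,nat_lit 757],[nat_lit 160,nat_lit 642],[nat_lit 54,nat_lit 839],[nat_lit 152,nat_lit 666],[nat_lit 54,nat_lit 874],[nat_lit 53,nat_lit 908],[nat_lit 54,nat_lit 920,nat_lit 977,nat_lit 982],[nat_lit 152,nat_lit 839],[nat_lit 54,nat_lit 1137],[nat_lit 152,nat_lit 920],[nat_lit 54,nat_lit 1204,nat_lit 1312],[nat_lit 167,nat_lit 1137],[nat_lit 54,nat_lit 1406],[nat_lit 182,nat_lit 96],[nat_lit 177,nat_lit 141],[nat_lit 182,nat_lit 140],[nat_lit 147,nat_lit 186],[nat_lit 182,nat_lit 193,nat_lit 197,nat_lit 254,nat_lit 262],[nat_lit 147,nat_lit 277],[nat_lit 182,nat_lit 286,nat_lit 343,nat_lit 345],[nat_lit 164,nat_lit 356],[nat_lit 182,nat_lit 352],[nat_lit 156,nat_lit 356],[nat_lit 182,nat_lit 388],[nat_lit 156,nat_lit 390],[nat_lit 164,nat_lit 404],[nat_lit 182,nat_lit 417,nat_lit 432],[nat_lit 156,nat_lit 466],[nat_lit 147,nat_lit 474],[nat_lit 177,nat_lit 543],[nat_lit 164,nat_lit 524],[nat_lit 156,nat_lit 585],[nat_lit 182,nat_lit 645,nat_lit 697],[nat_lit 147,nat_lit 761],[nat_lit 182,nat_lit 830,nat_lit 855,nat_lit 955],[nat_lit 156,nat_lit 1101],[nat_lit 182,nat_lit 1120,nat_lit 1166,nat_lit 1345],[nat_lit 147,nat_lit 1388],[nat_lit 182,nat_lit 8495],[nat_lit 156,nat_lit 9592],[nat_lit 182,nat_lit 14628,nat_lit 15228,nat_lit 15270],[nat_lit 186,nat_lit 15572],[nat_lit 189,nat_lit 15805],[nat_lit 55,nat_lit 97,nat_lit 127,nat_lit 260],[nat_lit 329,nat_lit 260],[nat_lit 173,nat_lit 280],[nat_lit 55,nat_lit 462,nat_lit 685,nat_lit 838,nat_lit 1042],[nat_lit 54,nat_lit 1318],[nat_lit 183,nat_lit 27,nat_lit 41,nat_lit 47],[nat_lit 165,nat_lit 63],[nat_lit 183,nat_lit 9590,nat_lit 10120],[nat_lit 138,nat_lit 10688],[nat_lit 56,nat_lit 68,nat_lit 88,nat_lit 121,nat_lit 172],[nat_lit 153,nat_lit 172],[nat_lit 144,nat_lit 244],[nat_lit 56,nat_lit 7548],[nat_lit 59,nat_lit 8566],[nat_lit 56,nat_lit 9656,nat_lit 10181,nat_lit 10425,nat_lit 10726],[nat_lit 59,nat_lit 10747,nat_lit 11245,nat_lit 11462],[nat_lit 56,nat_lit 12680],[nat_lit 59,nat_lit 13471],[nat_lit 184,nat_lit 1389,nat_lit 1748],[nat_lit 62,nat_lit 2211],[nat_lit 184,nat_lit 1871],[nat_lit 162,nat_lit 2194],[nat_lit 62,nat_lit 2898,nat_lit 3296],[nat_lit 57,nat_lit 93,nat_lit 124,nat_lit 176,nat_lit 11461],[nat_lit 185,nat_lit 37,nat_lit 48,nat_lit 63,nat_lit 85,nat_lit 4965],[nat_lit 64,nat_lit 6654],[nat_lit 136,nat_lit 6654],[nat_lit 185,nat_lit 9092],[nat_lit 64,nat_lit 11262],[nat_lit 58,nat_lit 49,nat_lit 60],[nat_lit 179,nat_lit 87],[nat_lit 58,nat_lit 76,nat_lit 94],[nat_lit 174,nat_lit 94],[nat_lit 58,nat_lit 132],[nat_lit 330,nat_lit 125],[nat_lit 174,nat_lit 136],[nat_lit 58,nat_lit 177,nat_lit 181,nat_lit 248,nat_lit 252,nat_lit 959,nat_lit 1123,nat_lit 1213],[nat_lit 168,nat_lit 1123],[nat_lit 58,nat_lit 1390],[nat_lit 179,nat_lit 1113,nat_lit 1128,nat_lit 1171],[nat_lit 58,nat_lit 1508,nat_lit 1550,nat_lit 1749,nat_lit 1794,nat_lit 2132,nat_lit 2199,nat_lit 2698,nat_lit 9666],[nat_lit 57,nat_lit 10754],[nat_lit 58,nat_lit 11755,nat_lit 12227,nat_lit 12411,nat_lit 15279],[nat_lit 186,nat_lit 277,nat_lit 287,nat_lit 390],[nat_lit 156,nat_lit 407],[nat_lit 186,nat_lit 474],[nat_lit 177,nat_lit 528],[nat_lit 186,nat_lit 522,nat_lit 629,nat_lit 658],[nat_lit 156,nat_lit 696],[nat_lit 186,nat_lit 698],[nat_lit 171,nat_lit 897],[nat_lit 186,nat_lit 900,nat_lit 1068,nat_lit 1424,nat_lit 15062],[nat_lit 59,nat_lit 104,nat_lit 201,nat_lit 260],[nat_lit 330,nat_lit 260],[nat_lit 174,nat_lit 280],[nat_lit 59,nat_lit 346,nat_lit 1227],[nat_lit 58,nat_lit 1568],[nat_lit 59,nat_lit 1708,nat_lit 1793,nat_lit 1884],[nat_lit 58,nat_lit 2143,nat_lit 2244],[nat_lit 187,nat_lit 37,nat_lit 85],[nat_lit 60,nat_lit 93,nat_lit 124,nat_lit 176,nat_lit 247],[nat_lit 61,nat_lit 38],[nat_lit 180,nat_lit 38],[nat_lit 61,nat_lit 60],[nat_lit 175,nat_lit 52],[nat_lit 61,nat_lit 73],[nat_lit 180,nat_lit 60],[nat_lit 61,nat_lit 132,nat_lit 181,nat_lit 252,nat_lit 344,nat_lit 2745,nat_lit 3974,nat_lit 7550,nat_lit 9633,nat_lit 10625,nat_lit 11819,nat_lit 16123],[nat_lit 135,nat_lit 16123],[nat_lit 189,nat_lit 528,nat_lit 630,nat_lit 696],[nat_lit 156,nat_lit 707],[nat_lit 189,nat_lit 818],[nat_lit 177,nat_lit 910],[nat_lit 62,nat_lit 104],[nat_lit 184,nat_lit 104],[nat_lit 169,nat_lit 104],[nat_lit 62,nat_lit 260],[nat_lit 331,nat_lit 260],[nat_lit 175,nat_lit 280],[nat_lit 190,nat_lit 51,nat_lit 119],[nat_lit 157,nat_lit 172],[nat_lit 148,nat_lit 244],[nat_lit 63,nat_lit 38],[nat_lit 181,nat_lit 38],[nat_lit 63,nat_lit 60,nat_lit 69,nat_lit 73],[nat_lit 181,nat_lit 60],[nat_lit 176,nat_lit 69],[nat_lit 63,nat_lit 139,nat_lit 202],[nat_lit 170,nat_lit 139],[nat_lit 63,nat_lit 8080,nat_lit 8619,nat_lit 9131,nat_lit 9134,nat_lit 11259,nat_lit 12235,nat_lit 13468],[nat_lit 191,nat_lit 899],[nat_lit 182,nat_lit 1157],[nat_lit 64,nat_lit 72,nat_lit 104],[nat_lit 170,nat_lit 104],[nat_lit 64,nat_lit 201],[nat_lit 176,nat_lit 201],[nat_lit 192,nat_lit 68],[nat_lit 65,nat_lit 72,nat_lit 97,nat_lit 104],[nat_lit 186,nat_lit 107],[nat_lit 171,nat_lit 104],[nat_lit 65,nat_lit 175,nat_lit 194],[nat_lit 189,nat_lit 146],[nat_lit 177,nat_lit 204],[nat_lit 65,nat_lit 346],[nat_lit 193,nat_lit 102],[nat_lit 178,nat_lit 153],[nat_lit 193,nat_lit 142,nat_lit 151],[nat_lit 148,nat_lit 191],[nat_lit 190,nat_lit 214],[nat_lit 148,nat_lit 214],[nat_lit 183,nat_lit 214],[nat_lit 193,nat_lit 270],[nat_lit 148,nat_lit 292],[nat_lit 183,nat_lit 292],[nat_lit 157,nat_lit 305],[nat_lit 193,nat_lit 316],[nat_lit 178,nat_lit 411,nat_lit 438],[nat_lit 157,nat_lit 410],[nat_lit 193,nat_lit 408,nat_lit 419],[nat_lit 183,nat_lit 423],[nat_lit 193,nat_lit 477],[nat_lit 178,nat_lit 568,nat_lit 573],[nat_lit 193,nat_lit 533],[nat_lit 183,nat_lit 550],[nat_lit 193,nat_lit 640],[nat_lit 178,nat_lit 711],[nat_lit 193,nat_lit 702,nat_lit 730],[nat_lit 178,nat_lit 951],[nat_lit 193,nat_lit 921,nat_lit 1052],[nat_lit 178,nat_lit 1189],[nat_lit 193,nat_lit 1164,nat_lit 1175,nat_lit 1465,nat_lit 15382],[nat_lit 68,nat_lit 62,nat_lit 91],[nat_lit 77,nat_lit 236],[nat_lit 196,nat_lit 96],[nat_lit 206,nat_lit 129],[nat_lit 205,nat_lit 193],[nat_lit 206,nat_lit 199,nat_lit 278],[nat_lit 196,nat_lit 302,nat_lit 520,nat_lit 575,nat_lit 591,nat_lit 868,nat_lit 885,nat_lit 940,nat_lit 953,nat_lit 1408],[nat_lit 324,nat_lit 135],[nat_lit 4,nat_lit 283],[nat_lit 324,nat_lit 46],[nat_lit 69,nat_lit 238,nat_lit 446],[nat_lit 197,nat_lit 101,nat_lit 128,nat_lit 197],[nat_lit 206,nat_lit 210],[nat_lit 14,nat_lit 106,nat_lit 130],[nat_lit 325,nat_lit 134],[nat_lit 70,nat_lit 240,nat_lit 449],[nat_lit 198,nat_lit 188,nat_lit 208],[nat_lit 206,nat_lit 222],[nat_lit 198,nat_lit 389],[nat_lit 206,nat_lit 405],[nat_lit 326,nat_lit 128],[nat_lit 129,nat_lit 165,nat_lit 237],[nat_lit 71,nat_lit 108,nat_lit 453],[nat_lit 201,nat_lit 85],[nat_lit 199,nat_lit 272],[nat_lit 159,nat_lit 301],[nat_lit 199,nat_lit 403],[nat_lit 206,nat_lit 419],[nat_lit 327,nat_lit 188],[nat_lit 72,nat_lit 87,nat_lit 122],[nat_lit 68,nat_lit 160,nat_lit 218],[nat_lit 72,nat_lit 229,nat_lit 230,nat_lit 399],[nat_lit 197,nat_lit 123],[nat_lit 48,nat_lit 196],[nat_lit 200,nat_lit 178,nat_lit 179,nat_lit 180],[nat_lit 48,nat_lit 281],[nat_lit 200,nat_lit 352],[nat_lit 131,nat_lit 83],[nat_lit 141,nat_lit 115],[nat_lit 131,nat_lit 165],[nat_lit 150,nat_lit 168],[nat_lit 141,nat_lit 236],[nat_lit 328,nat_lit 208,nat_lit 222],[nat_lit 150,nat_lit 332],[nat_lit 328,nat_lit 405],[nat_lit 73,nat_lit 239,nat_lit 313,nat_lit 451,nat_lit 454,nat_lit 456,nat_lit 780,nat_lit 785],[nat_lit 45,nat_lit 217],[nat_lit 206,nat_lit 209],[nat_lit 201,nat_lit 268,nat_lit 287,nat_lit 299],[nat_lit 198,nat_lit 390],[nat_lit 199,nat_lit 404],[nat_lit 206,nat_lit 421],[nat_lit 199,nat_lit 698],[nat_lit 206,nat_lit 723],[nat_lit 329,nat_lit 134],[nat_lit 74,nat_lit 783,nat_lit 787],[nat_lit 198,nat_lit 407],[nat_lit 202,nat_lit 701],[nat_lit 206,nat_lit 708,nat_lit 730],[nat_lit 330,nat_lit 129],[nat_lit 174,nat_lit 240],[nat_lit 168,nat_lit 240],[nat_lit 161,nat_lit 226],[nat_lit 75,nat_lit 1278],[nat_lit 198,nat_lit 707],[nat_lit 199,nat_lit 1163],[nat_lit 206,nat_lit 1175],[nat_lit 77,nat_lit 789,nat_lit 794,nat_lit 796,nat_lit 1285,nat_lit 1287,nat_lit 1294,nat_lit 2047],[nat_lit 205,nat_lit 292,nat_lit 318,nat_lit 411,nat_lit 429,nat_lit 519,nat_lit 550,nat_lit 573],[nat_lit 49,nat_lit 754],[nat_lit 201,nat_lit 731],[nat_lit 205,nat_lit 861],[nat_lit 198,nat_lit 1176],[nat_lit 147,nat_lit 106],[nat_lit 156,nat_lit 156],[nat_lit 164,nat_lit 226],[nat_lit 147,nat_lit 236],[nat_lit 182,nat_lit 332],[nat_lit 206,nat_lit 270,nat_lit 300],[nat_lit 50,nat_lit 397],[nat_lit 206,nat_lit 1472],[nat_lit 334,nat_lit 186],[nat_lit 178,nat_lit 155],[nat_lit 138,nat_lit 184],[nat_lit 172,nat_lit 240],[nat_lit 334,nat_lit 268,nat_lit 272],[nat_lit 178,nat_lit 453],[nat_lit 172,nat_lit 449],[nat_lit 334,nat_lit 287],[nat_lit 193,nat_lit 334],[nat_lit 334,nat_lit 299,nat_lit 519,nat_lit 411,nat_lit 677,nat_lit 550],[nat_lit 193,nat_lit 605],[nat_lit 334,nat_lit 731],[nat_lit 0,nat_lit 332,nat_lit 678,nat_lit 726,nat_lit 755,nat_lit 760,nat_lit 862],[nat_lit 10,nat_lit 882],[nat_lit 0,nat_lit 887,nat_lit 906,nat_lit 942],[nat_lit 10,nat_lit 943],[nat_lit 0,nat_lit 1085],[nat_lit 6,nat_lit 1110],[nat_lit 10,nat_lit 1111],[nat_lit 7,nat_lit 1120],[nat_lit 0,nat_lit 1140],[nat_lit 6,nat_lit 1167],[nat_lit 10,nat_lit 1168],[nat_lit 0,nat_lit 1220,nat_lit 1322,nat_lit 1345,nat_lit 1362],[nat_lit 6,nat_lit 1376],[nat_lit 10,nat_lit 1377],[nat_lit 0,nat_lit 1387],[nat_lit 10,nat_lit 1412],[nat_lit 0,nat_lit 1421],[nat_lit 10,nat_lit 1479],[nat_lit 0,nat_lit 1587],[nat_lit 6,nat_lit 1673],[nat_lit 0,nat_lit 1703],[nat_lit 7,nat_lit 1744],[nat_lit 10,nat_lit 1745],[nat_lit 0,nat_lit 1800,nat_lit 1868,nat_lit 1896],[nat_lit 7,nat_lit 2099],[nat_lit 0,nat_lit 2137],[nat_lit 10,nat_lit 2190],[nat_lit 0,nat_lit 2207,nat_lit 2314,nat_lit 2364,nat_lit 2417],[nat_lit 10,nat_lit 2599],[nat_lit 0,nat_lit 2734,nat_lit 3198,nat_lit 3305,nat_lit 3496,nat_lit 13601,nat_lit 14239,nat_lit 14751,nat_lit 15245],[nat_lit 6,nat_lit 15554],[nat_lit 128,nat_lit 169],[nat_lit 16,nat_lit 339],[nat_lit 128,nat_lit 340,nat_lit 11196,nat_lit 13007,nat_lit 13431],[nat_lit 12,nat_lit 14378],[nat_lit 1,nat_lit 81,nat_lit 449,nat_lit 1446,nat_lit 1560,nat_lit 1725,nat_lit 1801,nat_lit 2005,nat_lit 2139,nat_lit 2253,nat_lit 2326,nat_lit 2367,nat_lit 2646,nat_lit 2736,nat_lit 2877],[nat_lit 6,nat_lit 2891],[nat_lit 1,nat_lit 3002,nat_lit 3987,nat_lit 4222,nat_lit 14752],[nat_lit 129,nat_lit 418,nat_lit 485],[nat_lit 26,nat_lit 721],[nat_lit 129,nat_lit 568,nat_lit 673,nat_lit 748,nat_lit 751,nat_lit 845,nat_lit 857,nat_lit 859,nat_lit 903,nat_lit 905,nat_lit 1053],[nat_lit 25,nat_lit 1372],[nat_lit 129,nat_lit 1107,nat_lit 1198,nat_lit 1334,nat_lit 1466,nat_lit 1474,nat_lit 1528,nat_lit 2184,nat_lit 11755,nat_lit 14748],[nat_lit 2,nat_lit 2255,nat_lit 2501,nat_lit 2936,nat_lit 3242,nat_lit 3498,nat_lit 3664,nat_lit 4978],[nat_lit 130,nat_lit 268,nat_lit 308],[nat_lit 34,nat_lit 496],[nat_lit 130,nat_lit 411],[nat_lit 33,nat_lit 665],[nat_lit 130,nat_lit 748,nat_lit 749,nat_lit 857,nat_lit 900,nat_lit 975],[nat_lit 33,nat_lit 1463],[nat_lit 130,nat_lit 1466,nat_lit 1528,nat_lit 1857,nat_lit 2312,nat_lit 4140,nat_lit 4160],[nat_lit 35,nat_lit 5549],[nat_lit 130,nat_lit 4855],[nat_lit 33,nat_lit 5765],[nat_lit 34,nat_lit 6389],[nat_lit 130,nat_lit 5598],[nat_lit 34,nat_lit 6637],[nat_lit 130,nat_lit 6442,nat_lit 7370,nat_lit 7376],[nat_lit 33,nat_lit 8382],[nat_lit 130,nat_lit 14815],[nat_lit 32,nat_lit 15529],[nat_lit 3,nat_lit 158],[nat_lit 10,nat_lit 161],[nat_lit 3,nat_lit 400,nat_lit 2805],[nat_lit 2,nat_lit 3246],[nat_lit 3,nat_lit 3915,nat_lit 4225,nat_lit 5804],[nat_lit 131,nat_lit 209],[nat_lit 44,nat_lit 427],[nat_lit 131,nat_lit 318,nat_lit 407,nat_lit 411,nat_lit 524,nat_lit 707,nat_lit 708,nat_lit 711],[nat_lit 150,nat_lit 916],[nat_lit 44,nat_lit 1184],[nat_lit 131,nat_lit 1123,nat_lit 1137],[nat_lit 44,nat_lit 1487],[nat_lit 131,nat_lit 1176,nat_lit 1413,nat_lit 1455,nat_lit 1747,nat_lit 1767],[nat_lit 141,nat_lit 1791],[nat_lit 131,nat_lit 1818,nat_lit 1821,nat_lit 1831,nat_lit 1832,nat_lit 1836],[nat_lit 40,nat_lit 2305],[nat_lit 141,nat_lit 2193],[nat_lit 131,nat_lit 2199,nat_lit 2216,nat_lit 2232,nat_lit 2240],[nat_lit 150,nat_lit 2242],[nat_lit 131,nat_lit 2244,nat_lit 2251],[nat_lit 41,nat_lit 2869],[nat_lit 131,nat_lit 2723],[nat_lit 158,nat_lit 4122],[nat_lit 131,nat_lit 2796],[nat_lit 40,nat_lit 3423],[nat_lit 131,nat_lit 2821,nat_lit 2829,nat_lit 2845],[nat_lit 158,nat_lit 4748],[nat_lit 131,nat_lit 3322,nat_lit 3324,nat_lit 3334,nat_lit 3344,nat_lit 3374],[nat_lit 40,nat_lit 4188],[nat_lit 158,nat_lit 5544],[nat_lit 131,nat_lit 4006],[nat_lit 40,nat_lit 4785,nat_lit 4858],[nat_lit 131,nat_lit 4138,nat_lit 4775,nat_lit 4779],[nat_lit 40,nat_lit 5747],[nat_lit 4,nat_lit 307,nat_lit 521,nat_lit 593,nat_lit 869,nat_lit 886,nat_lit 941,nat_lit 4671],[nat_lit 132,nat_lit 209],[nat_lit 47,nat_lit 406],[nat_lit 132,nat_lit 299],[nat_lit 50,nat_lit 427],[nat_lit 132,nat_lit 304,nat_lit 318],[nat_lit 166,nat_lit 378],[nat_lit 132,nat_lit 361,nat_lit 404],[nat_lit 46,nat_lit 552],[nat_lit 50,nat_lit 554],[nat_lit 132,nat_lit 410,nat_lit 411,nat_lit 418],[nat_lit 50,nat_lit 572],[nat_lit 132,nat_lit 423,nat_lit 429,nat_lit 438,nat_lit 524,nat_lit 528,nat_lit 543],[nat_lit 46,nat_lit 727],[nat_lit 50,nat_lit 729],[nat_lit 132,nat_lit 550,nat_lit 573,nat_lit 631],[nat_lit 166,nat_lit 674],[nat_lit 132,nat_lit 641,nat_lit 698],[nat_lit 50,nat_lit 909],[nat_lit 132,nat_lit 703],[nat_lit 47,nat_lit 916],[nat_lit 50,nat_lit 918],[nat_lit 132,nat_lit 709,nat_lit 711],[nat_lit 50,nat_lit 936],[nat_lit 132,nat_lit 724,nat_lit 731,nat_lit 743],[nat_lit 48,nat_lit 1046],[nat_lit 50,nat_lit 1057],[nat_lit 132,nat_lit 836],[nat_lit 46,nat_lit 1161],[nat_lit 50,nat_lit 1162],[nat_lit 151,nat_lit 916],[nat_lit 132,nat_lit 913],[nat_lit 50,nat_lit 1184],[nat_lit 132,nat_lit 938,nat_lit 951,nat_lit 1050,nat_lit 1053],[nat_lit 47,nat_lit 1468],[nat_lit 50,nat_lit 1469,nat_lit 1487],[nat_lit 132,nat_lit 1176,nat_lit 1189],[nat_lit 151,nat_lit 1330],[nat_lit 50,nat_lit 1861],[nat_lit 132,nat_lit 1474,nat_lit 1494],[nat_lit 50,nat_lit 2106],[nat_lit 132,nat_lit 1681,nat_lit 1865],[nat_lit 5,nat_lit 141],[nat_lit 4,nat_lit 186],[nat_lit 10,nat_lit 212],[nat_lit 324,nat_lit 186],[nat_lit 3,nat_lit 255],[nat_lit 5,nat_lit 263,nat_lit 270,nat_lit 277,nat_lit 333],[nat_lit 2,nat_lit 348],[nat_lit 5,nat_lit 363],[nat_lit 10,nat_lit 371,nat_lit 393],[nat_lit 5,nat_lit 466],[nat_lit 10,nat_lit 470],[nat_lit 5,nat_lit 474,nat_lit 614],[nat_lit 1,nat_lit 615],[nat_lit 10,nat_lit 622],[nat_lit 5,nat_lit 997,nat_lit 1149,nat_lit 1237,nat_lit 1254,nat_lit 1368,nat_lit 1434],[nat_lit 1,nat_lit 1445],[nat_lit 5,nat_lit 1515],[nat_lit 1,nat_lit 1555],[nat_lit 5,nat_lit 1592,nat_lit 1596,nat_lit 1829,nat_lit 1941],[nat_lit 7,nat_lit 1952],[nat_lit 3,nat_lit 2004],[nat_lit 5,nat_lit 2089,nat_lit 2094,nat_lit 2161,nat_lit 2235],[nat_lit 9,nat_lit 2322],[nat_lit 133,nat_lit 52,nat_lit 66,nat_lit 83,nat_lit 87],[nat_lit 160,nat_lit 123],[nat_lit 152,nat_lit 174],[nat_lit 55,nat_lit 251],[nat_lit 133,nat_lit 989,nat_lit 1143,nat_lit 1210,nat_lit 1411,nat_lit 1424,nat_lit 1477],[nat_lit 55,nat_lit 1948],[nat_lit 133,nat_lit 1705,nat_lit 1761],[nat_lit 55,nat_lit 2239],[nat_lit 52,nat_lit 2329],[nat_lit 133,nat_lit 1872,nat_lit 1969,nat_lit 2167],[nat_lit 53,nat_lit 2942],[nat_lit 133,nat_lit 2647,nat_lit 2650],[nat_lit 160,nat_lit 2686],[nat_lit 133,nat_lit 2737,nat_lit 2802,nat_lit 3342,nat_lit 3344,nat_lit 3580,nat_lit 3864,nat_lit 4424,nat_lit 4733,nat_lit 6667,nat_lit 14241,nat_lit 14242],[nat_lit 55,nat_lit 15166],[nat_lit 6,nat_lit 392,nat_lit 491],[nat_lit 10,nat_lit 533],[nat_lit 6,nat_lit 630,nat_lit 801,nat_lit 809,nat_lit 1269,nat_lit 1731,nat_lit 2011,nat_lit 2285,nat_lit 2426,nat_lit 2436],[nat_lit 134,nat_lit 94,nat_lit 125,nat_lit 132],[nat_lit 59,nat_lit 199],[nat_lit 168,nat_lit 157],[nat_lit 134,nat_lit 165,nat_lit 177,nat_lit 181],[nat_lit 59,nat_lit 278],[nat_lit 134,nat_lit 252,nat_lit 340,nat_lit 346,nat_lit 1390,nat_lit 1429,nat_lit 1508,nat_lit 1550,nat_lit 1568,nat_lit 1749],[nat_lit 59,nat_lit 2215],[nat_lit 134,nat_lit 1793,nat_lit 1794,nat_lit 1872,nat_lit 1884,nat_lit 2132,nat_lit 2143,nat_lit 2199,nat_lit 2244,nat_lit 2698,nat_lit 9666,nat_lit 11755,nat_lit 12227],[nat_lit 7,nat_lit 819],[nat_lit 10,nat_lit 1052],[nat_lit 7,nat_lit 1614],[nat_lit 6,nat_lit 1996],[nat_lit 7,nat_lit 2174],[nat_lit 1,nat_lit 2683],[nat_lit 7,nat_lit 3026],[nat_lit 135,nat_lit 66,nat_lit 76,nat_lit 83],[nat_lit 62,nat_lit 129],[nat_lit 135,nat_lit 132,nat_lit 161,nat_lit 181,nat_lit 252,nat_lit 344,nat_lit 2745,nat_lit 3974,nat_lit 7550,nat_lit 10625,nat_lit 11819],[nat_lit 8,nat_lit 2033,nat_lit 2494],[nat_lit 136,nat_lit 72,nat_lit 76,nat_lit 83,nat_lit 89,nat_lit 161,nat_lit 8080,nat_lit 8619,nat_lit 9131,nat_lit 9134,nat_lit 11259,nat_lit 12235,nat_lit 13468],[nat_lit 9,nat_lit 153],[nat_lit 4,nat_lit 191],[nat_lit 9,nat_lit 214],[nat_lit 6,nat_lit 271],[nat_lit 7,nat_lit 292],[nat_lit 9,nat_lit 351],[nat_lit 3,nat_lit 359],[nat_lit 9,nat_lit 394,nat_lit 452,nat_lit 513,nat_lit 623,nat_lit 642,nat_lit 666,nat_lit 728,nat_lit 735],[nat_lit 1,nat_lit 864],[nat_lit 6,nat_lit 871],[nat_lit 8,nat_lit 908],[nat_lit 9,nat_lit 917,nat_lit 945],[nat_lit 3,nat_lit 1062],[nat_lit 8,nat_lit 1087],[nat_lit 9,nat_lit 1095],[nat_lit 1,nat_lit 1171],[nat_lit 9,nat_lit 1183],[nat_lit 2,nat_lit 1309],[nat_lit 1,nat_lit 1380],[nat_lit 7,nat_lit 1392,nat_lit 1486],[nat_lit 9,nat_lit 1606],[nat_lit 7,nat_lit 1751,nat_lit 1975],[nat_lit 9,nat_lit 2744,nat_lit 2813],[nat_lit 6,nat_lit 3355],[nat_lit 137,nat_lit 308,nat_lit 503,nat_lit 627],[nat_lit 171,nat_lit 674],[nat_lit 137,nat_lit 711,nat_lit 1137,nat_lit 1212,nat_lit 1334,nat_lit 1413,nat_lit 1481,nat_lit 1747,nat_lit 1790],[nat_lit 147,nat_lit 1791],[nat_lit 137,nat_lit 1876],[nat_lit 147,nat_lit 1878],[nat_lit 171,nat_lit 2242],[nat_lit 147,nat_lit 2193,nat_lit 2241],[nat_lit 156,nat_lit 2242],[nat_lit 147,nat_lit 2338],[nat_lit 171,nat_lit 2714],[nat_lit 137,nat_lit 2711],[nat_lit 156,nat_lit 2714,nat_lit 2783,nat_lit 2904,nat_lit 3185],[nat_lit 171,nat_lit 3400],[nat_lit 191,nat_lit 3400],[nat_lit 189,nat_lit 3533],[nat_lit 164,nat_lit 3847,nat_lit 3892],[nat_lit 171,nat_lit 4585],[nat_lit 10,nat_lit 309,nat_lit 430,nat_lit 451,nat_lit 602,nat_lit 685,nat_lit 838,nat_lit 961],[nat_lit 1,nat_lit 1072],[nat_lit 10,nat_lit 1126,nat_lit 1173,nat_lit 1185,nat_lit 1215,nat_lit 1349,nat_lit 1382,nat_lit 1394],[nat_lit 1,nat_lit 1416],[nat_lit 10,nat_lit 1489,nat_lit 1509,nat_lit 1661,nat_lit 1768,nat_lit 1889,nat_lit 2200],[nat_lit 138,nat_lit 224,nat_lit 274,nat_lit 281,nat_lit 305,nat_lit 308,nat_lit 382,nat_lit 503,nat_lit 550,nat_lit 558,nat_lit 568,nat_lit 636],[nat_lit 172,nat_lit 674],[nat_lit 138,nat_lit 681,nat_lit 789],[nat_lit 157,nat_lit 830],[nat_lit 138,nat_lit 836,nat_lit 857,nat_lit 913,nat_lit 1117,nat_lit 1334,nat_lit 1397,nat_lit 1474,nat_lit 1494,nat_lit 1857,nat_lit 15656],[nat_lit 11,nat_lit 449,nat_lit 1081,nat_lit 1440,nat_lit 1593],[nat_lit 128,nat_lit 2151],[nat_lit 11,nat_lit 2126,nat_lit 2237,nat_lit 2628,nat_lit 2877,nat_lit 2891,nat_lit 3002,nat_lit 3987,nat_lit 15751],[nat_lit 139,nat_lit 13083,nat_lit 14869],[nat_lit 26,nat_lit 15482],[nat_lit 25,nat_lit 15740],[nat_lit 26,nat_lit 15923],[nat_lit 27,nat_lit 16055],[nat_lit 12,nat_lit 2157,nat_lit 2631,nat_lit 3217,nat_lit 3498,nat_lit 3664],[nat_lit 140,nat_lit 433,nat_lit 560],[nat_lit 130,nat_lit 586,nat_lit 746],[nat_lit 140,nat_lit 1103,nat_lit 1245],[nat_lit 130,nat_lit 1402],[nat_lit 140,nat_lit 1858,nat_lit 1934,nat_lit 2313,nat_lit 2875,nat_lit 4929,nat_lit 5691],[nat_lit 33,nat_lit 6636],[nat_lit 140,nat_lit 6456,nat_lit 7377],[nat_lit 33,nat_lit 8410],[nat_lit 140,nat_lit 8373],[nat_lit 33,nat_lit 9470,nat_lit 10549],[nat_lit 13,nat_lit 2672,nat_lit 3220,nat_lit 3887,nat_lit 4225,nat_lit 4423],[nat_lit 16,nat_lit 4980],[nat_lit 141,nat_lit 560,nat_lit 700],[nat_lit 131,nat_lit 746],[nat_lit 141,nat_lit 927],[nat_lit 131,nat_lit 1194],[nat_lit 141,nat_lit 1496,nat_lit 2217,nat_lit 2725,nat_lit 2750,nat_lit 2782,nat_lit 2787,nat_lit 3327,nat_lit 3454,nat_lit 4008,nat_lit 4010,nat_lit 4043,nat_lit 4758],[nat_lit 40,nat_lit 5638],[nat_lit 141,nat_lit 5590,nat_lit 5595],[nat_lit 40,nat_lit 7381,nat_lit 7389],[nat_lit 128,nat_lit 3945],[nat_lit 142,nat_lit 546,nat_lit 560,nat_lit 572,nat_lit 575,nat_lit 582,nat_lit 700,nat_lit 727],[nat_lit 50,nat_lit 943],[nat_lit 142,nat_lit 732],[nat_lit 132,nat_lit 746],[nat_lit 142,nat_lit 832,nat_lit 837],[nat_lit 46,nat_lit 1167],[nat_lit 50,nat_lit 1168],[nat_lit 142,nat_lit 914,nat_lit 925,nat_lit 927],[nat_lit 50,nat_lit 1211],[nat_lit 142,nat_lit 953,nat_lit 970,nat_lit 1046,nat_lit 1074],[nat_lit 47,nat_lit 1478],[nat_lit 142,nat_lit 1177],[nat_lit 132,nat_lit 1194],[nat_lit 142,nat_lit 1206,nat_lit 1219,nat_lit 1335,nat_lit 1496,nat_lit 1516,nat_lit 1867,nat_lit 1895,nat_lit 2111,nat_lit 2323],[nat_lit 325,nat_lit 268],[nat_lit 15,nat_lit 372,nat_lit 614,nat_lit 1826,nat_lit 2009,nat_lit 2158],[nat_lit 13,nat_lit 2502],[nat_lit 12,nat_lit 3089],[nat_lit 15,nat_lit 3953,nat_lit 4635,nat_lit 4733,nat_lit 4982,nat_lit 5230,nat_lit 5808],[nat_lit 143,nat_lit 71,nat_lit 91],[nat_lit 55,nat_lit 151],[nat_lit 143,nat_lit 115,nat_lit 123],[nat_lit 55,nat_lit 189,nat_lit 258],[nat_lit 143,nat_lit 3428,nat_lit 4043,nat_lit 4334],[nat_lit 160,nat_lit 4810],[nat_lit 143,nat_lit 5231,nat_lit 5522,nat_lit 7619],[nat_lit 16,nat_lit 801],[nat_lit 144,nat_lit 134,nat_lit 183,nat_lit 193,nat_lit 236,nat_lit 253,nat_lit 259],[nat_lit 59,nat_lit 368],[nat_lit 144,nat_lit 1812,nat_lit 1911,nat_lit 1980,nat_lit 2245,nat_lit 2638,nat_lit 2725],[nat_lit 134,nat_lit 2788],[nat_lit 144,nat_lit 3298],[nat_lit 145,nat_lit 106,nat_lit 115,nat_lit 259,nat_lit 4717,nat_lit 11663],[nat_lit 146,nat_lit 106,nat_lit 115,nat_lit 9140,nat_lit 13094],[nat_lit 19,nat_lit 2007],[nat_lit 17,nat_lit 2423],[nat_lit 19,nat_lit 2776],[nat_lit 13,nat_lit 3000],[nat_lit 15,nat_lit 3008],[nat_lit 19,nat_lit 3088],[nat_lit 18,nat_lit 3303],[nat_lit 19,nat_lit 3507],[nat_lit 16,nat_lit 3659],[nat_lit 15,nat_lit 3662],[nat_lit 19,nat_lit 3758],[nat_lit 16,nat_lit 3981],[nat_lit 12,nat_lit 3983],[nat_lit 17,nat_lit 4234],[nat_lit 15,nat_lit 4238],[nat_lit 12,nat_lit 4418],[nat_lit 17,nat_lit 4722],[nat_lit 15,nat_lit 4725,nat_lit 4727,nat_lit 4993,nat_lit 5224],[nat_lit 12,nat_lit 5509],[nat_lit 15,nat_lit 5510],[nat_lit 16,nat_lit 5824],[nat_lit 15,nat_lit 6343],[nat_lit 147,nat_lit 433,nat_lit 674],[nat_lit 186,nat_lit 880],[nat_lit 147,nat_lit 927],[nat_lit 177,nat_lit 1194],[nat_lit 20,nat_lit 311,nat_lit 504],[nat_lit 325,nat_lit 292],[nat_lit 20,nat_lit 602,nat_lit 675],[nat_lit 148,nat_lit 433,nat_lit 518],[nat_lit 138,nat_lit 586],[nat_lit 148,nat_lit 674,nat_lit 732,nat_lit 832],[nat_lit 138,nat_lit 880],[nat_lit 148,nat_lit 885],[nat_lit 192,nat_lit 955],[nat_lit 148,nat_lit 1022,nat_lit 1060,nat_lit 1074,nat_lit 1103,nat_lit 1177],[nat_lit 138,nat_lit 1402],[nat_lit 148,nat_lit 1420,nat_lit 1867,nat_lit 2313],[nat_lit 21,nat_lit 1270,nat_lit 2501,nat_lit 2765,nat_lit 3498,nat_lit 3664,nat_lit 4224,nat_lit 4978],[nat_lit 22,nat_lit 4423,nat_lit 4980,nat_lit 5804],[nat_lit 150,nat_lit 1517,nat_lit 2752,nat_lit 3328,nat_lit 3363],[nat_lit 39,nat_lit 4075],[nat_lit 150,nat_lit 3399,nat_lit 3405,nat_lit 4013],[nat_lit 131,nat_lit 4075],[nat_lit 39,nat_lit 4902],[nat_lit 150,nat_lit 4762],[nat_lit 39,nat_lit 5575],[nat_lit 40,nat_lit 5673],[nat_lit 131,nat_lit 4902],[nat_lit 39,nat_lit 6416],[nat_lit 131,nat_lit 5575],[nat_lit 41,nat_lit 6543],[nat_lit 131,nat_lit 6416],[nat_lit 40,nat_lit 7355],[nat_lit 141,nat_lit 7342],[nat_lit 151,nat_lit 769,nat_lit 971,nat_lit 1070,nat_lit 1194,nat_lit 1220,nat_lit 1238,nat_lit 1362,nat_lit 1498,nat_lit 1517,nat_lit 1692,nat_lit 1921,nat_lit 2324,nat_lit 2364,nat_lit 2613,nat_lit 2889],[nat_lit 326,nat_lit 186],[nat_lit 24,nat_lit 333,nat_lit 1476,nat_lit 1735],[nat_lit 129,nat_lit 1476],[nat_lit 24,nat_lit 2125,nat_lit 3089,nat_lit 3382,nat_lit 4226,nat_lit 4981],[nat_lit 22,nat_lit 4982],[nat_lit 24,nat_lit 5230,nat_lit 5808,nat_lit 6667],[nat_lit 152,nat_lit 101,nat_lit 168,nat_lit 179,nat_lit 5133,nat_lit 5634,nat_lit 8637],[nat_lit 25,nat_lit 2630],[nat_lit 153,nat_lit 197,nat_lit 262,nat_lit 276],[nat_lit 59,nat_lit 405],[nat_lit 153,nat_lit 332,nat_lit 353,nat_lit 362],[nat_lit 59,nat_lit 632],[nat_lit 153,nat_lit 2387,nat_lit 3228],[nat_lit 134,nat_lit 3898],[nat_lit 153,nat_lit 3976],[nat_lit 154,nat_lit 156,nat_lit 168,nat_lit 362,nat_lit 5503,nat_lit 12596],[nat_lit 155,nat_lit 156,nat_lit 168],[nat_lit 28,nat_lit 1244,nat_lit 1471],[nat_lit 129,nat_lit 1244],[nat_lit 28,nat_lit 1610],[nat_lit 129,nat_lit 1471],[nat_lit 26,nat_lit 1992],[nat_lit 25,nat_lit 2480],[nat_lit 27,nat_lit 2972],[nat_lit 156,nat_lit 1135,nat_lit 1194],[nat_lit 29,nat_lit 309,nat_lit 451],[nat_lit 326,nat_lit 550],[nat_lit 29,nat_lit 877,nat_lit 3624],[nat_lit 26,nat_lit 4377],[nat_lit 22,nat_lit 5179],[nat_lit 24,nat_lit 6031],[nat_lit 157,nat_lit 690,nat_lit 1070,nat_lit 1362,nat_lit 2324,nat_lit 2876],[nat_lit 30,nat_lit 2984],[nat_lit 159,nat_lit 99,nat_lit 137,nat_lit 155,nat_lit 196,nat_lit 202,nat_lit 225,nat_lit 281,nat_lit 396,nat_lit 1001,nat_lit 1240,nat_lit 1358,nat_lit 1560,nat_lit 1923],[nat_lit 142,nat_lit 2403],[nat_lit 159,nat_lit 3515],[nat_lit 327,nat_lit 186],[nat_lit 32,nat_lit 870],[nat_lit 149,nat_lit 1378],[nat_lit 32,nat_lit 1241],[nat_lit 34,nat_lit 1389],[nat_lit 32,nat_lit 1853],[nat_lit 34,nat_lit 2308],[nat_lit 32,nat_lit 5723,nat_lit 6396],[nat_lit 130,nat_lit 5723],[nat_lit 32,nat_lit 7307],[nat_lit 130,nat_lit 6396],[nat_lit 31,nat_lit 8305],[nat_lit 130,nat_lit 7307],[nat_lit 31,nat_lit 8311],[nat_lit 140,nat_lit 7315],[nat_lit 32,nat_lit 9471,nat_lit 9505,nat_lit 10564,nat_lit 11591],[nat_lit 34,nat_lit 11606],[nat_lit 160,nat_lit 150],[nat_lit 55,nat_lit 316],[nat_lit 33,nat_lit 1583,nat_lit 1762],[nat_lit 32,nat_lit 1999],[nat_lit 37,nat_lit 2211],[nat_lit 33,nat_lit 2870],[nat_lit 37,nat_lit 3491],[nat_lit 33,nat_lit 9378,nat_lit 9387,nat_lit 9389],[nat_lit 32,nat_lit 10474],[nat_lit 33,nat_lit 12547],[nat_lit 174,nat_lit 108],[nat_lit 161,nat_lit 230,nat_lit 286],[nat_lit 59,nat_lit 440],[nat_lit 161,nat_lit 366,nat_lit 389],[nat_lit 59,nat_lit 544],[nat_lit 34,nat_lit 11511],[nat_lit 33,nat_lit 12460],[nat_lit 162,nat_lit 226,nat_lit 227],[nat_lit 163,nat_lit 202,nat_lit 226,nat_lit 227],[nat_lit 36,nat_lit 513,nat_lit 871,nat_lit 1123,nat_lit 1244,nat_lit 1390],[nat_lit 130,nat_lit 1244],[nat_lit 140,nat_lit 1586],[nat_lit 36,nat_lit 2745,nat_lit 3627,nat_lit 4217],[nat_lit 140,nat_lit 3627],[nat_lit 34,nat_lit 4380],[nat_lit 140,nat_lit 4380],[nat_lit 32,nat_lit 5093,nat_lit 5932],[nat_lit 36,nat_lit 7561,nat_lit 7589,nat_lit 8314],[nat_lit 35,nat_lit 8467],[nat_lit 140,nat_lit 8314],[nat_lit 36,nat_lit 10488,nat_lit 12532,nat_lit 13294],[nat_lit 164,nat_lit 158],[nat_lit 65,nat_lit 440],[nat_lit 37,nat_lit 309],[nat_lit 327,nat_lit 861],[nat_lit 31,nat_lit 869],[nat_lit 37,nat_lit 1766],[nat_lit 36,nat_lit 2216],[nat_lit 37,nat_lit 5179],[nat_lit 140,nat_lit 5179],[nat_lit 32,nat_lit 6031,nat_lit 6818],[nat_lit 165,nat_lit 1358,nat_lit 3497],[nat_lit 38,nat_lit 2034,nat_lit 2674],[nat_lit 131,nat_lit 2674],[nat_lit 50,nat_lit 535],[nat_lit 39,nat_lit 594,nat_lit 1241,nat_lit 1829,nat_lit 2785,nat_lit 2841,nat_lit 3318,nat_lit 3402],[nat_lit 131,nat_lit 2785,nat_lit 2841,nat_lit 3318],[nat_lit 39,nat_lit 4121,nat_lit 4123],[nat_lit 131,nat_lit 3402],[nat_lit 141,nat_lit 3470],[nat_lit 39,nat_lit 4749,nat_lit 4887],[nat_lit 131,nat_lit 4121,nat_lit 4123,nat_lit 4749],[nat_lit 39,nat_lit 5563,nat_lit 5566,nat_lit 5604,nat_lit 5695],[nat_lit 131,nat_lit 4887],[nat_lit 39,nat_lit 6412],[nat_lit 41,nat_lit 6465],[nat_lit 39,nat_lit 6502,nat_lit 6542],[nat_lit 41,nat_lit 6573],[nat_lit 141,nat_lit 5721],[nat_lit 39,nat_lit 6620],[nat_lit 41,nat_lit 7459,nat_lit 7578],[nat_lit 39,nat_lit 8387],[nat_lit 41,nat_lit 9477],[nat_lit 167,nat_lit 221],[nat_lit 40,nat_lit 1583],[nat_lit 39,nat_lit 1999],[nat_lit 40,nat_lit 3471,nat_lit 4128],[nat_lit 131,nat_lit 3471],[nat_lit 40,nat_lit 4754],[nat_lit 39,nat_lit 5558],[nat_lit 40,nat_lit 5722,nat_lit 5727,nat_lit 6399],[nat_lit 39,nat_lit 6597,nat_lit 6605],[nat_lit 40,nat_lit 7411,nat_lit 8477,nat_lit 10570],[nat_lit 41,nat_lit 7559,nat_lit 7565],[nat_lit 40,nat_lit 8577,nat_lit 8584],[nat_lit 43,nat_lit 426],[nat_lit 150,nat_lit 426],[nat_lit 43,nat_lit 578,nat_lit 735],[nat_lit 131,nat_lit 578],[nat_lit 43,nat_lit 1186],[nat_lit 150,nat_lit 1186],[nat_lit 39,nat_lit 1508],[nat_lit 43,nat_lit 1510],[nat_lit 39,nat_lit 1886],[nat_lit 43,nat_lit 1890],[nat_lit 131,nat_lit 1510,nat_lit 1890],[nat_lit 141,nat_lit 1913],[nat_lit 43,nat_lit 2521,nat_lit 2856],[nat_lit 141,nat_lit 2357],[nat_lit 150,nat_lit 2390],[nat_lit 41,nat_lit 3078],[nat_lit 43,nat_lit 3390],[nat_lit 131,nat_lit 2856],[nat_lit 39,nat_lit 3621],[nat_lit 40,nat_lit 3740],[nat_lit 43,nat_lit 4153,nat_lit 4157,nat_lit 4175,nat_lit 4209],[nat_lit 42,nat_lit 4390],[nat_lit 43,nat_lit 4896,nat_lit 4899],[nat_lit 39,nat_lit 4928],[nat_lit 141,nat_lit 4390],[nat_lit 43,nat_lit 5674],[nat_lit 41,nat_lit 5931],[nat_lit 43,nat_lit 6409],[nat_lit 39,nat_lit 6823],[nat_lit 43,nat_lit 7323,nat_lit 7412,nat_lit 7505,nat_lit 7537,nat_lit 7557,nat_lit 8354,nat_lit 8398,nat_lit 8428,nat_lit 8599,nat_lit 9415,nat_lit 9580,nat_lit 9677,nat_lit 9683],[nat_lit 141,nat_lit 9683],[nat_lit 43,nat_lit 11614],[nat_lit 44,nat_lit 4945,nat_lit 5736,nat_lit 8532,nat_lit 10679],[nat_lit 172,nat_lit 217,nat_lit 1720],[nat_lit 138,nat_lit 2159],[nat_lit 172,nat_lit 4224],[nat_lit 200,nat_lit 255],[nat_lit 45,nat_lit 594,nat_lit 648,nat_lit 734,nat_lit 761,nat_lit 915,nat_lit 944,nat_lit 986,nat_lit 1002],[nat_lit 47,nat_lit 1180],[nat_lit 45,nat_lit 1210,nat_lit 1223,nat_lit 1364,nat_lit 1467,nat_lit 1477],[nat_lit 151,nat_lit 1180],[nat_lit 45,nat_lit 1500,nat_lit 1520,nat_lit 1538,nat_lit 1561,nat_lit 1581,nat_lit 1683],[nat_lit 50,nat_lit 1860],[nat_lit 47,nat_lit 1871],[nat_lit 50,nat_lit 1872],[nat_lit 45,nat_lit 1899,nat_lit 1929,nat_lit 1944],[nat_lit 151,nat_lit 1561],[nat_lit 45,nat_lit 1997,nat_lit 2167,nat_lit 2372,nat_lit 2404],[nat_lit 159,nat_lit 1929],[nat_lit 45,nat_lit 2632,nat_lit 2890,nat_lit 2935],[nat_lit 142,nat_lit 2404],[nat_lit 45,nat_lit 2983,nat_lit 2985,nat_lit 3518,nat_lit 3575,nat_lit 3580,nat_lit 3866,nat_lit 4248,nat_lit 5009],[nat_lit 329,nat_lit 270],[nat_lit 152,nat_lit 334],[nat_lit 46,nat_lit 844,nat_lit 991],[nat_lit 151,nat_lit 844],[nat_lit 46,nat_lit 1257,nat_lit 1502],[nat_lit 142,nat_lit 1257],[nat_lit 46,nat_lit 1879,nat_lit 2113],[nat_lit 159,nat_lit 1879],[nat_lit 46,nat_lit 2331],[nat_lit 151,nat_lit 2113],[nat_lit 50,nat_lit 2878,nat_lit 2898],[nat_lit 46,nat_lit 2943,nat_lit 4254,nat_lit 4335],[nat_lit 58,nat_lit 592],[nat_lit 47,nat_lit 1262,nat_lit 1371],[nat_lit 45,nat_lit 1727],[nat_lit 47,nat_lit 2022,nat_lit 5020,nat_lit 5135],[nat_lit 48,nat_lit 5989],[nat_lit 49,nat_lit 426,nat_lit 553],[nat_lit 151,nat_lit 426],[nat_lit 49,nat_lit 578,nat_lit 642,nat_lit 728,nat_lit 735,nat_lit 740,nat_lit 757],[nat_lit 132,nat_lit 578],[nat_lit 159,nat_lit 642],[nat_lit 48,nat_lit 908],[nat_lit 49,nat_lit 917,nat_lit 949,nat_lit 959],[nat_lit 46,nat_lit 963],[nat_lit 132,nat_lit 740],[nat_lit 49,nat_lit 982],[nat_lit 132,nat_lit 757],[nat_lit 142,nat_lit 765],[nat_lit 166,nat_lit 871],[nat_lit 151,nat_lit 917],[nat_lit 49,nat_lit 1174,nat_lit 1181,nat_lit 1186,nat_lit 1204,nat_lit 1212,nat_lit 1213],[nat_lit 151,nat_lit 963],[nat_lit 45,nat_lit 1229],[nat_lit 132,nat_lit 963],[nat_lit 142,nat_lit 969],[nat_lit 45,nat_lit 1254],[nat_lit 151,nat_lit 996],[nat_lit 45,nat_lit 1267],[nat_lit 49,nat_lit 1342],[nat_lit 45,nat_lit 1347],[nat_lit 49,nat_lit 1471,nat_lit 1481],[nat_lit 45,nat_lit 1483],[nat_lit 47,nat_lit 1486],[nat_lit 151,nat_lit 1186],[nat_lit 132,nat_lit 1174],[nat_lit 49,nat_lit 1503],[nat_lit 45,nat_lit 1508],[nat_lit 49,nat_lit 1510],[nat_lit 132,nat_lit 1186,nat_lit 1204],[nat_lit 49,nat_lit 1545],[nat_lit 45,nat_lit 1550],[nat_lit 132,nat_lit 1216],[nat_lit 142,nat_lit 1231],[nat_lit 151,nat_lit 1236],[nat_lit 142,nat_lit 1266,nat_lit 1254],[nat_lit 46,nat_lit 1600],[nat_lit 45,nat_lit 1611],[nat_lit 48,nat_lit 1684],[nat_lit 132,nat_lit 1342],[nat_lit 49,nat_lit 1863],[nat_lit 132,nat_lit 1471],[nat_lit 142,nat_lit 1491],[nat_lit 45,nat_lit 1886],[nat_lit 49,nat_lit 1890],[nat_lit 132,nat_lit 1491],[nat_lit 142,nat_lit 1493],[nat_lit 132,nat_lit 1510],[nat_lit 142,nat_lit 1512,nat_lit 1535,nat_lit 1552,nat_lit 1577],[nat_lit 151,nat_lit 1573],[nat_lit 45,nat_lit 1988],[nat_lit 159,nat_lit 1577],[nat_lit 45,nat_lit 2014],[nat_lit 47,nat_lit 2018],[nat_lit 142,nat_lit 1701],[nat_lit 49,nat_lit 2318,nat_lit 2319],[nat_lit 132,nat_lit 1863],[nat_lit 142,nat_lit 1864],[nat_lit 49,nat_lit 2334],[nat_lit 142,nat_lit 1890],[nat_lit 49,nat_lit 2341],[nat_lit 45,nat_lit 2347],[nat_lit 132,nat_lit 1890],[nat_lit 142,nat_lit 1892],[nat_lit 151,nat_lit 1894],[nat_lit 45,nat_lit 2363],[nat_lit 142,nat_lit 1913],[nat_lit 45,nat_lit 2391],[nat_lit 151,nat_lit 1915],[nat_lit 45,nat_lit 2424],[nat_lit 151,nat_lit 1960],[nat_lit 159,nat_lit 1963],[nat_lit 45,nat_lit 2452],[nat_lit 159,nat_lit 1987],[nat_lit 45,nat_lit 2481],[nat_lit 46,nat_lit 2509],[nat_lit 49,nat_lit 2608],[nat_lit 151,nat_lit 2136],[nat_lit 159,nat_lit 2347],[nat_lit 132,nat_lit 2319],[nat_lit 142,nat_lit 2320],[nat_lit 45,nat_lit 2886],[nat_lit 142,nat_lit 2357],[nat_lit 151,nat_lit 2359],[nat_lit 45,nat_lit 2927],[nat_lit 159,nat_lit 2362],[nat_lit 45,nat_lit 2930],[nat_lit 151,nat_lit 2390],[nat_lit 46,nat_lit 2969],[nat_lit 159,nat_lit 2393,nat_lit 2445],[nat_lit 47,nat_lit 3095],[nat_lit 49,nat_lit 3186],[nat_lit 132,nat_lit 2608],[nat_lit 45,nat_lit 3239],[nat_lit 49,nat_lit 3499],[nat_lit 142,nat_lit 2881],[nat_lit 151,nat_lit 2883,nat_lit 2886],[nat_lit 49,nat_lit 3525],[nat_lit 151,nat_lit 2923],[nat_lit 45,nat_lit 3559],[nat_lit 159,nat_lit 2926],[nat_lit 45,nat_lit 3564,nat_lit 3568],[nat_lit 46,nat_lit 3570],[nat_lit 159,nat_lit 2967],[nat_lit 45,nat_lit 3621,nat_lit 3628],[nat_lit 48,nat_lit 3764],[nat_lit 142,nat_lit 3193],[nat_lit 151,nat_lit 3505],[nat_lit 45,nat_lit 4238,nat_lit 4303,nat_lit 4310,nat_lit 4381],[nat_lit 151,nat_lit 3857],[nat_lit 159,nat_lit 4234],[nat_lit 45,nat_lit 4993],[nat_lit 46,nat_lit 4998],[nat_lit 159,nat_lit 4303],[nat_lit 45,nat_lit 5394,nat_lit 5821],[nat_lit 147,nat_lit 670],[nat_lit 333,nat_lit 300],[nat_lit 50,nat_lit 434,nat_lit 576],[nat_lit 159,nat_lit 535],[nat_lit 50,nat_lit 738,nat_lit 756],[nat_lit 49,nat_lit 763],[nat_lit 50,nat_lit 948,nat_lit 961],[nat_lit 49,nat_lit 967,nat_lit 983],[nat_lit 132,nat_lit 763],[nat_lit 50,nat_lit 1042,nat_lit 1173,nat_lit 1185],[nat_lit 49,nat_lit 1217,nat_lit 1230],[nat_lit 132,nat_lit 967,nat_lit 983],[nat_lit 142,nat_lit 994],[nat_lit 49,nat_lit 1318,nat_lit 1492],[nat_lit 50,nat_lit 1506],[nat_lit 49,nat_lit 1511],[nat_lit 50,nat_lit 1548],[nat_lit 132,nat_lit 1217,nat_lit 1230],[nat_lit 142,nat_lit 1234,nat_lit 1252],[nat_lit 151,nat_lit 1265],[nat_lit 132,nat_lit 1318],[nat_lit 50,nat_lit 1884,nat_lit 1889],[nat_lit 132,nat_lit 1492],[nat_lit 49,nat_lit 1909],[nat_lit 132,nat_lit 1511],[nat_lit 49,nat_lit 1954],[nat_lit 142,nat_lit 1553,nat_lit 1572],[nat_lit 151,nat_lit 1576],[nat_lit 45,nat_lit 2012],[nat_lit 159,nat_lit 1608],[nat_lit 142,nat_lit 1670],[nat_lit 50,nat_lit 2117],[nat_lit 49,nat_lit 2351,nat_lit 2356],[nat_lit 142,nat_lit 1893,nat_lit 1914],[nat_lit 151,nat_lit 1962,nat_lit 1985],[nat_lit 159,nat_lit 1990],[nat_lit 45,nat_lit 2516],[nat_lit 49,nat_lit 2620],[nat_lit 47,nat_lit 2915],[nat_lit 132,nat_lit 2356],[nat_lit 151,nat_lit 2361,nat_lit 2392],[nat_lit 142,nat_lit 2478],[nat_lit 45,nat_lit 3039,nat_lit 3063,nat_lit 3074],[nat_lit 46,nat_lit 3541],[nat_lit 142,nat_lit 2922],[nat_lit 45,nat_lit 3567],[nat_lit 159,nat_lit 2970],[nat_lit 45,nat_lit 3625,nat_lit 3702],[nat_lit 50,nat_lit 3849],[nat_lit 151,nat_lit 3556],[nat_lit 45,nat_lit 4387],[nat_lit 49,nat_lit 4588],[nat_lit 159,nat_lit 4299],[nat_lit 45,nat_lit 5078,nat_lit 5928],[nat_lit 51,nat_lit 290],[nat_lit 173,nat_lit 290],[nat_lit 51,nat_lit 392,nat_lit 407,nat_lit 491,nat_lit 497],[nat_lit 55,nat_lit 502],[nat_lit 51,nat_lit 528],[nat_lit 55,nat_lit 533],[nat_lit 152,nat_lit 407],[nat_lit 55,nat_lit 556],[nat_lit 51,nat_lit 630],[nat_lit 143,nat_lit 491],[nat_lit 55,nat_lit 668],[nat_lit 51,nat_lit 701],[nat_lit 143,nat_lit 533],[nat_lit 51,nat_lit 722],[nat_lit 55,nat_lit 730],[nat_lit 51,nat_lit 801,nat_lit 809,nat_lit 822,nat_lit 847,nat_lit 859,nat_lit 902],[nat_lit 55,nat_lit 937,nat_lit 1058,nat_lit 1106,nat_lit 1164],[nat_lit 51,nat_lit 3032,nat_lit 3442],[nat_lit 143,nat_lit 3032],[nat_lit 51,nat_lit 3732,nat_lit 3923,nat_lit 4134,nat_lit 4376],[nat_lit 152,nat_lit 3701],[nat_lit 143,nat_lit 3923],[nat_lit 51,nat_lit 4771,nat_lit 4889],[nat_lit 152,nat_lit 4679],[nat_lit 51,nat_lit 6340],[nat_lit 179,nat_lit 96],[nat_lit 174,nat_lit 141],[nat_lit 144,nat_lit 141],[nat_lit 59,nat_lit 212],[nat_lit 168,nat_lit 186],[nat_lit 144,nat_lit 186],[nat_lit 153,nat_lit 209],[nat_lit 161,nat_lit 255],[nat_lit 144,nat_lit 255],[nat_lit 59,nat_lit 358],[nat_lit 153,nat_lit 268],[nat_lit 59,nat_lit 379,nat_lit 421],[nat_lit 153,nat_lit 348],[nat_lit 144,nat_lit 348],[nat_lit 59,nat_lit 470],[nat_lit 153,nat_lit 356],[nat_lit 179,nat_lit 357,nat_lit 417],[nat_lit 59,nat_lit 640,nat_lit 748],[nat_lit 179,nat_lit 2261,nat_lit 2743,nat_lit 2895],[nat_lit 59,nat_lit 4257],[nat_lit 179,nat_lit 3587,nat_lit 4045],[nat_lit 134,nat_lit 4345],[nat_lit 179,nat_lit 4803],[nat_lit 144,nat_lit 5138],[nat_lit 179,nat_lit 5407],[nat_lit 161,nat_lit 5630],[nat_lit 153,nat_lit 5630],[nat_lit 144,nat_lit 6492],[nat_lit 179,nat_lit 6901,nat_lit 7274],[nat_lit 52,nat_lit 707,nat_lit 819],[nat_lit 173,nat_lit 707],[nat_lit 152,nat_lit 707],[nat_lit 55,nat_lit 1052],[nat_lit 52,nat_lit 1089],[nat_lit 55,nat_lit 1098],[nat_lit 160,nat_lit 910],[nat_lit 55,nat_lit 1175,nat_lit 1384,nat_lit 1472],[nat_lit 52,nat_lit 5584],[nat_lit 180,nat_lit 193],[nat_lit 145,nat_lit 277],[nat_lit 180,nat_lit 352],[nat_lit 154,nat_lit 390],[nat_lit 180,nat_lit 464],[nat_lit 145,nat_lit 474],[nat_lit 180,nat_lit 488],[nat_lit 62,nat_lit 702,nat_lit 848],[nat_lit 180,nat_lit 3357],[nat_lit 145,nat_lit 4063],[nat_lit 154,nat_lit 4828],[nat_lit 180,nat_lit 5503,nat_lit 6333],[nat_lit 53,nat_lit 6435],[nat_lit 181,nat_lit 126],[nat_lit 146,nat_lit 186],[nat_lit 332,nat_lit 268],[nat_lit 54,nat_lit 224,nat_lit 274,nat_lit 351,nat_lit 361,nat_lit 505,nat_lit 673,nat_lit 743,nat_lit 923,nat_lit 951],[nat_lit 173,nat_lit 923],[nat_lit 54,nat_lit 1205,nat_lit 1334,nat_lit 1343,nat_lit 1397,nat_lit 1474,nat_lit 1494,nat_lit 1606,nat_lit 1865],[nat_lit 52,nat_lit 1975],[nat_lit 54,nat_lit 2430],[nat_lit 143,nat_lit 1975],[nat_lit 54,nat_lit 2781,nat_lit 3289,nat_lit 3920,nat_lit 3971,nat_lit 4901,nat_lit 4932,nat_lit 5639],[nat_lit 143,nat_lit 4901],[nat_lit 53,nat_lit 6423],[nat_lit 54,nat_lit 7015,nat_lit 7275,nat_lit 10808,nat_lit 15496],[nat_lit 182,nat_lit 1440,nat_lit 1442,nat_lit 1523,nat_lit 1546,nat_lit 1691],[nat_lit 171,nat_lit 1829],[nat_lit 177,nat_lit 1929],[nat_lit 147,nat_lit 2161],[nat_lit 164,nat_lit 2232],[nat_lit 182,nat_lit 2242,nat_lit 2339,nat_lit 2636,nat_lit 2714,nat_lit 2784],[nat_lit 156,nat_lit 3226],[nat_lit 182,nat_lit 3315,nat_lit 3317,nat_lit 3400,nat_lit 3533],[nat_lit 147,nat_lit 3998],[nat_lit 182,nat_lit 4000,nat_lit 4267,nat_lit 4641,nat_lit 5376],[nat_lit 167,nat_lit 215],[nat_lit 55,nat_lit 338,nat_lit 512],[nat_lit 143,nat_lit 505],[nat_lit 54,nat_lit 684],[nat_lit 152,nat_lit 672],[nat_lit 55,nat_lit 4677],[nat_lit 183,nat_lit 321,nat_lit 388,nat_lit 432],[nat_lit 157,nat_lit 585],[nat_lit 178,nat_lit 761],[nat_lit 183,nat_lit 744,nat_lit 752,nat_lit 830],[nat_lit 190,nat_lit 979],[nat_lit 157,nat_lit 972],[nat_lit 183,nat_lit 955],[nat_lit 172,nat_lit 979],[nat_lit 183,nat_lit 1140],[nat_lit 192,nat_lit 1208],[nat_lit 183,nat_lit 1178],[nat_lit 148,nat_lit 1221],[nat_lit 183,nat_lit 1345],[nat_lit 178,nat_lit 1561],[nat_lit 138,nat_lit 1476],[nat_lit 183,nat_lit 1498],[nat_lit 157,nat_lit 1561],[nat_lit 183,nat_lit 1691],[nat_lit 178,nat_lit 1899],[nat_lit 183,nat_lit 1773,nat_lit 1774,nat_lit 1800,nat_lit 1895],[nat_lit 148,nat_lit 2225],[nat_lit 157,nat_lit 2227],[nat_lit 148,nat_lit 2365],[nat_lit 183,nat_lit 2670,nat_lit 2891,nat_lit 4980,nat_lit 15856],[nat_lit 56,nat_lit 532],[nat_lit 144,nat_lit 532],[nat_lit 56,nat_lit 819],[nat_lit 174,nat_lit 707],[nat_lit 153,nat_lit 707],[nat_lit 59,nat_lit 921],[nat_lit 56,nat_lit 1032,nat_lit 1050],[nat_lit 59,nat_lit 1052,nat_lit 1098],[nat_lit 161,nat_lit 910],[nat_lit 59,nat_lit 1306,nat_lit 1472],[nat_lit 56,nat_lit 6524,nat_lit 7480,nat_lit 9294],[nat_lit 184,nat_lit 198],[nat_lit 175,nat_lit 290],[nat_lit 169,nat_lit 370],[nat_lit 62,nat_lit 637],[nat_lit 184,nat_lit 8957],[nat_lit 58,nat_lit 292,nat_lit 308,nat_lit 394],[nat_lit 144,nat_lit 292],[nat_lit 58,nat_lit 485,nat_lit 499,nat_lit 515],[nat_lit 144,nat_lit 394],[nat_lit 58,nat_lit 550,nat_lit 573,nat_lit 623,nat_lit 627],[nat_lit 174,nat_lit 573],[nat_lit 144,nat_lit 627],[nat_lit 58,nat_lit 824,nat_lit 836,nat_lit 975,nat_lit 1189,nat_lit 1334,nat_lit 1397,nat_lit 1657,nat_lit 1865,nat_lit 2749],[nat_lit 134,nat_lit 2749],[nat_lit 58,nat_lit 3437],[nat_lit 179,nat_lit 3053],[nat_lit 58,nat_lit 4059],[nat_lit 57,nat_lit 4351],[nat_lit 58,nat_lit 5643,nat_lit 5994,nat_lit 6911,nat_lit 7175,nat_lit 7278,nat_lit 7448],[nat_lit 153,nat_lit 7278],[nat_lit 186,nat_lit 1829,nat_lit 1952,nat_lit 2125],[nat_lit 147,nat_lit 2285,nat_lit 2630],[nat_lit 186,nat_lit 2677,nat_lit 2907],[nat_lit 156,nat_lit 3278],[nat_lit 186,nat_lit 3402,nat_lit 4002,nat_lit 4272,nat_lit 5035,nat_lit 6218],[nat_lit 182,nat_lit 7137],[nat_lit 59,nat_lit 387],[nat_lit 58,nat_lit 521],[nat_lit 59,nat_lit 593,nat_lit 602],[nat_lit 134,nat_lit 521],[nat_lit 187,nat_lit 443,nat_lit 522,nat_lit 1068,nat_lit 1208],[nat_lit 138,nat_lit 1356],[nat_lit 187,nat_lit 1500],[nat_lit 138,nat_lit 1541],[nat_lit 183,nat_lit 1718],[nat_lit 187,nat_lit 1802],[nat_lit 148,nat_lit 1945],[nat_lit 187,nat_lit 2125,nat_lit 2209],[nat_lit 183,nat_lit 2429],[nat_lit 148,nat_lit 2630],[nat_lit 183,nat_lit 2742],[nat_lit 187,nat_lit 2935,nat_lit 3271],[nat_lit 188,nat_lit 392],[nat_lit 146,nat_lit 532],[nat_lit 176,nat_lit 707],[nat_lit 155,nat_lit 707],[nat_lit 64,nat_lit 1098],[nat_lit 163,nat_lit 910],[nat_lit 64,nat_lit 1175],[nat_lit 332,nat_lit 1163],[nat_lit 61,nat_lit 191],[nat_lit 145,nat_lit 191],[nat_lit 61,nat_lit 831,nat_lit 913,nat_lit 1091],[nat_lit 189,nat_lit 2436],[nat_lit 147,nat_lit 3026],[nat_lit 156,nat_lit 3696],[nat_lit 182,nat_lit 4454],[nat_lit 62,nat_lit 338,nat_lit 439],[nat_lit 331,nat_lit 861],[nat_lit 190,nat_lit 596,nat_lit 696],[nat_lit 183,nat_lit 778],[nat_lit 138,nat_lit 1005],[nat_lit 190,nat_lit 3948],[nat_lit 63,nat_lit 153],[nat_lit 146,nat_lit 153],[nat_lit 63,nat_lit 1397,nat_lit 1494],[nat_lit 64,nat_lit 338,nat_lit 439],[nat_lit 192,nat_lit 899,nat_lit 1005],[nat_lit 183,nat_lit 1157],[nat_lit 138,nat_lit 1461],[nat_lit 137,nat_lit 1077,nat_lit 1230,nat_lit 1360],[nat_lit 147,nat_lit 1366],[nat_lit 137,nat_lit 1430,nat_lit 1492,nat_lit 1511],[nat_lit 182,nat_lit 1572],[nat_lit 164,nat_lit 1728],[nat_lit 137,nat_lit 1710],[nat_lit 189,nat_lit 1728],[nat_lit 147,nat_lit 1722],[nat_lit 156,nat_lit 1728],[nat_lit 137,nat_lit 1755,nat_lit 1770],[nat_lit 147,nat_lit 1813],[nat_lit 182,nat_lit 1813],[nat_lit 137,nat_lit 1891],[nat_lit 147,nat_lit 1893],[nat_lit 137,nat_lit 1912],[nat_lit 147,nat_lit 1914,nat_lit 1986],[nat_lit 137,nat_lit 2085],[nat_lit 182,nat_lit 2145],[nat_lit 156,nat_lit 2148],[nat_lit 147,nat_lit 2169],[nat_lit 182,nat_lit 2162],[nat_lit 164,nat_lit 2169],[nat_lit 147,nat_lit 2204],[nat_lit 137,nat_lit 2218],[nat_lit 182,nat_lit 2220,nat_lit 2267],[nat_lit 137,nat_lit 2356],[nat_lit 147,nat_lit 2358],[nat_lit 156,nat_lit 2361],[nat_lit 147,nat_lit 2389],[nat_lit 156,nat_lit 2392,nat_lit 2479],[nat_lit 182,nat_lit 2583],[nat_lit 186,nat_lit 2661,nat_lit 2657],[nat_lit 164,nat_lit 2661],[nat_lit 182,nat_lit 2661],[nat_lit 156,nat_lit 2679],[nat_lit 137,nat_lit 2726],[nat_lit 182,nat_lit 2731],[nat_lit 147,nat_lit 2754],[nat_lit 177,nat_lit 3063],[nat_lit 147,nat_lit 2922],[nat_lit 182,nat_lit 2925,nat_lit 2928,nat_lit 2965,nat_lit 2970],[nat_lit 147,nat_lit 3253],[nat_lit 171,nat_lit 3259],[nat_lit 147,nat_lit 3330],[nat_lit 156,nat_lit 3368,nat_lit 3556],[nat_lit 182,nat_lit 3901],[nat_lit 147,nat_lit 3933],[nat_lit 182,nat_lit 4017,nat_lit 4078,nat_lit 4299],[nat_lit 177,nat_lit 5078],[nat_lit 68,nat_lit 378,nat_lit 786,nat_lit 799,nat_lit 790,nat_lit 1274,nat_lit 1295,nat_lit 1282,nat_lit 2048],[nat_lit 202,nat_lit 406,nat_lit 727],[nat_lit 206,nat_lit 729],[nat_lit 196,nat_lit 732,nat_lit 752,nat_lit 758],[nat_lit 202,nat_lit 1161],[nat_lit 198,nat_lit 1170],[nat_lit 196,nat_lit 1190,nat_lit 1206,nat_lit 1219,nat_lit 1427,nat_lit 1895,nat_lit 2257,nat_lit 2302,nat_lit 2384,nat_lit 2411,nat_lit 2459,nat_lit 3315,nat_lit 3327,nat_lit 3349,nat_lit 3383,nat_lit 3388,nat_lit 3420,nat_lit 3512,nat_lit 3569,nat_lit 3642,nat_lit 4717,nat_lit 4740,nat_lit 4758,nat_lit 4806,nat_lit 4997,nat_lit 6694],[nat_lit 4,nat_lit 754],[nat_lit 324,nat_lit 1472],[nat_lit 69,nat_lit 1296,nat_lit 2039,nat_lit 2056,nat_lit 2058,nat_lit 2066,nat_lit 3125],[nat_lit 197,nat_lit 769,nat_lit 887,nat_lit 955,nat_lit 996],[nat_lit 142,nat_lit 957],[nat_lit 203,nat_lit 1167],[nat_lit 204,nat_lit 1178],[nat_lit 196,nat_lit 1194],[nat_lit 197,nat_lit 1220,nat_lit 1784],[nat_lit 206,nat_lit 1874],[nat_lit 197,nat_lit 1896,nat_lit 3505],[nat_lit 19,nat_lit 789],[nat_lit 15,nat_lit 1021],[nat_lit 325,nat_lit 953],[nat_lit 70,nat_lit 2057,nat_lit 2067],[nat_lit 198,nat_lit 1923,nat_lit 1965,nat_lit 2226,nat_lit 2367,nat_lit 2934],[nat_lit 326,nat_lit 996,nat_lit 1408,nat_lit 3505],[nat_lit 74,nat_lit 147],[nat_lit 71,nat_lit 159],[nat_lit 75,nat_lit 172],[nat_lit 68,nat_lit 174],[nat_lit 69,nat_lit 250],[nat_lit 71,nat_lit 3136],[nat_lit 199,nat_lit 1928,nat_lit 2288,nat_lit 2299],[nat_lit 197,nat_lit 2936],[nat_lit 199,nat_lit 4992],[nat_lit 327,nat_lit 2226,nat_lit 2367],[nat_lit 72,nat_lit 1264,nat_lit 3096,nat_lit 3101,nat_lit 4540],[nat_lit 200,nat_lit 1075,nat_lit 2280,nat_lit 2805,nat_lit 2830,nat_lit 2984,nat_lit 3418,nat_lit 3447,nat_lit 3485,nat_lit 4140],[nat_lit 198,nat_lit 4251],[nat_lit 203,nat_lit 4326],[nat_lit 328,nat_lit 1896],[nat_lit 150,nat_lit 2544],[nat_lit 73,nat_lit 1290,nat_lit 1607,nat_lit 2038,nat_lit 2040,nat_lit 2049,nat_lit 3137,nat_lit 4539,nat_lit 4541,nat_lit 6170],[nat_lit 201,nat_lit 594,nat_lit 870,nat_lit 986],[nat_lit 203,nat_lit 1169],[nat_lit 201,nat_lit 1223,nat_lit 1409,nat_lit 1477,nat_lit 1561,nat_lit 1611],[nat_lit 45,nat_lit 1903],[nat_lit 199,nat_lit 1859],[nat_lit 203,nat_lit 1871],[nat_lit 206,nat_lit 1881],[nat_lit 201,nat_lit 1929,nat_lit 1969,nat_lit 2232,nat_lit 2256,nat_lit 2452],[nat_lit 45,nat_lit 2992],[nat_lit 199,nat_lit 2937],[nat_lit 201,nat_lit 2985,nat_lit 3304,nat_lit 3338,nat_lit 3382,nat_lit 3580],[nat_lit 199,nat_lit 4327],[nat_lit 201,nat_lit 4333,nat_lit 4725],[nat_lit 54,nat_lit 457],[nat_lit 329,nat_lit 575],[nat_lit 173,nat_lit 1296],[nat_lit 329,nat_lit 955,nat_lit 1408,nat_lit 2226,nat_lit 3485,nat_lit 4992],[nat_lit 74,nat_lit 3110,nat_lit 3114],[nat_lit 46,nat_lit 741],[nat_lit 202,nat_lit 897,nat_lit 991,nat_lit 1600],[nat_lit 197,nat_lit 1879],[nat_lit 202,nat_lit 1902,nat_lit 2194],[nat_lit 206,nat_lit 2878,nat_lit 2898],[nat_lit 202,nat_lit 3350,nat_lit 3709,nat_lit 4998],[nat_lit 134,nat_lit 592],[nat_lit 58,nat_lit 789],[nat_lit 174,nat_lit 777],[nat_lit 134,nat_lit 593],[nat_lit 330,nat_lit 986],[nat_lit 174,nat_lit 2049],[nat_lit 330,nat_lit 1477,nat_lit 3338],[nat_lit 174,nat_lit 5515],[nat_lit 203,nat_lit 1468],[nat_lit 47,nat_lit 1877,nat_lit 1887],[nat_lit 203,nat_lit 3589,nat_lit 4797,nat_lit 5020,nat_lit 6352],[nat_lit 175,nat_lit 455],[nat_lit 61,nat_lit 457,nat_lit 592],[nat_lit 135,nat_lit 753],[nat_lit 331,nat_lit 1120],[nat_lit 180,nat_lit 990],[nat_lit 331,nat_lit 991,nat_lit 1477,nat_lit 1600],[nat_lit 184,nat_lit 2532],[nat_lit 175,nat_lit 4052],[nat_lit 331,nat_lit 2898],[nat_lit 175,nat_lit 5833],[nat_lit 63,nat_lit 457,nat_lit 592],[nat_lit 176,nat_lit 1646],[nat_lit 185,nat_lit 1565],[nat_lit 332,nat_lit 2256,nat_lit 2452],[nat_lit 176,nat_lit 3422],[nat_lit 77,nat_lit 791,nat_lit 1293,nat_lit 1298,nat_lit 1300,nat_lit 2041,nat_lit 3118,nat_lit 3122,nat_lit 3141,nat_lit 3143,nat_lit 4522,nat_lit 4537,nat_lit 4549,nat_lit 6180,nat_lit 6181],[nat_lit 205,nat_lit 426,nat_lit 513],[nat_lit 49,nat_lit 742],[nat_lit 197,nat_lit 765],[nat_lit 205,nat_lit 871],[nat_lit 198,nat_lit 1181],[nat_lit 205,nat_lit 1213],[nat_lit 196,nat_lit 1218],[nat_lit 201,nat_lit 1254],[nat_lit 49,nat_lit 1888],[nat_lit 203,nat_lit 1880,nat_lit 1886],[nat_lit 205,nat_lit 2216,nat_lit 2319,nat_lit 3478],[nat_lit 49,nat_lit 2903,nat_lit 2913],[nat_lit 199,nat_lit 2879,nat_lit 2912],[nat_lit 197,nat_lit 2923],[nat_lit 200,nat_lit 2972],[nat_lit 199,nat_lit 3035],[nat_lit 205,nat_lit 3525],[nat_lit 199,nat_lit 4303],[nat_lit 197,nat_lit 4309,nat_lit 4380],[nat_lit 201,nat_lit 4391,nat_lit 5932],[nat_lit 177,nat_lit 455],[nat_lit 333,nat_lit 665],[nat_lit 137,nat_lit 606],[nat_lit 333,nat_lit 870],[nat_lit 137,nat_lit 789],[nat_lit 147,nat_lit 1022],[nat_lit 333,nat_lit 986],[nat_lit 182,nat_lit 1296],[nat_lit 177,nat_lit 2040],[nat_lit 333,nat_lit 1784],[nat_lit 186,nat_lit 1449],[nat_lit 189,nat_lit 1840],[nat_lit 333,nat_lit 2194,nat_lit 2232,nat_lit 2256,nat_lit 2771],[nat_lit 177,nat_lit 2462],[nat_lit 191,nat_lit 2462],[nat_lit 186,nat_lit 2944],[nat_lit 189,nat_lit 3591],[nat_lit 333,nat_lit 4998],[nat_lit 189,nat_lit 5530],[nat_lit 78,nat_lit 2050,nat_lit 2062,nat_lit 2064,nat_lit 3119,nat_lit 4528,nat_lit 4548,nat_lit 6183,nat_lit 6193],[nat_lit 50,nat_lit 1957],[nat_lit 205,nat_lit 1909],[nat_lit 197,nat_lit 1962],[nat_lit 206,nat_lit 2190,nat_lit 2198,nat_lit 3484],[nat_lit 205,nat_lit 2910],[nat_lit 206,nat_lit 3321],[nat_lit 201,nat_lit 4387,nat_lit 5940,nat_lit 6031],[nat_lit 183,nat_lit 1296],[nat_lit 178,nat_lit 2039],[nat_lit 334,nat_lit 1468],[nat_lit 178,nat_lit 3116],[nat_lit 190,nat_lit 3114],[nat_lit 334,nat_lit 2452,nat_lit 3478],[nat_lit 0,nat_lit 1296,nat_lit 1644],[nat_lit 324,nat_lit 1896],[nat_lit 0,nat_lit 2839],[nat_lit 8,nat_lit 3389],[nat_lit 0,nat_lit 4429,nat_lit 4514,nat_lit 5228],[nat_lit 6,nat_lit 5235],[nat_lit 0,nat_lit 5829,nat_lit 6349,nat_lit 6356,nat_lit 6361,nat_lit 7006,nat_lit 7011,nat_lit 7257],[nat_lit 6,nat_lit 7271,nat_lit 7274],[nat_lit 0,nat_lit 7625],[nat_lit 6,nat_lit 8013,nat_lit 8017],[nat_lit 0,nat_lit 8244],[nat_lit 6,nat_lit 8246],[nat_lit 128,nat_lit 209,nat_lit 224,nat_lit 268,nat_lit 274],[nat_lit 17,nat_lit 406],[nat_lit 128,nat_lit 305],[nat_lit 13,nat_lit 482,nat_lit 487],[nat_lit 17,nat_lit 496],[nat_lit 128,nat_lit 390],[nat_lit 16,nat_lit 552],[nat_lit 128,nat_lit 410],[nat_lit 12,nat_lit 624],[nat_lit 20,nat_lit 643],[nat_lit 128,nat_lit 484],[nat_lit 16,nat_lit 665],[nat_lit 14,nat_lit 671],[nat_lit 16,nat_lit 704],[nat_lit 20,nat_lit 706],[nat_lit 12,nat_lit 812],[nat_lit 128,nat_lit 629],[nat_lit 13,nat_lit 830],[nat_lit 128,nat_lit 653],[nat_lit 18,nat_lit 855],[nat_lit 128,nat_lit 808],[nat_lit 16,nat_lit 1049],[nat_lit 17,nat_lit 1094],[nat_lit 20,nat_lit 1096],[nat_lit 128,nat_lit 1037],[nat_lit 17,nat_lit 1330],[nat_lit 128,nat_lit 1267,nat_lit 1818,nat_lit 1832,nat_lit 1919,nat_lit 1964],[nat_lit 13,nat_lit 2665,nat_lit 2682],[nat_lit 17,nat_lit 2798],[nat_lit 16,nat_lit 2833],[nat_lit 19,nat_lit 2852],[nat_lit 18,nat_lit 2932],[nat_lit 16,nat_lit 2980],[nat_lit 128,nat_lit 2464,nat_lit 2593,nat_lit 2677],[nat_lit 20,nat_lit 3281],[nat_lit 18,nat_lit 3339],[nat_lit 128,nat_lit 2777],[nat_lit 15,nat_lit 3403,nat_lit 3538],[nat_lit 16,nat_lit 3572],[nat_lit 13,nat_lit 3895],[nat_lit 16,nat_lit 3958],[nat_lit 12,nat_lit 3985],[nat_lit 15,nat_lit 4003],[nat_lit 16,nat_lit 4035,nat_lit 4128,nat_lit 4279],[nat_lit 128,nat_lit 3696],[nat_lit 16,nat_lit 4646,nat_lit 4754],[nat_lit 17,nat_lit 4898],[nat_lit 1,nat_lit 3126,nat_lit 6689,nat_lit 7249,nat_lit 8643,nat_lit 9305],[nat_lit 6,nat_lit 10388],[nat_lit 129,nat_lit 4981,nat_lit 5230,nat_lit 5808,nat_lit 6031],[nat_lit 25,nat_lit 7012],[nat_lit 129,nat_lit 6667],[nat_lit 25,nat_lit 7954],[nat_lit 26,nat_lit 9029],[nat_lit 23,nat_lit 10153],[nat_lit 2,nat_lit 231,nat_lit 3790,nat_lit 7642],[nat_lit 1,nat_lit 8661],[nat_lit 2,nat_lit 11401],[nat_lit 7,nat_lit 12346],[nat_lit 130,nat_lit 1123,nat_lit 1999,nat_lit 2216,nat_lit 2745,nat_lit 4217,nat_lit 5093,nat_lit 5932,nat_lit 6031,nat_lit 6818],[nat_lit 33,nat_lit 7954],[nat_lit 34,nat_lit 9029],[nat_lit 31,nat_lit 10153],[nat_lit 130,nat_lit 12532,nat_lit 12547],[nat_lit 3,nat_lit 434,nat_lit 584,nat_lit 4540],[nat_lit 131,nat_lit 1508,nat_lit 1886,nat_lit 1999,nat_lit 2923],[nat_lit 150,nat_lit 3530],[nat_lit 131,nat_lit 3621,nat_lit 4928,nat_lit 5566,nat_lit 5931,nat_lit 6409,nat_lit 6412],[nat_lit 40,nat_lit 7338],[nat_lit 131,nat_lit 6823],[nat_lit 40,nat_lit 8336],[nat_lit 131,nat_lit 7412,nat_lit 7557],[nat_lit 39,nat_lit 9409],[nat_lit 131,nat_lit 8398,nat_lit 8428,nat_lit 9677,nat_lit 10767,nat_lit 11614],[nat_lit 324,nat_lit 666],[nat_lit 10,nat_lit 1741],[nat_lit 4,nat_lit 2259,nat_lit 2304,nat_lit 2386,nat_lit 2413,nat_lit 2462],[nat_lit 324,nat_lit 2319],[nat_lit 4,nat_lit 3422,nat_lit 3514,nat_lit 3571,nat_lit 3644,nat_lit 4741,nat_lit 4809,nat_lit 4999],[nat_lit 132,nat_lit 959,nat_lit 982,nat_lit 1210,nat_lit 1212,nat_lit 1213,nat_lit 1229,nat_lit 1267,nat_lit 1347,nat_lit 1477,nat_lit 1481,nat_lit 1500,nat_lit 1503,nat_lit 1508],[nat_lit 50,nat_lit 1948],[nat_lit 132,nat_lit 1545],[nat_lit 142,nat_lit 1546],[nat_lit 132,nat_lit 1549,nat_lit 1550,nat_lit 1561,nat_lit 1581,nat_lit 1599,nat_lit 1611],[nat_lit 46,nat_lit 2031],[nat_lit 47,nat_lit 2329],[nat_lit 132,nat_lit 1872,nat_lit 1876],[nat_lit 142,nat_lit 1878],[nat_lit 132,nat_lit 1886,nat_lit 1899],[nat_lit 46,nat_lit 2375],[nat_lit 50,nat_lit 2380],[nat_lit 132,nat_lit 1909,nat_lit 1929],[nat_lit 142,nat_lit 1950],[nat_lit 151,nat_lit 1951],[nat_lit 46,nat_lit 2463],[nat_lit 132,nat_lit 1988,nat_lit 1997,nat_lit 2012],[nat_lit 46,nat_lit 2511,nat_lit 2524],[nat_lit 132,nat_lit 2318],[nat_lit 46,nat_lit 2895],[nat_lit 132,nat_lit 2334,nat_lit 2335],[nat_lit 142,nat_lit 2338],[nat_lit 151,nat_lit 2339],[nat_lit 132,nat_lit 2347,nat_lit 2351,nat_lit 2363,nat_lit 2372,nat_lit 2404,nat_lit 2409,nat_lit 2412,nat_lit 2424],[nat_lit 151,nat_lit 2432],[nat_lit 132,nat_lit 2452,nat_lit 2481],[nat_lit 46,nat_lit 3070],[nat_lit 132,nat_lit 2620,nat_lit 2632,nat_lit 2879,nat_lit 2886],[nat_lit 50,nat_lit 3522],[nat_lit 142,nat_lit 2901],[nat_lit 151,nat_lit 2904],[nat_lit 132,nat_lit 2915,nat_lit 2927,nat_lit 2930],[nat_lit 46,nat_lit 3572],[nat_lit 132,nat_lit 2935,nat_lit 2937],[nat_lit 46,nat_lit 3587],[nat_lit 132,nat_lit 2983,nat_lit 2985],[nat_lit 46,nat_lit 3672],[nat_lit 159,nat_lit 3018],[nat_lit 132,nat_lit 3039,nat_lit 3063,nat_lit 3074,nat_lit 3239,nat_lit 3499,nat_lit 3511],[nat_lit 46,nat_lit 4245],[nat_lit 132,nat_lit 3518],[nat_lit 196,nat_lit 5536],[nat_lit 151,nat_lit 3530],[nat_lit 159,nat_lit 3533],[nat_lit 132,nat_lit 3541,nat_lit 3559,nat_lit 3564],[nat_lit 46,nat_lit 4312],[nat_lit 132,nat_lit 3567,nat_lit 3568],[nat_lit 46,nat_lit 4317],[nat_lit 132,nat_lit 3575],[nat_lit 46,nat_lit 4329],[nat_lit 47,nat_lit 4346],[nat_lit 132,nat_lit 3621,nat_lit 3625,nat_lit 3628,nat_lit 3643,nat_lit 3702],[nat_lit 46,nat_lit 4471,nat_lit 4506],[nat_lit 132,nat_lit 3764,nat_lit 3866,nat_lit 4238,nat_lit 4248],[nat_lit 159,nat_lit 4267],[nat_lit 132,nat_lit 4303],[nat_lit 46,nat_lit 5084],[nat_lit 132,nat_lit 4310],[nat_lit 46,nat_lit 5097,nat_lit 5104],[nat_lit 47,nat_lit 5109],[nat_lit 132,nat_lit 4381],[nat_lit 46,nat_lit 5186],[nat_lit 132,nat_lit 4387],[nat_lit 46,nat_lit 5193,nat_lit 5276],[nat_lit 132,nat_lit 4588,nat_lit 4993],[nat_lit 46,nat_lit 5830],[nat_lit 132,nat_lit 5009],[nat_lit 46,nat_lit 5845],[nat_lit 132,nat_lit 5078],[nat_lit 47,nat_lit 6049],[nat_lit 132,nat_lit 5394,nat_lit 5821],[nat_lit 46,nat_lit 6697],[nat_lit 132,nat_lit 5928],[nat_lit 47,nat_lit 7658],[nat_lit 5,nat_lit 443,nat_lit 522,nat_lit 648,nat_lit 734,nat_lit 800,nat_lit 944],[nat_lit 10,nat_lit 960],[nat_lit 5,nat_lit 1093],[nat_lit 4,nat_lit 1112],[nat_lit 5,nat_lit 1136,nat_lit 1146,nat_lit 1169,nat_lit 1180,nat_lit 1182,nat_lit 1202],[nat_lit 10,nat_lit 1214],[nat_lit 5,nat_lit 1239],[nat_lit 3,nat_lit 1329],[nat_lit 1,nat_lit 1378],[nat_lit 7,nat_lit 1389],[nat_lit 8,nat_lit 1403],[nat_lit 5,nat_lit 1404],[nat_lit 2,nat_lit 1467],[nat_lit 10,nat_lit 1484,nat_lit 1504],[nat_lit 5,nat_lit 1518],[nat_lit 3,nat_lit 1525],[nat_lit 10,nat_lit 1533],[nat_lit 324,nat_lit 1409],[nat_lit 5,nat_lit 1558],[nat_lit 7,nat_lit 1683],[nat_lit 2,nat_lit 1735],[nat_lit 7,nat_lit 1748],[nat_lit 10,nat_lit 1764],[nat_lit 5,nat_lit 1775],[nat_lit 3,nat_lit 1853],[nat_lit 7,nat_lit 1859],[nat_lit 10,nat_lit 1860],[nat_lit 1,nat_lit 1897],[nat_lit 10,nat_lit 1931],[nat_lit 5,nat_lit 1943,nat_lit 2125,nat_lit 2138],[nat_lit 1,nat_lit 2196],[nat_lit 5,nat_lit 2225],[nat_lit 10,nat_lit 2316],[nat_lit 5,nat_lit 2325,nat_lit 2365,nat_lit 2890,nat_lit 3679,nat_lit 3695,nat_lit 4119],[nat_lit 9,nat_lit 4129],[nat_lit 1,nat_lit 4452],[nat_lit 5,nat_lit 4704],[nat_lit 9,nat_lit 4755],[nat_lit 5,nat_lit 4940,nat_lit 5274,nat_lit 5293],[nat_lit 9,nat_lit 5455],[nat_lit 8,nat_lit 5676],[nat_lit 9,nat_lit 5728],[nat_lit 1,nat_lit 5772],[nat_lit 8,nat_lit 5925],[nat_lit 5,nat_lit 6029],[nat_lit 7,nat_lit 6126],[nat_lit 9,nat_lit 6393,nat_lit 6400],[nat_lit 5,nat_lit 6433],[nat_lit 1,nat_lit 6542],[nat_lit 7,nat_lit 6545],[nat_lit 5,nat_lit 6597,nat_lit 6639],[nat_lit 9,nat_lit 6760],[nat_lit 10,nat_lit 6803],[nat_lit 1,nat_lit 6815],[nat_lit 7,nat_lit 6948],[nat_lit 3,nat_lit 7195],[nat_lit 9,nat_lit 7219],[nat_lit 6,nat_lit 7302],[nat_lit 10,nat_lit 7356],[nat_lit 5,nat_lit 7462],[nat_lit 7,nat_lit 7559,nat_lit 7774],[nat_lit 2,nat_lit 7785,nat_lit 7944],[nat_lit 7,nat_lit 8197],[nat_lit 3,nat_lit 8208],[nat_lit 1,nat_lit 8298],[nat_lit 7,nat_lit 8300],[nat_lit 5,nat_lit 8351],[nat_lit 7,nat_lit 8355],[nat_lit 8,nat_lit 8807],[nat_lit 3,nat_lit 8815],[nat_lit 7,nat_lit 8827],[nat_lit 8,nat_lit 9018],[nat_lit 5,nat_lit 9088,nat_lit 9336],[nat_lit 2,nat_lit 9362],[nat_lit 8,nat_lit 9372],[nat_lit 7,nat_lit 9427],[nat_lit 4,nat_lit 9927],[nat_lit 3,nat_lit 10449],[nat_lit 7,nat_lit 11002,nat_lit 11487],[nat_lit 5,nat_lit 12699],[nat_lit 10,nat_lit 13485],[nat_lit 5,nat_lit 15929],[nat_lit 133,nat_lit 308,nat_lit 382,nat_lit 411,nat_lit 485],[nat_lit 173,nat_lit 560],[nat_lit 160,nat_lit 646],[nat_lit 167,nat_lit 674],[nat_lit 133,nat_lit 810,nat_lit 1483,nat_lit 1646,nat_lit 1749,nat_lit 1793],[nat_lit 55,nat_lit 2350],[nat_lit 133,nat_lit 2068],[nat_lit 52,nat_lit 2914],[nat_lit 133,nat_lit 3437,nat_lit 4059,nat_lit 4541],[nat_lit 55,nat_lit 5656],[nat_lit 133,nat_lit 8259,nat_lit 8263,nat_lit 9309],[nat_lit 52,nat_lit 10413,nat_lit 11428],[nat_lit 6,nat_lit 596,nat_lit 696,nat_lit 844],[nat_lit 1,nat_lit 897],[nat_lit 6,nat_lit 1029],[nat_lit 1,nat_lit 1082],[nat_lit 6,nat_lit 1452,nat_lit 1502],[nat_lit 4,nat_lit 1762],[nat_lit 1,nat_lit 1879],[nat_lit 6,nat_lit 1967,nat_lit 2113],[nat_lit 4,nat_lit 2194],[nat_lit 10,nat_lit 2211],[nat_lit 6,nat_lit 2228],[nat_lit 2,nat_lit 2315],[nat_lit 6,nat_lit 2370],[nat_lit 10,nat_lit 2615],[nat_lit 6,nat_lit 2630,nat_lit 2648],[nat_lit 2,nat_lit 2696],[nat_lit 10,nat_lit 2717],[nat_lit 6,nat_lit 2764],[nat_lit 3,nat_lit 2870],[nat_lit 10,nat_lit 2878],[nat_lit 6,nat_lit 2893],[nat_lit 1,nat_lit 3187],[nat_lit 10,nat_lit 3296,nat_lit 3491],[nat_lit 6,nat_lit 4320,nat_lit 4899],[nat_lit 9,nat_lit 5053],[nat_lit 3,nat_lit 5457],[nat_lit 6,nat_lit 5559,nat_lit 5833],[nat_lit 10,nat_lit 5899],[nat_lit 9,nat_lit 6406],[nat_lit 6,nat_lit 7051,nat_lit 7323,nat_lit 7506,nat_lit 7590],[nat_lit 9,nat_lit 7727],[nat_lit 3,nat_lit 8136],[nat_lit 6,nat_lit 8480],[nat_lit 8,nat_lit 8533],[nat_lit 10,nat_lit 8609],[nat_lit 6,nat_lit 9276,nat_lit 9431],[nat_lit 10,nat_lit 9582],[nat_lit 6,nat_lit 9950],[nat_lit 9,nat_lit 10299],[nat_lit 6,nat_lit 10519],[nat_lit 8,nat_lit 10522],[nat_lit 3,nat_lit 11016],[nat_lit 6,nat_lit 11991,nat_lit 12436],[nat_lit 8,nat_lit 12882],[nat_lit 6,nat_lit 16059],[nat_lit 134,nat_lit 209,nat_lit 268,nat_lit 308,nat_lit 356,nat_lit 375,nat_lit 410,nat_lit 421,nat_lit 468],[nat_lit 153,nat_lit 482],[nat_lit 134,nat_lit 483,nat_lit 485,nat_lit 499,nat_lit 515,nat_lit 550,nat_lit 564,nat_lit 573],[nat_lit 161,nat_lit 646],[nat_lit 134,nat_lit 681,nat_lit 707],[nat_lit 59,nat_lit 974],[nat_lit 134,nat_lit 789,nat_lit 813,nat_lit 824,nat_lit 836],[nat_lit 174,nat_lit 916],[nat_lit 134,nat_lit 975,nat_lit 1050],[nat_lit 153,nat_lit 1094],[nat_lit 134,nat_lit 1189,nat_lit 1334],[nat_lit 59,nat_lit 1752],[nat_lit 134,nat_lit 1397],[nat_lit 153,nat_lit 1516],[nat_lit 134,nat_lit 1657,nat_lit 1865,nat_lit 3437,nat_lit 4059,nat_lit 4351],[nat_lit 59,nat_lit 5656],[nat_lit 134,nat_lit 5643,nat_lit 5994],[nat_lit 59,nat_lit 7467],[nat_lit 134,nat_lit 6524,nat_lit 6911],[nat_lit 59,nat_lit 7911],[nat_lit 134,nat_lit 7175,nat_lit 7446,nat_lit 7448,nat_lit 7480],[nat_lit 57,nat_lit 8499],[nat_lit 134,nat_lit 8263,nat_lit 8268,nat_lit 9294],[nat_lit 7,nat_lit 778,nat_lit 899,nat_lit 1302,nat_lit 1371,nat_lit 1842,nat_lit 3381],[nat_lit 9,nat_lit 7039],[nat_lit 7,nat_lit 9205],[nat_lit 135,nat_lit 274,nat_lit 457],[nat_lit 184,nat_lit 837,nat_lit 496],[nat_lit 135,nat_lit 524,nat_lit 593],[nat_lit 154,nat_lit 665],[nat_lit 62,nat_lit 872],[nat_lit 135,nat_lit 831,nat_lit 913,nat_lit 1091],[nat_lit 331,nat_lit 4997],[nat_lit 8,nat_lit 1157],[nat_lit 136,nat_lit 224,nat_lit 307,nat_lit 457,nat_lit 593,nat_lit 707],[nat_lit 185,nat_lit 776],[nat_lit 155,nat_lit 916],[nat_lit 64,nat_lit 1184],[nat_lit 136,nat_lit 1397,nat_lit 1494,nat_lit 1618],[nat_lit 64,nat_lit 2530],[nat_lit 136,nat_lit 2462],[nat_lit 324,nat_lit 513,nat_lit 871],[nat_lit 9,nat_lit 996],[nat_lit 4,nat_lit 1148],[nat_lit 7,nat_lit 1236],[nat_lit 4,nat_lit 1433],[nat_lit 1,nat_lit 1454],[nat_lit 8,nat_lit 1514],[nat_lit 6,nat_lit 1573],[nat_lit 1,nat_lit 1577],[nat_lit 324,nat_lit 1254],[nat_lit 3,nat_lit 1713],[nat_lit 4,nat_lit 1814],[nat_lit 6,nat_lit 1915],[nat_lit 1,nat_lit 1918],[nat_lit 6,nat_lit 2070],[nat_lit 2,nat_lit 2088],[nat_lit 3,nat_lit 2146],[nat_lit 1,nat_lit 2149],[nat_lit 9,nat_lit 2221],[nat_lit 7,nat_lit 2390,nat_lit 2566],[nat_lit 1,nat_lit 2587],[nat_lit 3,nat_lit 2624],[nat_lit 2,nat_lit 2663],[nat_lit 4,nat_lit 2755],[nat_lit 9,nat_lit 2840,nat_lit 3058],[nat_lit 6,nat_lit 3165],[nat_lit 3,nat_lit 3209],[nat_lit 1,nat_lit 3211],[nat_lit 6,nat_lit 3256],[nat_lit 3,nat_lit 3262],[nat_lit 1,nat_lit 3369],[nat_lit 9,nat_lit 3390,nat_lit 3439],[nat_lit 8,nat_lit 3609],[nat_lit 2,nat_lit 3829],[nat_lit 1,nat_lit 3877],[nat_lit 2,nat_lit 3879],[nat_lit 4,nat_lit 3937],[nat_lit 9,nat_lit 4071],[nat_lit 1,nat_lit 4131],[nat_lit 9,nat_lit 4175],[nat_lit 7,nat_lit 4361],[nat_lit 9,nat_lit 4567],[nat_lit 3,nat_lit 4574],[nat_lit 2,nat_lit 4623],[nat_lit 3,nat_lit 4626],[nat_lit 9,nat_lit 4637],[nat_lit 6,nat_lit 4685],[nat_lit 9,nat_lit 4709,nat_lit 4791],[nat_lit 7,nat_lit 4830],[nat_lit 6,nat_lit 4901],[nat_lit 9,nat_lit 4944],[nat_lit 1,nat_lit 5059],[nat_lit 9,nat_lit 5091,nat_lit 5105,nat_lit 5194],[nat_lit 6,nat_lit 5613,nat_lit 5961,nat_lit 6050],[nat_lit 9,nat_lit 6440],[nat_lit 6,nat_lit 7375],[nat_lit 137,nat_lit 1229,nat_lit 1390,nat_lit 1414],[nat_lit 177,nat_lit 1571],[nat_lit 137,nat_lit 1508,nat_lit 1550,nat_lit 1684],[nat_lit 182,nat_lit 1812],[nat_lit 137,nat_lit 1886,nat_lit 1907,nat_lit 1938,nat_lit 2195],[nat_lit 177,nat_lit 2354],[nat_lit 137,nat_lit 2214],[nat_lit 156,nat_lit 2266],[nat_lit 186,nat_lit 2266],[nat_lit 137,nat_lit 2318],[nat_lit 182,nat_lit 2382],[nat_lit 137,nat_lit 2414,nat_lit 2721],[nat_lit 182,nat_lit 2725],[nat_lit 137,nat_lit 2745],[nat_lit 189,nat_lit 2819],[nat_lit 137,nat_lit 2879],[nat_lit 182,nat_lit 2997],[nat_lit 137,nat_lit 3322,nat_lit 3469,nat_lit 3499],[nat_lit 182,nat_lit 3501],[nat_lit 137,nat_lit 3974,nat_lit 4083,nat_lit 4109],[nat_lit 182,nat_lit 4200],[nat_lit 137,nat_lit 4217],[nat_lit 182,nat_lit 4877],[nat_lit 186,nat_lit 4965,nat_lit 5713],[nat_lit 189,nat_lit 6589],[nat_lit 137,nat_lit 11558,nat_lit 12006,nat_lit 13184,nat_lit 13649],[nat_lit 10,nat_lit 1265],[nat_lit 4,nat_lit 1453],[nat_lit 3,nat_lit 1728],[nat_lit 10,nat_lit 1985],[nat_lit 7,nat_lit 2148],[nat_lit 1,nat_lit 2169],[nat_lit 8,nat_lit 2392],[nat_lit 1,nat_lit 2478,nat_lit 2661],[nat_lit 2,nat_lit 2688],[nat_lit 1,nat_lit 2970],[nat_lit 2,nat_lit 3259],[nat_lit 1,nat_lit 3832],[nat_lit 10,nat_lit 4110,nat_lit 4945],[nat_lit 3,nat_lit 5494],[nat_lit 10,nat_lit 5946,nat_lit 6867],[nat_lit 138,nat_lit 1223,nat_lit 1447,nat_lit 1646,nat_lit 1705,nat_lit 1902,nat_lit 2258,nat_lit 2763,nat_lit 2766,nat_lit 3014,nat_lit 3219,nat_lit 3422,nat_lit 3518,nat_lit 3578],[nat_lit 157,nat_lit 3677],[nat_lit 138,nat_lit 5808],[nat_lit 128,nat_lit 6339],[nat_lit 11,nat_lit 7626],[nat_lit 16,nat_lit 8644],[nat_lit 11,nat_lit 9730],[nat_lit 17,nat_lit 9740],[nat_lit 139,nat_lit 420,nat_lit 520,nat_lit 546,nat_lit 575,nat_lit 639],[nat_lit 25,nat_lit 887,nat_lit 942],[nat_lit 26,nat_lit 955,nat_lit 1054],[nat_lit 139,nat_lit 907],[nat_lit 27,nat_lit 1178],[nat_lit 29,nat_lit 1211],[nat_lit 326,nat_lit 955],[nat_lit 25,nat_lit 1336],[nat_lit 139,nat_lit 1060],[nat_lit 26,nat_lit 1478],[nat_lit 29,nat_lit 1479],[nat_lit 326,nat_lit 1167],[nat_lit 139,nat_lit 1381],[nat_lit 29,nat_lit 1874],[nat_lit 139,nat_lit 1676,nat_lit 2029],[nat_lit 26,nat_lit 3080],[nat_lit 139,nat_lit 2979],[nat_lit 29,nat_lit 3750],[nat_lit 139,nat_lit 3264],[nat_lit 27,nat_lit 4400],[nat_lit 25,nat_lit 4401],[nat_lit 129,nat_lit 3750,nat_lit 3942],[nat_lit 139,nat_lit 3960,nat_lit 4126],[nat_lit 129,nat_lit 4400],[nat_lit 25,nat_lit 5209,nat_lit 5281],[nat_lit 28,nat_lit 5478],[nat_lit 139,nat_lit 4728],[nat_lit 27,nat_lit 5555],[nat_lit 25,nat_lit 6357,nat_lit 6403],[nat_lit 139,nat_lit 5735],[nat_lit 14,nat_lit 233],[nat_lit 128,nat_lit 7782],[nat_lit 16,nat_lit 7941],[nat_lit 140,nat_lit 2750,nat_lit 4972,nat_lit 5947,nat_lit 6824],[nat_lit 33,nat_lit 7828],[nat_lit 140,nat_lit 7795,nat_lit 10153],[nat_lit 130,nat_lit 11219],[nat_lit 140,nat_lit 13360],[nat_lit 13,nat_lit 436],[nat_lit 141,nat_lit 1911,nat_lit 2354,nat_lit 4382,nat_lit 5763,nat_lit 7333,nat_lit 7800],[nat_lit 44,nat_lit 9407],[nat_lit 141,nat_lit 8429],[nat_lit 40,nat_lit 9975],[nat_lit 141,nat_lit 12557],[nat_lit 325,nat_lit 3478],[nat_lit 20,nat_lit 3486],[nat_lit 142,nat_lit 1571,nat_lit 1911,nat_lit 1958],[nat_lit 45,nat_lit 2477],[nat_lit 142,nat_lit 2354,nat_lit 2384],[nat_lit 132,nat_lit 2442,nat_lit 2477],[nat_lit 142,nat_lit 2495,nat_lit 2524,nat_lit 2880,nat_lit 2900,nat_lit 2916,nat_lit 2917,nat_lit 2987],[nat_lit 46,nat_lit 3734],[nat_lit 142,nat_lit 3068],[nat_lit 46,nat_lit 3756],[nat_lit 47,nat_lit 3772],[nat_lit 142,nat_lit 3206,nat_lit 3501,nat_lit 3546],[nat_lit 132,nat_lit 3645],[nat_lit 142,nat_lit 3640],[nat_lit 47,nat_lit 4489],[nat_lit 142,nat_lit 3736],[nat_lit 46,nat_lit 4497],[nat_lit 142,nat_lit 4227],[nat_lit 45,nat_lit 4987],[nat_lit 142,nat_lit 4244,nat_lit 4253,nat_lit 4261],[nat_lit 45,nat_lit 5061],[nat_lit 142,nat_lit 4311,nat_lit 4314,nat_lit 4315,nat_lit 4317,nat_lit 4328],[nat_lit 159,nat_lit 4337],[nat_lit 142,nat_lit 4382,nat_lit 4388,nat_lit 4392,nat_lit 4463],[nat_lit 47,nat_lit 5306],[nat_lit 142,nat_lit 4611,nat_lit 4997],[nat_lit 46,nat_lit 5839],[nat_lit 142,nat_lit 5010],[nat_lit 132,nat_lit 5061],[nat_lit 142,nat_lit 5082],[nat_lit 132,nat_lit 5192],[nat_lit 142,nat_lit 5095],[nat_lit 46,nat_lit 5949,nat_lit 5962,nat_lit 5987],[nat_lit 142,nat_lit 5184],[nat_lit 46,nat_lit 6037],[nat_lit 142,nat_lit 5190],[nat_lit 46,nat_lit 6046,nat_lit 6256],[nat_lit 142,nat_lit 5823],[nat_lit 46,nat_lit 6705],[nat_lit 142,nat_lit 5843],[nat_lit 46,nat_lit 6720,nat_lit 6791],[nat_lit 142,nat_lit 5929],[nat_lit 46,nat_lit 6829,nat_lit 6840],[nat_lit 47,nat_lit 6960],[nat_lit 142,nat_lit 6237,nat_lit 6694],[nat_lit 46,nat_lit 7654,nat_lit 7683],[nat_lit 142,nat_lit 6819],[nat_lit 46,nat_lit 7797],[nat_lit 159,nat_lit 6829],[nat_lit 46,nat_lit 8165,nat_lit 8669,nat_lit 8844],[nat_lit 15,nat_lit 443,nat_lit 522,nat_lit 585,nat_lit 648,nat_lit 734,nat_lit 841,nat_lit 915],[nat_lit 12,nat_lit 1045],[nat_lit 15,nat_lit 1068,nat_lit 1093,nat_lit 1101],[nat_lit 17,nat_lit 1180],[nat_lit 20,nat_lit 1182],[nat_lit 15,nat_lit 1315],[nat_lit 17,nat_lit 1389],[nat_lit 20,nat_lit 1504],[nat_lit 15,nat_lit 1660,nat_lit 1683],[nat_lit 20,nat_lit 1764],[nat_lit 15,nat_lit 2262,nat_lit 3462,nat_lit 3695],[nat_lit 17,nat_lit 4195],[nat_lit 15,nat_lit 4321,nat_lit 4705,nat_lit 4799],[nat_lit 18,nat_lit 4959],[nat_lit 19,nat_lit 5116],[nat_lit 15,nat_lit 5269,nat_lit 5558],[nat_lit 17,nat_lit 5625],[nat_lit 20,nat_lit 5976],[nat_lit 19,nat_lit 6488],[nat_lit 15,nat_lit 9011],[nat_lit 17,nat_lit 10141],[nat_lit 18,nat_lit 11213],[nat_lit 143,nat_lit 433,nat_lit 518,nat_lit 560,nat_lit 646,nat_lit 674,nat_lit 832,nat_lit 1041,nat_lit 4169,nat_lit 4825],[nat_lit 16,nat_lit 596,nat_lit 696],[nat_lit 15,nat_lit 772],[nat_lit 16,nat_lit 844,nat_lit 1356,nat_lit 1502],[nat_lit 14,nat_lit 1762],[nat_lit 16,nat_lit 2113],[nat_lit 20,nat_lit 2211,nat_lit 2615],[nat_lit 19,nat_lit 5053,nat_lit 5457],[nat_lit 16,nat_lit 6120],[nat_lit 15,nat_lit 6307],[nat_lit 16,nat_lit 6486],[nat_lit 144,nat_lit 433,nat_lit 508,nat_lit 572,nat_lit 646],[nat_lit 59,nat_lit 882],[nat_lit 144,nat_lit 688,nat_lit 732,nat_lit 758],[nat_lit 134,nat_lit 842],[nat_lit 144,nat_lit 885,nat_lit 1022,nat_lit 1060,nat_lit 1074,nat_lit 1245],[nat_lit 174,nat_lit 2040],[nat_lit 144,nat_lit 1691,nat_lit 1773,nat_lit 1895,nat_lit 2080,nat_lit 4169,nat_lit 4825],[nat_lit 134,nat_lit 4936],[nat_lit 144,nat_lit 5153],[nat_lit 134,nat_lit 5655],[nat_lit 144,nat_lit 6915,nat_lit 8180,nat_lit 8497,nat_lit 9337,nat_lit 10371],[nat_lit 134,nat_lit 10423],[nat_lit 17,nat_lit 778,nat_lit 899],[nat_lit 15,nat_lit 1005],[nat_lit 145,nat_lit 700,nat_lit 863],[nat_lit 62,nat_lit 1168],[nat_lit 145,nat_lit 1069],[nat_lit 62,nat_lit 1412],[nat_lit 145,nat_lit 1177,nat_lit 1386],[nat_lit 18,nat_lit 1157],[nat_lit 146,nat_lit 1170],[nat_lit 176,nat_lit 1478],[nat_lit 332,nat_lit 1744],[nat_lit 146,nat_lit 1895],[nat_lit 19,nat_lit 513,nat_lit 642],[nat_lit 128,nat_lit 969],[nat_lit 19,nat_lit 839,nat_lit 871,nat_lit 920,nat_lit 959],[nat_lit 128,nat_lit 1231],[nat_lit 13,nat_lit 1062],[nat_lit 19,nat_lit 1095],[nat_lit 128,nat_lit 1431],[nat_lit 19,nat_lit 1181],[nat_lit 128,nat_lit 1512],[nat_lit 15,nat_lit 1229,nat_lit 1347,nat_lit 1429],[nat_lit 19,nat_lit 1503,nat_lit 1508],[nat_lit 18,nat_lit 1684],[nat_lit 19,nat_lit 1907,nat_lit 2214,nat_lit 2745,nat_lit 10808,nat_lit 10820],[nat_lit 147,nat_lit 1571,nat_lit 1911,nat_lit 1958],[nat_lit 182,nat_lit 1983],[nat_lit 147,nat_lit 2266,nat_lit 2354,nat_lit 2420,nat_lit 2748,nat_lit 2789,nat_lit 2880],[nat_lit 182,nat_lit 2920],[nat_lit 147,nat_lit 2959,nat_lit 2997],[nat_lit 177,nat_lit 3503],[nat_lit 147,nat_lit 3325,nat_lit 3329],[nat_lit 186,nat_lit 3408],[nat_lit 147,nat_lit 3501],[nat_lit 182,nat_lit 3976],[nat_lit 186,nat_lit 4016],[nat_lit 147,nat_lit 4227,nat_lit 4230],[nat_lit 189,nat_lit 4771],[nat_lit 147,nat_lit 4836],[nat_lit 191,nat_lit 5584,nat_lit 5667],[nat_lit 147,nat_lit 12892,nat_lit 14280],[nat_lit 20,nat_lit 685,nat_lit 838,nat_lit 1126,nat_lit 1227,nat_lit 1506,nat_lit 1708],[nat_lit 19,nat_lit 1909],[nat_lit 20,nat_lit 2117],[nat_lit 19,nat_lit 2143],[nat_lit 148,nat_lit 3383],[nat_lit 187,nat_lit 4100],[nat_lit 148,nat_lit 4253,nat_lit 4434],[nat_lit 190,nat_lit 4871,nat_lit 5017],[nat_lit 138,nat_lit 5709],[nat_lit 187,nat_lit 5844],[nat_lit 21,nat_lit 9976,nat_lit 11040],[nat_lit 23,nat_lit 12029],[nat_lit 25,nat_lit 12033],[nat_lit 22,nat_lit 434,nat_lit 10969],[nat_lit 25,nat_lit 11956],[nat_lit 150,nat_lit 2387,nat_lit 2920],[nat_lit 39,nat_lit 4297],[nat_lit 131,nat_lit 4297],[nat_lit 141,nat_lit 5074],[nat_lit 40,nat_lit 5924],[nat_lit 150,nat_lit 8848,nat_lit 9534],[nat_lit 23,nat_lit 11954],[nat_lit 151,nat_lit 205,nat_lit 284,nat_lit 294,nat_lit 398,nat_lit 536,nat_lit 712,nat_lit 2387,nat_lit 2442,nat_lit 2920,nat_lit 2961],[nat_lit 45,nat_lit 3615],[nat_lit 151,nat_lit 3016],[nat_lit 45,nat_lit 3699],[nat_lit 151,nat_lit 3503,nat_lit 3528,nat_lit 3548,nat_lit 3551],[nat_lit 45,nat_lit 4297,nat_lit 4368],[nat_lit 132,nat_lit 3615,nat_lit 3699],[nat_lit 151,nat_lit 3874,nat_lit 4229],[nat_lit 45,nat_lit 4990,nat_lit 5065],[nat_lit 132,nat_lit 4297,nat_lit 4368],[nat_lit 142,nat_lit 4375],[nat_lit 46,nat_lit 5178],[nat_lit 142,nat_lit 4460],[nat_lit 151,nat_lit 4983],[nat_lit 45,nat_lit 5815],[nat_lit 132,nat_lit 4990,nat_lit 5065],[nat_lit 142,nat_lit 5074],[nat_lit 46,nat_lit 5924],[nat_lit 151,nat_lit 5133],[nat_lit 46,nat_lit 6027],[nat_lit 151,nat_lit 5200],[nat_lit 46,nat_lit 6123],[nat_lit 132,nat_lit 5815],[nat_lit 142,nat_lit 5818,nat_lit 5913],[nat_lit 46,nat_lit 6812],[nat_lit 151,nat_lit 5948],[nat_lit 46,nat_lit 6901],[nat_lit 151,nat_lit 6035,nat_lit 6043],[nat_lit 142,nat_lit 6683],[nat_lit 46,nat_lit 7639,nat_lit 7644,nat_lit 7761,nat_lit 7829],[nat_lit 47,nat_lit 7893],[nat_lit 46,nat_lit 8656],[nat_lit 151,nat_lit 7650,nat_lit 7796,nat_lit 7804],[nat_lit 48,nat_lit 8959],[nat_lit 46,nat_lit 9765,nat_lit 9965],[nat_lit 139,nat_lit 761],[nat_lit 24,nat_lit 1143,nat_lit 1210,nat_lit 1223,nat_lit 1477],[nat_lit 29,nat_lit 1544],[nat_lit 24,nat_lit 1646,nat_lit 1693,nat_lit 1705],[nat_lit 139,nat_lit 1388],[nat_lit 26,nat_lit 1871],[nat_lit 24,nat_lit 2038],[nat_lit 29,nat_lit 2128,nat_lit 2332],[nat_lit 326,nat_lit 2459,nat_lit 3382],[nat_lit 24,nat_lit 5210],[nat_lit 139,nat_lit 4957],[nat_lit 24,nat_lit 6065,nat_lit 6135,nat_lit 6305],[nat_lit 26,nat_lit 7059],[nat_lit 24,nat_lit 7272],[nat_lit 27,nat_lit 8062],[nat_lit 26,nat_lit 8261],[nat_lit 24,nat_lit 12844,nat_lit 12920],[nat_lit 23,nat_lit 13609],[nat_lit 26,nat_lit 13615],[nat_lit 23,nat_lit 13675],[nat_lit 26,nat_lit 13681],[nat_lit 152,nat_lit 690,nat_lit 842,nat_lit 1070,nat_lit 1317],[nat_lit 139,nat_lit 1879,nat_lit 5894],[nat_lit 25,nat_lit 14309],[nat_lit 23,nat_lit 14798],[nat_lit 153,nat_lit 112,nat_lit 326,nat_lit 1079,nat_lit 1140,nat_lit 1362,nat_lit 1587,nat_lit 2124,nat_lit 2224,nat_lit 2577,nat_lit 6006],[nat_lit 59,nat_lit 7920],[nat_lit 153,nat_lit 7910],[nat_lit 59,nat_lit 10115],[nat_lit 26,nat_lit 2532],[nat_lit 154,nat_lit 323,nat_lit 1357,nat_lit 1498],[nat_lit 135,nat_lit 1719],[nat_lit 176,nat_lit 295],[nat_lit 155,nat_lit 294,nat_lit 323,nat_lit 2364],[nat_lit 28,nat_lit 1545,nat_lit 1949,nat_lit 2335,nat_lit 2634],[nat_lit 23,nat_lit 2711],[nat_lit 28,nat_lit 2899,nat_lit 5958],[nat_lit 29,nat_lit 6864],[nat_lit 25,nat_lit 7849],[nat_lit 28,nat_lit 12841,nat_lit 14252],[nat_lit 25,nat_lit 14762],[nat_lit 156,nat_lit 231],[nat_lit 177,nat_lit 401],[nat_lit 156,nat_lit 1983,nat_lit 2387],[nat_lit 182,nat_lit 2476],[nat_lit 156,nat_lit 2920,nat_lit 3004,nat_lit 3360,nat_lit 3503,nat_lit 3657],[nat_lit 182,nat_lit 3666],[nat_lit 156,nat_lit 3976,nat_lit 4011],[nat_lit 182,nat_lit 4067],[nat_lit 156,nat_lit 4229],[nat_lit 182,nat_lit 4231,nat_lit 4417,nat_lit 4720,nat_lit 4764,nat_lit 4986],[nat_lit 186,nat_lit 5507,nat_lit 5815],[nat_lit 156,nat_lit 13661],[nat_lit 177,nat_lit 14290],[nat_lit 326,nat_lit 2198],[nat_lit 178,nat_lit 713],[nat_lit 30,nat_lit 4373,nat_lit 4540,nat_lit 5072],[nat_lit 32,nat_lit 5175,nat_lit 5921],[nat_lit 130,nat_lit 5175,nat_lit 5921],[nat_lit 140,nat_lit 6023,nat_lit 6807],[nat_lit 33,nat_lit 7778,nat_lit 7933,nat_lit 8812],[nat_lit 158,nat_lit 434],[nat_lit 327,nat_lit 2771],[nat_lit 159,nat_lit 434,nat_lit 2963,nat_lit 3554,nat_lit 3610],[nat_lit 45,nat_lit 4374],[nat_lit 159,nat_lit 4264,nat_lit 4290,nat_lit 4292],[nat_lit 45,nat_lit 5073],[nat_lit 132,nat_lit 4374],[nat_lit 45,nat_lit 5911,nat_lit 5915],[nat_lit 132,nat_lit 5073],[nat_lit 142,nat_lit 5176],[nat_lit 132,nat_lit 5911,nat_lit 5915],[nat_lit 142,nat_lit 5922],[nat_lit 46,nat_lit 6810,nat_lit 6941],[nat_lit 142,nat_lit 6795],[nat_lit 46,nat_lit 7767,nat_lit 7783],[nat_lit 47,nat_lit 7943],[nat_lit 151,nat_lit 7759],[nat_lit 159,nat_lit 7761],[nat_lit 47,nat_lit 8825],[nat_lit 46,nat_lit 9902],[nat_lit 159,nat_lit 9765],[nat_lit 47,nat_lit 10973,nat_lit 11824],[nat_lit 32,nat_lit 2988,nat_lit 4063],[nat_lit 140,nat_lit 4063],[nat_lit 32,nat_lit 5342,nat_lit 6656,nat_lit 8815,nat_lit 8887],[nat_lit 34,nat_lit 9937,nat_lit 10015],[nat_lit 31,nat_lit 11002],[nat_lit 32,nat_lit 12919],[nat_lit 160,nat_lit 312,nat_lit 1358],[nat_lit 33,nat_lit 11991],[nat_lit 35,nat_lit 12882],[nat_lit 33,nat_lit 13680],[nat_lit 161,nat_lit 1369,nat_lit 1725,nat_lit 2005,nat_lit 2628,nat_lit 3155],[nat_lit 162,nat_lit 2151],[nat_lit 36,nat_lit 3085],[nat_lit 130,nat_lit 3085],[nat_lit 32,nat_lit 4503],[nat_lit 35,nat_lit 5206],[nat_lit 36,nat_lit 7779],[nat_lit 33,nat_lit 8816],[nat_lit 36,nat_lit 9004,nat_lit 9933],[nat_lit 32,nat_lit 9938],[nat_lit 31,nat_lit 10127,nat_lit 11001],[nat_lit 34,nat_lit 11018,nat_lit 11203],[nat_lit 33,nat_lit 12006],[nat_lit 31,nat_lit 12883],[nat_lit 36,nat_lit 13649,nat_lit 14308],[nat_lit 164,nat_lit 2963,nat_lit 3554],[nat_lit 182,nat_lit 3614],[nat_lit 164,nat_lit 14290],[nat_lit 328,nat_lit 765],[nat_lit 141,nat_lit 1027],[nat_lit 150,nat_lit 1300],[nat_lit 39,nat_lit 2072,nat_lit 4967,nat_lit 5035],[nat_lit 131,nat_lit 5035],[nat_lit 141,nat_lit 5875],[nat_lit 39,nat_lit 6815,nat_lit 7719],[nat_lit 141,nat_lit 6815],[nat_lit 131,nat_lit 7719],[nat_lit 141,nat_lit 8743],[nat_lit 39,nat_lit 10635,nat_lit 11056,nat_lit 14088],[nat_lit 167,nat_lit 1720],[nat_lit 173,nat_lit 3101],[nat_lit 167,nat_lit 5343],[nat_lit 143,nat_lit 6188],[nat_lit 40,nat_lit 7725],[nat_lit 39,nat_lit 8751],[nat_lit 40,nat_lit 10918],[nat_lit 39,nat_lit 11903],[nat_lit 168,nat_lit 3217,nat_lit 3817],[nat_lit 134,nat_lit 4563],[nat_lit 41,nat_lit 9863],[nat_lit 40,nat_lit 10932],[nat_lit 169,nat_lit 1261,nat_lit 2667],[nat_lit 170,nat_lit 1977],[nat_lit 43,nat_lit 3085],[nat_lit 131,nat_lit 3085],[nat_lit 39,nat_lit 4503],[nat_lit 42,nat_lit 5206],[nat_lit 43,nat_lit 6038,nat_lit 8339,nat_lit 10502,nat_lit 10504,nat_lit 10919],[nat_lit 131,nat_lit 10504],[nat_lit 43,nat_lit 11917],[nat_lit 171,nat_lit 4296],[nat_lit 182,nat_lit 5072],[nat_lit 44,nat_lit 12484],[nat_lit 43,nat_lit 13317],[nat_lit 45,nat_lit 1596,nat_lit 2435,nat_lit 2526,nat_lit 2907],[nat_lit 132,nat_lit 2435],[nat_lit 45,nat_lit 3537],[nat_lit 132,nat_lit 2907],[nat_lit 45,nat_lit 3684,nat_lit 3691,nat_lit 3745,nat_lit 4265,nat_lit 4272],[nat_lit 132,nat_lit 3537],[nat_lit 45,nat_lit 4321,nat_lit 4345,nat_lit 4437,nat_lit 4441],[nat_lit 132,nat_lit 3684],[nat_lit 47,nat_lit 4502],[nat_lit 45,nat_lit 5030],[nat_lit 132,nat_lit 4265],[nat_lit 45,nat_lit 5035,nat_lit 5041],[nat_lit 132,nat_lit 4272],[nat_lit 142,nat_lit 4278],[nat_lit 45,nat_lit 5054,nat_lit 5100,nat_lit 5108],[nat_lit 47,nat_lit 5115],[nat_lit 45,nat_lit 5128],[nat_lit 132,nat_lit 4345],[nat_lit 47,nat_lit 5144],[nat_lit 132,nat_lit 4437,nat_lit 4441],[nat_lit 142,nat_lit 4443],[nat_lit 45,nat_lit 5282,nat_lit 5305,nat_lit 5812,nat_lit 5863,nat_lit 5867],[nat_lit 132,nat_lit 5030],[nat_lit 45,nat_lit 5873],[nat_lit 132,nat_lit 5035,nat_lit 5041],[nat_lit 142,nat_lit 5042],[nat_lit 45,nat_lit 5937],[nat_lit 132,nat_lit 5108],[nat_lit 47,nat_lit 5955],[nat_lit 45,nat_lit 5963],[nat_lit 47,nat_lit 5965],[nat_lit 48,nat_lit 5972],[nat_lit 151,nat_lit 5128],[nat_lit 47,nat_lit 5993],[nat_lit 159,nat_lit 5144],[nat_lit 45,nat_lit 6029,nat_lit 6039],[nat_lit 142,nat_lit 5243],[nat_lit 45,nat_lit 6130],[nat_lit 47,nat_lit 6136],[nat_lit 45,nat_lit 6222,nat_lit 6677,nat_lit 6714,nat_lit 6721],[nat_lit 132,nat_lit 5867],[nat_lit 142,nat_lit 5869],[nat_lit 132,nat_lit 5873],[nat_lit 142,nat_lit 5875,nat_lit 5881],[nat_lit 45,nat_lit 6815],[nat_lit 151,nat_lit 5937],[nat_lit 45,nat_lit 6849],[nat_lit 47,nat_lit 6854],[nat_lit 45,nat_lit 6868],[nat_lit 47,nat_lit 6870],[nat_lit 142,nat_lit 5980],[nat_lit 47,nat_lit 6891],[nat_lit 45,nat_lit 6904,nat_lit 6944],[nat_lit 47,nat_lit 6948],[nat_lit 45,nat_lit 7047],[nat_lit 47,nat_lit 7054],[nat_lit 48,nat_lit 7060],[nat_lit 45,nat_lit 7179,nat_lit 7668],[nat_lit 47,nat_lit 7680,nat_lit 7686],[nat_lit 142,nat_lit 6754],[nat_lit 45,nat_lit 7755,nat_lit 7785,nat_lit 7786],[nat_lit 159,nat_lit 6832],[nat_lit 45,nat_lit 7806,nat_lit 7818],[nat_lit 47,nat_lit 7832,nat_lit 7855],[nat_lit 48,nat_lit 7878],[nat_lit 45,nat_lit 7892],[nat_lit 47,nat_lit 7898],[nat_lit 45,nat_lit 7942],[nat_lit 159,nat_lit 6948],[nat_lit 47,nat_lit 7946],[nat_lit 48,nat_lit 7950,nat_lit 8058],[nat_lit 47,nat_lit 8183],[nat_lit 45,nat_lit 8658,nat_lit 8663,nat_lit 8672],[nat_lit 47,nat_lit 8689],[nat_lit 45,nat_lit 8702],[nat_lit 151,nat_lit 7721],[nat_lit 45,nat_lit 8787,nat_lit 8824],[nat_lit 47,nat_lit 8827,nat_lit 8830],[nat_lit 45,nat_lit 8845,nat_lit 8855],[nat_lit 47,nat_lit 8857,nat_lit 8859],[nat_lit 45,nat_lit 8888],[nat_lit 47,nat_lit 8957,nat_lit 9013],[nat_lit 142,nat_lit 8058],[nat_lit 45,nat_lit 9241,nat_lit 9750],[nat_lit 47,nat_lit 9759],[nat_lit 45,nat_lit 9768],[nat_lit 47,nat_lit 9773],[nat_lit 45,nat_lit 9904],[nat_lit 47,nat_lit 9946],[nat_lit 45,nat_lit 9967],[nat_lit 47,nat_lit 9982,nat_lit 10335,nat_lit 10827],[nat_lit 45,nat_lit 10840],[nat_lit 47,nat_lit 10844],[nat_lit 45,nat_lit 10972],[nat_lit 47,nat_lit 10978],[nat_lit 45,nat_lit 11046],[nat_lit 47,nat_lit 11836,nat_lit 11965,nat_lit 12045],[nat_lit 329,nat_lit 1749],[nat_lit 173,nat_lit 2159],[nat_lit 46,nat_lit 2011],[nat_lit 142,nat_lit 2011],[nat_lit 132,nat_lit 2505],[nat_lit 46,nat_lit 3694,nat_lit 4279],[nat_lit 45,nat_lit 5051],[nat_lit 46,nat_lit 5253,nat_lit 5870],[nat_lit 132,nat_lit 5051],[nat_lit 46,nat_lit 5890,nat_lit 6099,nat_lit 6107],[nat_lit 45,nat_lit 6108],[nat_lit 46,nat_lit 6749],[nat_lit 45,nat_lit 6750],[nat_lit 46,nat_lit 6768],[nat_lit 45,nat_lit 6774],[nat_lit 46,nat_lit 7027],[nat_lit 45,nat_lit 7029,nat_lit 7036],[nat_lit 46,nat_lit 7710,nat_lit 7713],[nat_lit 45,nat_lit 7714],[nat_lit 46,nat_lit 7725],[nat_lit 45,nat_lit 7735],[nat_lit 46,nat_lit 7838],[nat_lit 45,nat_lit 8736,nat_lit 8738],[nat_lit 46,nat_lit 8746],[nat_lit 45,nat_lit 8751],[nat_lit 46,nat_lit 8894,nat_lit 8920,nat_lit 8967,nat_lit 9021,nat_lit 9261,nat_lit 9795,nat_lit 9852],[nat_lit 45,nat_lit 9855],[nat_lit 46,nat_lit 9950,nat_lit 9954,nat_lit 9984,nat_lit 10092,nat_lit 10848],[nat_lit 45,nat_lit 10922],[nat_lit 46,nat_lit 11026,nat_lit 11066,nat_lit 11371,nat_lit 11841,nat_lit 12730,nat_lit 12935],[nat_lit 58,nat_lit 742,nat_lit 2346],[nat_lit 174,nat_lit 3887],[nat_lit 134,nat_lit 4634],[nat_lit 144,nat_lit 5433],[nat_lit 47,nat_lit 4458,nat_lit 5895,nat_lit 6770,nat_lit 7038,nat_lit 7716,nat_lit 8035,nat_lit 8037,nat_lit 8737,nat_lit 8739],[nat_lit 46,nat_lit 9103],[nat_lit 47,nat_lit 9836],[nat_lit 46,nat_lit 9843],[nat_lit 47,nat_lit 9863,nat_lit 10928],[nat_lit 46,nat_lit 10932],[nat_lit 47,nat_lit 11906],[nat_lit 46,nat_lit 11915,nat_lit 12787],[nat_lit 61,nat_lit 577,nat_lit 1888],[nat_lit 48,nat_lit 7736,nat_lit 8740,nat_lit 9844,nat_lit 10907,nat_lit 10913],[nat_lit 47,nat_lit 11897],[nat_lit 48,nat_lit 12788],[nat_lit 332,nat_lit 1793],[nat_lit 49,nat_lit 2430,nat_lit 2464,nat_lit 2512,nat_lit 2897],[nat_lit 205,nat_lit 2723],[nat_lit 49,nat_lit 2946,nat_lit 2949,nat_lit 2956,nat_lit 2993],[nat_lit 132,nat_lit 2430,nat_lit 2464],[nat_lit 49,nat_lit 3053,nat_lit 3091],[nat_lit 132,nat_lit 2897],[nat_lit 49,nat_lit 3588],[nat_lit 142,nat_lit 2949],[nat_lit 132,nat_lit 2956],[nat_lit 142,nat_lit 3015],[nat_lit 49,nat_lit 3713],[nat_lit 132,nat_lit 3053],[nat_lit 49,nat_lit 3735,nat_lit 3890,nat_lit 4258],[nat_lit 142,nat_lit 3524],[nat_lit 49,nat_lit 4284,nat_lit 4347],[nat_lit 45,nat_lit 4361],[nat_lit 49,nat_lit 4407],[nat_lit 151,nat_lit 3678],[nat_lit 49,nat_lit 4452],[nat_lit 46,nat_lit 4490],[nat_lit 49,nat_lit 4503,nat_lit 4512,nat_lit 4668],[nat_lit 132,nat_lit 4258],[nat_lit 45,nat_lit 5024],[nat_lit 142,nat_lit 4361],[nat_lit 49,nat_lit 5194],[nat_lit 48,nat_lit 5206],[nat_lit 49,nat_lit 5213],[nat_lit 45,nat_lit 5241],[nat_lit 142,nat_lit 4452],[nat_lit 49,nat_lit 5298,nat_lit 5301],[nat_lit 159,nat_lit 4668],[nat_lit 49,nat_lit 5854],[nat_lit 142,nat_lit 5022],[nat_lit 49,nat_lit 5958,nat_lit 5961,nat_lit 5973,nat_lit 5998,nat_lit 6026,nat_lit 6038,nat_lit 6102,nat_lit 6128,nat_lit 6131,nat_lit 6706],[nat_lit 45,nat_lit 6735],[nat_lit 49,nat_lit 6765,nat_lit 6776,nat_lit 6813,nat_lit 6841,nat_lit 6855,nat_lit 6859],[nat_lit 45,nat_lit 6866],[nat_lit 49,nat_lit 6871,nat_lit 6892,nat_lit 6902,nat_lit 6906,nat_lit 6914,nat_lit 6945,nat_lit 6965,nat_lit 6975,nat_lit 6979,nat_lit 7028,nat_lit 7055,nat_lit 7645,nat_lit 7655,nat_lit 7685,nat_lit 7711,nat_lit 7742,nat_lit 7762,nat_lit 7792,nat_lit 7811,nat_lit 7833,nat_lit 7839,nat_lit 7858,nat_lit 7875,nat_lit 7894,nat_lit 7963,nat_lit 7967,nat_lit 7975,nat_lit 8047,nat_lit 8059,nat_lit 8657,nat_lit 8670,nat_lit 8690,nat_lit 8747,nat_lit 8763,nat_lit 8781],[nat_lit 46,nat_lit 8789],[nat_lit 49,nat_lit 8801],[nat_lit 142,nat_lit 7811],[nat_lit 49,nat_lit 8895,nat_lit 8903,nat_lit 8960,nat_lit 9016,nat_lit 9102,nat_lit 9754,nat_lit 9760,nat_lit 9766,nat_lit 9807,nat_lit 9842,nat_lit 9853,nat_lit 9910,nat_lit 9948,nat_lit 9987,nat_lit 10027,nat_lit 10061,nat_lit 10093,nat_lit 10098,nat_lit 10149,nat_lit 10213,nat_lit 10351,nat_lit 10870,nat_lit 10914,nat_lit 10933],[nat_lit 151,nat_lit 9987],[nat_lit 49,nat_lit 11027,nat_lit 11034,nat_lit 11048,nat_lit 11069],[nat_lit 45,nat_lit 11071],[nat_lit 159,nat_lit 10027],[nat_lit 49,nat_lit 11173,nat_lit 11837,nat_lit 11845,nat_lit 11907,nat_lit 11917,nat_lit 11967,nat_lit 11969,nat_lit 12016,nat_lit 12068,nat_lit 12324,nat_lit 12718,nat_lit 12731,nat_lit 12735,nat_lit 12780,nat_lit 12789,nat_lit 12799,nat_lit 12857,nat_lit 12936],[nat_lit 151,nat_lit 12068],[nat_lit 49,nat_lit 13510,nat_lit 13558,nat_lit 13560,nat_lit 13694],[nat_lit 333,nat_lit 1793,nat_lit 2190,nat_lit 2198,nat_lit 3321],[nat_lit 50,nat_lit 3598,nat_lit 3720,nat_lit 5263,nat_lit 5299,nat_lit 6051,nat_lit 6867,nat_lit 7853,nat_lit 9042,nat_lit 11386],[nat_lit 51,nat_lit 973],[nat_lit 133,nat_lit 772],[nat_lit 51,nat_lit 1134,nat_lit 1156,nat_lit 1459,nat_lit 1502,nat_lit 1564,nat_lit 1604],[nat_lit 133,nat_lit 2141],[nat_lit 51,nat_lit 1734],[nat_lit 173,nat_lit 1502],[nat_lit 152,nat_lit 1502],[nat_lit 51,nat_lit 2113],[nat_lit 173,nat_lit 1879],[nat_lit 55,nat_lit 2211],[nat_lit 160,nat_lit 1879],[nat_lit 143,nat_lit 1879],[nat_lit 51,nat_lit 2402],[nat_lit 55,nat_lit 2615],[nat_lit 51,nat_lit 2630],[nat_lit 160,nat_lit 2194],[nat_lit 55,nat_lit 2717],[nat_lit 167,nat_lit 2315],[nat_lit 55,nat_lit 2898],[nat_lit 152,nat_lit 2615],[nat_lit 143,nat_lit 2630],[nat_lit 51,nat_lit 3288],[nat_lit 55,nat_lit 3296,nat_lit 3491],[nat_lit 51,nat_lit 3578,nat_lit 4094],[nat_lit 133,nat_lit 6307,nat_lit 6409],[nat_lit 143,nat_lit 7223],[nat_lit 54,nat_lit 8323],[nat_lit 143,nat_lit 8323],[nat_lit 51,nat_lit 10108,nat_lit 10483],[nat_lit 152,nat_lit 9402],[nat_lit 133,nat_lit 9615],[nat_lit 55,nat_lit 11192],[nat_lit 143,nat_lit 10483,nat_lit 11192],[nat_lit 152,nat_lit 12193],[nat_lit 51,nat_lit 13178,nat_lit 13239],[nat_lit 179,nat_lit 879],[nat_lit 57,nat_lit 1403],[nat_lit 144,nat_lit 1403],[nat_lit 179,nat_lit 3273],[nat_lit 52,nat_lit 1243],[nat_lit 133,nat_lit 1005],[nat_lit 52,nat_lit 1439,nat_lit 1462,nat_lit 1851,nat_lit 4868],[nat_lit 133,nat_lit 10303],[nat_lit 52,nat_lit 13958],[nat_lit 55,nat_lit 14537],[nat_lit 180,nat_lit 388,nat_lit 613,nat_lit 647,nat_lit 1759,nat_lit 1898,nat_lit 3267],[nat_lit 53,nat_lit 1585],[nat_lit 133,nat_lit 1461],[nat_lit 181,nat_lit 321,nat_lit 613,nat_lit 916],[nat_lit 155,nat_lit 1180],[nat_lit 163,nat_lit 1482],[nat_lit 64,nat_lit 1881],[nat_lit 181,nat_lit 1773],[nat_lit 146,nat_lit 2225],[nat_lit 181,nat_lit 2934],[nat_lit 54,nat_lit 966],[nat_lit 167,nat_lit 966],[nat_lit 54,nat_lit 1269],[nat_lit 143,nat_lit 1269],[nat_lit 52,nat_lit 1614],[nat_lit 54,nat_lit 1904,nat_lit 2017],[nat_lit 53,nat_lit 2033],[nat_lit 54,nat_lit 2173],[nat_lit 152,nat_lit 2017,nat_lit 2033,nat_lit 2173],[nat_lit 54,nat_lit 2745],[nat_lit 173,nat_lit 2509],[nat_lit 54,nat_lit 2969],[nat_lit 143,nat_lit 2514,nat_lit 2692],[nat_lit 54,nat_lit 3322],[nat_lit 173,nat_lit 2969],[nat_lit 52,nat_lit 3481],[nat_lit 54,nat_lit 3525],[nat_lit 152,nat_lit 3097],[nat_lit 143,nat_lit 3371],[nat_lit 53,nat_lit 4212],[nat_lit 54,nat_lit 4217,nat_lit 4305,nat_lit 4848],[nat_lit 160,nat_lit 4305],[nat_lit 167,nat_lit 4848],[nat_lit 152,nat_lit 4995],[nat_lit 160,nat_lit 5428],[nat_lit 54,nat_lit 6520,nat_lit 10417,nat_lit 11448,nat_lit 12377],[nat_lit 160,nat_lit 12377],[nat_lit 152,nat_lit 13210],[nat_lit 143,nat_lit 13921],[nat_lit 182,nat_lit 3357,nat_lit 4008],[nat_lit 147,nat_lit 4760],[nat_lit 182,nat_lit 4972,nat_lit 4983],[nat_lit 177,nat_lit 5812],[nat_lit 186,nat_lit 5797],[nat_lit 182,nat_lit 12503,nat_lit 12892],[nat_lit 147,nat_lit 13336,nat_lit 13662],[nat_lit 156,nat_lit 14039],[nat_lit 177,nat_lit 14291],[nat_lit 164,nat_lit 14599],[nat_lit 182,nat_lit 14791],[nat_lit 177,nat_lit 15195],[nat_lit 152,nat_lit 437],[nat_lit 55,nat_lit 2378],[nat_lit 54,nat_lit 2954],[nat_lit 152,nat_lit 2954],[nat_lit 55,nat_lit 3619,nat_lit 3961],[nat_lit 152,nat_lit 3619],[nat_lit 183,nat_lit 2808,nat_lit 3888,nat_lit 4329],[nat_lit 157,nat_lit 5128],[nat_lit 190,nat_lit 5980],[nat_lit 192,nat_lit 6891],[nat_lit 179,nat_lit 1005],[nat_lit 56,nat_lit 899,nat_lit 1302,nat_lit 1371,nat_lit 3353,nat_lit 3589,nat_lit 5497],[nat_lit 179,nat_lit 12294],[nat_lit 57,nat_lit 1157],[nat_lit 185,nat_lit 443],[nat_lit 181,nat_lit 596],[nat_lit 185,nat_lit 800,nat_lit 1859],[nat_lit 64,nat_lit 2878],[nat_lit 58,nat_lit 513,nat_lit 642],[nat_lit 134,nat_lit 742],[nat_lit 161,nat_lit 642],[nat_lit 58,nat_lit 839],[nat_lit 168,nat_lit 739],[nat_lit 58,nat_lit 982],[nat_lit 153,nat_lit 839],[nat_lit 58,nat_lit 1137,nat_lit 1244],[nat_lit 134,nat_lit 1073],[nat_lit 58,nat_lit 1392],[nat_lit 134,nat_lit 1244],[nat_lit 144,nat_lit 1361],[nat_lit 58,nat_lit 1751],[nat_lit 153,nat_lit 1723],[nat_lit 58,nat_lit 2201],[nat_lit 179,nat_lit 1996],[nat_lit 153,nat_lit 2484],[nat_lit 144,nat_lit 2484],[nat_lit 57,nat_lit 3073],[nat_lit 330,nat_lit 4006],[nat_lit 144,nat_lit 3038],[nat_lit 58,nat_lit 4319,nat_lit 6520,nat_lit 8485,nat_lit 8982,nat_lit 9560,nat_lit 10417],[nat_lit 134,nat_lit 9560],[nat_lit 58,nat_lit 11197],[nat_lit 134,nat_lit 10417],[nat_lit 144,nat_lit 10662,nat_lit 11452],[nat_lit 153,nat_lit 11690],[nat_lit 179,nat_lit 12395],[nat_lit 59,nat_lit 685,nat_lit 838,nat_lit 1042],[nat_lit 58,nat_lit 1318],[nat_lit 134,nat_lit 1318],[nat_lit 59,nat_lit 1768],[nat_lit 144,nat_lit 1670],[nat_lit 59,nat_lit 2200],[nat_lit 58,nat_lit 2218],[nat_lit 134,nat_lit 2218],[nat_lit 144,nat_lit 2754],[nat_lit 153,nat_lit 3368],[nat_lit 59,nat_lit 13437],[nat_lit 60,nat_lit 1273],[nat_lit 135,nat_lit 1273,nat_lit 577],[nat_lit 169,nat_lit 580],[nat_lit 61,nat_lit 871],[nat_lit 169,nat_lit 871],[nat_lit 61,nat_lit 1128],[nat_lit 180,nat_lit 1062],[nat_lit 135,nat_lit 1128],[nat_lit 61,nat_lit 1481,nat_lit 1790],[nat_lit 154,nat_lit 1431],[nat_lit 145,nat_lit 1431],[nat_lit 61,nat_lit 2033],[nat_lit 145,nat_lit 1796],[nat_lit 154,nat_lit 1814],[nat_lit 145,nat_lit 2033],[nat_lit 154,nat_lit 2247],[nat_lit 162,nat_lit 2269],[nat_lit 331,nat_lit 2723],[nat_lit 162,nat_lit 2792],[nat_lit 169,nat_lit 2823],[nat_lit 162,nat_lit 3447],[nat_lit 169,nat_lit 3412],[nat_lit 162,nat_lit 4140],[nat_lit 175,nat_lit 3929,nat_lit 4655],[nat_lit 63,nat_lit 577],[nat_lit 170,nat_lit 577],[nat_lit 63,nat_lit 1510,nat_lit 1880],[nat_lit 136,nat_lit 1510],[nat_lit 63,nat_lit 2347],[nat_lit 146,nat_lit 1913],[nat_lit 63,nat_lit 2439],[nat_lit 155,nat_lit 2390],[nat_lit 63,nat_lit 3112,nat_lit 3499],[nat_lit 163,nat_lit 2967],[nat_lit 136,nat_lit 3112],[nat_lit 170,nat_lit 3620],[nat_lit 146,nat_lit 3776],[nat_lit 181,nat_lit 4380],[nat_lit 155,nat_lit 4524],[nat_lit 163,nat_lit 5324],[nat_lit 181,nat_lit 6169],[nat_lit 64,nat_lit 2336,nat_lit 2345],[nat_lit 171,nat_lit 1957],[nat_lit 65,nat_lit 3598],[nat_lit 177,nat_lit 3598],[nat_lit 182,nat_lit 4060],[nat_lit 137,nat_lit 5969],[nat_lit 182,nat_lit 5147],[nat_lit 65,nat_lit 6734,nat_lit 7024,nat_lit 8706,nat_lit 10083],[nat_lit 193,nat_lit 2215,nat_lit 2243],[nat_lit 138,nat_lit 2749,nat_lit 2786],[nat_lit 193,nat_lit 3323],[nat_lit 183,nat_lit 3362,nat_lit 3404],[nat_lit 138,nat_lit 4009],[nat_lit 187,nat_lit 4131],[nat_lit 148,nat_lit 4761],[nat_lit 183,nat_lit 5567],[nat_lit 193,nat_lit 8566],[nat_lit 138,nat_lit 9666],[nat_lit 706,nat_lit 272],[nat_lit 14,nat_lit 571],[nat_lit 68,nat_lit 1792,nat_lit 3128,nat_lit 2772,nat_lit 3127],[nat_lit 72,nat_lit 3656],[nat_lit 68,nat_lit 4523,nat_lit 4098],[nat_lit 72,nat_lit 4479],[nat_lit 68,nat_lit 4527,nat_lit 4553,nat_lit 6182,nat_lit 6195,nat_lit 6188,nat_lit 6196,nat_lit 8097,nat_lit 8102,nat_lit 8111],[nat_lit 202,nat_lit 1901,nat_lit 2524],[nat_lit 197,nat_lit 2901],[nat_lit 196,nat_lit 2916,nat_lit 3042],[nat_lit 202,nat_lit 3351],[nat_lit 196,nat_lit 3538,nat_lit 4227],[nat_lit 201,nat_lit 4230],[nat_lit 198,nat_lit 4267],[nat_lit 196,nat_lit 4311,nat_lit 4328,nat_lit 4334],[nat_lit 202,nat_lit 4730,nat_lit 4796],[nat_lit 196,nat_lit 4892],[nat_lit 202,nat_lit 5276],[nat_lit 196,nat_lit 5850,nat_lit 5933],[nat_lit 202,nat_lit 5935,nat_lit 6350],[nat_lit 196,nat_lit 6391,nat_lit 6397,nat_lit 6679],[nat_lit 202,nat_lit 6697],[nat_lit 196,nat_lit 6747,nat_lit 6795,nat_lit 6880,nat_lit 6919,nat_lit 7053,nat_lit 8230,nat_lit 8254,nat_lit 8365,nat_lit 8399,nat_lit 8466,nat_lit 8483,nat_lit 8600,nat_lit 8664,nat_lit 8675,nat_lit 8791,nat_lit 8896,nat_lit 8904,nat_lit 8942,nat_lit 8962,nat_lit 10378,nat_lit 10391,nat_lit 10517,nat_lit 10619,nat_lit 10628,nat_lit 10672,nat_lit 10843,nat_lit 10924,nat_lit 10987,nat_lit 11028,nat_lit 11117,nat_lit 11175,nat_lit 11181,nat_lit 12387,nat_lit 12497,nat_lit 12512,nat_lit 12524,nat_lit 12588,nat_lit 12629,nat_lit 12732,nat_lit 12738,nat_lit 12860,nat_lit 12901,nat_lit 12962,nat_lit 13904,nat_lit 13923,nat_lit 13931,nat_lit 14005,nat_lit 14026,nat_lit 14063,nat_lit 14082,nat_lit 14163,nat_lit 14196,nat_lit 14198,nat_lit 14322],[nat_lit 3,nat_lit 764],[nat_lit 4,nat_lit 1903,nat_lit 2903],[nat_lit 324,nat_lit 2723,nat_lit 2771,nat_lit 3350,nat_lit 4006,nat_lit 3709,nat_lit 4797],[nat_lit 4,nat_lit 6354],[nat_lit 69,nat_lit 4529,nat_lit 6166,nat_lit 6168,nat_lit 6184,nat_lit 6185,nat_lit 6189,nat_lit 8087,nat_lit 8099],[nat_lit 197,nat_lit 2339,nat_lit 2961,nat_lit 3363],[nat_lit 142,nat_lit 3531],[nat_lit 197,nat_lit 4810,nat_lit 4894,nat_lit 4983,nat_lit 5025,nat_lit 5275],[nat_lit 196,nat_lit 5816],[nat_lit 202,nat_lit 5934,nat_lit 5949,nat_lit 5979],[nat_lit 197,nat_lit 5985],[nat_lit 202,nat_lit 5987],[nat_lit 197,nat_lit 6043,nat_lit 6055,nat_lit 6349,nat_lit 6689,nat_lit 6809],[nat_lit 202,nat_lit 7691],[nat_lit 197,nat_lit 7801],[nat_lit 199,nat_lit 7804],[nat_lit 203,nat_lit 7807],[nat_lit 197,nat_lit 7816,nat_lit 7953,nat_lit 8308],[nat_lit 325,nat_lit 2524,nat_lit 3315,nat_lit 3327,nat_lit 3351,nat_lit 3383],[nat_lit 14,nat_lit 4985],[nat_lit 325,nat_lit 6350,nat_lit 6694,nat_lit 6697,nat_lit 6795],[nat_lit 70,nat_lit 244,nat_lit 4542,nat_lit 8084,nat_lit 8091,nat_lit 8094,nat_lit 8105,nat_lit 8106,nat_lit 8113,nat_lit 8114,nat_lit 10242,nat_lit 10258,nat_lit 10259,nat_lit 10263,nat_lit 10273],[nat_lit 198,nat_lit 3400,nat_lit 4072,nat_lit 4290,nat_lit 4746,nat_lit 4766,nat_lit 5811],[nat_lit 202,nat_lit 5923],[nat_lit 200,nat_lit 5986],[nat_lit 196,nat_lit 6027],[nat_lit 200,nat_lit 6056],[nat_lit 198,nat_lit 6498],[nat_lit 151,nat_lit 6900,nat_lit 6982],[nat_lit 202,nat_lit 7639,nat_lit 7690,nat_lit 7761],[nat_lit 203,nat_lit 7787],[nat_lit 202,nat_lit 7803],[nat_lit 203,nat_lit 7893,nat_lit 7973],[nat_lit 198,nat_lit 8668,nat_lit 8785,nat_lit 8843],[nat_lit 151,nat_lit 9028],[nat_lit 197,nat_lit 9765],[nat_lit 196,nat_lit 9962],[nat_lit 326,nat_lit 1427],[nat_lit 28,nat_lit 2386],[nat_lit 25,nat_lit 3114],[nat_lit 129,nat_lit 2386],[nat_lit 326,nat_lit 3349,nat_lit 3351,nat_lit 3363],[nat_lit 29,nat_lit 3778],[nat_lit 23,nat_lit 4270],[nat_lit 129,nat_lit 3644],[nat_lit 28,nat_lit 4526],[nat_lit 326,nat_lit 4983,nat_lit 6349],[nat_lit 23,nat_lit 7266],[nat_lit 326,nat_lit 8308],[nat_lit 71,nat_lit 3086,nat_lit 3722,nat_lit 3752,nat_lit 4474,nat_lit 4496,nat_lit 5279,nat_lit 8093,nat_lit 8110,nat_lit 10247,nat_lit 10248,nat_lit 12248,nat_lit 12266],[nat_lit 199,nat_lit 3290,nat_lit 4122],[nat_lit 201,nat_lit 4663],[nat_lit 199,nat_lit 4748,nat_lit 4837,nat_lit 5029,nat_lit 5064],[nat_lit 159,nat_lit 5036],[nat_lit 197,nat_lit 5922],[nat_lit 202,nat_lit 6024],[nat_lit 198,nat_lit 7782],[nat_lit 196,nat_lit 7783],[nat_lit 199,nat_lit 7885],[nat_lit 203,nat_lit 7943],[nat_lit 199,nat_lit 7986,nat_lit 9815],[nat_lit 202,nat_lit 9902],[nat_lit 203,nat_lit 9905],[nat_lit 199,nat_lit 9976],[nat_lit 159,nat_lit 11043],[nat_lit 203,nat_lit 11824],[nat_lit 202,nat_lit 12033],[nat_lit 327,nat_lit 1427],[nat_lit 130,nat_lit 2412],[nat_lit 327,nat_lit 3478,nat_lit 3363],[nat_lit 130,nat_lit 2988],[nat_lit 327,nat_lit 3400,nat_lit 4072,nat_lit 4730,nat_lit 4746,nat_lit 4766,nat_lit 4810],[nat_lit 140,nat_lit 3648],[nat_lit 327,nat_lit 4892,nat_lit 6391,nat_lit 6397],[nat_lit 31,nat_lit 7988],[nat_lit 327,nat_lit 6747,nat_lit 6809],[nat_lit 72,nat_lit 1982,nat_lit 5173,nat_lit 5903,nat_lit 7734,nat_lit 8092,nat_lit 8107,nat_lit 9440,nat_lit 10251,nat_lit 10252,nat_lit 12254,nat_lit 12255,nat_lit 13349,nat_lit 14606,nat_lit 15392],[nat_lit 200,nat_lit 1707,nat_lit 3221,nat_lit 3913,nat_lit 4619,nat_lit 4890,nat_lit 5380,nat_lit 5723],[nat_lit 196,nat_lit 5921],[nat_lit 197,nat_lit 6023],[nat_lit 200,nat_lit 6389],[nat_lit 196,nat_lit 6396],[nat_lit 200,nat_lit 6600],[nat_lit 197,nat_lit 6807],[nat_lit 200,nat_lit 6897,nat_lit 6936,nat_lit 7530,nat_lit 7561],[nat_lit 197,nat_lit 7777],[nat_lit 202,nat_lit 7778],[nat_lit 198,nat_lit 7932],[nat_lit 202,nat_lit 7933],[nat_lit 200,nat_lit 8306,nat_lit 8312,nat_lit 8314,nat_lit 8812,nat_lit 8815,nat_lit 9003],[nat_lit 203,nat_lit 9932],[nat_lit 200,nat_lit 10473,nat_lit 10525,nat_lit 10970,nat_lit 11016,nat_lit 11041,nat_lit 11507],[nat_lit 199,nat_lit 11956],[nat_lit 200,nat_lit 12852,nat_lit 12853],[nat_lit 196,nat_lit 12887],[nat_lit 200,nat_lit 12929,nat_lit 13289,nat_lit 13290],[nat_lit 196,nat_lit 14317],[nat_lit 131,nat_lit 2072],[nat_lit 40,nat_lit 3147],[nat_lit 141,nat_lit 3147],[nat_lit 328,nat_lit 5923],[nat_lit 38,nat_lit 7988],[nat_lit 73,nat_lit 4554,nat_lit 6785,nat_lit 7724,nat_lit 8081,nat_lit 8088,nat_lit 8103,nat_lit 10239,nat_lit 10243,nat_lit 10249,nat_lit 10253,nat_lit 10256,nat_lit 10260,nat_lit 10267,nat_lit 10272,nat_lit 12258,nat_lit 12794,nat_lit 13838,nat_lit 13847],[nat_lit 196,nat_lit 3023],[nat_lit 197,nat_lit 4450],[nat_lit 201,nat_lit 4799,nat_lit 4818,nat_lit 5006,nat_lit 5051,nat_lit 5167,nat_lit 5282,nat_lit 5812],[nat_lit 196,nat_lit 5873],[nat_lit 197,nat_lit 5980],[nat_lit 201,nat_lit 6334,nat_lit 6424,nat_lit 6463,nat_lit 6677,nat_lit 6707,nat_lit 6750,nat_lit 8305,nat_lit 6774],[nat_lit 45,nat_lit 7812],[nat_lit 202,nat_lit 7631],[nat_lit 198,nat_lit 7721],[nat_lit 203,nat_lit 7786,nat_lit 7806,nat_lit 7892,nat_lit 7942],[nat_lit 201,nat_lit 8252,nat_lit 8663,nat_lit 8672,nat_lit 8736,nat_lit 8824],[nat_lit 45,nat_lit 9941],[nat_lit 203,nat_lit 9909,nat_lit 9937],[nat_lit 204,nat_lit 9955],[nat_lit 201,nat_lit 9980],[nat_lit 204,nat_lit 10143],[nat_lit 201,nat_lit 10512,nat_lit 10840,nat_lit 11046],[nat_lit 45,nat_lit 12794,nat_lit 13620],[nat_lit 201,nat_lit 13675],[nat_lit 203,nat_lit 13615,nat_lit 13681],[nat_lit 329,nat_lit 2194],[nat_lit 54,nat_lit 2911],[nat_lit 329,nat_lit 2339],[nat_lit 55,nat_lit 3542],[nat_lit 329,nat_lit 3420],[nat_lit 54,nat_lit 4283],[nat_lit 329,nat_lit 4098,nat_lit 4122],[nat_lit 173,nat_lit 5520],[nat_lit 329,nat_lit 4748,nat_lit 4758,nat_lit 4796],[nat_lit 173,nat_lit 5668,nat_lit 6172],[nat_lit 329,nat_lit 5025,nat_lit 5029,nat_lit 5064,nat_lit 5276],[nat_lit 173,nat_lit 7269],[nat_lit 329,nat_lit 6498],[nat_lit 173,nat_lit 6903],[nat_lit 167,nat_lit 7107],[nat_lit 74,nat_lit 9441,nat_lit 9576,nat_lit 12253,nat_lit 14915],[nat_lit 46,nat_lit 2952],[nat_lit 202,nat_lit 4685,nat_lit 5463,nat_lit 6403,nat_lit 6705,nat_lit 6749,nat_lit 8349],[nat_lit 46,nat_lit 8820],[nat_lit 202,nat_lit 8656,nat_lit 8669,nat_lit 8967],[nat_lit 46,nat_lit 9819,nat_lit 9859],[nat_lit 201,nat_lit 9852],[nat_lit 202,nat_lit 9986,nat_lit 10092,nat_lit 10406,nat_lit 10476,nat_lit 10510,nat_lit 10848,nat_lit 11026,nat_lit 11955,nat_lit 12353,nat_lit 12372,nat_lit 12730,nat_lit 12935,nat_lit 14798],[nat_lit 134,nat_lit 3547],[nat_lit 330,nat_lit 3538],[nat_lit 134,nat_lit 4147],[nat_lit 168,nat_lit 4289],[nat_lit 134,nat_lit 5515],[nat_lit 330,nat_lit 6498,nat_lit 6689,nat_lit 6747,nat_lit 6774,nat_lit 6809,nat_lit 7892,nat_lit 8668],[nat_lit 174,nat_lit 9903],[nat_lit 330,nat_lit 8843,nat_lit 12029],[nat_lit 75,nat_lit 11571,nat_lit 11575],[nat_lit 203,nat_lit 4819,nat_lit 5144,nat_lit 6483,nat_lit 6505,nat_lit 6770,nat_lit 6854,nat_lit 6870,nat_lit 8253,nat_lit 8261,nat_lit 8418,nat_lit 8469,nat_lit 8689,nat_lit 8737,nat_lit 8739,nat_lit 8825,nat_lit 8830],[nat_lit 47,nat_lit 10146],[nat_lit 203,nat_lit 10377,nat_lit 10515],[nat_lit 47,nat_lit 11013,nat_lit 11022],[nat_lit 203,nat_lit 10827,nat_lit 10844,nat_lit 11906,nat_lit 12461,nat_lit 12490],[nat_lit 162,nat_lit 767],[nat_lit 135,nat_lit 2919],[nat_lit 169,nat_lit 3552],[nat_lit 331,nat_lit 4685,nat_lit 4746],[nat_lit 162,nat_lit 4273],[nat_lit 135,nat_lit 4320],[nat_lit 331,nat_lit 4799],[nat_lit 175,nat_lit 5649],[nat_lit 331,nat_lit 5463,nat_lit 5051,nat_lit 6334],[nat_lit 180,nat_lit 5044],[nat_lit 331,nat_lit 6391],[nat_lit 169,nat_lit 5882],[nat_lit 162,nat_lit 5885],[nat_lit 175,nat_lit 7409],[nat_lit 331,nat_lit 6697],[nat_lit 175,nat_lit 7670],[nat_lit 331,nat_lit 6750],[nat_lit 175,nat_lit 6766,nat_lit 10253,nat_lit 9178,nat_lit 9751],[nat_lit 331,nat_lit 8663,nat_lit 8672,nat_lit 8736,nat_lit 8824,nat_lit 10512,nat_lit 10092,nat_lit 10840,nat_lit 11046,nat_lit 13284],[nat_lit 175,nat_lit 13291],[nat_lit 331,nat_lit 13675],[nat_lit 76,nat_lit 13836],[nat_lit 204,nat_lit 6487,nat_lit 8449,nat_lit 8740,nat_lit 10907],[nat_lit 48,nat_lit 13565],[nat_lit 163,nat_lit 764],[nat_lit 63,nat_lit 2902],[nat_lit 136,nat_lit 2439],[nat_lit 332,nat_lit 3400],[nat_lit 170,nat_lit 3029],[nat_lit 163,nat_lit 3688],[nat_lit 181,nat_lit 4442],[nat_lit 332,nat_lit 4892,nat_lit 4894,nat_lit 5275],[nat_lit 170,nat_lit 5251],[nat_lit 163,nat_lit 5255],[nat_lit 332,nat_lit 6770],[nat_lit 176,nat_lit 7859],[nat_lit 332,nat_lit 8469,nat_lit 8739,nat_lit 12461],[nat_lit 77,nat_lit 4416,nat_lit 5288,nat_lit 6198,nat_lit 8095,nat_lit 8104,nat_lit 8108,nat_lit 9442,nat_lit 9628,nat_lit 9873,nat_lit 10250,nat_lit 10261,nat_lit 10268,nat_lit 10270,nat_lit 11572,nat_lit 11576,nat_lit 11737,nat_lit 12259,nat_lit 12261,nat_lit 12263,nat_lit 12268,nat_lit 13352,nat_lit 13832,nat_lit 13837,nat_lit 14592,nat_lit 14615,nat_lit 14909],[nat_lit 205,nat_lit 3937,nat_lit 3352,nat_lit 3355,nat_lit 3650,nat_lit 4662,nat_lit 4820,nat_lit 4896,nat_lit 5146],[nat_lit 49,nat_lit 6114],[nat_lit 201,nat_lit 5982],[nat_lit 205,nat_lit 6510,nat_lit 6776,nat_lit 6841,nat_lit 6874,nat_lit 7055],[nat_lit 49,nat_lit 7791,nat_lit 7813,nat_lit 7882,nat_lit 7940],[nat_lit 197,nat_lit 7811],[nat_lit 205,nat_lit 7875,nat_lit 7975,nat_lit 8239,nat_lit 8247,nat_lit 8350],[nat_lit 49,nat_lit 8821],[nat_lit 205,nat_lit 8419,nat_lit 8424,nat_lit 8462,nat_lit 8470],[nat_lit 49,nat_lit 9008],[nat_lit 205,nat_lit 8670,nat_lit 8763,nat_lit 8895,nat_lit 8903],[nat_lit 49,nat_lit 9860,nat_lit 9914,nat_lit 9989,nat_lit 10137],[nat_lit 205,nat_lit 9754,nat_lit 9853,nat_lit 9910],[nat_lit 198,nat_lit 9987],[nat_lit 205,nat_lit 10001,nat_lit 10154,nat_lit 10407,nat_lit 10453,nat_lit 10466,nat_lit 10477,nat_lit 10511,nat_lit 10516,nat_lit 10529,nat_lit 11001,nat_lit 11003,nat_lit 10618,nat_lit 10671],[nat_lit 49,nat_lit 11209],[nat_lit 205,nat_lit 10870,nat_lit 10914,nat_lit 11027,nat_lit 11034,nat_lit 11173],[nat_lit 49,nat_lit 11976,nat_lit 12003,nat_lit 12011,nat_lit 12040,nat_lit 12076],[nat_lit 205,nat_lit 11957,nat_lit 11961,nat_lit 11969],[nat_lit 202,nat_lit 12006],[nat_lit 205,nat_lit 12034,nat_lit 12437],[nat_lit 49,nat_lit 12855],[nat_lit 205,nat_lit 12494,nat_lit 12511],[nat_lit 49,nat_lit 12894],[nat_lit 205,nat_lit 12553,nat_lit 12731,nat_lit 12735,nat_lit 12936],[nat_lit 49,nat_lit 13566],[nat_lit 205,nat_lit 13560,nat_lit 14003,nat_lit 14004],[nat_lit 49,nat_lit 14259,nat_lit 14319],[nat_lit 202,nat_lit 14762],[nat_lit 333,nat_lit 2743,nat_lit 2772,nat_lit 3349,nat_lit 3351],[nat_lit 177,nat_lit 4108],[nat_lit 333,nat_lit 3400,nat_lit 3420,nat_lit 4098],[nat_lit 164,nat_lit 3688],[nat_lit 177,nat_lit 5650],[nat_lit 182,nat_lit 4446],[nat_lit 333,nat_lit 4894],[nat_lit 171,nat_lit 5249],[nat_lit 333,nat_lit 5275,nat_lit 5276,nat_lit 6334,nat_lit 6349],[nat_lit 177,nat_lit 7329,nat_lit 7437],[nat_lit 333,nat_lit 6498,nat_lit 6505],[nat_lit 177,nat_lit 8100],[nat_lit 333,nat_lit 6747,nat_lit 6774],[nat_lit 177,nat_lit 7840],[nat_lit 333,nat_lit 6870,nat_lit 8308,nat_lit 8349,nat_lit 8809],[nat_lit 177,nat_lit 9518],[nat_lit 333,nat_lit 8469,nat_lit 9927,nat_lit 8668],[nat_lit 177,nat_lit 9796,nat_lit 9839,nat_lit 9846,nat_lit 9903,nat_lit 9949],[nat_lit 333,nat_lit 8967],[nat_lit 171,nat_lit 8750],[nat_lit 333,nat_lit 10515,nat_lit 11000,nat_lit 11002],[nat_lit 177,nat_lit 12255,nat_lit 12266],[nat_lit 333,nat_lit 10840,nat_lit 10848],[nat_lit 177,nat_lit 11892,nat_lit 12017],[nat_lit 333,nat_lit 12461,nat_lit 12490,nat_lit 13284],[nat_lit 177,nat_lit 13836,nat_lit 13291],[nat_lit 333,nat_lit 12730,nat_lit 12935],[nat_lit 206,nat_lit 3594,nat_lit 5147,nat_lit 10496,nat_lit 12444,nat_lit 12513,nat_lit 12902],[nat_lit 178,nat_lit 4057],[nat_lit 334,nat_lit 3355],[nat_lit 178,nat_lit 5651],[nat_lit 334,nat_lit 4896],[nat_lit 178,nat_lit 9880,nat_lit 11899,nat_lit 12019,nat_lit 13344],[nat_lit 4432,nat_lit 35],[nat_lit 14,nat_lit 594],[nat_lit 325,nat_lit 594],[nat_lit 17,nat_lit 776],[nat_lit 4560,nat_lit 704],[nat_lit 6096,nat_lit 140,nat_lit 769],[nat_lit 178,nat_lit 2512],[nat_lit 157,nat_lit 2852],[nat_lit 172,nat_lit 3480],[nat_lit 0,nat_lit 1002],[nat_lit 4,nat_lit 1152],[nat_lit 5,nat_lit 1241,nat_lit 1437],[nat_lit 6,nat_lit 1459],[nat_lit 8,nat_lit 1520],[nat_lit 6,nat_lit 1583],[nat_lit 4,nat_lit 1776],[nat_lit 7,nat_lit 1851],[nat_lit 6,nat_lit 1925],[nat_lit 0,nat_lit 1983],[nat_lit 7,nat_lit 2001],[nat_lit 6,nat_lit 2229],[nat_lit 0,nat_lit 2265,nat_lit 2379,nat_lit 2387],[nat_lit 10,nat_lit 2815,nat_lit 2955],[nat_lit 0,nat_lit 2958,nat_lit 2961,nat_lit 3248,nat_lit 3360],[nat_lit 4,nat_lit 3363],[nat_lit 324,nat_lit 3363],[nat_lit 0,nat_lit 4062],[nat_lit 324,nat_lit 4810],[nat_lit 2,nat_lit 5218],[nat_lit 5,nat_lit 6634],[nat_lit 0,nat_lit 6882],[nat_lit 5,nat_lit 7444],[nat_lit 0,nat_lit 8219,nat_lit 8456,nat_lit 12698,nat_lit 12714],[nat_lit 128,nat_lit 1441,nat_lit 1477,nat_lit 1581],[nat_lit 14,nat_lit 2278],[nat_lit 128,nat_lit 1831],[nat_lit 17,nat_lit 2329],[nat_lit 20,nat_lit 2330],[nat_lit 128,nat_lit 1963],[nat_lit 16,nat_lit 2497],[nat_lit 13,nat_lit 2669,nat_lit 2676],[nat_lit 14,nat_lit 2784],[nat_lit 16,nat_lit 2836,nat_lit 2895],[nat_lit 18,nat_lit 2906],[nat_lit 128,nat_lit 2368,nat_lit 2428],[nat_lit 16,nat_lit 3018],[nat_lit 18,nat_lit 3216],[nat_lit 13,nat_lit 3225],[nat_lit 14,nat_lit 3317],[nat_lit 128,nat_lit 2763],[nat_lit 14,nat_lit 3400],[nat_lit 17,nat_lit 3467],[nat_lit 12,nat_lit 3519],[nat_lit 16,nat_lit 3533,nat_lit 3584,nat_lit 3677,nat_lit 3886],[nat_lit 128,nat_lit 3219],[nat_lit 12,nat_lit 3893],[nat_lit 14,nat_lit 4000],[nat_lit 16,nat_lit 4095],[nat_lit 18,nat_lit 4199],[nat_lit 128,nat_lit 3469],[nat_lit 17,nat_lit 4267],[nat_lit 18,nat_lit 4585],[nat_lit 17,nat_lit 4633],[nat_lit 128,nat_lit 3904],[nat_lit 13,nat_lit 4643],[nat_lit 14,nat_lit 4746],[nat_lit 12,nat_lit 5034],[nat_lit 128,nat_lit 4436],[nat_lit 13,nat_lit 5372,nat_lit 5376],[nat_lit 18,nat_lit 5440],[nat_lit 128,nat_lit 4878,nat_lit 4886],[nat_lit 18,nat_lit 5860],[nat_lit 13,nat_lit 5872],[nat_lit 128,nat_lit 5161],[nat_lit 18,nat_lit 6375],[nat_lit 128,nat_lit 5777],[nat_lit 17,nat_lit 6737],[nat_lit 128,nat_lit 5905],[nat_lit 19,nat_lit 6926],[nat_lit 17,nat_lit 7284],[nat_lit 19,nat_lit 7576],[nat_lit 128,nat_lit 6640],[nat_lit 19,nat_lit 7751],[nat_lit 128,nat_lit 6944,nat_lit 6975],[nat_lit 16,nat_lit 8274],[nat_lit 18,nat_lit 8399],[nat_lit 128,nat_lit 7726],[nat_lit 20,nat_lit 8778],[nat_lit 128,nat_lit 7786],[nat_lit 16,nat_lit 9492],[nat_lit 128,nat_lit 8752],[nat_lit 15,nat_lit 9866],[nat_lit 17,nat_lit 9953],[nat_lit 13,nat_lit 10343],[nat_lit 20,nat_lit 10936],[nat_lit 18,nat_lit 11032],[nat_lit 128,nat_lit 10143],[nat_lit 17,nat_lit 11379],[nat_lit 324,nat_lit 244],[nat_lit 1,nat_lit 327],[nat_lit 8,nat_lit 401],[nat_lit 4,nat_lit 541],[nat_lit 10,nat_lit 717],[nat_lit 5,nat_lit 1458,nat_lit 1733],[nat_lit 1,nat_lit 1823],[nat_lit 3,nat_lit 2155],[nat_lit 1,nat_lit 2476],[nat_lit 6,nat_lit 2671],[nat_lit 1,nat_lit 2963,nat_lit 3610,nat_lit 3921,nat_lit 4067,nat_lit 4369,nat_lit 4827],[nat_lit 10,nat_lit 4831],[nat_lit 1,nat_lit 7866],[nat_lit 10,nat_lit 8930],[nat_lit 4,nat_lit 10155],[nat_lit 139,nat_lit 1828],[nat_lit 129,nat_lit 1143,nat_lit 1223],[nat_lit 139,nat_lit 2160],[nat_lit 129,nat_lit 1545,nat_lit 1646,nat_lit 1705,nat_lit 1761,nat_lit 1949],[nat_lit 25,nat_lit 2743],[nat_lit 129,nat_lit 2331,nat_lit 2634,nat_lit 2711,nat_lit 2899,nat_lit 4526,nat_lit 6065],[nat_lit 26,nat_lit 7998],[nat_lit 129,nat_lit 8062,nat_lit 8261],[nat_lit 25,nat_lit 10414],[nat_lit 129,nat_lit 12841,nat_lit 14252,nat_lit 14762],[nat_lit 2,nat_lit 587,nat_lit 771,nat_lit 995,nat_lit 2176],[nat_lit 6,nat_lit 2695],[nat_lit 2,nat_lit 3614,nat_lit 5168],[nat_lit 130,nat_lit 4828],[nat_lit 33,nat_lit 6523],[nat_lit 34,nat_lit 7482],[nat_lit 130,nat_lit 6656],[nat_lit 35,nat_lit 8499],[nat_lit 33,nat_lit 8622],[nat_lit 32,nat_lit 9712],[nat_lit 130,nat_lit 13649],[nat_lit 5,nat_lit 3271],[nat_lit 6,nat_lit 3948],[nat_lit 3,nat_lit 4373],[nat_lit 7,nat_lit 4699],[nat_lit 5,nat_lit 5637],[nat_lit 3,nat_lit 6072],[nat_lit 131,nat_lit 6038,nat_lit 10502,nat_lit 11056,nat_lit 11903,nat_lit 11917],[nat_lit 41,nat_lit 12951,nat_lit 13556],[nat_lit 40,nat_lit 13711,nat_lit 14193],[nat_lit 131,nat_lit 14088],[nat_lit 40,nat_lit 15069],[nat_lit 6,nat_lit 2377],[nat_lit 324,nat_lit 3937],[nat_lit 4,nat_lit 3947],[nat_lit 7,nat_lit 4350],[nat_lit 9,nat_lit 4414],[nat_lit 324,nat_lit 4685],[nat_lit 6,nat_lit 4698],[nat_lit 8,nat_lit 5251],[nat_lit 4,nat_lit 6681],[nat_lit 7,nat_lit 6757],[nat_lit 324,nat_lit 6424],[nat_lit 4,nat_lit 6894,nat_lit 6920],[nat_lit 7,nat_lit 7270],[nat_lit 4,nat_lit 8232,nat_lit 8401,nat_lit 8601,nat_lit 8665,nat_lit 8677,nat_lit 8795,nat_lit 8899,nat_lit 8905,nat_lit 8944,nat_lit 8964,nat_lit 10394,nat_lit 10629,nat_lit 10927,nat_lit 10990,nat_lit 11030,nat_lit 11118,nat_lit 11176,nat_lit 12388,nat_lit 12515,nat_lit 12525,nat_lit 12631,nat_lit 12862,nat_lit 12903,nat_lit 12963,nat_lit 13925,nat_lit 13932,nat_lit 14066,nat_lit 14197,nat_lit 14200],[nat_lit 196,nat_lit 3270],[nat_lit 132,nat_lit 3693,nat_lit 4512,nat_lit 5024,nat_lit 5213,nat_lit 5241,nat_lit 5301,nat_lit 5305,nat_lit 5812,nat_lit 5854],[nat_lit 46,nat_lit 6739],[nat_lit 132,nat_lit 5963,nat_lit 6038],[nat_lit 46,nat_lit 7025],[nat_lit 132,nat_lit 6128],[nat_lit 47,nat_lit 7070],[nat_lit 132,nat_lit 6677,nat_lit 6680,nat_lit 6706,nat_lit 6735,nat_lit 6755,nat_lit 6766,nat_lit 6774,nat_lit 6808,nat_lit 6813,nat_lit 6841,nat_lit 6849,nat_lit 6855,nat_lit 6859,nat_lit 6866],[nat_lit 47,nat_lit 7856],[nat_lit 132,nat_lit 6871,nat_lit 6892,nat_lit 6902,nat_lit 6906,nat_lit 6914,nat_lit 6945,nat_lit 6965,nat_lit 6975,nat_lit 7028,nat_lit 7036,nat_lit 7047],[nat_lit 48,nat_lit 8071],[nat_lit 46,nat_lit 8648],[nat_lit 196,nat_lit 9781],[nat_lit 132,nat_lit 7680,nat_lit 7685],[nat_lit 46,nat_lit 8721],[nat_lit 132,nat_lit 7735],[nat_lit 47,nat_lit 8767],[nat_lit 132,nat_lit 7762,nat_lit 7792,nat_lit 7811,nat_lit 7818],[nat_lit 47,nat_lit 8892],[nat_lit 132,nat_lit 7833,nat_lit 7839],[nat_lit 48,nat_lit 8923],[nat_lit 132,nat_lit 7875,nat_lit 7942],[nat_lit 50,nat_lit 9024],[nat_lit 132,nat_lit 7963],[nat_lit 47,nat_lit 9108],[nat_lit 132,nat_lit 8047],[nat_lit 47,nat_lit 9116],[nat_lit 45,nat_lit 9744],[nat_lit 132,nat_lit 8657,nat_lit 8672,nat_lit 8690,nat_lit 8747],[nat_lit 47,nat_lit 9875],[nat_lit 46,nat_lit 9885],[nat_lit 132,nat_lit 8781,nat_lit 8787,nat_lit 8789],[nat_lit 151,nat_lit 8892],[nat_lit 132,nat_lit 8845,nat_lit 8870],[nat_lit 47,nat_lit 10003],[nat_lit 132,nat_lit 8888],[nat_lit 48,nat_lit 10023],[nat_lit 132,nat_lit 8895,nat_lit 8903,nat_lit 8943,nat_lit 8960,nat_lit 9102],[nat_lit 46,nat_lit 10221],[nat_lit 132,nat_lit 9754,nat_lit 9760,nat_lit 9766,nat_lit 9807,nat_lit 9842],[nat_lit 46,nat_lit 10943],[nat_lit 48,nat_lit 10954],[nat_lit 47,nat_lit 10982],[nat_lit 132,nat_lit 9910,nat_lit 9948],[nat_lit 48,nat_lit 11032],[nat_lit 47,nat_lit 11049],[nat_lit 132,nat_lit 9987],[nat_lit 46,nat_lit 11092],[nat_lit 196,nat_lit 12117],[nat_lit 132,nat_lit 10061,nat_lit 10093,nat_lit 10098,nat_lit 10213,nat_lit 10929,nat_lit 10933,nat_lit 10985,nat_lit 10988,nat_lit 11027,nat_lit 11034,nat_lit 11048],[nat_lit 46,nat_lit 12049],[nat_lit 132,nat_lit 11069,nat_lit 11071,nat_lit 11074,nat_lit 11111,nat_lit 11173,nat_lit 11837,nat_lit 11845,nat_lit 11917,nat_lit 11969],[nat_lit 196,nat_lit 12881],[nat_lit 132,nat_lit 12016],[nat_lit 48,nat_lit 12940],[nat_lit 196,nat_lit 13728],[nat_lit 132,nat_lit 12324,nat_lit 12718,nat_lit 12731,nat_lit 12780,nat_lit 12789,nat_lit 12799,nat_lit 12849,nat_lit 12857,nat_lit 12861,nat_lit 12893,nat_lit 12936],[nat_lit 159,nat_lit 12940],[nat_lit 132,nat_lit 12960,nat_lit 13510,nat_lit 13558,nat_lit 13560,nat_lit 13656,nat_lit 13694,nat_lit 14199,nat_lit 14813],[nat_lit 5,nat_lit 2467,nat_lit 2526],[nat_lit 10,nat_lit 3102],[nat_lit 5,nat_lit 3521],[nat_lit 7,nat_lit 3768],[nat_lit 5,nat_lit 4063],[nat_lit 8,nat_lit 4519],[nat_lit 5,nat_lit 4760,nat_lit 5054,nat_lit 5128],[nat_lit 324,nat_lit 4818],[nat_lit 4,nat_lit 5563,nat_lit 5630],[nat_lit 5,nat_lit 5685,nat_lit 5705,nat_lit 5797,nat_lit 5900,nat_lit 5937],[nat_lit 324,nat_lit 6463],[nat_lit 1,nat_lit 5980],[nat_lit 3,nat_lit 6106,nat_lit 6222],[nat_lit 2,nat_lit 6365],[nat_lit 4,nat_lit 6447],[nat_lit 7,nat_lit 6559],[nat_lit 324,nat_lit 5282],[nat_lit 6,nat_lit 6657],[nat_lit 7,nat_lit 6835],[nat_lit 6,nat_lit 7142],[nat_lit 1,nat_lit 7276],[nat_lit 10,nat_lit 7374],[nat_lit 1,nat_lit 7383],[nat_lit 7,nat_lit 7384],[nat_lit 5,nat_lit 7657],[nat_lit 3,nat_lit 7724],[nat_lit 4,nat_lit 8307],[nat_lit 1,nat_lit 8378],[nat_lit 2,nat_lit 8385],[nat_lit 7,nat_lit 9467],[nat_lit 3,nat_lit 9471],[nat_lit 2,nat_lit 10333],[nat_lit 7,nat_lit 11370],[nat_lit 5,nat_lit 13306],[nat_lit 7,nat_lit 14014],[nat_lit 5,nat_lit 14483,nat_lit 15332],[nat_lit 133,nat_lit 1988,nat_lit 1999,nat_lit 2150,nat_lit 2397],[nat_lit 152,nat_lit 2497],[nat_lit 133,nat_lit 2659,nat_lit 2818,nat_lit 2968],[nat_lit 329,nat_lit 4126],[nat_lit 133,nat_lit 3061,nat_lit 3063],[nat_lit 54,nat_lit 3932],[nat_lit 133,nat_lit 3260,nat_lit 3607,nat_lit 3615],[nat_lit 54,nat_lit 4384],[nat_lit 133,nat_lit 3625,nat_lit 4080],[nat_lit 55,nat_lit 5163],[nat_lit 133,nat_lit 4368,nat_lit 4374],[nat_lit 152,nat_lit 4384],[nat_lit 133,nat_lit 4678,nat_lit 4833],[nat_lit 55,nat_lit 5680],[nat_lit 133,nat_lit 5175,nat_lit 5426,nat_lit 5443,nat_lit 6475,nat_lit 6866],[nat_lit 173,nat_lit 7852],[nat_lit 55,nat_lit 8918],[nat_lit 133,nat_lit 8379],[nat_lit 54,nat_lit 9498],[nat_lit 160,nat_lit 8435],[nat_lit 52,nat_lit 10595,nat_lit 10641],[nat_lit 55,nat_lit 11639],[nat_lit 3,nat_lit 2953],[nat_lit 6,nat_lit 5319],[nat_lit 324,nat_lit 5051],[nat_lit 6,nat_lit 6762,nat_lit 7519,nat_lit 7814,nat_lit 8392],[nat_lit 8,nat_lit 8871],[nat_lit 10,nat_lit 9973],[nat_lit 6,nat_lit 10560],[nat_lit 8,nat_lit 11602],[nat_lit 6,nat_lit 12323,nat_lit 14581,nat_lit 15616],[nat_lit 3,nat_lit 15829],[nat_lit 4,nat_lit 15980],[nat_lit 134,nat_lit 982,nat_lit 1137],[nat_lit 144,nat_lit 1442],[nat_lit 153,nat_lit 1828],[nat_lit 134,nat_lit 2163,nat_lit 3072,nat_lit 3939,nat_lit 3353,nat_lit 3707],[nat_lit 153,nat_lit 3746],[nat_lit 134,nat_lit 4319],[nat_lit 59,nat_lit 5960],[nat_lit 174,nat_lit 8092],[nat_lit 56,nat_lit 8258],[nat_lit 134,nat_lit 11197],[nat_lit 7,nat_lit 5999,nat_lit 6164,nat_lit 6877,nat_lit 7332],[nat_lit 135,nat_lit 1481,nat_lit 1790],[nat_lit 145,nat_lit 2241],[nat_lit 135,nat_lit 2528],[nat_lit 62,nat_lit 3769],[nat_lit 135,nat_lit 6681,nat_lit 7316],[nat_lit 8,nat_lit 8332],[nat_lit 136,nat_lit 2345,nat_lit 2347,nat_lit 2763,nat_lit 2903,nat_lit 3499],[nat_lit 146,nat_lit 3532],[nat_lit 136,nat_lit 3575],[nat_lit 155,nat_lit 4270],[nat_lit 185,nat_lit 4328],[nat_lit 332,nat_lit 4227],[nat_lit 163,nat_lit 5039],[nat_lit 136,nat_lit 5182,nat_lit 7086],[nat_lit 324,nat_lit 3355],[nat_lit 9,nat_lit 3653,nat_lit 3678,nat_lit 3725,nat_lit 3735,nat_lit 4172],[nat_lit 8,nat_lit 4260],[nat_lit 9,nat_lit 4349],[nat_lit 1,nat_lit 4435],[nat_lit 9,nat_lit 4488],[nat_lit 6,nat_lit 4490],[nat_lit 4,nat_lit 4739],[nat_lit 9,nat_lit 4906],[nat_lit 6,nat_lit 4942],[nat_lit 7,nat_lit 5023],[nat_lit 9,nat_lit 5076,nat_lit 5165],[nat_lit 1,nat_lit 5533],[nat_lit 8,nat_lit 5678],[nat_lit 1,nat_lit 5858],[nat_lit 6,nat_lit 5926],[nat_lit 9,nat_lit 6002,nat_lit 6026,nat_lit 6087,nat_lit 6341,nat_lit 6520],[nat_lit 7,nat_lit 6548],[nat_lit 9,nat_lit 6686,nat_lit 6691],[nat_lit 3,nat_lit 6938],[nat_lit 6,nat_lit 7017],[nat_lit 9,nat_lit 7339,nat_lit 7350],[nat_lit 6,nat_lit 7492],[nat_lit 8,nat_lit 7507],[nat_lit 6,nat_lit 7641],[nat_lit 9,nat_lit 7779,nat_lit 7918],[nat_lit 4,nat_lit 7931],[nat_lit 6,nat_lit 8339],[nat_lit 9,nat_lit 8372],[nat_lit 1,nat_lit 8512],[nat_lit 9,nat_lit 8720],[nat_lit 4,nat_lit 8810],[nat_lit 6,nat_lit 8816],[nat_lit 9,nat_lit 9098],[nat_lit 3,nat_lit 9218],[nat_lit 2,nat_lit 9606],[nat_lit 7,nat_lit 10311],[nat_lit 9,nat_lit 10885,nat_lit 12167],[nat_lit 137,nat_lit 1267],[nat_lit 156,nat_lit 1612],[nat_lit 137,nat_lit 1845,nat_lit 1919],[nat_lit 186,nat_lit 2029],[nat_lit 156,nat_lit 2398],[nat_lit 333,nat_lit 3270],[nat_lit 186,nat_lit 2979],[nat_lit 137,nat_lit 3265,nat_lit 5983,nat_lit 6892,nat_lit 6920],[nat_lit 333,nat_lit 6880],[nat_lit 137,nat_lit 7728,nat_lit 7862,nat_lit 8268,nat_lit 8547,nat_lit 8679,nat_lit 13165,nat_lit 14939],[nat_lit 10,nat_lit 4355,nat_lit 5299],[nat_lit 4,nat_lit 5775],[nat_lit 8,nat_lit 6549],[nat_lit 10,nat_lit 7252,nat_lit 9457,nat_lit 10702,nat_lit 13347,nat_lit 13669],[nat_lit 138,nat_lit 6415],[nat_lit 128,nat_lit 1836],[nat_lit 11,nat_lit 2459],[nat_lit 128,nat_lit 2256],[nat_lit 18,nat_lit 2942],[nat_lit 16,nat_lit 3049],[nat_lit 128,nat_lit 2650],[nat_lit 14,nat_lit 3349],[nat_lit 16,nat_lit 3432,nat_lit 3587],[nat_lit 11,nat_lit 3680],[nat_lit 325,nat_lit 3400],[nat_lit 16,nat_lit 4049],[nat_lit 11,nat_lit 4369,nat_lit 4639,nat_lit 5027],[nat_lit 14,nat_lit 7891],[nat_lit 11,nat_lit 15504,nat_lit 15759],[nat_lit 139,nat_lit 2282,nat_lit 2495],[nat_lit 27,nat_lit 3389,nat_lit 3645],[nat_lit 129,nat_lit 3645],[nat_lit 26,nat_lit 4404],[nat_lit 23,nat_lit 4810,nat_lit 4865],[nat_lit 139,nat_lit 4253,nat_lit 4434],[nat_lit 23,nat_lit 5526],[nat_lit 25,nat_lit 5638],[nat_lit 26,nat_lit 5844],[nat_lit 25,nat_lit 5853],[nat_lit 23,nat_lit 6361],[nat_lit 25,nat_lit 6367],[nat_lit 26,nat_lit 6503],[nat_lit 25,nat_lit 6720],[nat_lit 26,nat_lit 6732],[nat_lit 25,nat_lit 7274],[nat_lit 26,nat_lit 7279],[nat_lit 139,nat_lit 11891],[nat_lit 12,nat_lit 589],[nat_lit 128,nat_lit 2685],[nat_lit 12,nat_lit 4442,nat_lit 5171],[nat_lit 140,nat_lit 14280],[nat_lit 13,nat_lit 747],[nat_lit 128,nat_lit 3918],[nat_lit 16,nat_lit 5488],[nat_lit 141,nat_lit 571,nat_lit 594,nat_lit 12800],[nat_lit 325,nat_lit 4662,nat_lit 3937],[nat_lit 14,nat_lit 4456],[nat_lit 16,nat_lit 4686],[nat_lit 17,nat_lit 4694],[nat_lit 325,nat_lit 5733],[nat_lit 128,nat_lit 5487],[nat_lit 14,nat_lit 7269,nat_lit 7723,nat_lit 7781,nat_lit 7812],[nat_lit 325,nat_lit 7448,nat_lit 7931,nat_lit 8311],[nat_lit 19,nat_lit 8870],[nat_lit 142,nat_lit 413,nat_lit 538],[nat_lit 197,nat_lit 3917],[nat_lit 142,nat_lit 6939,nat_lit 7780,nat_lit 7841,nat_lit 7843,nat_lit 7852,nat_lit 7860,nat_lit 7880,nat_lit 7972,nat_lit 8749,nat_lit 8868,nat_lit 8904],[nat_lit 50,nat_lit 10048,nat_lit 10064],[nat_lit 132,nat_lit 8948],[nat_lit 142,nat_lit 9897],[nat_lit 132,nat_lit 9995],[nat_lit 142,nat_lit 10016,nat_lit 10039,nat_lit 10095,nat_lit 10837,nat_lit 10912,nat_lit 10987,nat_lit 11073,nat_lit 11117,nat_lit 11175,nat_lit 11181,nat_lit 11269],[nat_lit 50,nat_lit 12779],[nat_lit 142,nat_lit 11918,nat_lit 12025,nat_lit 12048,nat_lit 12072,nat_lit 12074,nat_lit 12109,nat_lit 12172,nat_lit 12800,nat_lit 12860,nat_lit 12901,nat_lit 12962,nat_lit 13166,nat_lit 13500,nat_lit 13553,nat_lit 13570,nat_lit 13628,nat_lit 13723],[nat_lit 132,nat_lit 14260],[nat_lit 142,nat_lit 14163,nat_lit 14196,nat_lit 14322],[nat_lit 50,nat_lit 15123],[nat_lit 15,nat_lit 2841,nat_lit 3023,nat_lit 3276,nat_lit 3402,nat_lit 3521,nat_lit 3537,nat_lit 3894,nat_lit 4002,nat_lit 4341,nat_lit 4345,nat_lit 4437,nat_lit 4636,nat_lit 4749,nat_lit 4818,nat_lit 4965,nat_lit 5035,nat_lit 5249,nat_lit 5448],[nat_lit 17,nat_lit 5647],[nat_lit 15,nat_lit 6016],[nat_lit 13,nat_lit 6104],[nat_lit 15,nat_lit 6212,nat_lit 6218,nat_lit 6329,nat_lit 6379,nat_lit 6590,nat_lit 6753,nat_lit 7674,nat_lit 9055,nat_lit 9342],[nat_lit 17,nat_lit 10429],[nat_lit 15,nat_lit 10935],[nat_lit 16,nat_lit 11922],[nat_lit 15,nat_lit 12330],[nat_lit 20,nat_lit 12808],[nat_lit 15,nat_lit 15763],[nat_lit 14,nat_lit 15932],[nat_lit 15,nat_lit 15933],[nat_lit 20,nat_lit 15936],[nat_lit 143,nat_lit 694],[nat_lit 329,nat_lit 3270],[nat_lit 143,nat_lit 3084],[nat_lit 54,nat_lit 4172],[nat_lit 173,nat_lit 3756],[nat_lit 167,nat_lit 3716],[nat_lit 53,nat_lit 4871],[nat_lit 143,nat_lit 4375,nat_lit 4388,nat_lit 4847],[nat_lit 52,nat_lit 5709],[nat_lit 143,nat_lit 5169,nat_lit 5489],[nat_lit 54,nat_lit 6556],[nat_lit 143,nat_lit 6023,nat_lit 6275,nat_lit 6290],[nat_lit 329,nat_lit 6936],[nat_lit 143,nat_lit 7420],[nat_lit 55,nat_lit 9542],[nat_lit 143,nat_lit 8918,nat_lit 9468,nat_lit 10641,nat_lit 11639],[nat_lit 16,nat_lit 752],[nat_lit 13,nat_lit 976],[nat_lit 16,nat_lit 980],[nat_lit 18,nat_lit 981],[nat_lit 16,nat_lit 3692,nat_lit 3957,nat_lit 4127,nat_lit 4753,nat_lit 5794,nat_lit 5876,nat_lit 6509],[nat_lit 20,nat_lit 6654],[nat_lit 16,nat_lit 7137,nat_lit 7549],[nat_lit 15,nat_lit 8132],[nat_lit 16,nat_lit 10178,nat_lit 11466],[nat_lit 18,nat_lit 12415],[nat_lit 19,nat_lit 13254],[nat_lit 16,nat_lit 16062,nat_lit 16064],[nat_lit 14,nat_lit 16162,nat_lit 16163],[nat_lit 144,nat_lit 3939,nat_lit 4500],[nat_lit 174,nat_lit 5306],[nat_lit 134,nat_lit 5780],[nat_lit 57,nat_lit 7584],[nat_lit 174,nat_lit 8107],[nat_lit 17,nat_lit 721],[nat_lit 14,nat_lit 728],[nat_lit 13,nat_lit 930],[nat_lit 17,nat_lit 940,nat_lit 1199,nat_lit 1209,nat_lit 4454],[nat_lit 15,nat_lit 5254],[nat_lit 17,nat_lit 8258],[nat_lit 325,nat_lit 6854],[nat_lit 17,nat_lit 8566,nat_lit 9316],[nat_lit 145,nat_lit 8315],[nat_lit 18,nat_lit 901],[nat_lit 14,nat_lit 908],[nat_lit 13,nat_lit 1158],[nat_lit 325,nat_lit 6750],[nat_lit 14,nat_lit 8257],[nat_lit 146,nat_lit 413],[nat_lit 176,nat_lit 562],[nat_lit 146,nat_lit 2916,nat_lit 4227,nat_lit 4328],[nat_lit 185,nat_lit 5124],[nat_lit 146,nat_lit 5321,nat_lit 6034,nat_lit 8086],[nat_lit 19,nat_lit 3600,nat_lit 3723,nat_lit 3920,nat_lit 4167,nat_lit 4964,nat_lit 5142,nat_lit 5145,nat_lit 5443,nat_lit 5648,nat_lit 5858,nat_lit 6289,nat_lit 6624,nat_lit 7469],[nat_lit 325,nat_lit 8462,nat_lit 8314],[nat_lit 19,nat_lit 9020,nat_lit 9530,nat_lit 12023],[nat_lit 147,nat_lit 864,nat_lit 546,nat_lit 834,nat_lit 1087,nat_lit 700,nat_lit 1056,nat_lit 1324,nat_lit 2029,nat_lit 2979,nat_lit 3272],[nat_lit 186,nat_lit 3636],[nat_lit 147,nat_lit 5260,nat_lit 3943],[nat_lit 333,nat_lit 7776],[nat_lit 147,nat_lit 6895,nat_lit 6939,nat_lit 7880,nat_lit 9337,nat_lit 9783,nat_lit 13886],[nat_lit 20,nat_lit 750,nat_lit 974,nat_lit 4355,nat_lit 5793,nat_lit 7209,nat_lit 10148,nat_lit 12910],[nat_lit 12,nat_lit 13666],[nat_lit 21,nat_lit 5168],[nat_lit 149,nat_lit 587,nat_lit 5133],[nat_lit 31,nat_lit 6498],[nat_lit 327,nat_lit 6498],[nat_lit 31,nat_lit 7107],[nat_lit 22,nat_lit 1982],[nat_lit 24,nat_lit 7458],[nat_lit 150,nat_lit 587],[nat_lit 23,nat_lit 7939,nat_lit 9859,nat_lit 9860],[nat_lit 151,nat_lit 587,nat_lit 8814,nat_lit 8908,nat_lit 8917,nat_lit 8948,nat_lit 9048,nat_lit 10041],[nat_lit 50,nat_lit 11144],[nat_lit 151,nat_lit 10078],[nat_lit 50,nat_lit 11171],[nat_lit 151,nat_lit 10966,nat_lit 11133],[nat_lit 50,nat_lit 12838],[nat_lit 151,nat_lit 12115,nat_lit 12181,nat_lit 12801,nat_lit 13000,nat_lit 13571],[nat_lit 50,nat_lit 14211],[nat_lit 151,nat_lit 13667,nat_lit 13726,nat_lit 14207,nat_lit 14260,nat_lit 14345,nat_lit 14676,nat_lit 14682],[nat_lit 24,nat_lit 1829,nat_lit 2433,nat_lit 3521,nat_lit 3998,nat_lit 6016,nat_lit 6171,nat_lit 6502],[nat_lit 26,nat_lit 7459],[nat_lit 24,nat_lit 8263,nat_lit 11449],[nat_lit 54,nat_lit 4488],[nat_lit 143,nat_lit 4488],[nat_lit 54,nat_lit 6028],[nat_lit 55,nat_lit 6150],[nat_lit 152,nat_lit 10058,nat_lit 10561,nat_lit 11198,nat_lit 11672],[nat_lit 133,nat_lit 12136],[nat_lit 25,nat_lit 2285,nat_lit 3021],[nat_lit 326,nat_lit 6749],[nat_lit 25,nat_lit 8255,nat_lit 8477],[nat_lit 326,nat_lit 8656,nat_lit 10510],[nat_lit 25,nat_lit 10393],[nat_lit 153,nat_lit 5306],[nat_lit 134,nat_lit 6147],[nat_lit 153,nat_lit 8748,nat_lit 13081],[nat_lit 134,nat_lit 12199],[nat_lit 26,nat_lit 3689],[nat_lit 129,nat_lit 3689],[nat_lit 26,nat_lit 9323,nat_lit 10400],[nat_lit 326,nat_lit 8967],[nat_lit 331,nat_lit 9924],[nat_lit 155,nat_lit 3548],[nat_lit 332,nat_lit 4290],[nat_lit 155,nat_lit 6166,nat_lit 6955],[nat_lit 185,nat_lit 7960],[nat_lit 155,nat_lit 9147],[nat_lit 185,nat_lit 10240],[nat_lit 28,nat_lit 1975],[nat_lit 139,nat_lit 3435],[nat_lit 28,nat_lit 3355,nat_lit 3469,nat_lit 3596,nat_lit 4109,nat_lit 4353,nat_lit 5213,nat_lit 5216,nat_lit 5704,nat_lit 5854],[nat_lit 25,nat_lit 6069],[nat_lit 28,nat_lit 6094],[nat_lit 24,nat_lit 6999],[nat_lit 28,nat_lit 7275,nat_lit 7673,nat_lit 7685,nat_lit 7695,nat_lit 8269,nat_lit 9333,nat_lit 9580,nat_lit 9857,nat_lit 10394],[nat_lit 326,nat_lit 8675],[nat_lit 129,nat_lit 10394],[nat_lit 28,nat_lit 11706],[nat_lit 156,nat_lit 7883,nat_lit 8748],[nat_lit 182,nat_lit 13027],[nat_lit 29,nat_lit 4354,nat_lit 4878,nat_lit 5156,nat_lit 6583],[nat_lit 139,nat_lit 6653],[nat_lit 29,nat_lit 8004],[nat_lit 183,nat_lit 11200],[nat_lit 30,nat_lit 639,nat_lit 647],[nat_lit 140,nat_lit 639],[nat_lit 36,nat_lit 834],[nat_lit 130,nat_lit 5342],[nat_lit 140,nat_lit 6188],[nat_lit 327,nat_lit 6807,nat_lit 6936],[nat_lit 158,nat_lit 1979],[nat_lit 328,nat_lit 3270],[nat_lit 31,nat_lit 3486],[nat_lit 36,nat_lit 3653],[nat_lit 31,nat_lit 7780,nat_lit 7891,nat_lit 7935],[nat_lit 140,nat_lit 7781],[nat_lit 31,nat_lit 9819],[nat_lit 327,nat_lit 9924],[nat_lit 31,nat_lit 11964],[nat_lit 327,nat_lit 11553],[nat_lit 36,nat_lit 12040,nat_lit 12854],[nat_lit 159,nat_lit 1979,nat_lit 9001,nat_lit 10047],[nat_lit 199,nat_lit 11954],[nat_lit 159,nat_lit 12133,nat_lit 13073],[nat_lit 32,nat_lit 5119],[nat_lit 160,nat_lit 1233],[nat_lit 173,nat_lit 4474],[nat_lit 54,nat_lit 6026],[nat_lit 33,nat_lit 837],[nat_lit 140,nat_lit 976],[nat_lit 33,nat_lit 8106,nat_lit 8299,nat_lit 8366],[nat_lit 327,nat_lit 8349],[nat_lit 33,nat_lit 8817],[nat_lit 327,nat_lit 8669],[nat_lit 161,nat_lit 968,nat_lit 8713],[nat_lit 330,nat_lit 11954],[nat_lit 34,nat_lit 821],[nat_lit 140,nat_lit 732],[nat_lit 34,nat_lit 1060,nat_lit 5974],[nat_lit 331,nat_lit 4662],[nat_lit 180,nat_lit 3964],[nat_lit 162,nat_lit 9936],[nat_lit 35,nat_lit 1046],[nat_lit 163,nat_lit 4290,nat_lit 5328,nat_lit 6106],[nat_lit 181,nat_lit 6173],[nat_lit 136,nat_lit 7090],[nat_lit 146,nat_lit 8090],[nat_lit 176,nat_lit 10272],[nat_lit 155,nat_lit 9152],[nat_lit 185,nat_lit 10247],[nat_lit 130,nat_lit 3653],[nat_lit 327,nat_lit 8247],[nat_lit 36,nat_lit 8818,nat_lit 9007],[nat_lit 31,nat_lit 9314],[nat_lit 36,nat_lit 9598,nat_lit 9940],[nat_lit 327,nat_lit 10127],[nat_lit 130,nat_lit 9314],[nat_lit 36,nat_lit 10787],[nat_lit 327,nat_lit 11001,nat_lit 11203],[nat_lit 130,nat_lit 10787],[nat_lit 182,nat_lit 3274],[nat_lit 164,nat_lit 6104,nat_lit 8951],[nat_lit 177,nat_lit 12254],[nat_lit 186,nat_lit 13028],[nat_lit 37,nat_lit 835,nat_lit 4206],[nat_lit 165,nat_lit 3968],[nat_lit 187,nat_lit 11201],[nat_lit 39,nat_lit 3949],[nat_lit 38,nat_lit 11013],[nat_lit 166,nat_lit 9059],[nat_lit 39,nat_lit 7969,nat_lit 14209],[nat_lit 167,nat_lit 3714,nat_lit 6026],[nat_lit 40,nat_lit 8094,nat_lit 9044],[nat_lit 39,nat_lit 10170],[nat_lit 169,nat_lit 12794,nat_lit 11005],[nat_lit 43,nat_lit 1083],[nat_lit 328,nat_lit 7786],[nat_lit 170,nat_lit 5064,nat_lit 5266],[nat_lit 181,nat_lit 5910],[nat_lit 136,nat_lit 6794],[nat_lit 146,nat_lit 7758],[nat_lit 155,nat_lit 8784],[nat_lit 163,nat_lit 9901],[nat_lit 170,nat_lit 11293],[nat_lit 43,nat_lit 12002,nat_lit 14704],[nat_lit 131,nat_lit 14704],[nat_lit 39,nat_lit 15455],[nat_lit 171,nat_lit 2952,nat_lit 4456,nat_lit 5266,nat_lit 6778,nat_lit 6909],[nat_lit 177,nat_lit 9862],[nat_lit 171,nat_lit 12794,nat_lit 11963],[nat_lit 44,nat_lit 15718],[nat_lit 172,nat_lit 5267],[nat_lit 45,nat_lit 5265,nat_lit 6163],[nat_lit 200,nat_lit 6222],[nat_lit 45,nat_lit 7001,nat_lit 7068,nat_lit 7696,nat_lit 7702,nat_lit 7969],[nat_lit 50,nat_lit 8007],[nat_lit 45,nat_lit 8031,nat_lit 8694],[nat_lit 49,nat_lit 8727],[nat_lit 45,nat_lit 8970,nat_lit 9055],[nat_lit 49,nat_lit 9099],[nat_lit 45,nat_lit 9779,nat_lit 9810,nat_lit 9823],[nat_lit 132,nat_lit 8727],[nat_lit 45,nat_lit 10166],[nat_lit 132,nat_lit 9055],[nat_lit 45,nat_lit 10830,nat_lit 10873],[nat_lit 50,nat_lit 10884],[nat_lit 142,nat_lit 9830],[nat_lit 45,nat_lit 11178,nat_lit 11268,nat_lit 11870],[nat_lit 151,nat_lit 10903],[nat_lit 45,nat_lit 11930,nat_lit 11978,nat_lit 12020,nat_lit 12079,nat_lit 12091,nat_lit 12175,nat_lit 12177,nat_lit 12727],[nat_lit 50,nat_lit 12771],[nat_lit 45,nat_lit 12802],[nat_lit 48,nat_lit 12816],[nat_lit 45,nat_lit 12904,nat_lit 12972,nat_lit 13001,nat_lit 13063],[nat_lit 50,nat_lit 13064],[nat_lit 45,nat_lit 13514,nat_lit 13517,nat_lit 13572],[nat_lit 50,nat_lit 13670],[nat_lit 45,nat_lit 13700,nat_lit 13732,nat_lit 13735,nat_lit 13761,nat_lit 14164,nat_lit 14209,nat_lit 14264,nat_lit 14349,nat_lit 14377,nat_lit 14479,nat_lit 14678,nat_lit 14683,nat_lit 14702,nat_lit 14709,nat_lit 14720,nat_lit 14841,nat_lit 15102,nat_lit 15134],[nat_lit 50,nat_lit 15137],[nat_lit 45,nat_lit 15180,nat_lit 15234,nat_lit 15431,nat_lit 15439],[nat_lit 54,nat_lit 4415],[nat_lit 173,nat_lit 7105],[nat_lit 54,nat_lit 7813],[nat_lit 173,nat_lit 6938,nat_lit 8524],[nat_lit 143,nat_lit 7269],[nat_lit 329,nat_lit 6749],[nat_lit 167,nat_lit 8094],[nat_lit 51,nat_lit 8473],[nat_lit 329,nat_lit 8349,nat_lit 9423],[nat_lit 54,nat_lit 9942],[nat_lit 329,nat_lit 8656,nat_lit 8669,nat_lit 10476,nat_lit 10510],[nat_lit 54,nat_lit 11911],[nat_lit 142,nat_lit 1082],[nat_lit 46,nat_lit 7079,nat_lit 8068],[nat_lit 50,nat_lit 8079],[nat_lit 46,nat_lit 8718,nat_lit 9044],[nat_lit 50,nat_lit 9130,nat_lit 9821],[nat_lit 46,nat_lit 10090,nat_lit 10103],[nat_lit 45,nat_lit 10170],[nat_lit 50,nat_lit 10171],[nat_lit 46,nat_lit 10178,nat_lit 10883,nat_lit 11231,nat_lit 11864],[nat_lit 50,nat_lit 11873],[nat_lit 46,nat_lit 12179],[nat_lit 50,nat_lit 12752],[nat_lit 46,nat_lit 12757,nat_lit 13069],[nat_lit 50,nat_lit 13536],[nat_lit 46,nat_lit 13574,nat_lit 13739,nat_lit 13809,nat_lit 14166,nat_lit 14210],[nat_lit 50,nat_lit 14212],[nat_lit 46,nat_lit 14325,nat_lit 15103,nat_lit 15705],[nat_lit 330,nat_lit 6854,nat_lit 9423],[nat_lit 58,nat_lit 8818],[nat_lit 330,nat_lit 8808,nat_lit 8418],[nat_lit 58,nat_lit 9007],[nat_lit 174,nat_lit 9796],[nat_lit 330,nat_lit 8830],[nat_lit 56,nat_lit 10670],[nat_lit 58,nat_lit 10925],[nat_lit 330,nat_lit 11614],[nat_lit 174,nat_lit 12263,nat_lit 11826,nat_lit 11842],[nat_lit 330,nat_lit 12461],[nat_lit 47,nat_lit 1199,nat_lit 11186,nat_lit 12221,nat_lit 14723],[nat_lit 50,nat_lit 15140],[nat_lit 331,nat_lit 7363,nat_lit 9478,nat_lit 10127,nat_lit 11553,nat_lit 11989],[nat_lit 61,nat_lit 11021,nat_lit 12791],[nat_lit 49,nat_lit 1158],[nat_lit 176,nat_lit 10969,nat_lit 12492],[nat_lit 63,nat_lit 13566],[nat_lit 200,nat_lit 4668],[nat_lit 49,nat_lit 6117,nat_lit 9073,nat_lit 9132,nat_lit 9139,nat_lit 9804,nat_lit 10150,nat_lit 10176,nat_lit 10216,nat_lit 10228,nat_lit 10823,nat_lit 10847,nat_lit 10895,nat_lit 10898,nat_lit 10983,nat_lit 11114,nat_lit 11149,nat_lit 11157,nat_lit 11237],[nat_lit 132,nat_lit 10216],[nat_lit 49,nat_lit 11276],[nat_lit 132,nat_lit 10823,nat_lit 10847],[nat_lit 49,nat_lit 11874,nat_lit 11943,nat_lit 11971],[nat_lit 132,nat_lit 10983],[nat_lit 49,nat_lit 12022,nat_lit 12023,nat_lit 12100],[nat_lit 151,nat_lit 11157],[nat_lit 45,nat_lit 12152],[nat_lit 49,nat_lit 12170],[nat_lit 142,nat_lit 11820,nat_lit 11844],[nat_lit 49,nat_lit 12761],[nat_lit 45,nat_lit 12827],[nat_lit 132,nat_lit 11971],[nat_lit 142,nat_lit 11972],[nat_lit 45,nat_lit 13036],[nat_lit 151,nat_lit 12716],[nat_lit 49,nat_lit 13531,nat_lit 13546,nat_lit 13552,nat_lit 13588,nat_lit 13608],[nat_lit 45,nat_lit 13634,nat_lit 13635],[nat_lit 46,nat_lit 14268],[nat_lit 49,nat_lit 14724,nat_lit 14725],[nat_lit 47,nat_lit 14776],[nat_lit 49,nat_lit 15470,nat_lit 15473],[nat_lit 333,nat_lit 8808],[nat_lit 177,nat_lit 10273],[nat_lit 50,nat_lit 7043,nat_lit 12910,nat_lit 13786],[nat_lit 51,nat_lit 2011,nat_lit 2285],[nat_lit 143,nat_lit 2285],[nat_lit 51,nat_lit 3471],[nat_lit 133,nat_lit 5879],[nat_lit 51,nat_lit 5652,nat_lit 6134],[nat_lit 133,nat_lit 7411],[nat_lit 143,nat_lit 6134],[nat_lit 51,nat_lit 7850,nat_lit 12195],[nat_lit 133,nat_lit 15017],[nat_lit 160,nat_lit 15375],[nat_lit 152,nat_lit 15643],[nat_lit 143,nat_lit 15842],[nat_lit 52,nat_lit 16107],[nat_lit 55,nat_lit 16194],[nat_lit 179,nat_lit 752],[nat_lit 168,nat_lit 979],[nat_lit 179,nat_lit 3070,nat_lit 3266,nat_lit 3637],[nat_lit 58,nat_lit 4503],[nat_lit 134,nat_lit 3944,nat_lit 4402],[nat_lit 57,nat_lit 5206],[nat_lit 144,nat_lit 4688],[nat_lit 174,nat_lit 5206],[nat_lit 144,nat_lit 5203],[nat_lit 153,nat_lit 5700],[nat_lit 59,nat_lit 7538],[nat_lit 144,nat_lit 7538],[nat_lit 52,nat_lit 5149,nat_lit 5968,nat_lit 7040],[nat_lit 152,nat_lit 7040],[nat_lit 52,nat_lit 9323,nat_lit 10384,nat_lit 10455,nat_lit 10532,nat_lit 11409],[nat_lit 180,nat_lit 1878,nat_lit 2783],[nat_lit 135,nat_lit 3401],[nat_lit 180,nat_lit 3769],[nat_lit 329,nat_lit 8809],[nat_lit 181,nat_lit 4983,nat_lit 5125],[nat_lit 176,nat_lit 5812],[nat_lit 332,nat_lit 6334],[nat_lit 181,nat_lit 5878,nat_lit 5979],[nat_lit 136,nat_lit 6757],[nat_lit 181,nat_lit 7081],[nat_lit 146,nat_lit 7723],[nat_lit 155,nat_lit 8750],[nat_lit 181,nat_lit 9034,nat_lit 11287],[nat_lit 54,nat_lit 3085,nat_lit 4512,nat_lit 4961,nat_lit 6002,nat_lit 6012,nat_lit 6047,nat_lit 6515,nat_lit 6878,nat_lit 6933,nat_lit 7581],[nat_lit 329,nat_lit 7931],[nat_lit 54,nat_lit 8328,nat_lit 9007,nat_lit 9113,nat_lit 9913,nat_lit 9940,nat_lit 10411,nat_lit 10644,nat_lit 11490,nat_lit 11570],[nat_lit 167,nat_lit 11911],[nat_lit 160,nat_lit 12795],[nat_lit 54,nat_lit 16235],[nat_lit 182,nat_lit 2524],[nat_lit 189,nat_lit 3106],[nat_lit 182,nat_lit 3637],[nat_lit 147,nat_lit 3773],[nat_lit 183,nat_lit 2852,nat_lit 3480,nat_lit 3968],[nat_lit 56,nat_lit 3540,nat_lit 5731,nat_lit 6164],[nat_lit 144,nat_lit 8258],[nat_lit 153,nat_lit 9323],[nat_lit 184,nat_lit 1208],[nat_lit 185,nat_lit 9858],[nat_lit 181,nat_lit 10926],[nat_lit 58,nat_lit 3596,nat_lit 6607,nat_lit 6624],[nat_lit 179,nat_lit 8047],[nat_lit 58,nat_lit 7748],[nat_lit 330,nat_lit 7448],[nat_lit 58,nat_lit 7897,nat_lit 8053,nat_lit 8453,nat_lit 8604,nat_lit 8795],[nat_lit 161,nat_lit 8818],[nat_lit 144,nat_lit 7882],[nat_lit 161,nat_lit 9007],[nat_lit 57,nat_lit 9120],[nat_lit 58,nat_lit 9365,nat_lit 9530,nat_lit 9935,nat_lit 10030],[nat_lit 174,nat_lit 10030],[nat_lit 58,nat_lit 11443],[nat_lit 168,nat_lit 10925],[nat_lit 58,nat_lit 12515,nat_lit 13563,nat_lit 13779,nat_lit 13925,nat_lit 14066],[nat_lit 186,nat_lit 726,nat_lit 901,nat_lit 906,nat_lit 930,nat_lit 1158,nat_lit 4521],[nat_lit 191,nat_lit 5320],[nat_lit 182,nat_lit 6165],[nat_lit 59,nat_lit 4354],[nat_lit 153,nat_lit 4354],[nat_lit 168,nat_lit 5152],[nat_lit 59,nat_lit 7567,nat_lit 11254],[nat_lit 134,nat_lit 11254],[nat_lit 59,nat_lit 13347],[nat_lit 60,nat_lit 13561],[nat_lit 331,nat_lit 8247],[nat_lit 61,nat_lit 8453,nat_lit 8899,nat_lit 8964],[nat_lit 162,nat_lit 10137],[nat_lit 61,nat_lit 10176,nat_lit 10456,nat_lit 10990],[nat_lit 331,nat_lit 11001],[nat_lit 61,nat_lit 11023,nat_lit 13207,nat_lit 14199,nat_lit 14395],[nat_lit 189,nat_lit 1161,nat_lit 1463],[nat_lit 62,nat_lit 2011,nat_lit 4967],[nat_lit 169,nat_lit 4967],[nat_lit 63,nat_lit 3725,nat_lit 4096],[nat_lit 136,nat_lit 3725,nat_lit 4096],[nat_lit 170,nat_lit 4477],[nat_lit 63,nat_lit 6892,nat_lit 7042],[nat_lit 176,nat_lit 6892],[nat_lit 63,nat_lit 7577],[nat_lit 332,nat_lit 7448],[nat_lit 146,nat_lit 7882],[nat_lit 63,nat_lit 9857,nat_lit 10096],[nat_lit 155,nat_lit 9860],[nat_lit 63,nat_lit 11288,nat_lit 11294,nat_lit 11957],[nat_lit 170,nat_lit 11294],[nat_lit 63,nat_lit 12439,nat_lit 12854,nat_lit 13102],[nat_lit 163,nat_lit 12256],[nat_lit 63,nat_lit 13563],[nat_lit 65,nat_lit 9414],[nat_lit 193,nat_lit 936,nat_lit 943,nat_lit 1168,nat_lit 1211,nat_lit 1469,nat_lit 1526,nat_lit 1861,nat_lit 2310,nat_lit 2506,nat_lit 11172],[nat_lit 148,nat_lit 12171],[nat_lit 962,nat_lit 47],[nat_lit 68,nat_lit 7242,nat_lit 9484,nat_lit 9563,nat_lit 10271,nat_lit 10236,nat_lit 12249,nat_lit 11555,nat_lit 11616,nat_lit 12271,nat_lit 12265,nat_lit 13327,nat_lit 13611,nat_lit 13650,nat_lit 14568,nat_lit 15585],[nat_lit 202,nat_lit 7633,nat_lit 8648],[nat_lit 203,nat_lit 8892],[nat_lit 206,nat_lit 8909],[nat_lit 201,nat_lit 9744],[nat_lit 204,nat_lit 9953],[nat_lit 196,nat_lit 9988,nat_lit 10095],[nat_lit 203,nat_lit 10142],[nat_lit 196,nat_lit 11974,nat_lit 12001],[nat_lit 202,nat_lit 12009],[nat_lit 203,nat_lit 12038],[nat_lit 196,nat_lit 12074],[nat_lit 206,nat_lit 12634,nat_lit 12905],[nat_lit 196,nat_lit 13068,nat_lit 13500],[nat_lit 198,nat_lit 13628],[nat_lit 206,nat_lit 14047],[nat_lit 196,nat_lit 14133,nat_lit 14378,nat_lit 14763],[nat_lit 206,nat_lit 15005],[nat_lit 196,nat_lit 15082,nat_lit 15096,nat_lit 15236,nat_lit 15642,nat_lit 15658,nat_lit 15681],[nat_lit 1,nat_lit 773],[nat_lit 324,nat_lit 4662],[nat_lit 3,nat_lit 5151],[nat_lit 324,nat_lit 5463],[nat_lit 3,nat_lit 6784],[nat_lit 324,nat_lit 7363,nat_lit 7448],[nat_lit 4,nat_lit 7939],[nat_lit 324,nat_lit 7931,nat_lit 6870,nat_lit 8261],[nat_lit 2,nat_lit 7935],[nat_lit 324,nat_lit 8810,nat_lit 8998,nat_lit 9423],[nat_lit 1,nat_lit 9001],[nat_lit 324,nat_lit 9927],[nat_lit 6,nat_lit 9940],[nat_lit 4,nat_lit 9989],[nat_lit 2,nat_lit 10130],[nat_lit 324,nat_lit 10127],[nat_lit 4,nat_lit 10146],[nat_lit 324,nat_lit 11001,nat_lit 11003,nat_lit 11203],[nat_lit 4,nat_lit 11976,nat_lit 12003,nat_lit 12011,nat_lit 12040,nat_lit 12076],[nat_lit 324,nat_lit 12883,nat_lit 13297],[nat_lit 4,nat_lit 14050],[nat_lit 324,nat_lit 14250,nat_lit 14306],[nat_lit 69,nat_lit 414],[nat_lit 77,nat_lit 460],[nat_lit 69,nat_lit 12270,nat_lit 13848,nat_lit 14905,nat_lit 14910,nat_lit 15586],[nat_lit 197,nat_lit 8908,nat_lit 8978,nat_lit 10078,nat_lit 10579,nat_lit 10621,nat_lit 10630,nat_lit 10665,nat_lit 11119,nat_lit 11133],[nat_lit 142,nat_lit 11078],[nat_lit 197,nat_lit 11830,nat_lit 12077,nat_lit 12498,nat_lit 12592,nat_lit 12632,nat_lit 12716,nat_lit 12867,nat_lit 12912,nat_lit 13061],[nat_lit 142,nat_lit 12869,nat_lit 12971],[nat_lit 197,nat_lit 13630,nat_lit 13661,nat_lit 14030,nat_lit 14084,nat_lit 14489],[nat_lit 142,nat_lit 14261],[nat_lit 196,nat_lit 14676],[nat_lit 197,nat_lit 15004,nat_lit 15502],[nat_lit 17,nat_lit 8324],[nat_lit 325,nat_lit 8466],[nat_lit 14,nat_lit 8979],[nat_lit 15,nat_lit 7938],[nat_lit 325,nat_lit 9484],[nat_lit 14,nat_lit 10080],[nat_lit 18,nat_lit 9401],[nat_lit 19,nat_lit 10497],[nat_lit 325,nat_lit 8892],[nat_lit 16,nat_lit 10629],[nat_lit 14,nat_lit 10632],[nat_lit 325,nat_lit 8909],[nat_lit 14,nat_lit 11121],[nat_lit 325,nat_lit 10672,nat_lit 9953,nat_lit 11555],[nat_lit 14,nat_lit 12078],[nat_lit 20,nat_lit 11532],[nat_lit 14,nat_lit 12593],[nat_lit 325,nat_lit 11181],[nat_lit 14,nat_lit 12870],[nat_lit 325,nat_lit 12883,nat_lit 12588],[nat_lit 14,nat_lit 13632,nat_lit 13664,nat_lit 13352],[nat_lit 325,nat_lit 12901,nat_lit 13904,nat_lit 14026,nat_lit 14277,nat_lit 14082,nat_lit 14163,nat_lit 14322,nat_lit 15005,nat_lit 15203],[nat_lit 70,nat_lit 12273,nat_lit 14913,nat_lit 15581,nat_lit 15967],[nat_lit 198,nat_lit 11135,nat_lit 12622,nat_lit 13006,nat_lit 13073,nat_lit 14058,nat_lit 14111,nat_lit 14131,nat_lit 14263,nat_lit 14298],[nat_lit 151,nat_lit 14265,nat_lit 14292],[nat_lit 198,nat_lit 14767,nat_lit 15028,nat_lit 15065,nat_lit 15101,nat_lit 15215],[nat_lit 151,nat_lit 15095],[nat_lit 198,nat_lit 15504],[nat_lit 24,nat_lit 8304],[nat_lit 129,nat_lit 7673],[nat_lit 28,nat_lit 7902],[nat_lit 24,nat_lit 10399,nat_lit 10409],[nat_lit 26,nat_lit 9373],[nat_lit 27,nat_lit 10467],[nat_lit 326,nat_lit 8892,nat_lit 8904,nat_lit 8908],[nat_lit 23,nat_lit 9781],[nat_lit 129,nat_lit 9857],[nat_lit 24,nat_lit 10981],[nat_lit 326,nat_lit 10618,nat_lit 11954,nat_lit 12029],[nat_lit 26,nat_lit 11432],[nat_lit 25,nat_lit 11441],[nat_lit 24,nat_lit 11426],[nat_lit 26,nat_lit 12374],[nat_lit 25,nat_lit 12381],[nat_lit 28,nat_lit 11501],[nat_lit 29,nat_lit 12450],[nat_lit 23,nat_lit 11658],[nat_lit 129,nat_lit 11658],[nat_lit 326,nat_lit 11133],[nat_lit 129,nat_lit 11706],[nat_lit 26,nat_lit 11970],[nat_lit 28,nat_lit 12862],[nat_lit 326,nat_lit 12553,nat_lit 13609,nat_lit 13611],[nat_lit 23,nat_lit 13632],[nat_lit 326,nat_lit 13675,nat_lit 12716],[nat_lit 25,nat_lit 13213],[nat_lit 28,nat_lit 13932],[nat_lit 23,nat_lit 14059,nat_lit 14132],[nat_lit 129,nat_lit 12862],[nat_lit 23,nat_lit 14266],[nat_lit 129,nat_lit 12963],[nat_lit 326,nat_lit 14084],[nat_lit 23,nat_lit 14769],[nat_lit 326,nat_lit 14798],[nat_lit 129,nat_lit 13932],[nat_lit 71,nat_lit 6105,nat_lit 6141,nat_lit 7034,nat_lit 7733,nat_lit 8040,nat_lit 9105,nat_lit 9861,nat_lit 9874,nat_lit 13324],[nat_lit 76,nat_lit 13326],[nat_lit 71,nat_lit 13364,nat_lit 14591,nat_lit 14593,nat_lit 14614,nat_lit 15391],[nat_lit 201,nat_lit 6295],[nat_lit 196,nat_lit 7215],[nat_lit 197,nat_lit 8210],[nat_lit 205,nat_lit 8211],[nat_lit 199,nat_lit 8953],[nat_lit 197,nat_lit 10285],[nat_lit 199,nat_lit 10298,nat_lit 11139,nat_lit 12599],[nat_lit 205,nat_lit 12846],[nat_lit 199,nat_lit 13025,nat_lit 14113],[nat_lit 205,nat_lit 14252],[nat_lit 196,nat_lit 14255],[nat_lit 205,nat_lit 14310],[nat_lit 199,nat_lit 14791,nat_lit 15036],[nat_lit 327,nat_lit 8305,nat_lit 8311],[nat_lit 32,nat_lit 9171,nat_lit 10399,nat_lit 9370],[nat_lit 34,nat_lit 10463],[nat_lit 32,nat_lit 9446],[nat_lit 34,nat_lit 10538,nat_lit 10267],[nat_lit 32,nat_lit 9911],[nat_lit 34,nat_lit 10989],[nat_lit 32,nat_lit 11021],[nat_lit 327,nat_lit 10618],[nat_lit 130,nat_lit 10137],[nat_lit 33,nat_lit 11313],[nat_lit 34,nat_lit 12002],[nat_lit 130,nat_lit 11014],[nat_lit 34,nat_lit 12010],[nat_lit 130,nat_lit 11209],[nat_lit 34,nat_lit 11432],[nat_lit 33,nat_lit 12381],[nat_lit 35,nat_lit 11495],[nat_lit 36,nat_lit 12445],[nat_lit 33,nat_lit 11580],[nat_lit 36,nat_lit 12525],[nat_lit 31,nat_lit 12600],[nat_lit 36,nat_lit 12274],[nat_lit 31,nat_lit 12855],[nat_lit 36,nat_lit 11975],[nat_lit 130,nat_lit 11975,nat_lit 12003],[nat_lit 327,nat_lit 12883,nat_lit 12553],[nat_lit 130,nat_lit 11118],[nat_lit 140,nat_lit 12117],[nat_lit 130,nat_lit 11976],[nat_lit 140,nat_lit 12869],[nat_lit 36,nat_lit 13220],[nat_lit 130,nat_lit 13220],[nat_lit 37,nat_lit 13278],[nat_lit 130,nat_lit 12525],[nat_lit 140,nat_lit 13356],[nat_lit 31,nat_lit 14114],[nat_lit 327,nat_lit 13073],[nat_lit 31,nat_lit 14259],[nat_lit 140,nat_lit 12870],[nat_lit 31,nat_lit 14319,nat_lit 14795,nat_lit 15038],[nat_lit 327,nat_lit 15203],[nat_lit 72,nat_lit 6306,nat_lit 14361,nat_lit 15388,nat_lit 15862],[nat_lit 200,nat_lit 12507,nat_lit 12889,nat_lit 13887,nat_lit 14258],[nat_lit 198,nat_lit 14286],[nat_lit 200,nat_lit 14318],[nat_lit 198,nat_lit 15212],[nat_lit 73,nat_lit 12276,nat_lit 13843,nat_lit 13849,nat_lit 14855,nat_lit 14912,nat_lit 14914,nat_lit 15587,nat_lit 15588,nat_lit 15968],[nat_lit 201,nat_lit 1246,nat_lit 7214,nat_lit 8130,nat_lit 8596,nat_lit 8880],[nat_lit 45,nat_lit 9747],[nat_lit 201,nat_lit 10830,nat_lit 10991,nat_lit 11162,nat_lit 12159,nat_lit 12368,nat_lit 12516,nat_lit 12623,nat_lit 12636,nat_lit 12871,nat_lit 13007,nat_lit 13063],[nat_lit 45,nat_lit 13660,nat_lit 13741],[nat_lit 199,nat_lit 13638],[nat_lit 197,nat_lit 13662],[nat_lit 201,nat_lit 14112,nat_lit 14164,nat_lit 14201,nat_lit 14264],[nat_lit 45,nat_lit 14796],[nat_lit 201,nat_lit 14678],[nat_lit 197,nat_lit 14770],[nat_lit 201,nat_lit 14792,nat_lit 14945,nat_lit 15066,nat_lit 15102,nat_lit 15122],[nat_lit 45,nat_lit 15510,nat_lit 15516],[nat_lit 201,nat_lit 15431,nat_lit 15932,nat_lit 15933],[nat_lit 206,nat_lit 15936],[nat_lit 173,nat_lit 8057],[nat_lit 329,nat_lit 8254],[nat_lit 133,nat_lit 6920],[nat_lit 329,nat_lit 8466],[nat_lit 54,nat_lit 8979],[nat_lit 133,nat_lit 7882],[nat_lit 143,nat_lit 8949],[nat_lit 329,nat_lit 8648,nat_lit 8675],[nat_lit 173,nat_lit 11411,nat_lit 11557],[nat_lit 143,nat_lit 8950],[nat_lit 329,nat_lit 10618],[nat_lit 143,nat_lit 8979],[nat_lit 173,nat_lit 11694],[nat_lit 329,nat_lit 10672,nat_lit 11555,nat_lit 11617],[nat_lit 51,nat_lit 12359],[nat_lit 173,nat_lit 11840],[nat_lit 152,nat_lit 12359],[nat_lit 54,nat_lit 12388],[nat_lit 173,nat_lit 12021,nat_lit 13334],[nat_lit 329,nat_lit 12881],[nat_lit 160,nat_lit 11118],[nat_lit 329,nat_lit 12588],[nat_lit 173,nat_lit 13421],[nat_lit 329,nat_lit 12622],[nat_lit 173,nat_lit 13445],[nat_lit 329,nat_lit 12634],[nat_lit 173,nat_lit 13842,nat_lit 13844],[nat_lit 329,nat_lit 13387,nat_lit 12732,nat_lit 12738,nat_lit 12905],[nat_lit 173,nat_lit 14570,nat_lit 14595],[nat_lit 329,nat_lit 14084,nat_lit 14111],[nat_lit 173,nat_lit 14905],[nat_lit 329,nat_lit 14568],[nat_lit 173,nat_lit 14911,nat_lit 14913],[nat_lit 329,nat_lit 14163],[nat_lit 167,nat_lit 14054],[nat_lit 173,nat_lit 15366],[nat_lit 167,nat_lit 14204],[nat_lit 329,nat_lit 15028,nat_lit 15065],[nat_lit 173,nat_lit 15581],[nat_lit 329,nat_lit 15101],[nat_lit 167,nat_lit 15125],[nat_lit 74,nat_lit 16182,nat_lit 16183],[nat_lit 202,nat_lit 12179,nat_lit 12840,nat_lit 12916,nat_lit 12637,nat_lit 14134,nat_lit 14166,nat_lit 14962,nat_lit 15097,nat_lit 15103],[nat_lit 46,nat_lit 15437],[nat_lit 202,nat_lit 15619,nat_lit 15705],[nat_lit 46,nat_lit 15891],[nat_lit 202,nat_lit 15935],[nat_lit 46,nat_lit 16165],[nat_lit 330,nat_lit 1246],[nat_lit 174,nat_lit 8082],[nat_lit 134,nat_lit 7882,nat_lit 7897,nat_lit 8793,nat_lit 8944],[nat_lit 144,nat_lit 8950],[nat_lit 134,nat_lit 9007,nat_lit 9530,nat_lit 8795,nat_lit 9935,nat_lit 10030],[nat_lit 144,nat_lit 10080],[nat_lit 134,nat_lit 9008,nat_lit 11074,nat_lit 11443],[nat_lit 144,nat_lit 10632],[nat_lit 153,nat_lit 11667],[nat_lit 161,nat_lit 12011],[nat_lit 134,nat_lit 12010],[nat_lit 144,nat_lit 11121],[nat_lit 330,nat_lit 12636],[nat_lit 134,nat_lit 12011],[nat_lit 144,nat_lit 12078],[nat_lit 330,nat_lit 13392],[nat_lit 134,nat_lit 12515],[nat_lit 168,nat_lit 13346],[nat_lit 134,nat_lit 13347],[nat_lit 161,nat_lit 12600],[nat_lit 174,nat_lit 13810],[nat_lit 134,nat_lit 13563,nat_lit 13925],[nat_lit 174,nat_lit 14685],[nat_lit 168,nat_lit 14054],[nat_lit 134,nat_lit 14066],[nat_lit 144,nat_lit 14613],[nat_lit 174,nat_lit 15319],[nat_lit 168,nat_lit 14204],[nat_lit 174,nat_lit 15441],[nat_lit 168,nat_lit 15046],[nat_lit 174,nat_lit 15968],[nat_lit 203,nat_lit 14247,nat_lit 14302,nat_lit 14964,nat_lit 15622,nat_lit 15981],[nat_lit 331,nat_lit 8130],[nat_lit 135,nat_lit 7673],[nat_lit 331,nat_lit 8365],[nat_lit 135,nat_lit 7791],[nat_lit 154,nat_lit 8696],[nat_lit 180,nat_lit 9762],[nat_lit 135,nat_lit 8899],[nat_lit 145,nat_lit 10034],[nat_lit 331,nat_lit 10630],[nat_lit 135,nat_lit 8964,nat_lit 10136,nat_lit 10988,nat_lit 11012,nat_lit 11021,nat_lit 9989],[nat_lit 145,nat_lit 11078],[nat_lit 162,nat_lit 11211],[nat_lit 331,nat_lit 12840],[nat_lit 135,nat_lit 10990],[nat_lit 145,nat_lit 11979],[nat_lit 135,nat_lit 11023],[nat_lit 331,nat_lit 12916],[nat_lit 135,nat_lit 12791],[nat_lit 145,nat_lit 11980],[nat_lit 180,nat_lit 12872,nat_lit 12083],[nat_lit 135,nat_lit 13207],[nat_lit 180,nat_lit 12874],[nat_lit 169,nat_lit 13568],[nat_lit 180,nat_lit 13927],[nat_lit 175,nat_lit 14686],[nat_lit 331,nat_lit 15066],[nat_lit 175,nat_lit 15442,nat_lit 15898],[nat_lit 204,nat_lit 8923,nat_lit 11032],[nat_lit 163,nat_lit 5287],[nat_lit 176,nat_lit 7035],[nat_lit 136,nat_lit 7577],[nat_lit 181,nat_lit 8597],[nat_lit 332,nat_lit 8892],[nat_lit 136,nat_lit 10096],[nat_lit 332,nat_lit 11954],[nat_lit 185,nat_lit 11963],[nat_lit 146,nat_lit 11180],[nat_lit 181,nat_lit 11180,nat_lit 12178],[nat_lit 163,nat_lit 12855],[nat_lit 136,nat_lit 13563],[nat_lit 185,nat_lit 13070],[nat_lit 136,nat_lit 13566],[nat_lit 181,nat_lit 14202,nat_lit 14204],[nat_lit 77,nat_lit 12246,nat_lit 13830,nat_lit 13850],[nat_lit 205,nat_lit 7634,nat_lit 9277,nat_lit 10295],[nat_lit 198,nat_lit 9746],[nat_lit 205,nat_lit 10175,nat_lit 10415,nat_lit 10655,nat_lit 10823,nat_lit 11114,nat_lit 12023,nat_lit 12841],[nat_lit 198,nat_lit 13497],[nat_lit 205,nat_lit 14248,nat_lit 15201],[nat_lit 177,nat_lit 7035,nat_lit 8082,nat_lit 8212],[nat_lit 147,nat_lit 7915],[nat_lit 177,nat_lit 10237,nat_lit 10062],[nat_lit 137,nat_lit 9008],[nat_lit 333,nat_lit 10665],[nat_lit 186,nat_lit 10138],[nat_lit 164,nat_lit 11211],[nat_lit 137,nat_lit 11023],[nat_lit 189,nat_lit 11210],[nat_lit 333,nat_lit 11032],[nat_lit 191,nat_lit 12847],[nat_lit 164,nat_lit 12205],[nat_lit 189,nat_lit 12013],[nat_lit 182,nat_lit 11164],[nat_lit 186,nat_lit 12897],[nat_lit 333,nat_lit 13904,nat_lit 14247],[nat_lit 182,nat_lit 13664],[nat_lit 333,nat_lit 14302],[nat_lit 147,nat_lit 14157],[nat_lit 333,nat_lit 14784,nat_lit 14785],[nat_lit 182,nat_lit 14680,nat_lit 14795],[nat_lit 186,nat_lit 15099],[nat_lit 333,nat_lit 15512],[nat_lit 78,nat_lit 13846],[nat_lit 206,nat_lit 10877,nat_lit 12590,nat_lit 12602,nat_lit 13037,nat_lit 13786],[nat_lit 50,nat_lit 14289],[nat_lit 206,nat_lit 14117,nat_lit 14127,nat_lit 14137,nat_lit 14418,nat_lit 15982],[nat_lit 50,nat_lit 16167],[nat_lit 148,nat_lit 9536],[nat_lit 178,nat_lit 11450,nat_lit 12113,nat_lit 12138,nat_lit 13439],[nat_lit 183,nat_lit 12176],[nat_lit 334,nat_lit 13648],[nat_lit 183,nat_lit 13346],[nat_lit 178,nat_lit 13784,nat_lit 14671],[nat_lit 187,nat_lit 14052],[nat_lit 148,nat_lit 14708],[nat_lit 172,nat_lit 15125],[nat_lit 178,nat_lit 15898],[nat_lit 592,nat_lit 2011],[nat_lit 173,nat_lit 2511],[nat_lit 152,nat_lit 2851],[nat_lit 8144,nat_lit 685],[nat_lit 3,nat_lit 2502],[nat_lit 134,nat_lit 979],[nat_lit 4560,nat_lit 5583],[nat_lit 179,nat_lit 3479],[nat_lit 7504,nat_lit 1829],[nat_lit 172,nat_lit 1592],[nat_lit 19,nat_lit 977,nat_lit 1244],[nat_lit 144,nat_lit 1250],[nat_lit 6,nat_lit 1594],[nat_lit 0,nat_lit 1591,nat_lit 2003,nat_lit 4450,nat_lit 5049,nat_lit 5478,nat_lit 5732],[nat_lit 6,nat_lit 5890],[nat_lit 9,nat_lit 5964],[nat_lit 0,nat_lit 5990,nat_lit 6098],[nat_lit 9,nat_lit 6321],[nat_lit 0,nat_lit 6398],[nat_lit 7,nat_lit 6609],[nat_lit 0,nat_lit 6917,nat_lit 6921,nat_lit 7037,nat_lit 7210],[nat_lit 6,nat_lit 7320],[nat_lit 0,nat_lit 7471],[nat_lit 10,nat_lit 7917],[nat_lit 1,nat_lit 8035],[nat_lit 0,nat_lit 8126],[nat_lit 5,nat_lit 8544],[nat_lit 0,nat_lit 8744],[nat_lit 6,nat_lit 9194,nat_lit 9647],[nat_lit 10,nat_lit 9648],[nat_lit 6,nat_lit 9850],[nat_lit 324,nat_lit 10621,nat_lit 10665],[nat_lit 6,nat_lit 10087],[nat_lit 0,nat_lit 10747,nat_lit 11084],[nat_lit 324,nat_lit 10579],[nat_lit 7,nat_lit 11136],[nat_lit 0,nat_lit 12598,nat_lit 13892],[nat_lit 5,nat_lit 14107],[nat_lit 0,nat_lit 14294],[nat_lit 6,nat_lit 14654],[nat_lit 4,nat_lit 14769],[nat_lit 128,nat_lit 4828,nat_lit 5297,nat_lit 5566],[nat_lit 16,nat_lit 6523],[nat_lit 18,nat_lit 6947],[nat_lit 20,nat_lit 7066],[nat_lit 13,nat_lit 7145],[nat_lit 16,nat_lit 7338],[nat_lit 15,nat_lit 7481],[nat_lit 19,nat_lit 7788],[nat_lit 16,nat_lit 7948,nat_lit 8147],[nat_lit 15,nat_lit 8338],[nat_lit 14,nat_lit 8365],[nat_lit 17,nat_lit 8498],[nat_lit 14,nat_lit 8527],[nat_lit 128,nat_lit 7645],[nat_lit 17,nat_lit 8791],[nat_lit 325,nat_lit 8365],[nat_lit 20,nat_lit 9024],[nat_lit 128,nat_lit 8022],[nat_lit 15,nat_lit 9216],[nat_lit 128,nat_lit 8387],[nat_lit 16,nat_lit 9596],[nat_lit 17,nat_lit 9752],[nat_lit 128,nat_lit 8672],[nat_lit 16,nat_lit 9912],[nat_lit 20,nat_lit 9916],[nat_lit 17,nat_lit 9917],[nat_lit 128,nat_lit 8987,nat_lit 9008],[nat_lit 17,nat_lit 10310],[nat_lit 16,nat_lit 10480],[nat_lit 18,nat_lit 10695],[nat_lit 12,nat_lit 10980],[nat_lit 16,nat_lit 10992,nat_lit 11210],[nat_lit 17,nat_lit 11516,nat_lit 12204],[nat_lit 16,nat_lit 12465],[nat_lit 19,nat_lit 12890],[nat_lit 128,nat_lit 13057],[nat_lit 1,nat_lit 2500,nat_lit 7912,nat_lit 7916],[nat_lit 5,nat_lit 7949,nat_lit 8067],[nat_lit 1,nat_lit 8489],[nat_lit 10,nat_lit 8986],[nat_lit 6,nat_lit 9129],[nat_lit 10,nat_lit 9588],[nat_lit 1,nat_lit 11740,nat_lit 13425,nat_lit 14481,nat_lit 15181],[nat_lit 129,nat_lit 3469,nat_lit 4878,nat_lit 5213,nat_lit 5854,nat_lit 6094,nat_lit 6583],[nat_lit 29,nat_lit 7697,nat_lit 8030],[nat_lit 129,nat_lit 7275,nat_lit 7685,nat_lit 7695,nat_lit 8004,nat_lit 8263,nat_lit 8269],[nat_lit 29,nat_lit 9811],[nat_lit 129,nat_lit 9333],[nat_lit 2,nat_lit 3087,nat_lit 3089,nat_lit 6004,nat_lit 7035],[nat_lit 9,nat_lit 9105],[nat_lit 2,nat_lit 14118],[nat_lit 130,nat_lit 639,nat_lit 647,nat_lit 1060,nat_lit 2003,nat_lit 8307,nat_lit 12274,nat_lit 14259,nat_lit 14319],[nat_lit 3,nat_lit 5157,nat_lit 11205,nat_lit 12022,nat_lit 14661],[nat_lit 131,nat_lit 1083,nat_lit 14209],[nat_lit 40,nat_lit 15138],[nat_lit 41,nat_lit 15471],[nat_lit 6,nat_lit 5465],[nat_lit 4,nat_lit 7217],[nat_lit 324,nat_lit 8130],[nat_lit 4,nat_lit 9279],[nat_lit 8,nat_lit 9554],[nat_lit 4,nat_lit 10176],[nat_lit 5,nat_lit 11982,nat_lit 12162],[nat_lit 324,nat_lit 10823],[nat_lit 4,nat_lit 12508],[nat_lit 324,nat_lit 12841],[nat_lit 4,nat_lit 13070,nat_lit 14135,nat_lit 14256,nat_lit 14381,nat_lit 15099],[nat_lit 324,nat_lit 15201],[nat_lit 4,nat_lit 15237],[nat_lit 132,nat_lit 1158,nat_lit 1199,nat_lit 7035],[nat_lit 159,nat_lit 8749],[nat_lit 132,nat_lit 9139,nat_lit 10228,nat_lit 10825,nat_lit 10895,nat_lit 11149,nat_lit 11237,nat_lit 11874,nat_lit 12100,nat_lit 12170,nat_lit 12177,nat_lit 12761,nat_lit 12827],[nat_lit 142,nat_lit 12990],[nat_lit 132,nat_lit 13063],[nat_lit 46,nat_lit 13812],[nat_lit 132,nat_lit 13531,nat_lit 13552,nat_lit 13588,nat_lit 13732,nat_lit 13735],[nat_lit 50,nat_lit 14422],[nat_lit 132,nat_lit 14209,nat_lit 14349],[nat_lit 50,nat_lit 14848],[nat_lit 46,nat_lit 14851],[nat_lit 132,nat_lit 14377,nat_lit 14479,nat_lit 14678,nat_lit 14702],[nat_lit 46,nat_lit 15138],[nat_lit 132,nat_lit 14724,nat_lit 14725,nat_lit 14841],[nat_lit 46,nat_lit 15238],[nat_lit 50,nat_lit 15239],[nat_lit 46,nat_lit 15310,nat_lit 15434],[nat_lit 132,nat_lit 15134],[nat_lit 47,nat_lit 15471],[nat_lit 132,nat_lit 15180,nat_lit 15234,nat_lit 15431],[nat_lit 142,nat_lit 15434],[nat_lit 132,nat_lit 15470,nat_lit 15473],[nat_lit 46,nat_lit 15888],[nat_lit 5,nat_lit 4503],[nat_lit 8,nat_lit 5206],[nat_lit 10,nat_lit 5500],[nat_lit 4,nat_lit 5700],[nat_lit 9,nat_lit 6062],[nat_lit 5,nat_lit 6163],[nat_lit 1,nat_lit 6574],[nat_lit 7,nat_lit 6579],[nat_lit 5,nat_lit 6651],[nat_lit 10,nat_lit 7538],[nat_lit 5,nat_lit 7984,nat_lit 8995,nat_lit 11981,nat_lit 12161,nat_lit 12609,nat_lit 13348,nat_lit 13764,nat_lit 13947],[nat_lit 133,nat_lit 2008,nat_lit 3088,nat_lit 3758,nat_lit 5859,nat_lit 6374,nat_lit 6736,nat_lit 6816,nat_lit 6871],[nat_lit 152,nat_lit 7793],[nat_lit 133,nat_lit 8317],[nat_lit 173,nat_lit 8838],[nat_lit 133,nat_lit 8515,nat_lit 8660,nat_lit 8910,nat_lit 9411],[nat_lit 143,nat_lit 9616,nat_lit 9755],[nat_lit 133,nat_lit 9822,nat_lit 9938,nat_lit 10209,nat_lit 10291,nat_lit 10738],[nat_lit 152,nat_lit 10834],[nat_lit 133,nat_lit 10920],[nat_lit 52,nat_lit 12009],[nat_lit 133,nat_lit 11023],[nat_lit 52,nat_lit 12287],[nat_lit 133,nat_lit 11348],[nat_lit 152,nat_lit 11747],[nat_lit 133,nat_lit 11874],[nat_lit 52,nat_lit 12786],[nat_lit 53,nat_lit 12895],[nat_lit 52,nat_lit 12896],[nat_lit 173,nat_lit 12895],[nat_lit 329,nat_lit 15658],[nat_lit 6,nat_lit 7079,nat_lit 7539,nat_lit 7602],[nat_lit 10,nat_lit 8079],[nat_lit 6,nat_lit 9057,nat_lit 10125,nat_lit 13814,nat_lit 14671,nat_lit 15436],[nat_lit 134,nat_lit 2687,nat_lit 3288,nat_lit 8604,nat_lit 13779],[nat_lit 7,nat_lit 1940,nat_lit 1944],[nat_lit 4,nat_lit 1962,nat_lit 2022],[nat_lit 3,nat_lit 2416],[nat_lit 324,nat_lit 1962],[nat_lit 1,nat_lit 2448,nat_lit 2515,nat_lit 3000],[nat_lit 2,nat_lit 3661],[nat_lit 7,nat_lit 3665],[nat_lit 3,nat_lit 4420],[nat_lit 7,nat_lit 10181],[nat_lit 10,nat_lit 11245],[nat_lit 7,nat_lit 14395],[nat_lit 135,nat_lit 1541,nat_lit 8133,nat_lit 10176,nat_lit 14200,nat_lit 15237],[nat_lit 8,nat_lit 2321,nat_lit 2327],[nat_lit 1,nat_lit 2885,nat_lit 2894],[nat_lit 8,nat_lit 4226],[nat_lit 3,nat_lit 4982],[nat_lit 8,nat_lit 11216],[nat_lit 136,nat_lit 6681,nat_lit 6888,nat_lit 6892,nat_lit 7216,nat_lit 8081,nat_lit 8944],[nat_lit 185,nat_lit 9141],[nat_lit 136,nat_lit 10161],[nat_lit 181,nat_lit 10236],[nat_lit 136,nat_lit 10927,nat_lit 11288],[nat_lit 170,nat_lit 11912],[nat_lit 136,nat_lit 13102],[nat_lit 9,nat_lit 8653,nat_lit 9138],[nat_lit 7,nat_lit 10233],[nat_lit 9,nat_lit 11157],[nat_lit 4,nat_lit 11690],[nat_lit 9,nat_lit 12398],[nat_lit 1,nat_lit 12622],[nat_lit 9,nat_lit 12737],[nat_lit 4,nat_lit 13218],[nat_lit 7,nat_lit 13936],[nat_lit 6,nat_lit 14517],[nat_lit 1,nat_lit 14971],[nat_lit 9,nat_lit 15306],[nat_lit 182,nat_lit 2846],[nat_lit 137,nat_lit 3088,nat_lit 3095,nat_lit 3511],[nat_lit 189,nat_lit 3759],[nat_lit 164,nat_lit 3763],[nat_lit 177,nat_lit 4971],[nat_lit 137,nat_lit 5259,nat_lit 6776,nat_lit 7216,nat_lit 7321],[nat_lit 182,nat_lit 8318],[nat_lit 156,nat_lit 9396],[nat_lit 137,nat_lit 11221,nat_lit 12227],[nat_lit 10,nat_lit 11282,nat_lit 14056],[nat_lit 3,nat_lit 14609],[nat_lit 10,nat_lit 15594],[nat_lit 138,nat_lit 1204,nat_lit 1212,nat_lit 1481],[nat_lit 148,nat_lit 1535],[nat_lit 138,nat_lit 1545],[nat_lit 148,nat_lit 1546],[nat_lit 138,nat_lit 1863],[nat_lit 148,nat_lit 1878],[nat_lit 138,nat_lit 1932],[nat_lit 157,nat_lit 1940,nat_lit 1951],[nat_lit 138,nat_lit 2678,nat_lit 2319,nat_lit 3335],[nat_lit 334,nat_lit 2339],[nat_lit 157,nat_lit 2339],[nat_lit 165,nat_lit 2434],[nat_lit 138,nat_lit 2873,nat_lit 4659,nat_lit 13059],[nat_lit 19,nat_lit 10150],[nat_lit 11,nat_lit 11669,nat_lit 14114,nat_lit 14140,nat_lit 14771,nat_lit 14774,nat_lit 14842],[nat_lit 139,nat_lit 11968],[nat_lit 129,nat_lit 12859],[nat_lit 26,nat_lit 14154],[nat_lit 23,nat_lit 14489],[nat_lit 326,nat_lit 14489],[nat_lit 139,nat_lit 14414],[nat_lit 12,nat_lit 3973],[nat_lit 15,nat_lit 4693],[nat_lit 12,nat_lit 7034,nat_lit 8954,nat_lit 9874],[nat_lit 16,nat_lit 10090],[nat_lit 12,nat_lit 12603],[nat_lit 16,nat_lit 14393],[nat_lit 12,nat_lit 14659,nat_lit 14674],[nat_lit 140,nat_lit 8315,nat_lit 13124,nat_lit 15213],[nat_lit 13,nat_lit 5157],[nat_lit 19,nat_lit 6119],[nat_lit 13,nat_lit 15084],[nat_lit 128,nat_lit 5474],[nat_lit 14,nat_lit 7216,nat_lit 8213,nat_lit 10287,nat_lit 10301],[nat_lit 15,nat_lit 12873,nat_lit 14293,nat_lit 15184],[nat_lit 142,nat_lit 11881,nat_lit 12762,nat_lit 13600,nat_lit 14179,nat_lit 14227],[nat_lit 45,nat_lit 15157],[nat_lit 142,nat_lit 15142,nat_lit 15236,nat_lit 15466,nat_lit 15543],[nat_lit 46,nat_lit 15787,nat_lit 15910],[nat_lit 142,nat_lit 15730,nat_lit 15733],[nat_lit 46,nat_lit 15945],[nat_lit 47,nat_lit 15947],[nat_lit 50,nat_lit 15949],[nat_lit 47,nat_lit 16044],[nat_lit 132,nat_lit 15918],[nat_lit 50,nat_lit 16150],[nat_lit 15,nat_lit 1208],[nat_lit 128,nat_lit 1605],[nat_lit 18,nat_lit 1476],[nat_lit 15,nat_lit 1530,nat_lit 1542,nat_lit 7949,nat_lit 8067,nat_lit 10203,nat_lit 10830,nat_lit 10991,nat_lit 10995,nat_lit 11201],[nat_lit 20,nat_lit 11828],[nat_lit 15,nat_lit 11981],[nat_lit 18,nat_lit 12265],[nat_lit 15,nat_lit 12875,nat_lit 13027,nat_lit 13066,nat_lit 13300,nat_lit 13659,nat_lit 13764,nat_lit 14352,nat_lit 15185,nat_lit 15237,nat_lit 15338],[nat_lit 143,nat_lit 3759,nat_lit 6296,nat_lit 7286,nat_lit 7700],[nat_lit 54,nat_lit 9345,nat_lit 9826],[nat_lit 143,nat_lit 9452],[nat_lit 152,nat_lit 10544],[nat_lit 143,nat_lit 10896,nat_lit 11265,nat_lit 11831,nat_lit 12762,nat_lit 13651,nat_lit 14880],[nat_lit 16,nat_lit 935],[nat_lit 19,nat_lit 945,nat_lit 1161,nat_lit 1171,nat_lit 1195],[nat_lit 20,nat_lit 1203,nat_lit 1215],[nat_lit 19,nat_lit 1463],[nat_lit 20,nat_lit 1469,nat_lit 1489],[nat_lit 325,nat_lit 1161],[nat_lit 20,nat_lit 1526],[nat_lit 16,nat_lit 1541],[nat_lit 20,nat_lit 1855],[nat_lit 16,nat_lit 9129,nat_lit 11983,nat_lit 12201,nat_lit 12229],[nat_lit 325,nat_lit 12637],[nat_lit 20,nat_lit 13082],[nat_lit 16,nat_lit 15623],[nat_lit 168,nat_lit 13426],[nat_lit 17,nat_lit 1468,nat_lit 1486],[nat_lit 19,nat_lit 1854],[nat_lit 20,nat_lit 1861,nat_lit 1889,nat_lit 2310],[nat_lit 17,nat_lit 15834],[nat_lit 145,nat_lit 1945,nat_lit 9203],[nat_lit 18,nat_lit 10656],[nat_lit 19,nat_lit 14295],[nat_lit 146,nat_lit 7880,nat_lit 10080],[nat_lit 19,nat_lit 1534,nat_lit 1551,nat_lit 1863,nat_lit 1891,nat_lit 1932,nat_lit 2311,nat_lit 2319,nat_lit 2356,nat_lit 2873,nat_lit 9279],[nat_lit 128,nat_lit 11452],[nat_lit 19,nat_lit 11687,nat_lit 13116,nat_lit 14008],[nat_lit 147,nat_lit 9203,nat_lit 10459,nat_lit 13664],[nat_lit 20,nat_lit 12619,nat_lit 13427,nat_lit 13811,nat_lit 13846],[nat_lit 13,nat_lit 14121],[nat_lit 20,nat_lit 14288],[nat_lit 148,nat_lit 2320,nat_lit 2415,nat_lit 2881,nat_lit 3494],[nat_lit 21,nat_lit 250],[nat_lit 326,nat_lit 250],[nat_lit 21,nat_lit 468,nat_lit 472],[nat_lit 26,nat_lit 619],[nat_lit 129,nat_lit 468],[nat_lit 29,nat_lit 625],[nat_lit 25,nat_lit 626],[nat_lit 27,nat_lit 803],[nat_lit 129,nat_lit 619],[nat_lit 29,nat_lit 807],[nat_lit 26,nat_lit 808],[nat_lit 129,nat_lit 625,nat_lit 626,nat_lit 803],[nat_lit 28,nat_lit 1035],[nat_lit 29,nat_lit 1036],[nat_lit 129,nat_lit 808],[nat_lit 29,nat_lit 1311],[nat_lit 21,nat_lit 3279],[nat_lit 129,nat_lit 3089],[nat_lit 21,nat_lit 9170],[nat_lit 25,nat_lit 10266],[nat_lit 21,nat_lit 14916,nat_lit 15041],[nat_lit 22,nat_lit 6008,nat_lit 11916,nat_lit 15389],[nat_lit 23,nat_lit 10089],[nat_lit 25,nat_lit 12847,nat_lit 12923],[nat_lit 28,nat_lit 12925,nat_lit 14294],[nat_lit 26,nat_lit 14311],[nat_lit 24,nat_lit 14775,nat_lit 14796],[nat_lit 151,nat_lit 14239,nat_lit 14790],[nat_lit 24,nat_lit 465],[nat_lit 28,nat_lit 813,nat_lit 1038],[nat_lit 24,nat_lit 1045,nat_lit 1315,nat_lit 3959],[nat_lit 129,nat_lit 3959],[nat_lit 24,nat_lit 4965,nat_lit 6590,nat_lit 7001],[nat_lit 29,nat_lit 8007],[nat_lit 24,nat_lit 8558,nat_lit 9801,nat_lit 9820,nat_lit 10424,nat_lit 11436,nat_lit 11455,nat_lit 12375,nat_lit 13040,nat_lit 14381,nat_lit 14773,nat_lit 14845,nat_lit 14879,nat_lit 14970,nat_lit 15621],[nat_lit 54,nat_lit 3967],[nat_lit 152,nat_lit 12847,nat_lit 12923],[nat_lit 52,nat_lit 13618,nat_lit 13684],[nat_lit 54,nat_lit 14256,nat_lit 14315],[nat_lit 25,nat_lit 806,nat_lit 1031],[nat_lit 29,nat_lit 1037],[nat_lit 25,nat_lit 1303],[nat_lit 129,nat_lit 1037],[nat_lit 25,nat_lit 2685],[nat_lit 129,nat_lit 2685],[nat_lit 25,nat_lit 5794],[nat_lit 29,nat_lit 6654],[nat_lit 25,nat_lit 7549,nat_lit 10894,nat_lit 11460,nat_lit 12402,nat_lit 15833],[nat_lit 153,nat_lit 12641],[nat_lit 134,nat_lit 11711],[nat_lit 58,nat_lit 12851],[nat_lit 134,nat_lit 12851],[nat_lit 153,nat_lit 14311],[nat_lit 58,nat_lit 14809],[nat_lit 134,nat_lit 14809],[nat_lit 26,nat_lit 1304,nat_lit 1653],[nat_lit 29,nat_lit 1655],[nat_lit 28,nat_lit 1663],[nat_lit 29,nat_lit 2076],[nat_lit 28,nat_lit 2078],[nat_lit 129,nat_lit 1663],[nat_lit 29,nat_lit 3022],[nat_lit 22,nat_lit 3690],[nat_lit 23,nat_lit 4449],[nat_lit 26,nat_lit 8566],[nat_lit 129,nat_lit 8566],[nat_lit 26,nat_lit 11880,nat_lit 12410],[nat_lit 29,nat_lit 12766],[nat_lit 26,nat_lit 13240],[nat_lit 29,nat_lit 13249],[nat_lit 24,nat_lit 13537],[nat_lit 29,nat_lit 13960],[nat_lit 26,nat_lit 15984],[nat_lit 61,nat_lit 13619],[nat_lit 169,nat_lit 12927],[nat_lit 135,nat_lit 13619],[nat_lit 27,nat_lit 11654],[nat_lit 155,nat_lit 8948],[nat_lit 28,nat_lit 1312,nat_lit 2573,nat_lit 3283],[nat_lit 26,nat_lit 3912],[nat_lit 28,nat_lit 4516,nat_lit 8567,nat_lit 8720,nat_lit 9073,nat_lit 9098],[nat_lit 25,nat_lit 10192],[nat_lit 28,nat_lit 10417,nat_lit 10885],[nat_lit 24,nat_lit 11253],[nat_lit 26,nat_lit 12231],[nat_lit 28,nat_lit 12591,nat_lit 14539,nat_lit 14794],[nat_lit 129,nat_lit 1312],[nat_lit 24,nat_lit 3238],[nat_lit 129,nat_lit 3238],[nat_lit 27,nat_lit 4585],[nat_lit 22,nat_lit 4643,nat_lit 5376],[nat_lit 29,nat_lit 11670,nat_lit 13419,nat_lit 13788],[nat_lit 157,nat_lit 2883,nat_lit 2998,nat_lit 3505,nat_lit 4220,nat_lit 10688],[nat_lit 36,nat_lit 1073],[nat_lit 130,nat_lit 1073],[nat_lit 140,nat_lit 1361],[nat_lit 130,nat_lit 1723],[nat_lit 158,nat_lit 15388],[nat_lit 34,nat_lit 10475],[nat_lit 32,nat_lit 14273,nat_lit 15197],[nat_lit 159,nat_lit 14766,nat_lit 14814,nat_lit 15528],[nat_lit 32,nat_lit 355,nat_lit 1059,nat_lit 1223,nat_lit 2677,nat_lit 11436,nat_lit 13768,nat_lit 14274,nat_lit 14524],[nat_lit 160,nat_lit 15463],[nat_lit 140,nat_lit 727],[nat_lit 33,nat_lit 1055],[nat_lit 36,nat_lit 1167],[nat_lit 37,nat_lit 1211],[nat_lit 33,nat_lit 1323],[nat_lit 37,nat_lit 1340,nat_lit 1678],[nat_lit 33,nat_lit 3278],[nat_lit 161,nat_lit 6005,nat_lit 11913,nat_lit 14716,nat_lit 15394],[nat_lit 130,nat_lit 1059],[nat_lit 34,nat_lit 1478],[nat_lit 130,nat_lit 1223],[nat_lit 34,nat_lit 1676],[nat_lit 140,nat_lit 1344],[nat_lit 37,nat_lit 1874],[nat_lit 140,nat_lit 1676],[nat_lit 37,nat_lit 2599],[nat_lit 162,nat_lit 14206],[nat_lit 63,nat_lit 9279],[nat_lit 163,nat_lit 10085],[nat_lit 64,nat_lit 12169],[nat_lit 136,nat_lit 12169],[nat_lit 36,nat_lit 1545,nat_lit 1699,nat_lit 1975,nat_lit 2108,nat_lit 2335],[nat_lit 140,nat_lit 2699],[nat_lit 33,nat_lit 2468],[nat_lit 36,nat_lit 11510,nat_lit 15199],[nat_lit 130,nat_lit 1545],[nat_lit 140,nat_lit 1950],[nat_lit 130,nat_lit 2335,nat_lit 2356],[nat_lit 140,nat_lit 2901,nat_lit 2922],[nat_lit 37,nat_lit 12604],[nat_lit 183,nat_lit 2423,nat_lit 2434,nat_lit 2885,nat_lit 2887,nat_lit 2906],[nat_lit 138,nat_lit 3008],[nat_lit 165,nat_lit 3507],[nat_lit 138,nat_lit 3511,nat_lit 3514],[nat_lit 165,nat_lit 3659],[nat_lit 183,nat_lit 4420],[nat_lit 165,nat_lit 4975,nat_lit 15463],[nat_lit 131,nat_lit 12002],[nat_lit 39,nat_lit 13659],[nat_lit 40,nat_lit 1084],[nat_lit 168,nat_lit 4209,nat_lit 13741],[nat_lit 41,nat_lit 1374],[nat_lit 44,nat_lit 1740],[nat_lit 43,nat_lit 2184],[nat_lit 169,nat_lit 12974],[nat_lit 170,nat_lit 14712,nat_lit 14714],[nat_lit 43,nat_lit 15731],[nat_lit 171,nat_lit 12161],[nat_lit 44,nat_lit 15916],[nat_lit 43,nat_lit 16050],[nat_lit 172,nat_lit 4237,nat_lit 5800,nat_lit 13040,nat_lit 14118],[nat_lit 49,nat_lit 720],[nat_lit 142,nat_lit 1727],[nat_lit 45,nat_lit 13031,nat_lit 13092,nat_lit 13544,nat_lit 13806,nat_lit 14701],[nat_lit 200,nat_lit 14479],[nat_lit 45,nat_lit 15474,nat_lit 16025,nat_lit 16049,nat_lit 16052,nat_lit 16156],[nat_lit 54,nat_lit 9748],[nat_lit 51,nat_lit 14362],[nat_lit 173,nat_lit 16091],[nat_lit 46,nat_lit 1159,nat_lit 15734,nat_lit 16155],[nat_lit 45,nat_lit 16224],[nat_lit 58,nat_lit 8653],[nat_lit 47,nat_lit 1464],[nat_lit 50,nat_lit 1856],[nat_lit 49,nat_lit 2312],[nat_lit 48,nat_lit 12209],[nat_lit 49,nat_lit 15243,nat_lit 15549],[nat_lit 132,nat_lit 15243],[nat_lit 49,nat_lit 15701,nat_lit 15731],[nat_lit 132,nat_lit 15549],[nat_lit 45,nat_lit 15794],[nat_lit 49,nat_lit 15892,nat_lit 15948],[nat_lit 45,nat_lit 15952],[nat_lit 46,nat_lit 15955],[nat_lit 49,nat_lit 16026],[nat_lit 46,nat_lit 16079],[nat_lit 47,nat_lit 16082],[nat_lit 49,nat_lit 16138],[nat_lit 45,nat_lit 16174],[nat_lit 49,nat_lit 16220],[nat_lit 50,nat_lit 15894,nat_lit 15916],[nat_lit 49,nat_lit 16050],[nat_lit 50,nat_lit 16073],[nat_lit 49,nat_lit 16171],[nat_lit 133,nat_lit 6652],[nat_lit 55,nat_lit 6654],[nat_lit 133,nat_lit 8547],[nat_lit 51,nat_lit 11776],[nat_lit 167,nat_lit 14362],[nat_lit 51,nat_lit 15339],[nat_lit 58,nat_lit 2503],[nat_lit 179,nat_lit 13557,nat_lit 13664],[nat_lit 144,nat_lit 14295],[nat_lit 153,nat_lit 14796],[nat_lit 133,nat_lit 2449,nat_lit 3001,nat_lit 3039],[nat_lit 52,nat_lit 12680],[nat_lit 55,nat_lit 13471],[nat_lit 52,nat_lit 15624],[nat_lit 180,nat_lit 2429,nat_lit 14711],[nat_lit 169,nat_lit 15127],[nat_lit 133,nat_lit 2886,nat_lit 3511],[nat_lit 54,nat_lit 4971],[nat_lit 188,nat_lit 3520],[nat_lit 155,nat_lit 4256],[nat_lit 176,nat_lit 5647],[nat_lit 163,nat_lit 5020],[nat_lit 332,nat_lit 5144],[nat_lit 176,nat_lit 6512],[nat_lit 181,nat_lit 11164],[nat_lit 136,nat_lit 12162],[nat_lit 181,nat_lit 12252],[nat_lit 170,nat_lit 12974],[nat_lit 181,nat_lit 13833],[nat_lit 54,nat_lit 13458],[nat_lit 52,nat_lit 14142],[nat_lit 160,nat_lit 14793],[nat_lit 182,nat_lit 1161,nat_lit 1167,nat_lit 1195,nat_lit 1463],[nat_lit 189,nat_lit 1467,nat_lit 1477,nat_lit 1853],[nat_lit 55,nat_lit 5795,nat_lit 15909],[nat_lit 193,nat_lit 1860,nat_lit 1872,nat_lit 1931],[nat_lit 183,nat_lit 1950],[nat_lit 193,nat_lit 2316,nat_lit 2332],[nat_lit 183,nat_lit 2883,nat_lit 3507],[nat_lit 148,nat_lit 3670],[nat_lit 183,nat_lit 4220,nat_lit 4234,nat_lit 4418,nat_lit 4996,nat_lit 5800,nat_lit 6660],[nat_lit 56,nat_lit 2469],[nat_lit 144,nat_lit 2469],[nat_lit 134,nat_lit 3054],[nat_lit 153,nat_lit 3054],[nat_lit 174,nat_lit 3720],[nat_lit 134,nat_lit 3724],[nat_lit 56,nat_lit 15340],[nat_lit 184,nat_lit 3009],[nat_lit 175,nat_lit 4157],[nat_lit 154,nat_lit 3672],[nat_lit 185,nat_lit 3054],[nat_lit 136,nat_lit 3696],[nat_lit 185,nat_lit 14437],[nat_lit 58,nat_lit 3088,nat_lit 3758],[nat_lit 134,nat_lit 3088],[nat_lit 58,nat_lit 14705],[nat_lit 186,nat_lit 1871,nat_lit 2308],[nat_lit 189,nat_lit 3044,nat_lit 4926],[nat_lit 186,nat_lit 3960,nat_lit 4244],[nat_lit 147,nat_lit 4430],[nat_lit 164,nat_lit 5005],[nat_lit 191,nat_lit 5235],[nat_lit 59,nat_lit 10751,nat_lit 14421,nat_lit 14662],[nat_lit 187,nat_lit 2433,nat_lit 2464],[nat_lit 193,nat_lit 2898],[nat_lit 187,nat_lit 3008,nat_lit 3424],[nat_lit 334,nat_lit 3525],[nat_lit 187,nat_lit 4246,nat_lit 4429,nat_lit 5227,nat_lit 11689],[nat_lit 60,nat_lit 5118],[nat_lit 154,nat_lit 5118],[nat_lit 145,nat_lit 5969],[nat_lit 60,nat_lit 15584],[nat_lit 162,nat_lit 2800],[nat_lit 180,nat_lit 2468],[nat_lit 184,nat_lit 4421],[nat_lit 61,nat_lit 7849,nat_lit 8653,nat_lit 11338],[nat_lit 189,nat_lit 5838,nat_lit 5839],[nat_lit 62,nat_lit 16103],[nat_lit 190,nat_lit 3393],[nat_lit 183,nat_lit 3053],[nat_lit 190,nat_lit 12621],[nat_lit 63,nat_lit 5001],[nat_lit 185,nat_lit 5001],[nat_lit 63,nat_lit 5998],[nat_lit 155,nat_lit 5826],[nat_lit 63,nat_lit 6713,nat_lit 6715,nat_lit 6920],[nat_lit 163,nat_lit 6699],[nat_lit 63,nat_lit 8653,nat_lit 8938],[nat_lit 136,nat_lit 8938],[nat_lit 146,nat_lit 9279,nat_lit 10074],[nat_lit 155,nat_lit 11157],[nat_lit 63,nat_lit 12215,nat_lit 12246],[nat_lit 181,nat_lit 12151],[nat_lit 136,nat_lit 12215,nat_lit 12246],[nat_lit 63,nat_lit 13798],[nat_lit 181,nat_lit 13086],[nat_lit 146,nat_lit 13098],[nat_lit 136,nat_lit 13826],[nat_lit 155,nat_lit 13830],[nat_lit 64,nat_lit 4448,nat_lit 13786],[nat_lit 176,nat_lit 13786],[nat_lit 332,nat_lit 14127],[nat_lit 137,nat_lit 15814],[nat_lit 182,nat_lit 15972],[nat_lit 194,nat_lit 339],[nat_lit 15,nat_lit 1213],[nat_lit 19,nat_lit 1467],[nat_lit 15,nat_lit 1483,nat_lit 1888],[nat_lit 706,nat_lit 2167],[nat_lit 834,nat_lit 2093],[nat_lit 32,nat_lit 1210],[nat_lit 140,nat_lit 1169],[nat_lit 68,nat_lit 15172,nat_lit 15249,nat_lit 15582,nat_lit 15964],[nat_lit 196,nat_lit 1199],[nat_lit 202,nat_lit 14417,nat_lit 15069,nat_lit 15434,nat_lit 15602,nat_lit 15683,nat_lit 15888,nat_lit 15975],[nat_lit 3,nat_lit 13052],[nat_lit 4,nat_lit 14420],[nat_lit 324,nat_lit 14137],[nat_lit 1,nat_lit 14793],[nat_lit 4,nat_lit 15437],[nat_lit 324,nat_lit 15384],[nat_lit 4,nat_lit 15891],[nat_lit 69,nat_lit 15771],[nat_lit 197,nat_lit 15175],[nat_lit 202,nat_lit 15209],[nat_lit 197,nat_lit 15263],[nat_lit 14,nat_lit 15178,nat_lit 15211],[nat_lit 128,nat_lit 14381],[nat_lit 14,nat_lit 15266],[nat_lit 325,nat_lit 15602,nat_lit 15642,nat_lit 15681,nat_lit 15683,nat_lit 15932,nat_lit 16162,nat_lit 16163],[nat_lit 70,nat_lit 15859],[nat_lit 151,nat_lit 15505],[nat_lit 198,nat_lit 15775],[nat_lit 129,nat_lit 14845,nat_lit 14381],[nat_lit 23,nat_lit 15776],[nat_lit 139,nat_lit 15266],[nat_lit 326,nat_lit 15683,nat_lit 15975],[nat_lit 199,nat_lit 13666],[nat_lit 201,nat_lit 15176],[nat_lit 199,nat_lit 15193],[nat_lit 130,nat_lit 13768],[nat_lit 31,nat_lit 15194],[nat_lit 327,nat_lit 15069],[nat_lit 72,nat_lit 15557],[nat_lit 202,nat_lit 14938],[nat_lit 200,nat_lit 15310],[nat_lit 73,nat_lit 16181],[nat_lit 45,nat_lit 16141],[nat_lit 329,nat_lit 1199],[nat_lit 173,nat_lit 15386],[nat_lit 329,nat_lit 15758],[nat_lit 133,nat_lit 15510],[nat_lit 329,nat_lit 15975],[nat_lit 202,nat_lit 15988,nat_lit 16013],[nat_lit 161,nat_lit 15199],[nat_lit 174,nat_lit 15247],[nat_lit 144,nat_lit 15211],[nat_lit 153,nat_lit 15526],[nat_lit 144,nat_lit 15546],[nat_lit 134,nat_lit 15699],[nat_lit 203,nat_lit 16014],[nat_lit 331,nat_lit 1199],[nat_lit 180,nat_lit 1247],[nat_lit 184,nat_lit 1937],[nat_lit 145,nat_lit 15546],[nat_lit 331,nat_lit 15988],[nat_lit 136,nat_lit 13814],[nat_lit 77,nat_lit 15966],[nat_lit 205,nat_lit 933],[nat_lit 49,nat_lit 15896],[nat_lit 205,nat_lit 15976,nat_lit 16015,nat_lit 16074,nat_lit 16188,nat_lit 16209],[nat_lit 333,nat_lit 15602,nat_lit 15975,nat_lit 16097],[nat_lit 50,nat_lit 16068],[nat_lit 206,nat_lit 16029,nat_lit 16070,nat_lit 16072,nat_lit 16194],[nat_lit 138,nat_lit 13814],[nat_lit 334,nat_lit 15821],[nat_lit 178,nat_lit 16100,nat_lit 16128,nat_lit 16129],[nat_lit 334,nat_lit 16015,nat_lit 16074],[nat_lit 178,nat_lit 16210],[nat_lit 80,nat_lit 4713],[nat_lit 848,nat_lit 1584],[nat_lit 191,nat_lit 4495],[nat_lit 1872,nat_lit 9772],[nat_lit 2000,nat_lit 7020],[nat_lit 53,nat_lit 14180],[nat_lit 4432,nat_lit 4136,nat_lit 406],[nat_lit 16,nat_lit 10750],[nat_lit 14,nat_lit 10785],[nat_lit 4432,nat_lit 945],[nat_lit 20,nat_lit 4704],[nat_lit 8784,nat_lit 2685],[nat_lit 147,nat_lit 3956],[nat_lit 2384,nat_lit 1081],[nat_lit 128,nat_lit 2689],[nat_lit 0,nat_lit 2421],[nat_lit 7,nat_lit 2429],[nat_lit 0,nat_lit 2444,nat_lit 2692,nat_lit 2883,nat_lit 2925,nat_lit 2998,nat_lit 3495,nat_lit 3505,nat_lit 3556,nat_lit 4220],[nat_lit 5,nat_lit 11468],[nat_lit 0,nat_lit 12234,nat_lit 12871,nat_lit 13642],[nat_lit 7,nat_lit 14273],[nat_lit 2,nat_lit 14773],[nat_lit 0,nat_lit 15013,nat_lit 15788],[nat_lit 128,nat_lit 1213],[nat_lit 14,nat_lit 1792],[nat_lit 325,nat_lit 1792],[nat_lit 128,nat_lit 1749,nat_lit 10230,nat_lit 11140],[nat_lit 1,nat_lit 2596,nat_lit 3006,nat_lit 3033,nat_lit 3507,nat_lit 3561,nat_lit 3659,nat_lit 4221,nat_lit 4234,nat_lit 4299],[nat_lit 5,nat_lit 15179],[nat_lit 1,nat_lit 15184],[nat_lit 129,nat_lit 1038,nat_lit 2078,nat_lit 2173,nat_lit 2573,nat_lit 8567],[nat_lit 2,nat_lit 4237,nat_lit 4418,nat_lit 4977,nat_lit 5077,nat_lit 15198],[nat_lit 130,nat_lit 1210,nat_lit 1699,nat_lit 2108],[nat_lit 140,nat_lit 2134,nat_lit 2610],[nat_lit 36,nat_lit 3718],[nat_lit 3,nat_lit 4996,nat_lit 5223,nat_lit 5802,nat_lit 5927],[nat_lit 6,nat_lit 15250],[nat_lit 131,nat_lit 2184],[nat_lit 150,nat_lit 2305],[nat_lit 4,nat_lit 6817],[nat_lit 10,nat_lit 14896],[nat_lit 132,nat_lit 2312],[nat_lit 133,nat_lit 3007,nat_lit 3014,nat_lit 3508],[nat_lit 53,nat_lit 4255],[nat_lit 133,nat_lit 3562,nat_lit 3668],[nat_lit 152,nat_lit 3677],[nat_lit 133,nat_lit 3702,nat_lit 4235,nat_lit 4238],[nat_lit 52,nat_lit 5021],[nat_lit 133,nat_lit 4300,nat_lit 4307,nat_lit 4419],[nat_lit 160,nat_lit 4434],[nat_lit 133,nat_lit 4976,nat_lit 4993,nat_lit 5078],[nat_lit 167,nat_lit 5238],[nat_lit 133,nat_lit 5828,nat_lit 5928,nat_lit 6076],[nat_lit 160,nat_lit 6093],[nat_lit 133,nat_lit 7794,nat_lit 15371],[nat_lit 55,nat_lit 15845],[nat_lit 9,nat_lit 341],[nat_lit 6,nat_lit 15950],[nat_lit 134,nat_lit 14173],[nat_lit 174,nat_lit 14130],[nat_lit 58,nat_lit 14411],[nat_lit 134,nat_lit 14705],[nat_lit 59,nat_lit 15457],[nat_lit 7,nat_lit 460],[nat_lit 324,nat_lit 460],[nat_lit 7,nat_lit 3294],[nat_lit 145,nat_lit 3292],[nat_lit 8,nat_lit 715],[nat_lit 136,nat_lit 4448,nat_lit 5001,nat_lit 5998],[nat_lit 170,nat_lit 6713],[nat_lit 136,nat_lit 6920,nat_lit 7653],[nat_lit 64,nat_lit 14897],[nat_lit 9,nat_lit 15895],[nat_lit 189,nat_lit 339],[nat_lit 164,nat_lit 1792],[nat_lit 137,nat_lit 1477,nat_lit 2098,nat_lit 2331],[nat_lit 189,nat_lit 2597],[nat_lit 10,nat_lit 2595,nat_lit 16031,nat_lit 16077],[nat_lit 138,nat_lit 2318,nat_lit 2334,nat_lit 2414,nat_lit 3934,nat_lit 2879,nat_lit 2899,nat_lit 3056,nat_lit 3508],[nat_lit 192,nat_lit 5153],[nat_lit 138,nat_lit 4228,nat_lit 4238],[nat_lit 187,nat_lit 4240],[nat_lit 138,nat_lit 4976,nat_lit 4993,nat_lit 5224],[nat_lit 187,nat_lit 5801],[nat_lit 138,nat_lit 5828,nat_lit 6661],[nat_lit 187,nat_lit 6703],[nat_lit 138,nat_lit 7611],[nat_lit 11,nat_lit 324,nat_lit 461],[nat_lit 15,nat_lit 615],[nat_lit 20,nat_lit 616],[nat_lit 128,nat_lit 541],[nat_lit 19,nat_lit 802],[nat_lit 20,nat_lit 928],[nat_lit 11,nat_lit 2091,nat_lit 2587,nat_lit 3167,nat_lit 3815],[nat_lit 12,nat_lit 3832],[nat_lit 11,nat_lit 4559,nat_lit 14881],[nat_lit 128,nat_lit 15510],[nat_lit 15,nat_lit 15889],[nat_lit 12,nat_lit 4561,nat_lit 5357],[nat_lit 15,nat_lit 15724],[nat_lit 13,nat_lit 2437,nat_lit 4967,nat_lit 5359],[nat_lit 43,nat_lit 4966],[nat_lit 15,nat_lit 15506],[nat_lit 16,nat_lit 16027],[nat_lit 142,nat_lit 2875],[nat_lit 17,nat_lit 1880],[nat_lit 20,nat_lit 2345],[nat_lit 17,nat_lit 2346],[nat_lit 15,nat_lit 6200],[nat_lit 19,nat_lit 9667],[nat_lit 15,nat_lit 16139],[nat_lit 143,nat_lit 3669,nat_lit 4308,nat_lit 4427,nat_lit 4434,nat_lit 4997],[nat_lit 53,nat_lit 5853],[nat_lit 143,nat_lit 5079,nat_lit 5089,nat_lit 5225,nat_lit 5823],[nat_lit 52,nat_lit 6732],[nat_lit 143,nat_lit 5929,nat_lit 6093,nat_lit 6703],[nat_lit 160,nat_lit 6732],[nat_lit 143,nat_lit 6819,nat_lit 7005,nat_lit 8840,nat_lit 12240,nat_lit 13097],[nat_lit 19,nat_lit 2870],[nat_lit 16,nat_lit 2910],[nat_lit 20,nat_lit 3491],[nat_lit 19,nat_lit 3541,nat_lit 4217],[nat_lit 16,nat_lit 7118,nat_lit 13540],[nat_lit 14,nat_lit 13806],[nat_lit 128,nat_lit 13806],[nat_lit 16,nat_lit 14411,nat_lit 16065],[nat_lit 144,nat_lit 4209,nat_lit 9140],[nat_lit 128,nat_lit 3969],[nat_lit 17,nat_lit 5476],[nat_lit 15,nat_lit 5481],[nat_lit 13,nat_lit 5736],[nat_lit 325,nat_lit 6306],[nat_lit 17,nat_lit 14415],[nat_lit 18,nat_lit 6407,nat_lit 14894],[nat_lit 146,nat_lit 5835],[nat_lit 181,nat_lit 8475],[nat_lit 146,nat_lit 6919],[nat_lit 185,nat_lit 7694],[nat_lit 146,nat_lit 7915,nat_lit 8671,nat_lit 9710],[nat_lit 185,nat_lit 10235],[nat_lit 136,nat_lit 11268],[nat_lit 19,nat_lit 5304,nat_lit 15895,nat_lit 16140,nat_lit 16213],[nat_lit 147,nat_lit 5293,nat_lit 4421,nat_lit 6304],[nat_lit 20,nat_lit 2243,nat_lit 10781,nat_lit 16032],[nat_lit 148,nat_lit 2880,nat_lit 2900,nat_lit 2997,nat_lit 3501,nat_lit 3527],[nat_lit 172,nat_lit 5499],[nat_lit 183,nat_lit 4229],[nat_lit 148,nat_lit 4985],[nat_lit 138,nat_lit 4987],[nat_lit 148,nat_lit 4997,nat_lit 7043,nat_lit 5557],[nat_lit 187,nat_lit 5816],[nat_lit 148,nat_lit 5823],[nat_lit 187,nat_lit 5829],[nat_lit 192,nat_lit 6141],[nat_lit 148,nat_lit 6077],[nat_lit 187,nat_lit 6696],[nat_lit 148,nat_lit 6703],[nat_lit 187,nat_lit 7006],[nat_lit 148,nat_lit 7612,nat_lit 8627],[nat_lit 187,nat_lit 8628],[nat_lit 148,nat_lit 16065],[nat_lit 21,nat_lit 2649],[nat_lit 22,nat_lit 3246],[nat_lit 21,nat_lit 3904],[nat_lit 23,nat_lit 3917],[nat_lit 326,nat_lit 3917],[nat_lit 21,nat_lit 4601],[nat_lit 129,nat_lit 3904],[nat_lit 24,nat_lit 4644],[nat_lit 28,nat_lit 4664],[nat_lit 21,nat_lit 5077],[nat_lit 129,nat_lit 4644],[nat_lit 24,nat_lit 6218],[nat_lit 22,nat_lit 5400,nat_lit 5927],[nat_lit 25,nat_lit 5465],[nat_lit 129,nat_lit 5474],[nat_lit 23,nat_lit 6817],[nat_lit 24,nat_lit 1660,nat_lit 5448,nat_lit 5928],[nat_lit 27,nat_lit 5989],[nat_lit 23,nat_lit 5997],[nat_lit 24,nat_lit 6818],[nat_lit 129,nat_lit 5928],[nat_lit 28,nat_lit 6918],[nat_lit 24,nat_lit 7216,nat_lit 7238,nat_lit 7794],[nat_lit 129,nat_lit 6818,nat_lit 7794],[nat_lit 24,nat_lit 14180,nat_lit 15766],[nat_lit 152,nat_lit 3291,nat_lit 4426],[nat_lit 53,nat_lit 5818],[nat_lit 152,nat_lit 5070],[nat_lit 167,nat_lit 5232,nat_lit 5818],[nat_lit 152,nat_lit 5908],[nat_lit 52,nat_lit 7607],[nat_lit 143,nat_lit 6790],[nat_lit 152,nat_lit 7022],[nat_lit 143,nat_lit 7607],[nat_lit 152,nat_lit 7694,nat_lit 9961,nat_lit 15909],[nat_lit 25,nat_lit 7137],[nat_lit 24,nat_lit 8132],[nat_lit 25,nat_lit 8842],[nat_lit 134,nat_lit 3178],[nat_lit 129,nat_lit 2694],[nat_lit 26,nat_lit 6326],[nat_lit 29,nat_lit 12667],[nat_lit 180,nat_lit 8607],[nat_lit 129,nat_lit 6918],[nat_lit 155,nat_lit 6692],[nat_lit 181,nat_lit 7678],[nat_lit 155,nat_lit 10756],[nat_lit 136,nat_lit 9670],[nat_lit 155,nat_lit 9769,nat_lit 12240],[nat_lit 28,nat_lit 14694],[nat_lit 23,nat_lit 14701],[nat_lit 26,nat_lit 15116],[nat_lit 28,nat_lit 16030],[nat_lit 156,nat_lit 4495],[nat_lit 191,nat_lit 5303],[nat_lit 29,nat_lit 16143],[nat_lit 157,nat_lit 3503,nat_lit 3528,nat_lit 3657,nat_lit 4229,nat_lit 4263],[nat_lit 183,nat_lit 4264,nat_lit 4417,nat_lit 5027],[nat_lit 138,nat_lit 5030,nat_lit 5222,nat_lit 5865],[nat_lit 187,nat_lit 5869],[nat_lit 157,nat_lit 6685],[nat_lit 148,nat_lit 6744],[nat_lit 157,nat_lit 7665],[nat_lit 32,nat_lit 1675],[nat_lit 36,nat_lit 2103],[nat_lit 30,nat_lit 2865],[nat_lit 327,nat_lit 3485],[nat_lit 31,nat_lit 3489],[nat_lit 37,nat_lit 1872],[nat_lit 31,nat_lit 1884],[nat_lit 36,nat_lit 2334],[nat_lit 140,nat_lit 2529],[nat_lit 36,nat_lit 2351],[nat_lit 37,nat_lit 2605],[nat_lit 32,nat_lit 3019,nat_lit 3182],[nat_lit 130,nat_lit 3019],[nat_lit 36,nat_lit 3844],[nat_lit 32,nat_lit 4268],[nat_lit 140,nat_lit 3686],[nat_lit 32,nat_lit 4480],[nat_lit 130,nat_lit 4268],[nat_lit 35,nat_lit 5289],[nat_lit 140,nat_lit 5037],[nat_lit 34,nat_lit 5972],[nat_lit 31,nat_lit 5973],[nat_lit 327,nat_lit 6487],[nat_lit 160,nat_lit 3485,nat_lit 4213],[nat_lit 143,nat_lit 3489],[nat_lit 160,nat_lit 5818],[nat_lit 36,nat_lit 2331],[nat_lit 33,nat_lit 2913],[nat_lit 37,nat_lit 3542],[nat_lit 36,nat_lit 4284],[nat_lit 168,nat_lit 5499],[nat_lit 34,nat_lit 3488],[nat_lit 140,nat_lit 3488],[nat_lit 180,nat_lit 3719],[nat_lit 154,nat_lit 4481],[nat_lit 163,nat_lit 5115],[nat_lit 185,nat_lit 5840],[nat_lit 163,nat_lit 5974,nat_lit 10841],[nat_lit 36,nat_lit 5246,nat_lit 6746],[nat_lit 189,nat_lit 3288,nat_lit 4475],[nat_lit 130,nat_lit 2334,nat_lit 2351],[nat_lit 140,nat_lit 2900,nat_lit 2917],[nat_lit 130,nat_lit 3844,nat_lit 4284],[nat_lit 140,nat_lit 4582],[nat_lit 183,nat_lit 3290,nat_lit 4712],[nat_lit 187,nat_lit 5501],[nat_lit 165,nat_lit 4231],[nat_lit 190,nat_lit 4968],[nat_lit 165,nat_lit 4986],[nat_lit 183,nat_lit 4989],[nat_lit 192,nat_lit 5752],[nat_lit 183,nat_lit 5814],[nat_lit 138,nat_lit 5817,nat_lit 6682],[nat_lit 148,nat_lit 6688,nat_lit 7637],[nat_lit 157,nat_lit 7642,nat_lit 8655],[nat_lit 165,nat_lit 8684],[nat_lit 187,nat_lit 9749,nat_lit 9788],[nat_lit 190,nat_lit 10826],[nat_lit 192,nat_lit 11824],[nat_lit 328,nat_lit 933],[nat_lit 39,nat_lit 2868,nat_lit 3306],[nat_lit 44,nat_lit 4555],[nat_lit 150,nat_lit 2869],[nat_lit 141,nat_lit 3488],[nat_lit 41,nat_lit 5355],[nat_lit 180,nat_lit 5229],[nat_lit 171,nat_lit 4690],[nat_lit 191,nat_lit 4187],[nat_lit 141,nat_lit 5355],[nat_lit 172,nat_lit 3175],[nat_lit 190,nat_lit 2868],[nat_lit 172,nat_lit 12643],[nat_lit 45,nat_lit 3106,nat_lit 4223],[nat_lit 133,nat_lit 9135],[nat_lit 54,nat_lit 16142],[nat_lit 329,nat_lit 16194],[nat_lit 50,nat_lit 3099],[nat_lit 142,nat_lit 4588],[nat_lit 47,nat_lit 3766,nat_lit 3773],[nat_lit 159,nat_lit 3772],[nat_lit 142,nat_lit 3773],[nat_lit 132,nat_lit 4223],[nat_lit 46,nat_lit 5806],[nat_lit 50,nat_lit 6864],[nat_lit 177,nat_lit 3938],[nat_lit 171,nat_lit 3949],[nat_lit 65,nat_lit 16077],[nat_lit 333,nat_lit 16194],[nat_lit 50,nat_lit 3102],[nat_lit 47,nat_lit 3768],[nat_lit 132,nat_lit 4217],[nat_lit 142,nat_lit 4972],[nat_lit 151,nat_lit 5796],[nat_lit 178,nat_lit 4659],[nat_lit 51,nat_lit 10231,nat_lit 11279],[nat_lit 143,nat_lit 10231],[nat_lit 173,nat_lit 11279],[nat_lit 179,nat_lit 3710,nat_lit 4245,nat_lit 4471],[nat_lit 56,nat_lit 5283],[nat_lit 58,nat_lit 5285],[nat_lit 179,nat_lit 5000,nat_lit 5276],[nat_lit 57,nat_lit 6140],[nat_lit 179,nat_lit 5825,nat_lit 5847],[nat_lit 59,nat_lit 7060],[nat_lit 174,nat_lit 7060],[nat_lit 179,nat_lit 6662],[nat_lit 144,nat_lit 6700],[nat_lit 179,nat_lit 6705],[nat_lit 153,nat_lit 6724],[nat_lit 179,nat_lit 6801,nat_lit 6840],[nat_lit 174,nat_lit 8464],[nat_lit 144,nat_lit 7060],[nat_lit 179,nat_lit 7609,nat_lit 7643,nat_lit 7797],[nat_lit 144,nat_lit 7878],[nat_lit 179,nat_lit 8844,nat_lit 12030],[nat_lit 152,nat_lit 3934],[nat_lit 167,nat_lit 4660],[nat_lit 173,nat_lit 4914],[nat_lit 180,nat_lit 5118],[nat_lit 135,nat_lit 6081],[nat_lit 162,nat_lit 7010],[nat_lit 180,nat_lit 7849],[nat_lit 188,nat_lit 4457],[nat_lit 185,nat_lit 5269],[nat_lit 136,nat_lit 5840],[nat_lit 181,nat_lit 6715],[nat_lit 176,nat_lit 8450],[nat_lit 181,nat_lit 9670,nat_lit 7648],[nat_lit 332,nat_lit 8261],[nat_lit 163,nat_lit 7858],[nat_lit 185,nat_lit 7874],[nat_lit 181,nat_lit 10757],[nat_lit 163,nat_lit 8666],[nat_lit 136,nat_lit 8698],[nat_lit 181,nat_lit 11274,nat_lit 10231],[nat_lit 54,nat_lit 3952,nat_lit 4495,nat_lit 5091,nat_lit 6706,nat_lit 6792,nat_lit 6841,nat_lit 7009,nat_lit 7655,nat_lit 7695,nat_lit 8686,nat_lit 9078,nat_lit 15990,nat_lit 16245],[nat_lit 182,nat_lit 459,nat_lit 2895],[nat_lit 186,nat_lit 6121],[nat_lit 191,nat_lit 5283],[nat_lit 186,nat_lit 8436,nat_lit 8916],[nat_lit 191,nat_lit 9555,nat_lit 7855],[nat_lit 55,nat_lit 5946],[nat_lit 143,nat_lit 5946],[nat_lit 55,nat_lit 7672],[nat_lit 183,nat_lit 3746,nat_lit 4157],[nat_lit 157,nat_lit 4502],[nat_lit 138,nat_lit 4928],[nat_lit 183,nat_lit 5000,nat_lit 5007],[nat_lit 148,nat_lit 5763],[nat_lit 183,nat_lit 5813],[nat_lit 190,nat_lit 5834,nat_lit 5841],[nat_lit 172,nat_lit 6634],[nat_lit 192,nat_lit 6711,nat_lit 6717],[nat_lit 183,nat_lit 6662,nat_lit 6685,nat_lit 6705],[nat_lit 148,nat_lit 7442],[nat_lit 138,nat_lit 7443],[nat_lit 190,nat_lit 7613],[nat_lit 183,nat_lit 7654,nat_lit 7666],[nat_lit 190,nat_lit 8672,nat_lit 8687],[nat_lit 192,nat_lit 9793],[nat_lit 183,nat_lit 10863],[nat_lit 134,nat_lit 5283],[nat_lit 56,nat_lit 16075],[nat_lit 184,nat_lit 3170],[nat_lit 162,nat_lit 4577],[nat_lit 154,nat_lit 4578],[nat_lit 169,nat_lit 4691],[nat_lit 162,nat_lit 4692],[nat_lit 175,nat_lit 4953],[nat_lit 145,nat_lit 4506],[nat_lit 184,nat_lit 5733,nat_lit 5840,nat_lit 6711],[nat_lit 60,nat_lit 8437],[nat_lit 184,nat_lit 8878,nat_lit 8914,nat_lit 14182],[nat_lit 135,nat_lit 14695],[nat_lit 184,nat_lit 14889],[nat_lit 135,nat_lit 15276],[nat_lit 185,nat_lit 9678],[nat_lit 170,nat_lit 10765],[nat_lit 58,nat_lit 7055,nat_lit 7057],[nat_lit 153,nat_lit 7057],[nat_lit 174,nat_lit 8059],[nat_lit 58,nat_lit 8631,nat_lit 8660],[nat_lit 144,nat_lit 8599],[nat_lit 58,nat_lit 9715,nat_lit 9758,nat_lit 9970,nat_lit 10076,nat_lit 11048],[nat_lit 186,nat_lit 614],[nat_lit 189,nat_lit 4692],[nat_lit 186,nat_lit 3766],[nat_lit 147,nat_lit 4508],[nat_lit 189,nat_lit 5732,nat_lit 10959],[nat_lit 59,nat_lit 5310,nat_lit 16170],[nat_lit 187,nat_lit 3490,nat_lit 4521,nat_lit 7235,nat_lit 8630,nat_lit 9773],[nat_lit 135,nat_lit 8437],[nat_lit 60,nat_lit 9590],[nat_lit 180,nat_lit 9590],[nat_lit 60,nat_lit 11151],[nat_lit 135,nat_lit 10688],[nat_lit 154,nat_lit 10688],[nat_lit 188,nat_lit 6064],[nat_lit 61,nat_lit 8697,nat_lit 9083,nat_lit 9096],[nat_lit 145,nat_lit 9083],[nat_lit 61,nat_lit 10598,nat_lit 10689,nat_lit 11095],[nat_lit 145,nat_lit 10598],[nat_lit 61,nat_lit 12143],[nat_lit 180,nat_lit 12143],[nat_lit 61,nat_lit 15444],[nat_lit 189,nat_lit 6154],[nat_lit 191,nat_lit 10224],[nat_lit 62,nat_lit 16077],[nat_lit 63,nat_lit 6979,nat_lit 7676],[nat_lit 163,nat_lit 6979],[nat_lit 185,nat_lit 7676],[nat_lit 63,nat_lit 8978,nat_lit 9763],[nat_lit 181,nat_lit 8697],[nat_lit 63,nat_lit 9808],[nat_lit 181,nat_lit 8978],[nat_lit 63,nat_lit 10075,nat_lit 10114],[nat_lit 170,nat_lit 9763,nat_lit 9785],[nat_lit 63,nat_lit 10836],[nat_lit 181,nat_lit 10114],[nat_lit 63,nat_lit 11272],[nat_lit 176,nat_lit 11272],[nat_lit 185,nat_lit 11272],[nat_lit 181,nat_lit 11767],[nat_lit 64,nat_lit 11790],[nat_lit 192,nat_lit 7928],[nat_lit 178,nat_lit 6979],[nat_lit 192,nat_lit 8992],[nat_lit 65,nat_lit 4502],[nat_lit 177,nat_lit 4502],[nat_lit 191,nat_lit 4949],[nat_lit 189,nat_lit 5785],[nat_lit 65,nat_lit 6992,nat_lit 7991,nat_lit 9535,nat_lit 9756],[nat_lit 156,nat_lit 9535],[nat_lit 65,nat_lit 10639],[nat_lit 147,nat_lit 10639],[nat_lit 65,nat_lit 11786,nat_lit 11789,nat_lit 11790],[nat_lit 191,nat_lit 11790],[nat_lit 65,nat_lit 12581],[nat_lit 156,nat_lit 11670],[nat_lit 65,nat_lit 12739],[nat_lit 186,nat_lit 12581],[nat_lit 164,nat_lit 12604],[nat_lit 182,nat_lit 13409],[nat_lit 193,nat_lit 1948],[nat_lit 138,nat_lit 2430],[nat_lit 148,nat_lit 3015],[nat_lit 157,nat_lit 3678],[nat_lit 193,nat_lit 3745,nat_lit 3842],[nat_lit 178,nat_lit 4503],[nat_lit 148,nat_lit 5774],[nat_lit 183,nat_lit 4435],[nat_lit 138,nat_lit 4580],[nat_lit 192,nat_lit 4952],[nat_lit 148,nat_lit 5369],[nat_lit 157,nat_lit 6207],[nat_lit 139,nat_lit 6154],[nat_lit 4,nat_lit 6864],[nat_lit 24,nat_lit 4520],[nat_lit 129,nat_lit 4520],[nat_lit 46,nat_lit 4518],[nat_lit 48,nat_lit 5319],[nat_lit 50,nat_lit 5320],[nat_lit 48,nat_lit 6165],[nat_lit 46,nat_lit 7849],[nat_lit 58,nat_lit 16227],[nat_lit 47,nat_lit 6164],[nat_lit 61,nat_lit 16173],[nat_lit 177,nat_lit 6199],[nat_lit 156,nat_lit 6578],[nat_lit 10,nat_lit 5793],[nat_lit 80,nat_lit 3838],[nat_lit 18,nat_lit 4562],[nat_lit 80,nat_lit 6205],[nat_lit 720,nat_lit 10776],[nat_lit 8,nat_lit 8354],[nat_lit 1616,nat_lit 5990],[nat_lit 179,nat_lit 8994],[nat_lit 1872,nat_lit 5732,nat_lit 12526],[nat_lit 57,nat_lit 12727],[nat_lit 174,nat_lit 13434],[nat_lit 2000,nat_lit 4853],[nat_lit 9424,nat_lit 6328],[nat_lit 9,nat_lit 5292],[nat_lit 8,nat_lit 6020],[nat_lit 2256,nat_lit 2155],[nat_lit 147,nat_lit 4687],[nat_lit 10,nat_lit 6404],[nat_lit 2512,nat_lit 340],[nat_lit 11,nat_lit 5367],[nat_lit 3536,nat_lit 1749],[nat_lit 4048,nat_lit 7949],[nat_lit 4,nat_lit 9705],[nat_lit 5,nat_lit 8880],[nat_lit 4432,nat_lit 6098],[nat_lit 18,nat_lit 11984],[nat_lit 4432,nat_lit 5163],[nat_lit 6864,nat_lit 391],[nat_lit 4560,nat_lit 2069],[nat_lit 27,nat_lit 10592],[nat_lit 4688,nat_lit 2142],[nat_lit 15,nat_lit 3820],[nat_lit 6224,nat_lit 13024],[nat_lit 6736,nat_lit 1896],[nat_lit 23,nat_lit 9693],[nat_lit 6992,nat_lit 3927],[nat_lit 53,nat_lit 11818],[nat_lit 7120,nat_lit 5769],[nat_lit 8,nat_lit 4070],[nat_lit 147,nat_lit 4557],[nat_lit 164,nat_lit 4558],[nat_lit 14,nat_lit 7418],[nat_lit 28,nat_lit 3821],[nat_lit 9168,nat_lit 11764,nat_lit 10597],[nat_lit 9424,nat_lit 6975],[nat_lit 4,nat_lit 10746],[nat_lit 9936,nat_lit 9693],[nat_lit 0,nat_lit 5796],[nat_lit 324,nat_lit 8880],[nat_lit 19,nat_lit 3873],[nat_lit 6,nat_lit 5316],[nat_lit 1,nat_lit 10838],[nat_lit 129,nat_lit 6614,nat_lit 10745],[nat_lit 25,nat_lit 10178],[nat_lit 129,nat_lit 11255],[nat_lit 10,nat_lit 6924],[nat_lit 2,nat_lit 8467,nat_lit 11754],[nat_lit 130,nat_lit 2331],[nat_lit 37,nat_lit 3522],[nat_lit 130,nat_lit 5246],[nat_lit 33,nat_lit 7026],[nat_lit 130,nat_lit 6746],[nat_lit 37,nat_lit 8725],[nat_lit 3,nat_lit 8182],[nat_lit 0,nat_lit 9254],[nat_lit 131,nat_lit 7457],[nat_lit 4,nat_lit 6165],[nat_lit 6,nat_lit 7849],[nat_lit 7,nat_lit 8774],[nat_lit 132,nat_lit 6278],[nat_lit 151,nat_lit 9055],[nat_lit 5,nat_lit 3728],[nat_lit 8,nat_lit 4366],[nat_lit 5,nat_lit 9084,nat_lit 9779,nat_lit 9820,nat_lit 10868,nat_lit 13544],[nat_lit 4,nat_lit 13546],[nat_lit 5,nat_lit 16196],[nat_lit 133,nat_lit 7078],[nat_lit 52,nat_lit 9137],[nat_lit 133,nat_lit 8916,nat_lit 11279],[nat_lit 173,nat_lit 10228],[nat_lit 133,nat_lit 9889],[nat_lit 6,nat_lit 7328,nat_lit 7919,nat_lit 8174,nat_lit 8599],[nat_lit 8,nat_lit 8697],[nat_lit 10,nat_lit 9803],[nat_lit 6,nat_lit 10009,nat_lit 10894],[nat_lit 134,nat_lit 7668,nat_lit 8631,nat_lit 8660,nat_lit 9694,nat_lit 9715,nat_lit 9970,nat_lit 10076,nat_lit 11048,nat_lit 12917],[nat_lit 7,nat_lit 4829,nat_lit 5160],[nat_lit 5,nat_lit 5660,nat_lit 6009],[nat_lit 9,nat_lit 6928],[nat_lit 7,nat_lit 9240],[nat_lit 3,nat_lit 9415],[nat_lit 7,nat_lit 10347,nat_lit 10587,nat_lit 11099,nat_lit 11778,nat_lit 11829,nat_lit 11880],[nat_lit 10,nat_lit 12766],[nat_lit 7,nat_lit 14184],[nat_lit 135,nat_lit 8697],[nat_lit 180,nat_lit 10294],[nat_lit 145,nat_lit 9125],[nat_lit 154,nat_lit 9532],[nat_lit 184,nat_lit 9794],[nat_lit 135,nat_lit 10196,nat_lit 11095,nat_lit 11560],[nat_lit 8,nat_lit 8595,nat_lit 12098],[nat_lit 63,nat_lit 6992,nat_lit 7991],[nat_lit 136,nat_lit 9490,nat_lit 9808,nat_lit 10041,nat_lit 10075,nat_lit 10788],[nat_lit 146,nat_lit 10881],[nat_lit 185,nat_lit 11119],[nat_lit 155,nat_lit 11119],[nat_lit 136,nat_lit 11136],[nat_lit 155,nat_lit 11843],[nat_lit 185,nat_lit 12120],[nat_lit 163,nat_lit 12733],[nat_lit 176,nat_lit 14139],[nat_lit 332,nat_lit 13904],[nat_lit 10,nat_lit 9120],[nat_lit 3,nat_lit 9286],[nat_lit 9,nat_lit 10878,nat_lit 11146,nat_lit 11832,nat_lit 12141],[nat_lit 6,nat_lit 12142],[nat_lit 9,nat_lit 13476,nat_lit 13888,nat_lit 14168],[nat_lit 7,nat_lit 14463],[nat_lit 1,nat_lit 14923],[nat_lit 9,nat_lit 15057],[nat_lit 177,nat_lit 5169],[nat_lit 147,nat_lit 5669],[nat_lit 137,nat_lit 8164],[nat_lit 164,nat_lit 9414],[nat_lit 156,nat_lit 8725],[nat_lit 189,nat_lit 9525],[nat_lit 137,nat_lit 9694,nat_lit 10596],[nat_lit 10,nat_lit 10783,nat_lit 11868],[nat_lit 138,nat_lit 6681,nat_lit 7668],[nat_lit 190,nat_lit 8688],[nat_lit 187,nat_lit 9794],[nat_lit 11,nat_lit 6111],[nat_lit 18,nat_lit 6771],[nat_lit 11,nat_lit 8843],[nat_lit 15,nat_lit 8957],[nat_lit 14,nat_lit 8959],[nat_lit 325,nat_lit 8843],[nat_lit 16,nat_lit 10072],[nat_lit 11,nat_lit 10117],[nat_lit 16,nat_lit 10926],[nat_lit 11,nat_lit 11038],[nat_lit 19,nat_lit 11155],[nat_lit 16,nat_lit 12030],[nat_lit 20,nat_lit 12149],[nat_lit 28,nat_lit 6563],[nat_lit 20,nat_lit 8800],[nat_lit 12,nat_lit 11199],[nat_lit 140,nat_lit 6205],[nat_lit 13,nat_lit 9919],[nat_lit 17,nat_lit 10963],[nat_lit 16,nat_lit 11949],[nat_lit 17,nat_lit 12835],[nat_lit 18,nat_lit 13606],[nat_lit 142,nat_lit 5888],[nat_lit 15,nat_lit 11908],[nat_lit 17,nat_lit 12792],[nat_lit 15,nat_lit 12917],[nat_lit 17,nat_lit 13678],[nat_lit 143,nat_lit 13747,nat_lit 14414],[nat_lit 128,nat_lit 6162],[nat_lit 18,nat_lit 8077],[nat_lit 19,nat_lit 8078],[nat_lit 16,nat_lit 10777,nat_lit 11816,nat_lit 12143,nat_lit 13031,nat_lit 13559],[nat_lit 19,nat_lit 14197],[nat_lit 16,nat_lit 14305],[nat_lit 19,nat_lit 14802],[nat_lit 17,nat_lit 15443],[nat_lit 144,nat_lit 9722,nat_lit 9755],[nat_lit 59,nat_lit 11792],[nat_lit 144,nat_lit 11051,nat_lit 11159,nat_lit 12048,nat_lit 13677,nat_lit 14217],[nat_lit 17,nat_lit 4614],[nat_lit 128,nat_lit 6786],[nat_lit 19,nat_lit 8777],[nat_lit 128,nat_lit 7921],[nat_lit 17,nat_lit 9137,nat_lit 10755],[nat_lit 19,nat_lit 11756],[nat_lit 17,nat_lit 12504],[nat_lit 128,nat_lit 11755],[nat_lit 17,nat_lit 12699,nat_lit 13594],[nat_lit 154,nat_lit 7067],[nat_lit 145,nat_lit 10056,nat_lit 10627],[nat_lit 162,nat_lit 11656],[nat_lit 145,nat_lit 12143],[nat_lit 184,nat_lit 14800],[nat_lit 63,nat_lit 6579],[nat_lit 146,nat_lit 6992,nat_lit 11158,nat_lit 11561,nat_lit 12822,nat_lit 14157],[nat_lit 155,nat_lit 14679],[nat_lit 147,nat_lit 3870],[nat_lit 182,nat_lit 4615],[nat_lit 137,nat_lit 5414],[nat_lit 191,nat_lit 9023],[nat_lit 147,nat_lit 9828,nat_lit 10777,nat_lit 11639],[nat_lit 20,nat_lit 9893,nat_lit 13485],[nat_lit 192,nat_lit 7508],[nat_lit 148,nat_lit 10121],[nat_lit 21,nat_lit 5029,nat_lit 5068,nat_lit 5494],[nat_lit 326,nat_lit 5029],[nat_lit 24,nat_lit 6799],[nat_lit 21,nat_lit 7122],[nat_lit 129,nat_lit 6799],[nat_lit 24,nat_lit 8120],[nat_lit 28,nat_lit 8802],[nat_lit 129,nat_lit 8120],[nat_lit 139,nat_lit 9893],[nat_lit 21,nat_lit 10744,nat_lit 11628],[nat_lit 149,nat_lit 3222],[nat_lit 327,nat_lit 4619],[nat_lit 32,nat_lit 4632],[nat_lit 130,nat_lit 4632],[nat_lit 149,nat_lit 6567],[nat_lit 327,nat_lit 7530],[nat_lit 149,nat_lit 7026],[nat_lit 31,nat_lit 8554],[nat_lit 22,nat_lit 5914],[nat_lit 24,nat_lit 6797],[nat_lit 129,nat_lit 6797],[nat_lit 25,nat_lit 7765],[nat_lit 28,nat_lit 8798],[nat_lit 26,nat_lit 8799],[nat_lit 27,nat_lit 9921],[nat_lit 22,nat_lit 12569],[nat_lit 150,nat_lit 4945],[nat_lit 42,nat_lit 6566],[nat_lit 25,nat_lit 9837],[nat_lit 24,nat_lit 9964],[nat_lit 27,nat_lit 11031],[nat_lit 26,nat_lit 11045],[nat_lit 152,nat_lit 10782],[nat_lit 25,nat_lit 11627,nat_lit 11754,nat_lit 12043],[nat_lit 129,nat_lit 11754],[nat_lit 27,nat_lit 12933],[nat_lit 25,nat_lit 15454],[nat_lit 153,nat_lit 10834],[nat_lit 144,nat_lit 11831],[nat_lit 59,nat_lit 12726],[nat_lit 129,nat_lit 5361,nat_lit 4360],[nat_lit 28,nat_lit 7200],[nat_lit 129,nat_lit 8377,nat_lit 11355],[nat_lit 24,nat_lit 10559],[nat_lit 26,nat_lit 11242],[nat_lit 24,nat_lit 11382],[nat_lit 22,nat_lit 12008],[nat_lit 129,nat_lit 11382],[nat_lit 26,nat_lit 12989],[nat_lit 62,nat_lit 7529],[nat_lit 135,nat_lit 8224],[nat_lit 145,nat_lit 9287],[nat_lit 154,nat_lit 12587],[nat_lit 63,nat_lit 7537],[nat_lit 181,nat_lit 6994],[nat_lit 170,nat_lit 7537],[nat_lit 155,nat_lit 11946,nat_lit 13593],[nat_lit 181,nat_lit 12118],[nat_lit 156,nat_lit 4065],[nat_lit 189,nat_lit 6973,nat_lit 12584],[nat_lit 165,nat_lit 6266],[nat_lit 187,nat_lit 5432],[nat_lit 190,nat_lit 6282],[nat_lit 157,nat_lit 11674],[nat_lit 30,nat_lit 6566],[nat_lit 130,nat_lit 7180],[nat_lit 30,nat_lit 10184],[nat_lit 158,nat_lit 3655],[nat_lit 131,nat_lit 4414],[nat_lit 39,nat_lit 5216],[nat_lit 150,nat_lit 5216],[nat_lit 31,nat_lit 10124,nat_lit 10176],[nat_lit 130,nat_lit 10176],[nat_lit 159,nat_lit 6051],[nat_lit 32,nat_lit 5902],[nat_lit 35,nat_lit 7999],[nat_lit 32,nat_lit 9099,nat_lit 9264,nat_lit 10056],[nat_lit 130,nat_lit 9264],[nat_lit 34,nat_lit 10960],[nat_lit 33,nat_lit 7529],[nat_lit 35,nat_lit 9999],[nat_lit 33,nat_lit 10789],[nat_lit 149,nat_lit 7200],[nat_lit 34,nat_lit 8531],[nat_lit 140,nat_lit 9236],[nat_lit 149,nat_lit 9031],[nat_lit 34,nat_lit 11093],[nat_lit 30,nat_lit 11220],[nat_lit 34,nat_lit 11782],[nat_lit 130,nat_lit 12282],[nat_lit 31,nat_lit 11916],[nat_lit 34,nat_lit 12211],[nat_lit 149,nat_lit 11916],[nat_lit 35,nat_lit 12798],[nat_lit 36,nat_lit 14102],[nat_lit 62,nat_lit 7977],[nat_lit 162,nat_lit 9702],[nat_lit 130,nat_lit 9999],[nat_lit 163,nat_lit 7504,nat_lit 9890,nat_lit 10003],[nat_lit 185,nat_lit 10585,nat_lit 10952],[nat_lit 163,nat_lit 11782],[nat_lit 36,nat_lit 4258],[nat_lit 130,nat_lit 4258],[nat_lit 36,nat_lit 5698],[nat_lit 140,nat_lit 5022],[nat_lit 34,nat_lit 6558],[nat_lit 32,nat_lit 6735],[nat_lit 36,nat_lit 12930],[nat_lit 164,nat_lit 7198,nat_lit 11220],[nat_lit 165,nat_lit 4619],[nat_lit 138,nat_lit 7205],[nat_lit 165,nat_lit 5684],[nat_lit 192,nat_lit 6288],[nat_lit 165,nat_lit 7120],[nat_lit 138,nat_lit 7208],[nat_lit 183,nat_lit 8117],[nat_lit 138,nat_lit 9182],[nat_lit 38,nat_lit 6972],[nat_lit 166,nat_lit 7900],[nat_lit 39,nat_lit 9579],[nat_lit 150,nat_lit 10521],[nat_lit 40,nat_lit 7977,nat_lit 9758],[nat_lit 168,nat_lit 8828],[nat_lit 41,nat_lit 9018,nat_lit 10836],[nat_lit 135,nat_lit 10365],[nat_lit 131,nat_lit 8775],[nat_lit 170,nat_lit 7944,nat_lit 7976,nat_lit 10836],[nat_lit 185,nat_lit 11091],[nat_lit 171,nat_lit 4408,nat_lit 12340],[nat_lit 44,nat_lit 4110],[nat_lit 141,nat_lit 4110],[nat_lit 148,nat_lit 6554],[nat_lit 157,nat_lit 7511],[nat_lit 138,nat_lit 7511],[nat_lit 192,nat_lit 10122],[nat_lit 45,nat_lit 6656,nat_lit 6670,nat_lit 7604],[nat_lit 132,nat_lit 6656],[nat_lit 49,nat_lit 7624],[nat_lit 159,nat_lit 8408],[nat_lit 132,nat_lit 7604],[nat_lit 46,nat_lit 7738,nat_lit 7890,nat_lit 8622],[nat_lit 151,nat_lit 7890],[nat_lit 46,nat_lit 9711],[nat_lit 45,nat_lit 9712,nat_lit 10786],[nat_lit 132,nat_lit 5161,nat_lit 7624],[nat_lit 47,nat_lit 8934],[nat_lit 48,nat_lit 9018],[nat_lit 132,nat_lit 7999],[nat_lit 142,nat_lit 8642,nat_lit 8934],[nat_lit 45,nat_lit 10053],[nat_lit 47,nat_lit 10071,nat_lit 10207],[nat_lit 151,nat_lit 9738],[nat_lit 46,nat_lit 11142],[nat_lit 50,nat_lit 11815],[nat_lit 45,nat_lit 8764],[nat_lit 48,nat_lit 10889,nat_lit 11939,nat_lit 12188],[nat_lit 49,nat_lit 7991,nat_lit 9036,nat_lit 9815],[nat_lit 151,nat_lit 9036],[nat_lit 49,nat_lit 10787,nat_lit 11779],[nat_lit 132,nat_lit 10787],[nat_lit 49,nat_lit 12141],[nat_lit 132,nat_lit 11779],[nat_lit 49,nat_lit 12713],[nat_lit 132,nat_lit 12141],[nat_lit 142,nat_lit 12681],[nat_lit 48,nat_lit 9019],[nat_lit 132,nat_lit 8764],[nat_lit 142,nat_lit 9018,nat_lit 9019],[nat_lit 178,nat_lit 10963],[nat_lit 51,nat_lit 7779],[nat_lit 173,nat_lit 8471],[nat_lit 160,nat_lit 11626],[nat_lit 51,nat_lit 14325],[nat_lit 179,nat_lit 9698],[nat_lit 173,nat_lit 6202],[nat_lit 54,nat_lit 6164,nat_lit 6580],[nat_lit 53,nat_lit 8203],[nat_lit 52,nat_lit 8936],[nat_lit 53,nat_lit 9051],[nat_lit 52,nat_lit 9100],[nat_lit 54,nat_lit 11637],[nat_lit 152,nat_lit 13171],[nat_lit 160,nat_lit 11637],[nat_lit 143,nat_lit 13258,nat_lit 11802],[nat_lit 52,nat_lit 12714],[nat_lit 143,nat_lit 12333],[nat_lit 152,nat_lit 12714,nat_lit 13173],[nat_lit 180,nat_lit 10869,nat_lit 12094],[nat_lit 55,nat_lit 8198,nat_lit 9010],[nat_lit 53,nat_lit 11244],[nat_lit 181,nat_lit 11631,nat_lit 11939,nat_lit 12090,nat_lit 12115,nat_lit 12154],[nat_lit 136,nat_lit 13007],[nat_lit 181,nat_lit 13008],[nat_lit 185,nat_lit 13042],[nat_lit 146,nat_lit 13767],[nat_lit 136,nat_lit 13768],[nat_lit 64,nat_lit 14405],[nat_lit 155,nat_lit 14358],[nat_lit 163,nat_lit 14385],[nat_lit 181,nat_lit 14680],[nat_lit 146,nat_lit 14850],[nat_lit 155,nat_lit 14872],[nat_lit 185,nat_lit 15098],[nat_lit 146,nat_lit 15266],[nat_lit 155,nat_lit 15569],[nat_lit 54,nat_lit 8002,nat_lit 10233,nat_lit 12098],[nat_lit 182,nat_lit 7196],[nat_lit 173,nat_lit 9016],[nat_lit 143,nat_lit 9010],[nat_lit 173,nat_lit 11203],[nat_lit 55,nat_lit 11282],[nat_lit 183,nat_lit 8536],[nat_lit 157,nat_lit 9637],[nat_lit 183,nat_lit 10869],[nat_lit 58,nat_lit 12606],[nat_lit 56,nat_lit 13435],[nat_lit 59,nat_lit 14099],[nat_lit 56,nat_lit 14370],[nat_lit 134,nat_lit 14370],[nat_lit 60,nat_lit 11589],[nat_lit 184,nat_lit 11018],[nat_lit 175,nat_lit 12637],[nat_lit 154,nat_lit 11589],[nat_lit 162,nat_lit 12531],[nat_lit 184,nat_lit 15143],[nat_lit 175,nat_lit 15475],[nat_lit 57,nat_lit 9705],[nat_lit 185,nat_lit 7994],[nat_lit 176,nat_lit 9042],[nat_lit 185,nat_lit 12338,nat_lit 12989,nat_lit 13010,nat_lit 13596,nat_lit 15245,nat_lit 15788],[nat_lit 64,nat_lit 16077],[nat_lit 58,nat_lit 12690,nat_lit 13506,nat_lit 15220],[nat_lit 144,nat_lit 15220],[nat_lit 147,nat_lit 5217],[nat_lit 186,nat_lit 6261],[nat_lit 191,nat_lit 10723],[nat_lit 186,nat_lit 12055],[nat_lit 189,nat_lit 12946],[nat_lit 59,nat_lit 10783],[nat_lit 187,nat_lit 10164,nat_lit 10728],[nat_lit 190,nat_lit 11229,nat_lit 11741],[nat_lit 192,nat_lit 12218],[nat_lit 175,nat_lit 11147],[nat_lit 180,nat_lit 11685],[nat_lit 154,nat_lit 13293],[nat_lit 188,nat_lit 13770],[nat_lit 163,nat_lit 14387],[nat_lit 135,nat_lit 12829],[nat_lit 175,nat_lit 11943],[nat_lit 61,nat_lit 12750],[nat_lit 180,nat_lit 12141,nat_lit 12481],[nat_lit 61,nat_lit 15518],[nat_lit 189,nat_lit 11396],[nat_lit 180,nat_lit 9004],[nat_lit 135,nat_lit 10131],[nat_lit 193,nat_lit 7188],[nat_lit 165,nat_lit 8535],[nat_lit 64,nat_lit 12661],[nat_lit 63,nat_lit 13598,nat_lit 14887],[nat_lit 191,nat_lit 11257],[nat_lit 189,nat_lit 11797],[nat_lit 156,nat_lit 12694],[nat_lit 181,nat_lit 10717],[nat_lit 155,nat_lit 9626],[nat_lit 191,nat_lit 9623],[nat_lit 65,nat_lit 11282,nat_lit 13530],[nat_lit 9,nat_lit 7902],[nat_lit 2,nat_lit 10198],[nat_lit 69,nat_lit 9667],[nat_lit 68,nat_lit 11735],[nat_lit 196,nat_lit 8186],[nat_lit 198,nat_lit 10089],[nat_lit 132,nat_lit 10143],[nat_lit 196,nat_lit 11214,nat_lit 11780,nat_lit 12681],[nat_lit 4,nat_lit 8328],[nat_lit 1,nat_lit 8965,nat_lit 10830],[nat_lit 10,nat_lit 11828],[nat_lit 142,nat_lit 9881],[nat_lit 47,nat_lit 11925],[nat_lit 46,nat_lit 12812],[nat_lit 325,nat_lit 11214,nat_lit 12681],[nat_lit 142,nat_lit 8955],[nat_lit 151,nat_lit 12812],[nat_lit 23,nat_lit 12188],[nat_lit 326,nat_lit 11780],[nat_lit 23,nat_lit 12683],[nat_lit 71,nat_lit 12350],[nat_lit 196,nat_lit 11916],[nat_lit 159,nat_lit 13582],[nat_lit 327,nat_lit 11780],[nat_lit 131,nat_lit 7897],[nat_lit 40,nat_lit 10097],[nat_lit 41,nat_lit 11180],[nat_lit 328,nat_lit 9746],[nat_lit 38,nat_lit 11904],[nat_lit 41,nat_lit 11217],[nat_lit 39,nat_lit 12210],[nat_lit 328,nat_lit 10823],[nat_lit 39,nat_lit 12180],[nat_lit 131,nat_lit 11284],[nat_lit 42,nat_lit 13066],[nat_lit 131,nat_lit 12344],[nat_lit 141,nat_lit 13180],[nat_lit 44,nat_lit 13811],[nat_lit 45,nat_lit 12140],[nat_lit 49,nat_lit 13030],[nat_lit 47,nat_lit 13599,nat_lit 13603],[nat_lit 48,nat_lit 13598],[nat_lit 54,nat_lit 10719],[nat_lit 46,nat_lit 7885,nat_lit 11154],[nat_lit 50,nat_lit 11229],[nat_lit 49,nat_lit 12063],[nat_lit 47,nat_lit 12218,nat_lit 12146],[nat_lit 48,nat_lit 12982,nat_lit 13088,nat_lit 13090],[nat_lit 47,nat_lit 8931],[nat_lit 49,nat_lit 10068],[nat_lit 48,nat_lit 12983],[nat_lit 331,nat_lit 12883],[nat_lit 175,nat_lit 13451],[nat_lit 331,nat_lit 12179],[nat_lit 145,nat_lit 12933],[nat_lit 154,nat_lit 13692],[nat_lit 162,nat_lit 14316],[nat_lit 132,nat_lit 10091],[nat_lit 151,nat_lit 10892],[nat_lit 49,nat_lit 13748,nat_lit 11926],[nat_lit 151,nat_lit 11926],[nat_lit 142,nat_lit 13088],[nat_lit 49,nat_lit 14732],[nat_lit 171,nat_lit 13986],[nat_lit 178,nat_lit 13455],[nat_lit 6,nat_lit 10542],[nat_lit 10,nat_lit 9633],[nat_lit 1488,nat_lit 3945],[nat_lit 18,nat_lit 11247],[nat_lit 1232,nat_lit 5062],[nat_lit 173,nat_lit 14149],[nat_lit 2640,nat_lit 8178],[nat_lit 2768,nat_lit 5033],[nat_lit 10,nat_lit 11858],[nat_lit 4944,nat_lit 13392],[nat_lit 5712,nat_lit 5796,nat_lit 5660,nat_lit 10900],[nat_lit 4,nat_lit 13786,nat_lit 13465],[nat_lit 324,nat_lit 13786],[nat_lit 4,nat_lit 14399],[nat_lit 8,nat_lit 14400],[nat_lit 5840,nat_lit 15420],[nat_lit 6736,nat_lit 7210],[nat_lit 2,nat_lit 10864],[nat_lit 9936,nat_lit 14023],[nat_lit 9808,nat_lit 13267],[nat_lit 0,nat_lit 9075],[nat_lit 1,nat_lit 9791],[nat_lit 7,nat_lit 10867],[nat_lit 5,nat_lit 12664],[nat_lit 0,nat_lit 15125],[nat_lit 10,nat_lit 15461],[nat_lit 3,nat_lit 15722],[nat_lit 2,nat_lit 15909],[nat_lit 14,nat_lit 11857],[nat_lit 128,nat_lit 14675,nat_lit 15401],[nat_lit 19,nat_lit 15869],[nat_lit 1,nat_lit 11859,nat_lit 11861],[nat_lit 6,nat_lit 12748,nat_lit 12749],[nat_lit 2,nat_lit 12797],[nat_lit 1,nat_lit 13461],[nat_lit 7,nat_lit 13528],[nat_lit 1,nat_lit 13788,nat_lit 14989,nat_lit 16043],[nat_lit 129,nat_lit 9831,nat_lit 10358,nat_lit 12188,nat_lit 12702],[nat_lit 3,nat_lit 11505],[nat_lit 2,nat_lit 12925],[nat_lit 7,nat_lit 13350],[nat_lit 130,nat_lit 6735],[nat_lit 33,nat_lit 8721],[nat_lit 32,nat_lit 9823],[nat_lit 34,nat_lit 10897],[nat_lit 140,nat_lit 11878],[nat_lit 130,nat_lit 12432],[nat_lit 33,nat_lit 12228],[nat_lit 3,nat_lit 12203,nat_lit 14145],[nat_lit 131,nat_lit 13623],[nat_lit 150,nat_lit 12925,nat_lit 12707],[nat_lit 4,nat_lit 9073],[nat_lit 6,nat_lit 10192],[nat_lit 7,nat_lit 10710],[nat_lit 6,nat_lit 11729],[nat_lit 4,nat_lit 12058],[nat_lit 5,nat_lit 12224],[nat_lit 6,nat_lit 12454,nat_lit 13569],[nat_lit 8,nat_lit 14903],[nat_lit 49,nat_lit 12207],[nat_lit 132,nat_lit 12811,nat_lit 12983,nat_lit 13598,nat_lit 13599,nat_lit 13603,nat_lit 13748],[nat_lit 5,nat_lit 6074,nat_lit 10355,nat_lit 13384,nat_lit 13975],[nat_lit 133,nat_lit 11758],[nat_lit 173,nat_lit 12940],[nat_lit 160,nat_lit 13883],[nat_lit 133,nat_lit 12656],[nat_lit 173,nat_lit 14067],[nat_lit 133,nat_lit 12950],[nat_lit 167,nat_lit 14073],[nat_lit 55,nat_lit 13721],[nat_lit 133,nat_lit 13287],[nat_lit 173,nat_lit 13600],[nat_lit 133,nat_lit 13509],[nat_lit 152,nat_lit 13721,nat_lit 13997],[nat_lit 133,nat_lit 14205],[nat_lit 52,nat_lit 14998,nat_lit 15131],[nat_lit 133,nat_lit 15284],[nat_lit 6,nat_lit 9267,nat_lit 13825,nat_lit 15355],[nat_lit 134,nat_lit 12656,nat_lit 12690],[nat_lit 7,nat_lit 13091,nat_lit 14433],[nat_lit 135,nat_lit 12750,nat_lit 12893,nat_lit 14545,nat_lit 14986,nat_lit 15518],[nat_lit 181,nat_lit 12937,nat_lit 12958],[nat_lit 136,nat_lit 14887,nat_lit 15554],[nat_lit 9,nat_lit 14693],[nat_lit 137,nat_lit 8187],[nat_lit 333,nat_lit 11214],[nat_lit 171,nat_lit 12035],[nat_lit 137,nat_lit 12889],[nat_lit 186,nat_lit 12926],[nat_lit 156,nat_lit 13657],[nat_lit 189,nat_lit 13687],[nat_lit 164,nat_lit 14285],[nat_lit 183,nat_lit 12701],[nat_lit 20,nat_lit 8194],[nat_lit 16,nat_lit 13462],[nat_lit 11,nat_lit 13491],[nat_lit 15,nat_lit 13894],[nat_lit 11,nat_lit 14429],[nat_lit 12,nat_lit 11861],[nat_lit 16,nat_lit 12749],[nat_lit 17,nat_lit 13528],[nat_lit 15,nat_lit 13481],[nat_lit 13,nat_lit 13489],[nat_lit 20,nat_lit 13090],[nat_lit 19,nat_lit 13127],[nat_lit 14,nat_lit 14776],[nat_lit 16,nat_lit 14900],[nat_lit 142,nat_lit 13583,nat_lit 14237,nat_lit 14238,nat_lit 14367],[nat_lit 132,nat_lit 14751,nat_lit 14750],[nat_lit 45,nat_lit 15485],[nat_lit 50,nat_lit 15495],[nat_lit 15,nat_lit 13828,nat_lit 13845,nat_lit 16009],[nat_lit 143,nat_lit 10866,nat_lit 13890,nat_lit 13462,nat_lit 14162,nat_lit 14339],[nat_lit 16,nat_lit 9270],[nat_lit 17,nat_lit 10357],[nat_lit 16,nat_lit 13464],[nat_lit 17,nat_lit 15654],[nat_lit 16,nat_lit 16126],[nat_lit 17,nat_lit 14150,nat_lit 14268],[nat_lit 128,nat_lit 14083],[nat_lit 17,nat_lit 15576],[nat_lit 145,nat_lit 13072,nat_lit 13529],[nat_lit 61,nat_lit 15206],[nat_lit 175,nat_lit 15157],[nat_lit 18,nat_lit 13089],[nat_lit 181,nat_lit 14337],[nat_lit 182,nat_lit 13479],[nat_lit 147,nat_lit 13640,nat_lit 13811],[nat_lit 186,nat_lit 14421],[nat_lit 157,nat_lit 8008],[nat_lit 183,nat_lit 9074],[nat_lit 178,nat_lit 10174],[nat_lit 190,nat_lit 10174],[nat_lit 148,nat_lit 15632],[nat_lit 29,nat_lit 7209,nat_lit 9604],[nat_lit 24,nat_lit 11879],[nat_lit 25,nat_lit 12765],[nat_lit 26,nat_lit 13543],[nat_lit 25,nat_lit 10558,nat_lit 10700],[nat_lit 26,nat_lit 11601,nat_lit 11720],[nat_lit 23,nat_lit 13753],[nat_lit 45,nat_lit 12900],[nat_lit 50,nat_lit 13666],[nat_lit 151,nat_lit 14858],[nat_lit 29,nat_lit 10743],[nat_lit 129,nat_lit 10743],[nat_lit 24,nat_lit 12543],[nat_lit 129,nat_lit 12543],[nat_lit 24,nat_lit 13493],[nat_lit 152,nat_lit 15580],[nat_lit 27,nat_lit 13752],[nat_lit 25,nat_lit 14072],[nat_lit 29,nat_lit 14620],[nat_lit 153,nat_lit 13882],[nat_lit 29,nat_lit 11240],[nat_lit 129,nat_lit 11240],[nat_lit 24,nat_lit 14370],[nat_lit 26,nat_lit 15356],[nat_lit 139,nat_lit 15064],[nat_lit 135,nat_lit 13814],[nat_lit 154,nat_lit 14177],[nat_lit 62,nat_lit 14897],[nat_lit 155,nat_lit 15274],[nat_lit 28,nat_lit 15680],[nat_lit 157,nat_lit 10733,nat_lit 15576],[nat_lit 30,nat_lit 4878],[nat_lit 130,nat_lit 4878],[nat_lit 35,nat_lit 12572],[nat_lit 36,nat_lit 13402],[nat_lit 31,nat_lit 13603],[nat_lit 130,nat_lit 13402],[nat_lit 140,nat_lit 13603,nat_lit 14103],[nat_lit 130,nat_lit 14242],[nat_lit 45,nat_lit 15145],[nat_lit 132,nat_lit 15145],[nat_lit 159,nat_lit 15252],[nat_lit 142,nat_lit 15476],[nat_lit 50,nat_lit 15796],[nat_lit 32,nat_lit 6590],[nat_lit 36,nat_lit 11883],[nat_lit 130,nat_lit 11883],[nat_lit 37,nat_lit 13535],[nat_lit 32,nat_lit 15132,nat_lit 15161],[nat_lit 35,nat_lit 15464],[nat_lit 32,nat_lit 15804],[nat_lit 160,nat_lit 14474],[nat_lit 33,nat_lit 7549],[nat_lit 130,nat_lit 11152],[nat_lit 32,nat_lit 11253],[nat_lit 33,nat_lit 15803],[nat_lit 161,nat_lit 14025],[nat_lit 153,nat_lit 14370],[nat_lit 34,nat_lit 8566],[nat_lit 35,nat_lit 9665],[nat_lit 34,nat_lit 12231,nat_lit 13093,nat_lit 15465],[nat_lit 162,nat_lit 14691],[nat_lit 62,nat_lit 15447],[nat_lit 162,nat_lit 15566],[nat_lit 35,nat_lit 15130],[nat_lit 163,nat_lit 15575],[nat_lit 36,nat_lit 15491],[nat_lit 186,nat_lit 12709],[nat_lit 37,nat_lit 15748],[nat_lit 187,nat_lit 12756],[nat_lit 43,nat_lit 13708],[nat_lit 141,nat_lit 13659],[nat_lit 39,nat_lit 14022,nat_lit 14068,nat_lit 14331],[nat_lit 141,nat_lit 14022],[nat_lit 131,nat_lit 14331],[nat_lit 150,nat_lit 14588],[nat_lit 141,nat_lit 14824],[nat_lit 44,nat_lit 13536],[nat_lit 40,nat_lit 14087],[nat_lit 43,nat_lit 14315],[nat_lit 44,nat_lit 14288],[nat_lit 171,nat_lit 14160,nat_lit 13394],[nat_lit 183,nat_lit 11229],[nat_lit 193,nat_lit 11745],[nat_lit 148,nat_lit 12662],[nat_lit 45,nat_lit 13033,nat_lit 13719],[nat_lit 180,nat_lit 13664],[nat_lit 135,nat_lit 15206],[nat_lit 145,nat_lit 15521],[nat_lit 49,nat_lit 14159,nat_lit 14342],[nat_lit 47,nat_lit 14836],[nat_lit 46,nat_lit 15231],[nat_lit 49,nat_lit 15752,nat_lit 15956],[nat_lit 177,nat_lit 14616],[nat_lit 178,nat_lit 13504],[nat_lit 54,nat_lit 13494],[nat_lit 179,nat_lit 7522],[nat_lit 153,nat_lit 8548],[nat_lit 161,nat_lit 9649],[nat_lit 134,nat_lit 14745],[nat_lit 144,nat_lit 15161],[nat_lit 179,nat_lit 15359],[nat_lit 153,nat_lit 15487],[nat_lit 145,nat_lit 14293],[nat_lit 154,nat_lit 14796],[nat_lit 162,nat_lit 15197],[nat_lit 135,nat_lit 15802],[nat_lit 180,nat_lit 15772],[nat_lit 53,nat_lit 11757],[nat_lit 160,nat_lit 14716],[nat_lit 181,nat_lit 13176],[nat_lit 64,nat_lit 14482],[nat_lit 54,nat_lit 14648],[nat_lit 52,nat_lit 15076],[nat_lit 54,nat_lit 15100],[nat_lit 53,nat_lit 15421],[nat_lit 182,nat_lit 10278],[nat_lit 189,nat_lit 15262],[nat_lit 183,nat_lit 15278],[nat_lit 165,nat_lit 15577],[nat_lit 58,nat_lit 14267],[nat_lit 145,nat_lit 15802],[nat_lit 154,nat_lit 15962],[nat_lit 185,nat_lit 15806],[nat_lit 58,nat_lit 15491],[nat_lit 161,nat_lit 15491],[nat_lit 144,nat_lit 15638],[nat_lit 186,nat_lit 9211],[nat_lit 182,nat_lit 10307],[nat_lit 61,nat_lit 15644,nat_lit 15711],[nat_lit 180,nat_lit 15711],[nat_lit 189,nat_lit 11346],[nat_lit 62,nat_lit 13457],[nat_lit 190,nat_lit 15805],[nat_lit 63,nat_lit 14324,nat_lit 14343],[nat_lit 136,nat_lit 14324,nat_lit 14343],[nat_lit 146,nat_lit 14818],[nat_lit 63,nat_lit 15227],[nat_lit 181,nat_lit 15216],[nat_lit 64,nat_lit 15232],[nat_lit 192,nat_lit 15630],[nat_lit 189,nat_lit 12652],[nat_lit 66,nat_lit 15233],[nat_lit 1,nat_lit 13757],[nat_lit 2,nat_lit 14373],[nat_lit 5954,nat_lit 10153],[nat_lit 31,nat_lit 15226],[nat_lit 140,nat_lit 15226],[nat_lit 6338,nat_lit 13033],[nat_lit 31,nat_lit 16162],[nat_lit 327,nat_lit 16188],[nat_lit 132,nat_lit 15956],[nat_lit 10,nat_lit 14175],[nat_lit 7,nat_lit 14863],[nat_lit 6,nat_lit 15257],[nat_lit 132,nat_lit 15752],[nat_lit 325,nat_lit 13666],[nat_lit 140,nat_lit 13846],[nat_lit 149,nat_lit 15535],[nat_lit 140,nat_lit 16164],[nat_lit 141,nat_lit 14288],[nat_lit 39,nat_lit 14809],[nat_lit 131,nat_lit 14809],[nat_lit 150,nat_lit 15222],[nat_lit 141,nat_lit 15211],[nat_lit 45,nat_lit 15422,nat_lit 15542,nat_lit 16058,nat_lit 16177],[nat_lit 132,nat_lit 15542],[nat_lit 46,nat_lit 16161],[nat_lit 179,nat_lit 15462],[nat_lit 144,nat_lit 15724],[nat_lit 153,nat_lit 15908],[nat_lit 135,nat_lit 15644],[nat_lit 62,nat_lit 15989],[nat_lit 50,nat_lit 15574],[nat_lit 6,nat_lit 15744],[nat_lit 1744,nat_lit 8882],[nat_lit 133,nat_lit 12713],[nat_lit 6736,nat_lit 14150],[nat_lit 15,nat_lit 15855],[nat_lit 0,nat_lit 14472],[nat_lit 9936,nat_lit 16232],[nat_lit 2,nat_lit 15555],[nat_lit 0,nat_lit 16119],[nat_lit 128,nat_lit 15111,nat_lit 16086],[nat_lit 1,nat_lit 14933],[nat_lit 129,nat_lit 14370,nat_lit 15680],[nat_lit 2,nat_lit 15305],[nat_lit 130,nat_lit 14531],[nat_lit 4,nat_lit 16052],[nat_lit 151,nat_lit 15735],[nat_lit 5,nat_lit 15704],[nat_lit 10,nat_lit 15897],[nat_lit 5,nat_lit 16156],[nat_lit 4,nat_lit 16201],[nat_lit 133,nat_lit 15563],[nat_lit 143,nat_lit 15800],[nat_lit 152,nat_lit 15960],[nat_lit 55,nat_lit 16180],[nat_lit 134,nat_lit 15631],[nat_lit 59,nat_lit 16147],[nat_lit 134,nat_lit 16238],[nat_lit 135,nat_lit 15826],[nat_lit 154,nat_lit 15675],[nat_lit 135,nat_lit 15711],[nat_lit 154,nat_lit 15774],[nat_lit 162,nat_lit 15872],[nat_lit 135,nat_lit 15901,nat_lit 16088],[nat_lit 62,nat_lit 16229],[nat_lit 136,nat_lit 15227,nat_lit 15531],[nat_lit 181,nat_lit 15539],[nat_lit 64,nat_lit 15943],[nat_lit 137,nat_lit 14932],[nat_lit 138,nat_lit 12219],[nat_lit 17,nat_lit 12220],[nat_lit 12,nat_lit 16084],[nat_lit 140,nat_lit 14540],[nat_lit 142,nat_lit 16161],[nat_lit 15,nat_lit 15713],[nat_lit 59,nat_lit 15963],[nat_lit 58,nat_lit 16081],[nat_lit 144,nat_lit 16201],[nat_lit 61,nat_lit 16109],[nat_lit 135,nat_lit 16109],[nat_lit 63,nat_lit 16069],[nat_lit 136,nat_lit 16069],[nat_lit 186,nat_lit 15245],[nat_lit 21,nat_lit 15427],[nat_lit 29,nat_lit 15694],[nat_lit 28,nat_lit 15885],[nat_lit 129,nat_lit 15885],[nat_lit 150,nat_lit 15526],[nat_lit 40,nat_lit 15942],[nat_lit 44,nat_lit 16068],[nat_lit 23,nat_lit 16126],[nat_lit 45,nat_lit 16053],[nat_lit 50,nat_lit 16158],[nat_lit 28,nat_lit 15220],[nat_lit 29,nat_lit 15534],[nat_lit 24,nat_lit 16010],[nat_lit 29,nat_lit 16127],[nat_lit 152,nat_lit 16124],[nat_lit 133,nat_lit 16021],[nat_lit 32,nat_lit 13799],[nat_lit 33,nat_lit 14830,nat_lit 15536],[nat_lit 36,nat_lit 15225],[nat_lit 32,nat_lit 16065],[nat_lit 140,nat_lit 16065],[nat_lit 160,nat_lit 15678],[nat_lit 33,nat_lit 15538],[nat_lit 180,nat_lit 15902,nat_lit 16195],[nat_lit 164,nat_lit 13060],[nat_lit 37,nat_lit 16166],[nat_lit 39,nat_lit 15524,nat_lit 16136],[nat_lit 40,nat_lit 15775],[nat_lit 42,nat_lit 15941],[nat_lit 134,nat_lit 16081],[nat_lit 41,nat_lit 16024,nat_lit 16038],[nat_lit 39,nat_lit 16137],[nat_lit 44,nat_lit 16212],[nat_lit 169,nat_lit 16037],[nat_lit 175,nat_lit 16211],[nat_lit 52,nat_lit 16175],[nat_lit 189,nat_lit 16080],[nat_lit 58,nat_lit 16200,nat_lit 16216],[nat_lit 59,nat_lit 16239],[nat_lit 9,nat_lit 13798],[nat_lit 30531,nat_lit 16243],[nat_lit 78,nat_lit 16244],[nat_lit 201,nat_lit 16235],[nat_lit 4,nat_lit 16235],[nat_lit 5,nat_lit 16245],[nat_lit 6,nat_lit 16227],[nat_lit 7,nat_lit 16173],[nat_lit 137,nat_lit 16077],[nat_lit 30659,nat_lit 6]]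

theorem chkz : spChk 18 Rz parz Sb scz [12, 5, 12, 5, 12, 5] = true := by decide +kernel

/-- In a group with the relators, the cube of the spider word lies in the big subgroup. -/
theorem z_mem {X : Type*} [Group X] (gen : ℕ → X) (hinv : ∀ x, gen x * gen x = 1) (hR : ∀ w ∈ Rz, ev gen w = 1) :
    ev gen [12, 5, 12, 5, 12, 5] ∈ Subgroup.closure (gen '' {x | x ∈ Sb}) := by
  have hl : ∀ w ∈ Rz, ∀ x ∈ w, x < 16 := by decide
  have hb : ∀ x ∈ Sb, x < 16 := by decide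
  exact sp_mem hinv chkz hR hl (by decide) (H := Subgroup.closure (gen '' {x | x ∈ Sb}))
    (fun x hx => ⟨hb x hx, Subgroup.subset_closure ⟨x, hx, rfl⟩⟩)

end Cfsg.Agent.TcData.F24z
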